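import Mathlib
import Cfsg.Prelude.Def_Characters

open scoped ComplexConjugate
open Matrix
open scoped ComplexOrder

/-!
# Basic character theory for the `Cfsg` vocabulary (helper26)

* `character_inv_eq_conj`: `χ g⁻¹ = conj (χ g)` for complex representations of finite groups
  (unitary trick).
* `classInner_irr`: irreducible characters are orthonormal for `Cfsg.classInner`.
* `irr_degree`: the degree of an irreducible character is a positive natural number.
* `classInner_indFun_right`: Frobenius reciprocity for `Cfsg.indFun` against class functions.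
* bilinearity lemmas for `Cfsg.classInner`.
-/

namespace Cfsg.Agent.Lib.Helper26
open Cfsg

theorem trace_eq_trace_toMatrix' {n : ℕ} (f : (Fin n → ℂ) →ₗ[ℂ] (Fin n → ℂ)) :
    LinearMap.trace ℂ _ f = Matrix.trace (LinearMap.toMatrix' f) := by
  rw [LinearMap.trace_eq_matrix_trace ℂ (Pi.basisFun ℂ (Fin n))]
  rfl

/-- Matrix version of the unitary trick: a finite group of matrices has `trace (A g⁻¹) = conj (trace (A g))`. -/
theorem matrix_trace_inv_eq_conj {G : Type*} [Group G] [Fintype G] {n : ℕ}
    (A : G →* Matrix (Fin n) (Fin n) ℂ) (g : G) :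
    Matrix.trace (A g⁻¹) = conj (Matrix.trace (A g)) := by
  classical
  set M : Matrix (Fin n) (Fin n) ℂ := ∑ h : G, (A h)ᴴ * A h with hM
  have hMpos : M.PosDef := by
    have h1 : M = (A 1)ᴴ * A 1 + ∑ h ∈ Finset.univ.erase (1 : G), (A h)ᴴ * A h := by
      rw [hM, ← Finset.add_sum_erase _ _ (Finset.mem_univ (1 : G))]
    rw [h1]
    apply Matrix.PosDef.add_posSemidef
    · simpa using (Matrix.PosDef.one : (1 : Matrix (Fin n) (Fin n) ℂ).PosDef)
    · apply Matrix.posSemidef_sum
      intro i _
      exact Matrix.posSemidef_conjTranspose_mul_self _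
  have hinv : (A g)ᴴ * M * A g = M := by
    rw [hM, Finset.mul_sum, Finset.sum_mul]
    have : ∀ h : G, (A g)ᴴ * ((A h)ᴴ * A h) * A g = (A (h * g))ᴴ * A (h * g) := by
      intro h
      rw [map_mul, Matrix.conjTranspose_mul]
      simp only [Matrix.mul_assoc]
    simp_rw [this]
    exact Fintype.sum_equiv (Equiv.mulRight g) _ _ (fun h => rfl)
  have hMu : IsUnit M := hMpos.isUnit
  have hAg : A g * A g⁻¹ = 1 := by rw [← map_mul, mul_inv_cancel, map_one]
  have h2 : (A g)ᴴ = M * A g⁻¹ * M⁻¹ := by
    have hMM : M * M⁻¹ = 1 := Matrix.mul_nonsing_inv _ ((Matrix.isUnit_iff_isUnit_det _).1 hMu)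
    calc (A g)ᴴ = (A g)ᴴ * (M * M⁻¹) := by rw [hMM, Matrix.mul_one]
      _ = (A g)ᴴ * M * (A g * A g⁻¹) * M⁻¹ := by rw [hAg]; simp [Matrix.mul_assoc]
      _ = ((A g)ᴴ * M * A g) * A g⁻¹ * M⁻¹ := by simp only [Matrix.mul_assoc]
      _ = M * A g⁻¹ * M⁻¹ := by rw [hinv]
  have h3 : Matrix.trace ((A g)ᴴ) = Matrix.trace (A g⁻¹) := by
    rw [h2, Matrix.trace_mul_comm, ← Matrix.mul_assoc,
      Matrix.nonsing_inv_mul _ ((Matrix.isUnit_iff_isUnit_det _).1 hMu), Matrix.one_mul]
  rw [← h3, Matrix.trace_conjTranspose]
  rfl

theorem character_inv_eq_conj {G : Type*} [Group G] [Finite G] {n : ℕ}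
    (ρ : Representation ℂ G (Fin n → ℂ)) (g : G) :
    ρ.character g⁻¹ = conj (ρ.character g) := by
  classical
  let _ : Fintype G := Fintype.ofFinite G
  let A : G →* Matrix (Fin n) (Fin n) ℂ :=
    { toFun := fun h => LinearMap.toMatrix' (ρ h)
      map_one' := by simp
      map_mul' := fun a b => by simp [LinearMap.toMatrix'_mul] }
  have := matrix_trace_inv_eq_conj A g
  simpa [Representation.character, trace_eq_trace_toMatrix', A] using this


theorem isClassFunction_of_isCharacter {G : Type*} [Group G] {χ : G → ℂ} (h : IsCharacter G χ) :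
    IsClassFunction G χ := by
  obtain ⟨n, ρ, rfl⟩ := h
  intro g h
  exact Representation.char_conj ρ g h

theorem isCharacter_of_isIrrCharacter {G : Type*} [Group G] {χ : G → ℂ} (h : IsIrrCharacter G χ) :
    IsCharacter G χ := by
  obtain ⟨n, ρ, _, rfl⟩ := h
  exact ⟨n, ρ, rfl⟩

theorem isClassFunction_of_isIrrCharacter {G : Type*} [Group G] {χ : G → ℂ} (h : IsIrrCharacter G χ) :
    IsClassFunction G χ :=
  isClassFunction_of_isCharacter (isCharacter_of_isIrrCharacter h)

theorem isCharacter_conj_eq_inv {G : Type*} [Group G] [Finite G] {χ : G → ℂ} (h : IsCharacter G χ) (g : G) :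
    conj (χ g) = χ g⁻¹ := by
  obtain ⟨n, ρ, rfl⟩ := h
  exact (character_inv_eq_conj ρ g).symm

theorem classInner_irr_rep {G : Type*} [Group G] [Fintype G] {n m : ℕ}
    (ρ : Representation ℂ G (Fin n → ℂ)) (σ : Representation ℂ G (Fin m → ℂ))
    [ρ.IsIrreducible] [σ.IsIrreducible] :
    classInner ρ.character σ.character = if ρ.character = σ.character then 1 else 0 := by
  classical
  have hne : (Nat.card G : ℂ) ≠ 0 := by
    simp [Nat.card_eq_fintype_card]
  have : Invertible (Nat.card G : ℂ) := invertibleOfNonzero hne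
  have key : ∀ {a b : ℕ} (ρ' : Representation ℂ G (Fin a → ℂ)) (σ' : Representation ℂ G (Fin b → ℂ)),
      classInner ρ'.character σ'.character =
      (Nat.card G : ℂ)⁻¹ * ∑ g : G, ρ'.character g * σ'.character g⁻¹ := by
    intro a b ρ' σ'
    unfold classInner
    congr 1
    apply Finset.sum_congr rfl
    intro g _
    rw [character_inv_eq_conj]
  rw [key]
  by_cases h : ρ.character = σ.character
  · rw [if_pos h, ← h, Representation.char_orthonormal ρ ρ, if_pos ⟨Representation.Equiv.refl ρ⟩]
  · rw [if_neg h, Representation.char_orthonormal ρ σ, if_neg]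
    rintro ⟨e⟩
    exact h (Representation.char_iso e).symm

theorem classInner_irr {G : Type*} [Group G] [Fintype G] {α β : G → ℂ}
    (hα : IsIrrCharacter G α) (hβ : IsIrrCharacter G β) :
    classInner α β = if α = β then 1 else 0 := by
  obtain ⟨n, ρ, hρ, rfl⟩ := hα
  obtain ⟨m, σ, hσ, rfl⟩ := hβ
  exact classInner_irr_rep ρ σ


theorem irr_degree {G : Type*} [Group G] {χ : G → ℂ} (h : IsIrrCharacter G χ) :
    ∃ n : ℕ, 0 < n ∧ χ 1 = n := by
  obtain ⟨n, ρ, hρ, rfl⟩ := h
  refine ⟨n, ?_, by simp⟩
  rcases Nat.eq_zero_or_pos n with h0 | h0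
  · subst h0
    exfalso
    have := hρ
    obtain ⟨a, b, hab⟩ := (inferInstance : Nontrivial (Subrepresentation ρ))
    apply hab
    ext x
    have : x = 0 := Subsingleton.elim _ _
    subst this
    simp only [Submodule.zero_mem]
  · exact h0

theorem extendByZero_apply_mem {G : Type*} [Group G] (H : Subgroup G) (θ : H → ℂ) (g : G) (hg : g ∈ H) :
    extendByZero H θ g = θ ⟨g, hg⟩ := by
  unfold extendByZero
  exact Subtype.val_injective.extend_apply θ 0 ⟨g, hg⟩

theorem extendByZero_apply_coe {G : Type*} [Group G] (H : Subgroup G) (θ : H → ℂ) (h : H) :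
    extendByZero H θ (h : G) = θ h := by
  unfold extendByZero
  exact Subtype.val_injective.extend_apply θ 0 h

theorem extendByZero_apply_not_mem {G : Type*} [Group G] (H : Subgroup G) (θ : H → ℂ) (g : G) (hg : g ∉ H) :
    extendByZero H θ g = 0 := by
  unfold extendByZero
  rw [Function.extend_apply']
  · rfl
  · rintro ⟨h, rfl⟩
    exact hg h.2

/-- Sum over `G` of a function times the extension by zero equals the sum over `H`. -/
theorem sum_mul_extendByZero {G : Type*} [Group G] [Fintype G] (H : Subgroup G) [Fintype H]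
    (f : G → ℂ) (θ : H → ℂ) :
    ∑ g : G, f g * extendByZero H θ g = ∑ h : H, f h * θ h := by
  classical
  rw [← Finset.sum_subset (Finset.subset_univ (Finset.univ.map ⟨((↑) : H → G), Subtype.val_injective⟩))]
  · rw [Finset.sum_map]
    apply Finset.sum_congr rfl
    intro h _
    simp [extendByZero_apply_coe]
  · intro g _ hg
    have : g ∉ H := by
      intro hgH
      apply hg
      simp only [Finset.mem_map, Finset.mem_univ, true_and, Function.Embedding.coeFn_mk]
      exact ⟨⟨g, hgH⟩, rfl⟩
    rw [extendByZero_apply_not_mem H θ g this, mul_zero]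

/-- Frobenius reciprocity for `indFun`: for a class function `θ` of `G`,
`⟨θ, Ind α⟩_G = |H|⁻¹ Σ_{h ∈ H} θ h * conj (α h)`. -/
theorem classInner_indFun_right {G : Type*} [Group G] [Fintype G] (H : Subgroup G) [Fintype H]
    (θ : G → ℂ) (hθ : IsClassFunction G θ) (α : H → ℂ) :
    classInner θ (indFun H α) = (Nat.card H : ℂ)⁻¹ * ∑ h : H, θ h * conj (α h) := by
  classical
  have hne : (Nat.card G : ℂ) ≠ 0 := by simp [Nat.card_eq_fintype_card]
  unfold classInner indFun
  simp only [map_mul, map_sum, map_inv₀, Complex.conj_natCast]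
  have h1 : ∀ g : G, θ g * ((Nat.card H : ℂ)⁻¹ * ∑ x : G, conj (extendByZero H α (x⁻¹ * g * x))) =
      (Nat.card H : ℂ)⁻¹ * ∑ x : G, θ (x⁻¹ * g * x) * conj (extendByZero H α (x⁻¹ * g * x)) := by
    intro g
    rw [Finset.mul_sum, Finset.mul_sum, Finset.mul_sum]
    apply Finset.sum_congr rfl
    intro x _
    have : θ (x⁻¹ * g * x) = θ g := by
      have := hθ g x⁻¹
      simpa using this
    rw [this]; ring
  simp_rw [h1]
  rw [← Finset.mul_sum, Finset.sum_comm]
  have h2 : ∀ x : G, ∑ g : G, θ (x⁻¹ * g * x) * conj (extendByZero H α (x⁻¹ * g * x)) =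
      ∑ g : G, θ g * conj (extendByZero H α g) := by
    intro x
    exact Fintype.sum_equiv (MulAut.conj x⁻¹).toEquiv _ _ (fun g => by simp)
  simp_rw [h2]
  rw [Finset.sum_const, Finset.card_univ, nsmul_eq_mul]
  have h3 : ∑ g : G, θ g * conj (extendByZero H α g) = ∑ h : H, θ h * conj (α h) := by
    have := sum_mul_extendByZero H θ (fun h => conj (α h))
    rw [← this]
    apply Finset.sum_congr rfl
    intro g _
    congr 1
    by_cases hg : g ∈ H
    · rw [extendByZero_apply_mem H _ g hg, extendByZero_apply_mem H _ g hg]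
    · rw [extendByZero_apply_not_mem H _ g hg, extendByZero_apply_not_mem H _ g hg, map_zero]
  rw [h3, ← Nat.card_eq_fintype_card]
  field_simp


/-! ### Sesquilinearity of `classInner` -/

section Sesq
variable {G : Type*} [Group G] [Fintype G]

theorem classInner_add_left (a b c : G → ℂ) :
    classInner (a + b) c = classInner a c + classInner b c := by
  unfold classInner
  simp only [Pi.add_apply, add_mul, Finset.sum_add_distrib, mul_add]

theorem classInner_sub_left (a b c : G → ℂ) :
    classInner (a - b) c = classInner a c - classInner b c := by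
  unfold classInner
  simp only [Pi.sub_apply, sub_mul, Finset.sum_sub_distrib, mul_sub]

theorem classInner_neg_left (a c : G → ℂ) :
    classInner (-a) c = -classInner a c := by
  unfold classInner
  simp only [Pi.neg_apply, neg_mul, Finset.sum_neg_distrib, mul_neg]

theorem classInner_smul_left (k : ℂ) (a c : G → ℂ) :
    classInner (k • a) c = k * classInner a c := by
  unfold classInner
  simp only [Pi.smul_apply, smul_eq_mul, Finset.mul_sum]
  apply Finset.sum_congr rfl
  intro g _
  ring

theorem classInner_add_right (a b c : G → ℂ) :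
    classInner a (b + c) = classInner a b + classInner a c := by
  unfold classInner
  simp only [Pi.add_apply, map_add, mul_add, Finset.sum_add_distrib]

theorem classInner_sub_right (a b c : G → ℂ) :
    classInner a (b - c) = classInner a b - classInner a c := by
  unfold classInner
  simp only [Pi.sub_apply, map_sub, mul_sub, Finset.sum_sub_distrib]

theorem classInner_neg_right (a c : G → ℂ) :
    classInner a (-c) = -classInner a c := by
  unfold classInner
  simp only [Pi.neg_apply, map_neg, mul_neg, Finset.sum_neg_distrib]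

theorem classInner_smul_right (k : ℂ) (a c : G → ℂ) :
    classInner a (k • c) = conj k * classInner a c := by
  unfold classInner
  simp only [Pi.smul_apply, smul_eq_mul, map_mul, Finset.mul_sum]
  apply Finset.sum_congr rfl
  intro g _
  ring

theorem classInner_zero_left (c : G → ℂ) : classInner (0 : G → ℂ) c = 0 := by
  unfold classInner
  simp

theorem classInner_zero_right (c : G → ℂ) : classInner c (0 : G → ℂ) = 0 := by
  unfold classInner
  simp

theorem classInner_conj_symm (a b : G → ℂ) : conj (classInner a b) = classInner b a := by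
  unfold classInner
  simp only [map_mul, map_inv₀, Complex.conj_natCast, map_sum, Complex.conj_conj]
  congr 1
  apply Finset.sum_congr rfl
  intro g _
  ring

/-- `±` irreducible characters: inner product of `α` with itself is `1`. -/
theorem classInner_self_of_irr_or_neg {α : G → ℂ}
    (hα : IsIrrCharacter G α ∨ IsIrrCharacter G (-α)) : classInner α α = 1 := by
  rcases hα with h | h
  · rw [classInner_irr h h, if_pos rfl]
  · have := classInner_irr h h
    rw [if_pos rfl, classInner_neg_left, classInner_neg_right, neg_neg] at this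
    exact this

end Sesq

end Cfsg.Agent.Lib.Helper26
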