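import Mathlib
import Cfsg.Prelude.Def_Characters
import Cfsg.Agent.Lib.Helper26.CharBasic

/-!
# Integrality of inner products of (generalized) characters (helper26)
-/

namespace Cfsg.Agent.Lib.Helper26
open Cfsg
open scoped ComplexConjugate

theorem classInner_sum_right {G : Type*} [Group G] [Fintype G] {ι : Type*} (s : Finset ι)
    (a : G → ℂ) (f : ι → G → ℂ) :
    classInner a (∑ i ∈ s, f i) = ∑ i ∈ s, classInner a (f i) := by
  classical
  induction s using Finset.induction_on with
  | empty => simp [classInner_zero_right]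
  | insert i s hi ih => rw [Finset.sum_insert hi, Finset.sum_insert hi, classInner_add_right, ih]

theorem classInner_sum_left {G : Type*} [Group G] [Fintype G] {ι : Type*} (s : Finset ι)
    (a : G → ℂ) (f : ι → G → ℂ) :
    classInner (∑ i ∈ s, f i) a = ∑ i ∈ s, classInner (f i) a := by
  classical
  induction s using Finset.induction_on with
  | empty => simp [classInner_zero_left]
  | insert i s hi ih => rw [Finset.sum_insert hi, Finset.sum_insert hi, classInner_add_left, ih]

/-- The inner product of two characters is a natural number (the dimension of the space of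
intertwining maps). -/
theorem classInner_isCharacter_nat {G : Type*} [Group G] [Fintype G] {χ ψ : G → ℂ}
    (hχ : IsCharacter G χ) (hψ : IsCharacter G ψ) : ∃ n : ℕ, classInner χ ψ = n := by
  obtain ⟨n, ρ, rfl⟩ := hχ
  obtain ⟨m, σ, rfl⟩ := hψ
  have hne : (Nat.card G : ℂ) ≠ 0 := by
    have : Nat.card G ≠ 0 := Nat.card_pos.ne'
    exact_mod_cast this
  have : Invertible (Nat.card G : ℂ) := invertibleOfNonzero hne
  refine ⟨Module.finrank ℂ (Representation.IntertwiningMap σ ρ), ?_⟩
  rw [← Representation.card_inv_mul_sum_char_mul_char_eq_finrank σ ρ]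
  unfold classInner
  congr 1
  apply Finset.sum_congr rfl
  intro g _
  rw [character_inv_eq_conj]

/-- The inner product of two generalized characters is an integer. -/
theorem classInner_generalized_int {G : Type*} [Group G] [Fintype G] {α β : G → ℂ}
    (hα : IsGeneralizedCharacter G α) (hβ : IsGeneralizedCharacter G β) :
    ∃ k : ℤ, classInner α β = k := by
  obtain ⟨χ₁, χ₂, h1, h2, rfl⟩ := hα
  obtain ⟨ψ₁, ψ₂, h3, h4, rfl⟩ := hβ
  obtain ⟨a, ha⟩ := classInner_isCharacter_nat h1 h3
  obtain ⟨b, hb⟩ := classInner_isCharacter_nat h1 h4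
  obtain ⟨c, hc⟩ := classInner_isCharacter_nat h2 h3
  obtain ⟨d, hd⟩ := classInner_isCharacter_nat h2 h4
  refine ⟨(a : ℤ) - b - c + d, ?_⟩
  rw [classInner_sub_left, classInner_sub_right, classInner_sub_right, ha, hb, hc, hd]
  push_cast
  ring

theorem isGeneralizedCharacter_of_isCharacter {G : Type*} [Group G] {χ : G → ℂ}
    (h : IsCharacter G χ) : IsGeneralizedCharacter G χ := by
  refine ⟨χ, 0, h, ⟨0, 1, ?_⟩, by simp⟩
  funext g
  simp [Representation.character]

end Cfsg.Agent.Lib.Helper26
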