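import Mathlib
import Cfsg.Prelude.Def_Characters
import Cfsg.Prelude.Def_OddOrderChar
import Cfsg.Agent.Lib.Helper26.CharInt
import Cfsg.Agent.Lib.Helper4.CharOrtho

/-!
# Decomposition of generalized characters into irreducibles (helper26)

Built on helper4's completeness theorem `Cfsg.Agent.Lib.Helper4.classFunction_expansion`.
-/

namespace Cfsg.Agent.Lib.Helper26
open Cfsg
open scoped ComplexConjugate

theorem isClassFunction_of_isGeneralizedCharacter {G : Type*} [Group G] {X : G → ℂ}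
    (h : IsGeneralizedCharacter G X) : IsClassFunction G X := by
  obtain ⟨χ, ψ, hχ, hψ, rfl⟩ := h
  intro g k
  simp only [Pi.sub_apply]
  rw [isClassFunction_of_isCharacter hχ g k, isClassFunction_of_isCharacter hψ g k]

theorem conjFun_conjFun {X : Type*} (χ : X → ℂ) : conjFun (conjFun χ) = χ := by
  funext x
  simp [conjFun]

theorem classInner_conjFun_conjFun {G : Type*} [Group G] [Fintype G] (a b : G → ℂ) :
    classInner (conjFun a) (conjFun b) = conj (classInner a b) := by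
  unfold classInner conjFun
  simp only [map_mul, map_inv₀, Complex.conj_natCast, map_sum, Complex.conj_conj]


theorem isCharacter_zero {G : Type*} [Group G] : IsCharacter G (0 : G → ℂ) := by
  refine ⟨0, 1, ?_⟩
  funext g
  simp [Representation.character]

theorem isGeneralizedCharacter_neg_of_isCharacter {G : Type*} [Group G] {χ : G → ℂ}
    (h : IsCharacter G χ) : IsGeneralizedCharacter G (-χ) :=
  ⟨0, χ, isCharacter_zero, h, by simp⟩

theorem irr_ne_neg_irr {G : Type*} [Group G] {μ₁ μ₂ : G → ℂ} (h₁ : IsIrrCharacter G μ₁)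
    (h₂ : IsIrrCharacter G μ₂) : μ₁ ≠ -μ₂ := by
  intro h
  obtain ⟨d₁, hd₁pos, hd₁⟩ := irr_degree h₁
  obtain ⟨d₂, hd₂pos, hd₂⟩ := irr_degree h₂
  have h' := congrFun h 1
  rw [Pi.neg_apply, hd₁, hd₂] at h'
  have h'' : ((d₁ + d₂ : ℕ) : ℂ) = 0 := by push_cast; rw [h']; ring
  have := Nat.cast_eq_zero.1 h''
  omega

section Expansion
variable {G : Type*} [Group G] [Fintype G]

/-- The integer coefficients of a generalized character on the irreducible characters. -/
theorem exists_int_coeff {X : G → ℂ} (hX : IsGeneralizedCharacter G X) :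
    ∃ c : IrrCharacter G → ℤ, ∀ μ : IrrCharacter G, classInner X (μ : G → ℂ) = (c μ : ℂ) := by
  have h : ∀ μ : IrrCharacter G, ∃ k : ℤ, classInner X (μ : G → ℂ) = (k : ℂ) := fun μ =>
    classInner_generalized_int hX
      (isGeneralizedCharacter_of_isCharacter (isCharacter_of_isIrrCharacter μ.2))
  choose c hc using h
  exact ⟨c, hc⟩

/-- Expansion of a generalized character with integer coefficients. -/
theorem genChar_expansion [Fintype (IrrCharacter G)] {X : G → ℂ} (hX : IsGeneralizedCharacter G X)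
    (c : IrrCharacter G → ℤ) (hc : ∀ μ : IrrCharacter G, classInner X (μ : G → ℂ) = (c μ : ℂ)) :
    X = ∑ μ : IrrCharacter G, (c μ : ℂ) • (μ : G → ℂ) := by
  have h := Cfsg.Agent.Lib.Helper4.classFunction_expansion X
    (isClassFunction_of_isGeneralizedCharacter hX)
  simp_rw [hc] at h
  exact h

/-- Parseval for generalized characters. -/
theorem genChar_norm [Fintype (IrrCharacter G)] {X : G → ℂ} (hX : IsGeneralizedCharacter G X)
    (c : IrrCharacter G → ℤ) (hc : ∀ μ : IrrCharacter G, classInner X (μ : G → ℂ) = (c μ : ℂ)) :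
    classInner X X = ((∑ μ : IrrCharacter G, (c μ) ^ 2 : ℤ) : ℂ) := by
  have h := genChar_expansion hX c hc
  have h2 : classInner X X = classInner (∑ μ : IrrCharacter G, (c μ : ℂ) • (μ : G → ℂ)) X := by
    rw [← h]
  rw [h2, classInner_sum_left]
  push_cast
  apply Finset.sum_congr rfl
  intro μ _
  rw [classInner_smul_left, ← classInner_conj_symm, hc μ, map_intCast]
  ring

/-- A generalized character of norm `2` vanishing at `1` is the difference of two distinct
irreducible characters. -/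
theorem genChar_norm_two {X : G → ℂ} (hX : IsGeneralizedCharacter G X)
    (hnorm : classInner X X = 2) (h1 : X 1 = 0) :
    ∃ μ₁ μ₂ : G → ℂ, IsIrrCharacter G μ₁ ∧ IsIrrCharacter G μ₂ ∧ μ₁ ≠ μ₂ ∧ X = μ₁ - μ₂ := by
  classical
  have : Fintype (IrrCharacter G) := Fintype.ofFinite _
  obtain ⟨c, hc⟩ := exists_int_coeff hX
  have hP := genChar_norm hX c hc
  rw [hnorm] at hP
  have hP' : ∑ μ : IrrCharacter G, (c μ) ^ 2 = 2 := by exact_mod_cast hP.symm
  -- first nonzero coefficient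
  have hex1 : ∃ μ₁, c μ₁ ≠ 0 := by
    by_contra hcon
    push Not at hcon
    have : ∑ μ : IrrCharacter G, (c μ) ^ 2 = 0 := by
      apply Finset.sum_eq_zero
      intro μ _
      rw [hcon μ]; rfl
    omega
  obtain ⟨μ₁, hμ₁⟩ := hex1
  have hsplit1 := Finset.add_sum_erase Finset.univ (fun μ => (c μ) ^ 2) (Finset.mem_univ μ₁)
  rw [hP'] at hsplit1
  have hrest_nonneg : 0 ≤ ∑ μ ∈ Finset.univ.erase μ₁, (c μ) ^ 2 :=
    Finset.sum_nonneg (fun μ _ => sq_nonneg (c μ))
  have hc1sq : (c μ₁) ^ 2 = 1 := by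
    have hpos : 1 ≤ (c μ₁) ^ 2 := by
      have : 0 < (c μ₁) ^ 2 := by positivity
      omega
    have hle : (c μ₁) ^ 2 ≤ 2 := by linarith
    have hne2 : (c μ₁) ^ 2 ≠ 2 := by
      intro h2
      have habs : |c μ₁| < 2 := by
        by_contra hge
        push Not at hge
        have : 4 ≤ (c μ₁) ^ 2 := by
          have := sq_le_sq' (by linarith [abs_nonneg (c μ₁)] : -|c μ₁| ≤ 2) hge
          rw [sq_abs] at this
          linarith
        omega
      have hlt := abs_lt.1 habs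
      have : c μ₁ = -1 ∨ c μ₁ = 0 ∨ c μ₁ = 1 := by omega
      rcases this with h | h | h <;> rw [h] at h2 <;> norm_num at h2
    omega
  have hrest1 : ∑ μ ∈ Finset.univ.erase μ₁, (c μ) ^ 2 = 1 := by linarith
  -- second nonzero coefficient
  have hex2 : ∃ μ₂ ∈ Finset.univ.erase μ₁, c μ₂ ≠ 0 := by
    by_contra hcon
    push Not at hcon
    have : ∑ μ ∈ Finset.univ.erase μ₁, (c μ) ^ 2 = 0 := by
      apply Finset.sum_eq_zero
      intro μ hμ
      rw [hcon μ hμ]; rfl
    omega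
  obtain ⟨μ₂, hμ₂mem, hμ₂⟩ := hex2
  have hne12 : μ₂ ≠ μ₁ := (Finset.mem_erase.1 hμ₂mem).1
  have hsplit2 := Finset.add_sum_erase (Finset.univ.erase μ₁) (fun μ => (c μ) ^ 2) hμ₂mem
  rw [hrest1] at hsplit2
  have hrest2_nonneg : 0 ≤ ∑ μ ∈ (Finset.univ.erase μ₁).erase μ₂, (c μ) ^ 2 :=
    Finset.sum_nonneg (fun μ _ => sq_nonneg (c μ))
  have hc2sq : (c μ₂) ^ 2 = 1 := by
    have hpos : 1 ≤ (c μ₂) ^ 2 := by
      have : 0 < (c μ₂) ^ 2 := by positivity
      omega
    linarith
  have hrest2 : ∑ μ ∈ (Finset.univ.erase μ₁).erase μ₂, (c μ) ^ 2 = 0 := by linarith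
  have hzero : ∀ μ ∈ (Finset.univ.erase μ₁).erase μ₂, c μ = 0 := by
    intro μ hμ
    have := (Finset.sum_eq_zero_iff_of_nonneg (fun μ _ => sq_nonneg (c μ))).1 hrest2 μ hμ
    exact pow_eq_zero_iff (by norm_num) |>.1 this
  -- the expansion collapses to two terms
  have hexp := genChar_expansion hX c hc
  have hX2 : X = (c μ₁ : ℂ) • (μ₁ : G → ℂ) + (c μ₂ : ℂ) • (μ₂ : G → ℂ) := by
    rw [hexp, ← Finset.add_sum_erase Finset.univ _ (Finset.mem_univ μ₁),
      ← Finset.add_sum_erase (Finset.univ.erase μ₁) _ hμ₂mem]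
    have : ∑ μ ∈ (Finset.univ.erase μ₁).erase μ₂, (c μ : ℂ) • (μ : G → ℂ) = 0 := by
      apply Finset.sum_eq_zero
      intro μ hμ
      rw [hzero μ hμ]; simp
    rw [this, add_zero]
  -- signs
  obtain ⟨d₁, hd₁pos, hd₁⟩ := irr_degree μ₁.2
  obtain ⟨d₂, hd₂pos, hd₂⟩ := irr_degree μ₂.2
  have hval : (c μ₁ : ℂ) * d₁ + (c μ₂ : ℂ) * d₂ = 0 := by
    have := congrFun hX2 1
    rw [h1] at this
    simp only [Pi.add_apply, Pi.smul_apply, smul_eq_mul, hd₁, hd₂] at this
    exact this.symm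
  have hvalZ : c μ₁ * d₁ + c μ₂ * d₂ = 0 := by exact_mod_cast hval
  have hsq : ∀ z : ℤ, z ^ 2 = 1 → z = 1 ∨ z = -1 := by
    intro z hz
    have hz' : (z - 1) * (z + 1) = 0 := by ring_nf; linarith
    rcases mul_eq_zero.1 hz' with h | h
    · left; omega
    · right; omega
  have hc1 : c μ₁ = 1 ∨ c μ₁ = -1 := hsq _ hc1sq
  have hc2 : c μ₂ = 1 ∨ c μ₂ = -1 := hsq _ hc2sq
  have hval_ne : (μ₁ : G → ℂ) ≠ (μ₂ : G → ℂ) := fun h => hne12 (Subtype.ext h).symm
  rcases hc1 with h1' | h1' <;> rcases hc2 with h2' | h2'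
  · exfalso
    rw [h1', h2'] at hvalZ
    have : (0 : ℤ) < d₁ := by exact_mod_cast hd₁pos
    have : (0 : ℤ) < d₂ := by exact_mod_cast hd₂pos
    linarith
  · refine ⟨μ₁, μ₂, μ₁.2, μ₂.2, hval_ne, ?_⟩
    rw [hX2, h1', h2']
    funext g
    simp [sub_eq_add_neg]
  · refine ⟨μ₂, μ₁, μ₂.2, μ₁.2, fun h => hval_ne h.symm, ?_⟩
    rw [hX2, h1', h2']
    funext g
    simp only [Pi.add_apply, Pi.smul_apply, Pi.sub_apply, smul_eq_mul]
    push_cast
    ring
  · exfalso
    rw [h1', h2'] at hvalZ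
    have : (0 : ℤ) < d₁ := by exact_mod_cast hd₁pos
    have : (0 : ℤ) < d₂ := by exact_mod_cast hd₂pos
    linarith

/-- If `μ₁ - μ₂ ⊥ ν₁ - ν₂` for irreducible characters with `μ₁ ≠ μ₂`, `ν₁ ≠ ν₂`, then all cross inner
products vanish. -/
theorem cross_zero {μ₁ μ₂ ν₁ ν₂ : G → ℂ} (hμ₁ : IsIrrCharacter G μ₁) (hμ₂ : IsIrrCharacter G μ₂)
    (hν₁ : IsIrrCharacter G ν₁) (hν₂ : IsIrrCharacter G ν₂) (hμ : μ₁ ≠ μ₂) (hν : ν₁ ≠ ν₂)
    (h : classInner (μ₁ - μ₂) (ν₁ - ν₂) = 0) :
    classInner μ₁ ν₁ = 0 ∧ classInner μ₁ ν₂ = 0 ∧ classInner μ₂ ν₁ = 0 ∧ classInner μ₂ ν₂ = 0 := by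
  classical
  have e11 := classInner_irr hμ₁ hν₁
  have e12 := classInner_irr hμ₁ hν₂
  have e21 := classInner_irr hμ₂ hν₁
  have e22 := classInner_irr hμ₂ hν₂
  rw [classInner_sub_left, classInner_sub_right, classInner_sub_right] at h
  by_cases a : μ₁ = ν₁
  · exfalso
    have b : μ₁ ≠ ν₂ := fun b => hν (a.symm.trans b)
    have c : μ₂ ≠ ν₁ := fun c => hμ (a.trans c.symm)
    rw [if_pos a] at e11
    rw [if_neg b] at e12
    rw [if_neg c] at e21
    rw [e11, e12, e21, e22] at h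
    by_cases d : μ₂ = ν₂
    · rw [if_pos d] at h; norm_num at h
    · rw [if_neg d] at h; norm_num at h
  · rw [if_neg a] at e11
    by_cases d : μ₂ = ν₂
    · exfalso
      have b : μ₁ ≠ ν₂ := fun b => hμ (b.trans d.symm)
      have c : μ₂ ≠ ν₁ := fun c => hν (c.symm.trans d)
      rw [if_neg b] at e12
      rw [if_neg c] at e21
      rw [if_pos d] at e22
      rw [e11, e12, e21, e22] at h
      norm_num at h
    · rw [if_neg d] at e22
      by_cases b : μ₁ = ν₂
      · exfalso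
        rw [if_pos b] at e12
        rw [e11, e12, e21, e22] at h
        by_cases c : μ₂ = ν₁
        · rw [if_pos c] at h; norm_num at h
        · rw [if_neg c] at h; norm_num at h
      · rw [if_neg b] at e12
        by_cases c : μ₂ = ν₁
        · exfalso
          rw [if_pos c] at e21
          rw [e11, e12, e21, e22] at h
          norm_num at h
        · rw [if_neg c] at e21
          exact ⟨e11, e12, e21, e22⟩

end Expansion

end Cfsg.Agent.Lib.Helper26
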