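import Mathlib
import Cfsg.Prelude.Def_Characters
import Cfsg.Prelude.Def_OddOrderLocal
import Cfsg.Agent.Lib.Helper26.CharBasic

/-!
# Induction from a TI-subset (helper26)

* `isClassFunction_indFun`: induced functions are class functions.
* `indFun_eq_on_ti`, `classInner_indFun_indFun_ti`: induction from a TI-subset with "normalizer" `N`
  is the identity on `T \ {1}` and an isometry on functions supported on `T` vanishing at `1`.
* `mem_iff_pow_card_of_isCyclic`: subgroups of a finite cyclic group are determined by their order.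
* `selfNormalizingCyclic_ti`: the TI-property of `W \ (W₁ ∪ W₂)` for a self-normalizing cyclic pair.
-/

namespace Cfsg.Agent.Lib.Helper26
open Cfsg
open scoped ComplexConjugate

theorem isClassFunction_indFun {G : Type*} [Group G] [Fintype G] (H : Subgroup G) (θ : H → ℂ) :
    IsClassFunction G (indFun H θ) := by
  intro g h
  unfold indFun
  congr 1
  apply Fintype.sum_equiv (Equiv.mulLeft h⁻¹)
  intro x
  simp only [Equiv.coe_mulLeft]
  congr 1
  group

theorem indFun_one {G : Type*} [Group G] [Fintype G] (N : Subgroup G) (ψ : N → ℂ) :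
    indFun N ψ 1 = (Nat.card N : ℂ)⁻¹ * ((Fintype.card G : ℂ) * ψ 1) := by
  unfold indFun
  congr 1
  have : ∀ x : G, extendByZero N ψ (x⁻¹ * 1 * x) = ψ 1 := by
    intro x
    have h1 : x⁻¹ * 1 * x = ((1 : N) : G) := by simp
    rw [h1, extendByZero_apply_coe]
  simp_rw [this]
  rw [Finset.sum_const, Finset.card_univ, nsmul_eq_mul]

theorem indFun_eq_on_ti {G : Type*} [Group G] [Fintype G] (T : Set G) (N : Subgroup G)
    (hTI : ∀ g : G, g ∉ N → ∀ t ∈ T, g * t * g⁻¹ ∈ T → t = 1)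
    (ψ : N → ℂ) (hψ : IsClassFunction N ψ) (hψT : ∀ x : N, (x : G) ∉ T → ψ x = 0)
    (t : N) (htT : (t : G) ∈ T) (ht1 : t ≠ 1) : indFun N ψ t = ψ t := by
  classical
  unfold indFun
  have hterm : ∀ x : G, extendByZero N ψ (x⁻¹ * t * x) = if x ∈ N then ψ t else 0 := by
    intro x
    by_cases hx : x ∈ N
    · rw [if_pos hx]
      have hmem : x⁻¹ * (t : G) * x ∈ N := N.mul_mem (N.mul_mem (N.inv_mem hx) t.2) hx
      rw [extendByZero_apply_mem N ψ _ hmem]
      have h2 := hψ t (⟨x, hx⟩⁻¹ : N)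
      rw [← h2]
      congr 1
      apply Subtype.ext
      simp
    · rw [if_neg hx]
      by_cases hmem : x⁻¹ * (t : G) * x ∈ N
      · rw [extendByZero_apply_mem N ψ _ hmem]
        apply hψT
        intro hT
        have hback : x * (x⁻¹ * (t : G) * x) * x⁻¹ ∈ T := by
          have : x * (x⁻¹ * (t : G) * x) * x⁻¹ = (t : G) := by group
          rw [this]; exact htT
        have h1 := hTI x hx (x⁻¹ * t * x) hT hback
        apply ht1
        have h3 : (t : G) = 1 := by
          have : (t : G) = x * (x⁻¹ * (t : G) * x) * x⁻¹ := by group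
          rw [this, h1]; group
        exact Subtype.ext h3
      · exact extendByZero_apply_not_mem N ψ _ hmem
  simp_rw [hterm]
  rw [Finset.sum_ite, Finset.sum_const_zero, add_zero, Finset.sum_const, nsmul_eq_mul]
  have hcard : ((Finset.univ.filter (fun x : G => x ∈ N)).card : ℂ) = (Nat.card N : ℂ) := by
    congr 1
    rw [← Fintype.card_subtype, ← Nat.card_eq_fintype_card]
  rw [hcard]
  have hne : (Nat.card N : ℂ) ≠ 0 := by
    have : Nat.card N ≠ 0 := Nat.card_pos.ne'
    exact_mod_cast this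
  field_simp

theorem classInner_indFun_indFun_ti {G : Type*} [Group G] [Fintype G] (T : Set G) (N : Subgroup G)
    [Fintype N]
    (hTI : ∀ g : G, g ∉ N → ∀ t ∈ T, g * t * g⁻¹ ∈ T → t = 1)
    (ψ θ : N → ℂ) (hψ : IsClassFunction N ψ) (hψT : ∀ x : N, (x : G) ∉ T → ψ x = 0)
    (hθT : ∀ x : N, (x : G) ∉ T → θ x = 0) (hψ1 : ψ 1 = 0) :
    classInner (indFun N ψ) (indFun N θ) = classInner ψ θ := by
  rw [classInner_indFun_right N (indFun N ψ) (isClassFunction_indFun N ψ) θ]
  unfold classInner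
  congr 1
  apply Finset.sum_congr rfl
  intro h _
  by_cases hT : (h : G) ∈ T
  · by_cases h1 : h = 1
    · subst h1
      have : indFun N ψ ((1 : N) : G) = 0 := by
        rw [Subgroup.coe_one, indFun_one, hψ1, mul_zero, mul_zero]
      rw [this, hψ1]
    · rw [indFun_eq_on_ti T N hTI ψ hψ hψT h hT h1]
  · rw [hθT h hT, map_zero, mul_zero, mul_zero]

theorem pow_card_sub_eq_one {G : Type*} [Group G] (H : Subgroup G) [Finite H] {h : G} (hh : h ∈ H) :
    h ^ Nat.card H = 1 := by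
  have h1 := pow_card_eq_one' (x := (⟨h, hh⟩ : H))
  have h2 : (((⟨h, hh⟩ : H) ^ Nat.card H : H) : G) = ((1 : H) : G) := congrArg Subtype.val h1
  rwa [Subgroup.coe_pow, Subgroup.coe_one] at h2

/-- In a finite cyclic group a subgroup consists exactly of the elements whose order divides the
order of the subgroup. -/
theorem mem_iff_pow_card_of_isCyclic {W : Type*} [Group W] [Finite W] [IsCyclic W]
    (H : Subgroup W) (w : W) : w ∈ H ↔ w ^ (Nat.card H) = 1 := by
  classical
  let _ : Fintype W := Fintype.ofFinite W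
  constructor
  · intro hw
    exact pow_card_sub_eq_one H hw
  · intro hw
    have hpos : 0 < Nat.card H := Nat.card_pos
    have hle := IsCyclic.card_pow_eq_one_le (α := W) hpos
    have hsub : Finset.univ.filter (fun a : W => a ∈ H) ⊆
        Finset.univ.filter (fun a : W => a ^ (Nat.card H) = 1) := by
      intro a ha
      simp only [Finset.mem_filter, Finset.mem_univ, true_and] at ha ⊢
      exact pow_card_sub_eq_one H ha
    have hcardHS : (Finset.univ.filter (fun a : W => a ∈ H)).card = Nat.card H := by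
      rw [← Fintype.card_subtype, ← Nat.card_eq_fintype_card]
    have heq := Finset.eq_of_subset_of_card_le hsub (by rw [hcardHS]; exact hle)
    have hwS : w ∈ Finset.univ.filter (fun a : W => a ^ (Nat.card H) = 1) := by
      simp only [Finset.mem_filter, Finset.mem_univ, true_and]; exact hw
    rw [← heq] at hwS
    simpa only [Finset.mem_filter, Finset.mem_univ, true_and] using hwS

/-- Version inside an ambient group: if `W` is a finite cyclic subgroup of `G`, `H ≤ W`, `g ∈ W` and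
`g ^ |H| = 1` then `g ∈ H`. -/
theorem mem_of_pow_card_of_isCyclic_sub {G : Type*} [Group G] (H W : Subgroup G) [Finite W]
    [IsCyclic W] (hle : H ≤ W) (g : G) (hg : g ∈ W) (hpow : g ^ (Nat.card H) = 1) : g ∈ H := by
  have hcard : Nat.card (H.subgroupOf W) = Nat.card H :=
    Nat.card_congr (Subgroup.subgroupOfEquivOfLe hle).toEquiv
  have := (mem_iff_pow_card_of_isCyclic (H.subgroupOf W) (⟨g, hg⟩ : W)).2 (by
    rw [hcard]
    apply Subtype.ext
    simpa using hpow)
  exact Subgroup.mem_subgroupOf.1 this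

/-- The TI-property of `W \ (W₁ ∪ W₂)` for a self-normalising cyclic pair: if `t` and `x t x⁻¹`
both lie in `W` outside `W₁ ∪ W₂` then `x ∈ W`. -/
theorem selfNormalizingCyclic_ti {G : Type*} [Group G] [Finite G] (W₁ W₂ : Subgroup G)
    (hW : IsSelfNormalizingCyclic W₁ W₂) (x t : G)
    (ht : t ∈ W₁ ⊔ W₂) (ht1 : t ∉ W₁) (ht2 : t ∉ W₂)
    (hc : x * t * x⁻¹ ∈ W₁ ⊔ W₂) (hc1 : x * t * x⁻¹ ∉ W₁) (hc2 : x * t * x⁻¹ ∉ W₂) :
    x ∈ W₁ ⊔ W₂ := by
  obtain ⟨_, _, _, _, hcyc, hN⟩ := hW
  have := hcyc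
  have hcomm : ∀ a ∈ W₁ ⊔ W₂, ∀ b ∈ W₁ ⊔ W₂, a * b = b * a := by
    intro a ha b hb
    have := (IsCyclic.commGroup (α := ↥(W₁ ⊔ W₂))).mul_comm ⟨a, ha⟩ ⟨b, hb⟩
    exact congrArg Subtype.val this
  have hmemA : ∀ g : G, g ∈ (↑(W₁ ⊔ W₂) : Set G) \ (↑W₁ ∪ ↑W₂) ↔
      (g ∈ W₁ ⊔ W₂ ∧ g ∉ W₁ ∧ g ∉ W₂) := by
    intro g
    simp only [Set.mem_sdiff, Set.mem_union, SetLike.mem_coe, not_or]
  -- centralizers of t and t'
  have hNt : Subgroup.normalizer ({t} : Set G) = W₁ ⊔ W₂ := by
    apply hN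
    · intro g hg
      rw [Set.mem_singleton_iff] at hg
      subst hg
      exact (hmemA _).2 ⟨ht, ht1, ht2⟩
    · exact Set.singleton_nonempty _
  have hNt' : Subgroup.normalizer ({x * t * x⁻¹} : Set G) = W₁ ⊔ W₂ := by
    apply hN
    · intro g hg
      rw [Set.mem_singleton_iff] at hg
      subst hg
      exact (hmemA _).2 ⟨hc, hc1, hc2⟩
    · exact Set.singleton_nonempty _
  have hcent : ∀ (s g : G), g * s * g⁻¹ = s → g ∈ Subgroup.normalizer ({s} : Set G) := by
    intro s g hgs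
    rw [Subgroup.mem_set_normalizer_iff]
    intro h
    simp only [Set.mem_singleton_iff]
    constructor
    · intro hh; rw [hh]; exact hgs
    · intro hh
      have : h = g⁻¹ * s * g := by rw [← hh]; group
      rw [this]
      have : g⁻¹ * s * g = g⁻¹ * (g * s * g⁻¹) * g := by rw [hgs]
      rw [this]; group
  -- (i) conjugation by x preserves W
  have hi : ∀ v ∈ W₁ ⊔ W₂, x * v * x⁻¹ ∈ W₁ ⊔ W₂ := by
    intro v hv
    rw [← hNt']
    apply hcent
    have hvt : v * t = t * v := hcomm v hv t ht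
    calc x * v * x⁻¹ * (x * t * x⁻¹) * (x * v * x⁻¹)⁻¹
        = x * (v * t * v⁻¹) * x⁻¹ := by group
      _ = x * t * x⁻¹ := by rw [hvt]; group
  have hii : ∀ v ∈ W₁ ⊔ W₂, x⁻¹ * v * x ∈ W₁ ⊔ W₂ := by
    intro v hv
    rw [← hNt]
    apply hcent
    have hvt : v * (x * t * x⁻¹) = (x * t * x⁻¹) * v := hcomm v hv _ hc
    calc x⁻¹ * v * x * t * (x⁻¹ * v * x)⁻¹
        = x⁻¹ * (v * (x * t * x⁻¹) * v⁻¹) * x := by group
      _ = x⁻¹ * ((x * t * x⁻¹) * v * v⁻¹) * x := by rw [hvt]
      _ = t := by group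
  -- subgroups characterised by orders
  have hW1le : W₁ ≤ W₁ ⊔ W₂ := le_sup_left
  have hW2le : W₂ ≤ W₁ ⊔ W₂ := le_sup_right
  have hchar : ∀ (H : Subgroup G), H ≤ W₁ ⊔ W₂ → ∀ h : G, h ∈ W₁ ⊔ W₂ →
      (h ∈ H ↔ x * h * x⁻¹ ∈ H) := by
    intro H hH h hh
    constructor
    · intro hhH
      apply mem_of_pow_card_of_isCyclic_sub H (W₁ ⊔ W₂) hH _ (hi h hh)
      rw [conj_pow]
      have : h ^ Nat.card H = 1 := pow_card_sub_eq_one H hhH
      rw [this]; group
    · intro hhH
      apply mem_of_pow_card_of_isCyclic_sub H (W₁ ⊔ W₂) hH _ hh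
      have h3 : (x * h * x⁻¹) ^ Nat.card H = 1 := pow_card_sub_eq_one H hhH
      rw [conj_pow] at h3
      have : h ^ Nat.card H = x⁻¹ * (x * h ^ Nat.card H * x⁻¹) * x := by group
      rw [this, h3]; group
  -- x normalises A
  have hxA : x ∈ Subgroup.normalizer ((↑(W₁ ⊔ W₂) : Set G) \ (↑W₁ ∪ ↑W₂)) := by
    rw [Subgroup.mem_set_normalizer_iff]
    intro h
    rw [hmemA, hmemA]
    constructor
    · rintro ⟨h0, h1, h2⟩
      exact ⟨hi h h0, fun hh => h1 ((hchar W₁ hW1le h h0).2 hh),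
        fun hh => h2 ((hchar W₂ hW2le h h0).2 hh)⟩
    · rintro ⟨h0, h1, h2⟩
      have hh0 : h ∈ W₁ ⊔ W₂ := by
        have := hii _ h0
        have e : x⁻¹ * (x * h * x⁻¹) * x = h := by group
        rwa [e] at this
      exact ⟨hh0, fun hh => h1 ((hchar W₁ hW1le h hh0).1 hh),
        fun hh => h2 ((hchar W₂ hW2le h hh0).1 hh)⟩
  rw [hN _ (le_refl _) ⟨t, (hmemA t).2 ⟨ht, ht1, ht2⟩⟩] at hxA
  exact hxA

end Cfsg.Agent.Lib.Helper26
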