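import Mathlib
import Cfsg.Prelude.Def_Characters
import Cfsg.Agent.Lib.Helper26.GenChar
import Cfsg.Agent.Lib.Helper26.TIInd
import Cfsg.Agent.Lib.Helper4.Decomp
import Cfsg.Agent.Lib.Helper2.CharConj

/-!
# Characters: sums, natural/integer coefficient criteria, induction (helper26)

* `isCharacter_add`, `isCharacter_nsmul`, `isCharacter_sum`
* `isCharacter_of_nat_coeff`: a class function with natural inner products with all irreducible
  characters is a character.
* `isGeneralizedCharacter_of_int_coeff`, closure of generalized characters under `+,-,neg,zsmul`.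
* `isCharacter_indFun`, `isGeneralizedCharacter_indFun`: induction preserves (generalized) characters.
* `classInner_indFun_left'`/`classInner_indFun_right'`: Frobenius reciprocity against restriction.
* `genChar_norm_one`, `isIrrCharacter_of_norm_one`.
-/

namespace Cfsg.Agent.Lib.Helper26
open Cfsg
open scoped ComplexConjugate

section Sums
variable {G : Type*} [Group G]

theorem isCharacter_add {χ ψ : G → ℂ} (hχ : IsCharacter G χ) (hψ : IsCharacter G ψ) :
    IsCharacter G (χ + ψ) := by
  obtain ⟨n, ρ, rfl⟩ := hχ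
  obtain ⟨m, σ, rfl⟩ := hψ
  rw [← Cfsg.Agent.Lib.Helper4.character_prod]
  exact Cfsg.Agent.Lib.Helper4.isCharacter_of_rep _

theorem isCharacter_nsmul {χ : G → ℂ} (hχ : IsCharacter G χ) (n : ℕ) :
    IsCharacter G (n • χ) := by
  induction n with
  | zero => rw [zero_nsmul]; exact isCharacter_zero
  | succ k ih => rw [succ_nsmul]; exact isCharacter_add ih hχ

theorem isCharacter_sum {ι : Type*} (s : Finset ι) (f : ι → G → ℂ)
    (h : ∀ i ∈ s, IsCharacter G (f i)) : IsCharacter G (∑ i ∈ s, f i) := by
  classical
  induction s using Finset.induction_on with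
  | empty => rw [Finset.sum_empty]; exact isCharacter_zero
  | insert a s ha ih =>
    rw [Finset.sum_insert ha]
    exact isCharacter_add (h a (Finset.mem_insert_self a s))
      (ih (fun i hi => h i (Finset.mem_insert_of_mem hi)))

theorem isGeneralizedCharacter_add {α β : G → ℂ} (hα : IsGeneralizedCharacter G α)
    (hβ : IsGeneralizedCharacter G β) : IsGeneralizedCharacter G (α + β) := by
  obtain ⟨a, b, ha, hb, rfl⟩ := hα
  obtain ⟨c, d, hc, hd, rfl⟩ := hβ
  exact ⟨a + c, b + d, isCharacter_add ha hc, isCharacter_add hb hd, by abel⟩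

theorem isGeneralizedCharacter_neg {α : G → ℂ} (hα : IsGeneralizedCharacter G α) :
    IsGeneralizedCharacter G (-α) := by
  obtain ⟨a, b, ha, hb, rfl⟩ := hα
  exact ⟨b, a, hb, ha, by abel⟩

theorem isGeneralizedCharacter_sub {α β : G → ℂ} (hα : IsGeneralizedCharacter G α)
    (hβ : IsGeneralizedCharacter G β) : IsGeneralizedCharacter G (α - β) := by
  rw [sub_eq_add_neg]
  exact isGeneralizedCharacter_add hα (isGeneralizedCharacter_neg hβ)

theorem isGeneralizedCharacter_zero : IsGeneralizedCharacter G (0 : G → ℂ) :=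
  isGeneralizedCharacter_of_isCharacter isCharacter_zero

theorem isGeneralizedCharacter_nsmul {α : G → ℂ} (hα : IsGeneralizedCharacter G α) (n : ℕ) :
    IsGeneralizedCharacter G (n • α) := by
  induction n with
  | zero => rw [zero_nsmul]; exact isGeneralizedCharacter_zero
  | succ k ih => rw [succ_nsmul]; exact isGeneralizedCharacter_add ih hα

theorem isGeneralizedCharacter_zsmul {α : G → ℂ} (hα : IsGeneralizedCharacter G α) (n : ℤ) :
    IsGeneralizedCharacter G (n • α) := by
  obtain ⟨k, rfl | rfl⟩ := Int.eq_nat_or_neg n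
  · rw [natCast_zsmul]; exact isGeneralizedCharacter_nsmul hα k
  · rw [neg_zsmul, natCast_zsmul]
    exact isGeneralizedCharacter_neg (isGeneralizedCharacter_nsmul hα k)

theorem isGeneralizedCharacter_sum {ι : Type*} (s : Finset ι) (f : ι → G → ℂ)
    (h : ∀ i ∈ s, IsGeneralizedCharacter G (f i)) : IsGeneralizedCharacter G (∑ i ∈ s, f i) := by
  classical
  induction s using Finset.induction_on with
  | empty => rw [Finset.sum_empty]; exact isGeneralizedCharacter_zero
  | insert a s ha ih =>
    rw [Finset.sum_insert ha]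
    exact isGeneralizedCharacter_add (h a (Finset.mem_insert_self a s))
      (ih (fun i hi => h i (Finset.mem_insert_of_mem hi)))

end Sums

section Coeff
variable {G : Type*} [Group G] [Fintype G]

/-- A class function whose inner products with all irreducible characters are natural numbers
is a character. -/
theorem isCharacter_of_nat_coeff {X : G → ℂ} (hX : IsClassFunction G X)
    (h : ∀ μ : IrrCharacter G, ∃ n : ℕ, classInner X (μ : G → ℂ) = n) : IsCharacter G X := by
  classical
  have : Fintype (IrrCharacter G) := Fintype.ofFinite _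
  choose c hc using h
  have hexp := Cfsg.Agent.Lib.Helper4.classFunction_expansion X hX
  simp_rw [hc] at hexp
  rw [hexp]
  apply isCharacter_sum
  intro μ _
  rw [Nat.cast_smul_eq_nsmul ℂ (c μ) (μ : G → ℂ)]
  exact isCharacter_nsmul (isCharacter_of_isIrrCharacter μ.2) _

/-- A class function whose inner products with all irreducible characters are integers is a
generalized character. -/
theorem isGeneralizedCharacter_of_int_coeff {X : G → ℂ} (hX : IsClassFunction G X)
    (h : ∀ μ : IrrCharacter G, ∃ n : ℤ, classInner X (μ : G → ℂ) = n) :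
    IsGeneralizedCharacter G X := by
  classical
  have : Fintype (IrrCharacter G) := Fintype.ofFinite _
  choose c hc using h
  have hexp := Cfsg.Agent.Lib.Helper4.classFunction_expansion X hX
  simp_rw [hc] at hexp
  rw [hexp]
  apply isGeneralizedCharacter_sum
  intro μ _
  rw [Int.cast_smul_eq_zsmul ℂ (c μ) (μ : G → ℂ)]
  exact isGeneralizedCharacter_zsmul
    (isGeneralizedCharacter_of_isCharacter (isCharacter_of_isIrrCharacter μ.2)) _

/-- A generalized character of norm one is `±` an irreducible character. -/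
theorem genChar_norm_one {X : G → ℂ} (hX : IsGeneralizedCharacter G X)
    (hnorm : classInner X X = 1) :
    ∃ μ : G → ℂ, IsIrrCharacter G μ ∧ (X = μ ∨ X = -μ) := by
  classical
  have : Fintype (IrrCharacter G) := Fintype.ofFinite _
  obtain ⟨c, hc⟩ := exists_int_coeff hX
  have hP := genChar_norm hX c hc
  rw [hnorm] at hP
  have hP' : ∑ μ : IrrCharacter G, (c μ) ^ 2 = 1 := by exact_mod_cast hP.symm
  have hex1 : ∃ μ₁, c μ₁ ≠ 0 := by
    by_contra hcon
    push Not at hcon
    have : ∑ μ : IrrCharacter G, (c μ) ^ 2 = 0 := by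
      apply Finset.sum_eq_zero
      intro μ _
      rw [hcon μ]; rfl
    omega
  obtain ⟨μ₁, hμ₁⟩ := hex1
  have hsplit1 := Finset.add_sum_erase Finset.univ (fun μ => (c μ) ^ 2) (Finset.mem_univ μ₁)
  rw [hP'] at hsplit1
  have hrest_nonneg : 0 ≤ ∑ μ ∈ Finset.univ.erase μ₁, (c μ) ^ 2 :=
    Finset.sum_nonneg (fun μ _ => sq_nonneg (c μ))
  have hpos : 1 ≤ (c μ₁) ^ 2 := by
    have : 0 < (c μ₁) ^ 2 := by positivity
    omega
  have hc1sq : (c μ₁) ^ 2 = 1 := by linarith
  have hrest : ∑ μ ∈ Finset.univ.erase μ₁, (c μ) ^ 2 = 0 := by linarith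
  have hzero : ∀ μ ∈ Finset.univ.erase μ₁, c μ = 0 := by
    intro μ hμ
    have := (Finset.sum_eq_zero_iff_of_nonneg (fun μ _ => sq_nonneg (c μ))).1 hrest μ hμ
    exact pow_eq_zero_iff (by norm_num) |>.1 this
  have hexp := genChar_expansion hX c hc
  have hX2 : X = (c μ₁ : ℂ) • (μ₁ : G → ℂ) := by
    rw [hexp, ← Finset.add_sum_erase Finset.univ _ (Finset.mem_univ μ₁)]
    have : ∑ μ ∈ Finset.univ.erase μ₁, (c μ : ℂ) • (μ : G → ℂ) = 0 := by
      apply Finset.sum_eq_zero
      intro μ hμ
      rw [hzero μ hμ]; simp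
    rw [this, add_zero]
  have hsq : ∀ z : ℤ, z ^ 2 = 1 → z = 1 ∨ z = -1 := by
    intro z hz
    have hz' : (z - 1) * (z + 1) = 0 := by ring_nf; linarith
    rcases mul_eq_zero.1 hz' with h | h
    · left; omega
    · right; omega
  refine ⟨μ₁, μ₁.2, ?_⟩
  rcases hsq _ hc1sq with h1 | h1
  · left
    rw [hX2, h1]; simp
  · right
    rw [hX2, h1]; simp

/-- A generalized character of norm one with positive degree is irreducible. -/
theorem isIrrCharacter_of_norm_one {X : G → ℂ} (hX : IsGeneralizedCharacter G X)
    (hnorm : classInner X X = 1) (hpos : 0 < (X 1).re) : IsIrrCharacter G X := by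
  obtain ⟨μ, hμ, h | h⟩ := genChar_norm_one hX hnorm
  · rw [h]; exact hμ
  · exfalso
    obtain ⟨d, hd, hd1⟩ := irr_degree hμ
    rw [h, Pi.neg_apply, hd1] at hpos
    simp at hpos
    have : (0 : ℝ) ≤ d := Nat.cast_nonneg d
    linarith

end Coeff

section Ind
variable {G : Type*} [Group G] [Fintype G]

theorem extendByZero_add (H : Subgroup G) (a b : H → ℂ) :
    extendByZero H (a + b) = extendByZero H a + extendByZero H b := by
  funext g
  by_cases hg : g ∈ H
  · simp only [Pi.add_apply, extendByZero_apply_mem H _ g hg]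
  · simp only [Pi.add_apply, extendByZero_apply_not_mem H _ g hg, add_zero]

theorem extendByZero_smul (H : Subgroup G) (k : ℂ) (a : H → ℂ) :
    extendByZero H (k • a) = k • extendByZero H a := by
  funext g
  by_cases hg : g ∈ H
  · simp only [Pi.smul_apply, extendByZero_apply_mem H _ g hg]
  · simp only [Pi.smul_apply, extendByZero_apply_not_mem H _ g hg, smul_zero]

theorem indFun_add (H : Subgroup G) (a b : H → ℂ) :
    indFun H (a + b) = indFun H a + indFun H b := by
  funext g
  simp only [indFun, Pi.add_apply, extendByZero_add, Finset.sum_add_distrib, mul_add]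

theorem indFun_smul (H : Subgroup G) (k : ℂ) (a : H → ℂ) :
    indFun H (k • a) = k • indFun H a := by
  funext g
  simp only [indFun, Pi.smul_apply, extendByZero_smul, smul_eq_mul, ← Finset.mul_sum]
  ring

theorem indFun_neg (H : Subgroup G) (a : H → ℂ) : indFun H (-a) = -indFun H a := by
  have := indFun_smul H (-1) a
  simpa using this

theorem indFun_sub (H : Subgroup G) (a b : H → ℂ) :
    indFun H (a - b) = indFun H a - indFun H b := by
  rw [sub_eq_add_neg, indFun_add, indFun_neg, ← sub_eq_add_neg]

/-- Frobenius reciprocity: `⟨χ, Ind θ⟩_G = ⟨χ|_H, θ⟩_H`. -/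
theorem classInner_indFun_right' (H : Subgroup G) [Fintype H] (χ : G → ℂ)
    (hχ : IsClassFunction G χ) (θ : H → ℂ) :
    classInner χ (indFun H θ) = classInner (χ ∘ H.subtype) θ := by
  rw [classInner_indFun_right H χ hχ θ]
  rfl

/-- Frobenius reciprocity: `⟨Ind θ, χ⟩_G = ⟨θ, χ|_H⟩_H`. -/
theorem classInner_indFun_left' (H : Subgroup G) [Fintype H] (θ : H → ℂ) (χ : G → ℂ)
    (hχ : IsClassFunction G χ) :
    classInner (indFun H θ) χ = classInner θ (χ ∘ H.subtype) := by
  rw [← classInner_conj_symm, classInner_indFun_right' H χ hχ θ, classInner_conj_symm]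

/-- The function induced from a character is a character. -/
theorem isCharacter_indFun (H : Subgroup G) {θ : H → ℂ} (hθ : IsCharacter H θ) :
    IsCharacter G (indFun H θ) := by
  classical
  have : Fintype H := Fintype.ofFinite _
  apply isCharacter_of_nat_coeff (isClassFunction_indFun H θ)
  intro μ
  have hres : IsCharacter H ((μ : G → ℂ) ∘ H.subtype) :=
    Cfsg.Agent.Lib.Helper2.isCharacter_comp_hom (isCharacter_of_isIrrCharacter μ.2) H.subtype
  obtain ⟨n, hn⟩ := classInner_isCharacter_nat hθ hres
  exact ⟨n, by rw [classInner_indFun_left' H θ _ (isClassFunction_of_isIrrCharacter μ.2), hn]⟩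

/-- The function induced from a generalized character is a generalized character. -/
theorem isGeneralizedCharacter_indFun (H : Subgroup G) {θ : H → ℂ}
    (hθ : IsGeneralizedCharacter H θ) : IsGeneralizedCharacter G (indFun H θ) := by
  obtain ⟨a, b, ha, hb, rfl⟩ := hθ
  rw [indFun_sub]
  exact ⟨_, _, isCharacter_indFun H ha, isCharacter_indFun H hb, rfl⟩

/-- Restriction of a character to a subgroup is a character. -/
theorem isCharacter_restrict {G : Type*} [Group G] (H : Subgroup G) {χ : G → ℂ}
    (hχ : IsCharacter G χ) : IsCharacter H (χ ∘ H.subtype) :=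
  Cfsg.Agent.Lib.Helper2.isCharacter_comp_hom hχ H.subtype

theorem isGeneralizedCharacter_restrict {G : Type*} [Group G] (H : Subgroup G) {χ : G → ℂ}
    (hχ : IsGeneralizedCharacter G χ) : IsGeneralizedCharacter H (χ ∘ H.subtype) := by
  obtain ⟨a, b, ha, hb, rfl⟩ := hχ
  exact ⟨_, _, isCharacter_restrict H ha, isCharacter_restrict H hb, rfl⟩

end Ind

end Cfsg.Agent.Lib.Helper26
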