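import Mathlib
import Cfsg.Prelude.Def_Characters
import Cfsg.Agent.Lib.Helper26.CharBasic
import Cfsg.Agent.Lib.Helper26.IndChar
import Cfsg.Agent.Lib.Helper4.CharOrtho
import Cfsg.Agent.Lib.Helper4.CenterDegree
import Cfsg.Agent.Lib.Helper28.PermInd

/-!
# Frame-type integrality for permutation characters (helper26)

* `isIntegral_mul_of_absorb`: if `T₀` is integral and `e * (T₀ * e) = T₀ * e` then `T₀ * e` is
  integral.
* `isIntegral_trace_of_isIntegral`: the trace of an integral endomorphism is an algebraic integer.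
* `frame_dvd`: if `f` divides the degree of every non-principal irreducible constituent of a
  transitive permutation character then `f` divides every nontrivial subdegree.
-/

set_option autoImplicit false

namespace Cfsg.Agent.Lib.Helper26
open Cfsg
open scoped ComplexConjugate

section Alg

theorem isIntegral_mul_of_absorb {E : Type*} [Ring E] [Algebra ℤ E] (T₀ e : E)
    (hT₀ : IsIntegral ℤ T₀) (habs : e * (T₀ * e) = T₀ * e) : IsIntegral ℤ (T₀ * e) := by
  obtain ⟨p, hpm, hp⟩ := hT₀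
  have hpow : ∀ k : ℕ, (T₀ * e) ^ (k + 1) = T₀ ^ (k + 1) * e := by
    intro k
    induction k with
    | zero => rw [pow_one, pow_one]
    | succ k ih =>
      rw [pow_succ, ih, mul_assoc, habs, ← mul_assoc, ← pow_succ]
  have hq : ∀ q : Polynomial ℤ,
      (T₀ * e) * Polynomial.aeval (T₀ * e) q = T₀ * Polynomial.aeval T₀ q * e := by
    intro q
    induction q using Polynomial.induction_on' with
    | add p q hp hq => rw [map_add, map_add, mul_add, mul_add, add_mul, hp, hq]
    | monomial n a =>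
      rw [Polynomial.aeval_monomial, Polynomial.aeval_monomial, ← mul_assoc, ← Algebra.commutes,
        mul_assoc, ← pow_succ', hpow, ← mul_assoc T₀, ← Algebra.commutes, mul_assoc, mul_assoc,
        ← mul_assoc T₀, ← pow_succ']
  refine ⟨Polynomial.X * p, Polynomial.monic_X.mul hpm, ?_⟩
  rw [← Polynomial.aeval_def, map_mul, Polynomial.aeval_X, hq, Polynomial.aeval_def, hp, mul_zero,
    zero_mul]

theorem isIntegral_trace_of_isIntegral {V : Type*} [AddCommGroup V] [Module ℂ V]
    [FiniteDimensional ℂ V] (T : Module.End ℂ V) (hT : IsIntegral ℤ T) :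
    IsIntegral ℤ (LinearMap.trace ℂ V T) := by
  obtain ⟨p, hpm, hp⟩ := hT
  rw [Module.End.trace_eq_sum_roots_charpoly_of_splits (IsAlgClosed.splits _)]
  apply IsIntegral.multiset_sum
  intro μ hμ
  have hroot : T.charpoly.IsRoot μ := (Polynomial.mem_roots'.mp hμ).2
  have hev : T.HasEigenvalue μ := (Module.End.hasEigenvalue_iff_isRoot_charpoly T μ).mpr hroot
  obtain ⟨v, hv⟩ := hev.exists_hasEigenvector
  refine ⟨p, hpm, ?_⟩
  have h1 := Module.End.aeval_apply_of_hasEigenvector (p := p.map (algebraMap ℤ ℂ)) hv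
  rw [Polynomial.aeval_map_algebraMap, Polynomial.aeval_def, hp, LinearMap.zero_apply] at h1
  have h2 : Polynomial.eval μ (p.map (algebraMap ℤ ℂ)) = 0 := by
    rcases smul_eq_zero.mp h1.symm with h | h
    · exact h
    · exact absurd h hv.2
  rw [Polynomial.eval_map] at h2
  exact h2

end Alg

section Frame
variable {G : Type*} [Group G] [Fintype G]

/-- decomposition of a sum over `D = {x | x • a ∈ Δ}` along a section `s` of `x ↦ x • a` -/
theorem sum_over_preimage {Ω : Type*} [MulAction G Ω] [DecidableEq Ω] {M : Type*} [AddCommMonoid M]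
    (a : Ω) (Δ : Finset Ω) (s : Ω → G) (hs : ∀ c ∈ Δ, s c • a = c) (F : G → M) :
    ∑ x ∈ Finset.univ.filter (fun x : G => x • a ∈ Δ), F x =
      ∑ c ∈ Δ, ∑ h : MulAction.stabilizer G a, F (s c * h) := by
  classical
  rw [← Finset.sum_fiberwise_of_maps_to (s := Finset.univ.filter (fun x : G => x • a ∈ Δ))
    (t := Δ) (g := fun x => x • a) (fun x hx => (Finset.mem_filter.mp hx).2)]
  apply Finset.sum_congr rfl
  intro c hc
  symm
  refine Finset.sum_bij' (fun h _ => s c * (h : G)) (fun x hx => ⟨(s c)⁻¹ * x, ?_⟩) ?_ ?_ ?_ ?_ ?_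
  · have hx2 : x • a = c := (Finset.mem_filter.mp hx).2
    rw [MulAction.mem_stabilizer_iff, mul_smul, hx2, inv_smul_eq_iff, hs c hc]
  · intro h _
    have h1 : (s c * (h : G)) • a = c := by
      rw [mul_smul, MulAction.mem_stabilizer_iff.mp h.2, hs c hc]
    rw [Finset.mem_filter, Finset.mem_filter]
    exact ⟨⟨Finset.mem_univ _, by rw [h1]; exact hc⟩, h1⟩
  · intro x _
    exact Finset.mem_univ _
  · intro h _
    apply Subtype.ext
    show (s c)⁻¹ * (s c * (h : G)) = h
    rw [inv_mul_cancel_left]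
  · intro x _
    show s c * ((s c)⁻¹ * x) = x
    rw [mul_inv_cancel_left]
  · intro h _
    rfl

/-- For an `H`-left-invariant set `D` which is a disjoint union of cosets `s c * H`, the normalized
character sum over `D` is an algebraic integer; it vanishes if `χ|_H` has no trivial constituent. -/
theorem doubleCoset_sum {V : Type*} [AddCommGroup V] [Module ℂ V] [FiniteDimensional ℂ V]
    (ρ : Representation ℂ G V) (H : Subgroup G) [Fintype H] (D : Finset G) {ι : Type*}
    (I : Finset ι) (s : ι → G) (hleft : ∀ h ∈ H, ∀ x ∈ D, h * x ∈ D)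
    (hdecomp : ∀ F : G → Module.End ℂ V, ∑ x ∈ D, F x = ∑ c ∈ I, ∑ h : H, F (s c * h)) :
    IsIntegral ℤ ((Nat.card H : ℂ)⁻¹ * ∑ x ∈ D, ρ.character x) ∧
      (∑ h : H, ρ.character h = 0 → (Nat.card H : ℂ)⁻¹ * ∑ x ∈ D, ρ.character x = 0) := by
  classical
  obtain ⟨k, hkdef⟩ : ∃ k : ℂ, k = (Nat.card H : ℂ)⁻¹ := ⟨_, rfl⟩
  have hcard : (Nat.card H : ℂ) ≠ 0 := by
    have : Nat.card H ≠ 0 := Nat.card_pos.ne'
    exact_mod_cast this
  have hk : k * (Fintype.card H : ℂ) = 1 := by
    rw [hkdef, ← Nat.card_eq_fintype_card, inv_mul_cancel₀ hcard]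
  rw [← hkdef]
  obtain ⟨e, he⟩ : ∃ e : Module.End ℂ V, e = k • ∑ h : H, ρ h := ⟨_, rfl⟩
  obtain ⟨T₀, hT₀⟩ : ∃ T₀ : Module.End ℂ V, T₀ = ∑ c ∈ I, ρ (s c) := ⟨_, rfl⟩
  obtain ⟨S, hS⟩ : ∃ S : Module.End ℂ V, S = ∑ x ∈ D, ρ x := ⟨_, rfl⟩
  have hT₀int : IsIntegral ℤ T₀ := by
    have h1 : T₀ = (MonoidAlgebra.lift ℤ (Module.End ℂ V) G ρ)
        (∑ c ∈ I, MonoidAlgebra.single (s c) (1 : ℤ)) := by
      rw [map_sum, hT₀]
      apply Finset.sum_congr rfl
      intro c _
      rw [MonoidAlgebra.lift_single, one_smul]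
    rw [h1]
    exact IsIntegral.map (MonoidAlgebra.lift ℤ (Module.End ℂ V) G ρ) (IsIntegral.of_finite ℤ _)
  have hTe : T₀ * e = k • S := by
    rw [he, mul_smul_comm, hT₀, Finset.sum_mul, hS, hdecomp (fun x => ρ x)]
    congr 1
    apply Finset.sum_congr rfl
    intro c _
    rw [Finset.mul_sum]
    apply Finset.sum_congr rfl
    intro h _
    rw [map_mul]
  have hperm : ∀ h : H, ∑ x ∈ D, ρ ((h : G) * x) = S := by
    intro h
    rw [hS]
    refine Finset.sum_bij' (fun x _ => (h : G) * x) (fun x _ => (h : G)⁻¹ * x) ?_ ?_ ?_ ?_ ?_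
    · intro x hx
      exact hleft h h.2 x hx
    · intro x hx
      exact hleft _ (H.inv_mem h.2) x hx
    · intro x _
      show (h : G)⁻¹ * ((h : G) * x) = x
      rw [inv_mul_cancel_left]
    · intro x _
      show (h : G) * ((h : G)⁻¹ * x) = x
      rw [mul_inv_cancel_left]
    · intro x _
      rfl
  have heS : e * S = S := by
    rw [he, smul_mul_assoc, Finset.sum_mul]
    have h1 : ∀ h ∈ (Finset.univ : Finset H), ρ (h : G) * S = S := by
      intro h _
      calc ρ (h : G) * S = ∑ x ∈ D, ρ ((h : G) * x) := by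
            rw [hS, Finset.mul_sum]
            apply Finset.sum_congr rfl
            intro x _
            rw [map_mul]
        _ = S := hperm h
    rw [Finset.sum_congr rfl h1, Finset.sum_const, Finset.card_univ, ← Nat.cast_smul_eq_nsmul ℂ,
      smul_smul, hk, one_smul]
  have habs : e * (T₀ * e) = T₀ * e := by
    rw [hTe, mul_smul_comm, heS]
  have hint : IsIntegral ℤ (T₀ * e) := isIntegral_mul_of_absorb T₀ e hT₀int habs
  have htr : LinearMap.trace ℂ V (T₀ * e) = k * ∑ x ∈ D, ρ.character x := by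
    rw [hTe, map_smul, hS, map_sum, smul_eq_mul]
    rfl
  refine ⟨?_, ?_⟩
  · rw [← htr]
    exact isIntegral_trace_of_isIntegral _ hint
  · intro hzero
    rw [← htr]
    have hidem : IsIdempotentElem e := by
      show e * e = e
      have h2 : e * e = k • (e * ∑ h : H, ρ h) := by
        conv_lhs => rw [he]
        rw [mul_smul_comm, ← he]
      rw [h2]
      have h3 : e * ∑ h : H, ρ h = ∑ h : H, ρ h := by
        rw [he, smul_mul_assoc, Finset.sum_mul]
        have h1 : ∀ h ∈ (Finset.univ : Finset H), ρ (h : G) * ∑ h' : H, ρ (h' : G) =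
            ∑ h' : H, ρ (h' : G) := by
          intro h _
          rw [Finset.mul_sum]
          refine Fintype.sum_equiv (Equiv.mulLeft h) _ _ (fun h' => ?_)
          rw [← map_mul]
          rfl
        rw [Finset.sum_congr rfl h1, Finset.sum_const, Finset.card_univ,
          ← Nat.cast_smul_eq_nsmul ℂ, smul_smul, hk, one_smul]
      rw [h3, ← he]
    have htre : LinearMap.trace ℂ V e = 0 := by
      rw [he, map_smul, map_sum]
      have : ∑ h : H, LinearMap.trace ℂ V (ρ (h : G)) = ∑ h : H, ρ.character h := rfl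
      rw [this, hzero, smul_zero]
    have he0 : e = 0 := (LinearMap.IsIdempotentElem.trace_eq_zero_iff hidem).mp htre
    rw [he0, mul_zero, map_zero]

end Frame

section FrameMain
variable {G : Type} [Group G] [Fintype G] {Ω : Type*} [Fintype Ω] [MulAction G Ω]

theorem permChar_eq_indFun' {G : Type*} [Group G] [Fintype G] {Ω : Type*} [Fintype Ω]
    [MulAction G Ω] [MulAction.IsPretransitive G Ω] (a : Ω) :
    (fun g : G => (Nat.card (MulAction.fixedBy Ω g) : ℂ)) =
      indFun (MulAction.stabilizer G a) (fun _ => (1 : ℂ)) := by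
  funext g
  rw [Cfsg.Agent.Lib.Helper28.indFun_one_stabilizer a g]
  congr 1
  apply Nat.card_congr
  apply Equiv.subtypeEquivRight
  intro z
  rw [MulAction.mem_fixedBy, MulAction.orbit_eq_univ]
  simp

end FrameMain

section FrameMain2
variable {G : Type*} [Group G] [Fintype G] {Ω : Type*} [Fintype Ω] [MulAction G Ω]

/-- Frame-type divisibility: if `f` divides the degrees of all non-principal irreducible
constituents of a transitive permutation character, then `f` divides every nontrivial subdegree. -/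
theorem frame_dvd [MulAction.IsPretransitive G Ω] (f : ℕ)
    (hf : ∀ χ : G → ℂ, IsIrrCharacter G χ → χ ≠ (fun _ => 1) →
      classInner (fun g : G => (Nat.card (MulAction.fixedBy Ω g) : ℂ)) χ ≠ 0 →
      ∃ m : ℕ, χ 1 = (f : ℂ) * m)
    (a b : Ω) (hab : b ≠ a) :
    f ∣ Nat.card (MulAction.orbit (MulAction.stabilizer G a) b) := by
  classical
  haveI : Fintype (IrrCharacter G) := Fintype.ofFinite _
  obtain ⟨π, hπ⟩ : ∃ π : G → ℂ, π = fun g : G => (Nat.card (MulAction.fixedBy Ω g) : ℂ) :=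
    ⟨_, rfl⟩
  rw [← hπ] at hf
  have hπind : π = indFun (MulAction.stabilizer G a) (fun _ => (1 : ℂ)) := by
    rw [hπ]
    exact permChar_eq_indFun' a
  obtain ⟨Δ, hΔ⟩ : ∃ Δ : Finset Ω, Δ = Finset.univ.filter
      (fun c => c ∈ MulAction.orbit (MulAction.stabilizer G a) b) := ⟨_, rfl⟩
  have hmemΔ : ∀ c, c ∈ Δ ↔ c ∈ MulAction.orbit (MulAction.stabilizer G a) b := by
    intro c
    rw [hΔ]
    simp
  have hn : Nat.card (MulAction.orbit (MulAction.stabilizer G a) b) = Δ.card :=
    Nat.subtype_card Δ hmemΔ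
  rw [hn]
  have hex : ∀ c : Ω, ∃ g : G, g • a = c := fun c => MulAction.exists_smul_eq G a c
  choose s hs using hex
  obtain ⟨D, hD⟩ : ∃ D : Finset G, D = Finset.univ.filter (fun x : G => x • a ∈ Δ) := ⟨_, rfl⟩
  have hdecompC : ∀ F : G → ℂ, ∑ x ∈ D, F x =
      ∑ c ∈ Δ, ∑ h : MulAction.stabilizer G a, F (s c * h) := by
    intro F
    rw [hD]
    exact sum_over_preimage a Δ s (fun c _ => hs c) F
  have hleft : ∀ h ∈ MulAction.stabilizer G a, ∀ x ∈ D, h * x ∈ D := by
    intro h hh x hx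
    rw [hD, Finset.mem_filter] at hx ⊢
    refine ⟨Finset.mem_univ _, ?_⟩
    obtain ⟨h', hh'⟩ := (hmemΔ _).mp hx.2
    have h2 : (h' : G) • b = x • a := hh'
    apply (hmemΔ _).mpr
    refine ⟨⟨h, hh⟩ * h', ?_⟩
    show (h * (h' : G)) • b = (h * x) • a
    rw [mul_smul, mul_smul, h2]
  have h1D : (1 : G) ∉ D := by
    intro h1
    rw [hD, Finset.mem_filter, one_smul, hmemΔ] at h1
    obtain ⟨h', hh'⟩ := h1.2
    have h2 : (h' : G) • b = a := hh'
    apply hab
    have h3 : (h' : G) • a = a := MulAction.mem_stabilizer_iff.mp h'.2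
    have h4 : (h' : G) • b = (h' : G) • a := by rw [h2, h3]
    exact MulAction.injective (h' : G) h4
  have hc : (Nat.card (MulAction.stabilizer G a) : ℂ) ≠ 0 := by
    have : Nat.card (MulAction.stabilizer G a) ≠ 0 := Nat.card_pos.ne'
    exact_mod_cast this
  obtain ⟨k, hk⟩ : ∃ k : ℂ, k = (Nat.card (MulAction.stabilizer G a) : ℂ)⁻¹ := ⟨_, rfl⟩
  obtain ⟨cD, hcD⟩ : ∃ cD : (G → ℂ) → ℂ, cD = fun χ => k * ∑ x ∈ D, χ x := ⟨_, rfl⟩
  have hcDapp : ∀ χ, cD χ = k * ∑ x ∈ D, χ x := fun χ => by rw [hcD]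
  have hint : ∀ χ : IrrCharacter G,
      IsIntegral ℤ (cD χ) ∧ (classInner π χ = 0 → cD χ = 0) := by
    intro χ
    obtain ⟨m, ρ, hρ, hχ⟩ := χ.2
    have h1 := doubleCoset_sum ρ (MulAction.stabilizer G a) D Δ s hleft (by
      intro F
      rw [hD]
      exact sum_over_preimage a Δ s (fun c _ => hs c) F)
    rw [hχ, ← hk, ← hcDapp] at h1
    refine ⟨h1.1, fun h0 => h1.2 ?_⟩
    rw [hπind, classInner_indFun_left' _ _ _ (isClassFunction_of_isIrrCharacter χ.2)] at h0
    unfold classInner at h0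
    have h2 := (mul_eq_zero.mp h0).resolve_left (inv_ne_zero hc)
    have h3 : (starRingEnd ℂ) (∑ h : MulAction.stabilizer G a, (χ : G → ℂ) h) = 0 := by
      rw [map_sum, ← h2]
      apply Finset.sum_congr rfl
      intro h _
      simp
    exact (map_eq_zero _).mp h3
  have hdegreal : ∀ χ : IrrCharacter G,
      (starRingEnd ℂ) ((χ : G → ℂ) 1) = (χ : G → ℂ) 1 := by
    intro χ
    obtain ⟨j, _, hj⟩ := irr_degree χ.2
    rw [hj, Complex.conj_natCast]
  have hsum0 : ∑ χ : IrrCharacter G, (χ : G → ℂ) 1 * cD χ = 0 := by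
    have h1 : ∀ χ : IrrCharacter G, (χ : G → ℂ) 1 * cD χ =
        k * ∑ x ∈ D, (χ : G → ℂ) x * (χ : G → ℂ) 1 := by
      intro χ
      rw [hcDapp, Finset.mul_sum, Finset.mul_sum, Finset.mul_sum]
      apply Finset.sum_congr rfl
      intro x _
      ring
    rw [Finset.sum_congr rfl (fun χ _ => h1 χ), ← Finset.mul_sum, Finset.sum_comm]
    have h2 : ∀ x ∈ D, ∑ χ : IrrCharacter G, (χ : G → ℂ) x * (χ : G → ℂ) 1 = 0 := by
      intro x hx
      have h3 := Cfsg.Agent.Lib.Helper4.column_orthogonality x (1 : G)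
      rw [if_neg] at h3
      · rw [← h3]
        apply Finset.sum_congr rfl
        intro χ _
        rw [hdegreal]
      · rw [isConj_one_left]
        rintro rfl
        exact h1D hx
    rw [Finset.sum_congr rfl h2, Finset.sum_const_zero, mul_zero]
  obtain ⟨triv, htriv⟩ : ∃ t : IrrCharacter G, (t : G → ℂ) = fun _ => 1 :=
    ⟨⟨fun _ => 1, Cfsg.Agent.Lib.Helper4.isIrrCharacter_one⟩, rfl⟩
  have hctriv : cD (triv : G → ℂ) = (Δ.card : ℂ) := by
    rw [hcDapp, htriv, hdecompC (fun _ => (1 : ℂ))]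
    simp only [Finset.sum_const, Finset.card_univ, nsmul_eq_mul, mul_one]
    rw [hk, ← Nat.card_eq_fintype_card, mul_comm (Δ.card : ℂ), ← mul_assoc, inv_mul_cancel₀ hc,
      one_mul]
  obtain ⟨mm, hmm⟩ : ∃ mm : IrrCharacter G → ℕ, ∀ χ : IrrCharacter G, χ ≠ triv →
      (χ : G → ℂ) 1 * cD χ = (f : ℂ) * ((mm χ : ℂ) * cD χ) := by
    refine ⟨fun χ => if h : (χ : G → ℂ) ≠ (fun _ => 1) ∧ classInner π χ ≠ 0 then
      (hf χ χ.2 h.1 h.2).choose else 0, ?_⟩
    intro χ hne
    have hne' : (χ : G → ℂ) ≠ (fun _ => 1) := fun h => hne (Subtype.ext (h.trans htriv.symm))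
    by_cases h0 : classInner π χ = 0
    · rw [(hint χ).2 h0, mul_zero, mul_zero, mul_zero]
    · have h : (χ : G → ℂ) ≠ (fun _ => 1) ∧ classInner π χ ≠ 0 := ⟨hne', h0⟩
      show (χ : G → ℂ) 1 * cD χ = (f : ℂ) * (((if h : (χ : G → ℂ) ≠ (fun _ => 1) ∧
        classInner π χ ≠ 0 then (hf χ χ.2 h.1 h.2).choose else 0 : ℕ) : ℂ) * cD χ)
      rw [dif_pos h]
      have hsp := (hf χ χ.2 h.1 h.2).choose_spec
      rw [← mul_assoc, ← hsp]
  obtain ⟨z, hz⟩ : ∃ z : ℂ, z = ∑ χ ∈ Finset.univ.erase triv, (mm χ : ℂ) * cD χ := ⟨_, rfl⟩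
  have hzint : IsIntegral ℤ z := by
    rw [hz]
    apply IsIntegral.sum
    intro χ _
    exact IsIntegral.mul (isIntegral_natCast _) (hint χ).1
  have hmain : (Δ.card : ℂ) + (f : ℂ) * z = 0 := by
    rw [← hsum0, ← Finset.add_sum_erase Finset.univ _ (Finset.mem_univ triv), hz, Finset.mul_sum]
    congr 1
    · rw [hctriv, htriv]
      simp
    · apply Finset.sum_congr rfl
      intro χ hχ
      exact (hmm χ (Finset.ne_of_mem_erase hχ)).symm
  by_cases hf0 : f = 0
  · rw [hf0, Nat.cast_zero, zero_mul, add_zero] at hmain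
    have h0 : Δ.card = 0 := by exact_mod_cast hmain
    rw [h0, hf0]
  · apply Cfsg.Agent.Lib.Helper4.dvd_of_isIntegral_div Δ.card f hf0
    have hfc : (f : ℂ) ≠ 0 := by exact_mod_cast hf0
    have h5 : (Δ.card : ℂ) / (f : ℂ) = -z := by
      field_simp
      linear_combination hmain
    rw [h5]
    exact hzint.neg

end FrameMain2

end Cfsg.Agent.Lib.Helper26
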