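import Mathlib
import Cfsg.Prelude.Def_Characters
import Cfsg.Agent.Lib.Helper26.IndChar
import Cfsg.Agent.Lib.Helper4.BurnsideClass

/-!
# Frobenius' theorem via characters (helper26)

For a subgroup `H` with `H ∩ H^g = 1` for `g ∉ H`:
* `frobStar H θ = Ind(θ - θ(1) 1_H) + θ(1) 1_G` extends `θ`, is constant `θ(1)` off the conjugates
  of `H`, and is an irreducible character when `θ` is.
* `frobenius_kernel_subgroup`: the identity together with the elements in no conjugate of `H` form a
  normal subgroup.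
-/

namespace Cfsg.Agent.Lib.Helper26
open Cfsg
open scoped ComplexConjugate

section
variable {G : Type*} [Group G] [Fintype G] (H : Subgroup G)

theorem indFun_eq_zero_of_not_conj (α : H → ℂ) (x : G) (hx : ∀ g : G, g⁻¹ * x * g ∉ H) :
    indFun H α x = 0 := by
  unfold indFun
  rw [Finset.sum_eq_zero, mul_zero]
  intro g _
  exact extendByZero_apply_not_mem H α _ (hx g)

/-- For a TI self-normalizing subgroup, inducing a class function vanishing at `1` and restricting
gives back the function. -/
theorem indFun_restrict_of_ti (hTI : ∀ g : G, g ∉ H → ∀ t ∈ H, g * t * g⁻¹ ∈ H → t = 1)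
    (α : H → ℂ) (hα : IsClassFunction H α) (h1 : α 1 = 0) (t : H) : indFun H α t = α t := by
  by_cases ht : t = 1
  · subst ht
    rw [Subgroup.coe_one, indFun_one, h1, mul_zero, mul_zero]
  · exact indFun_eq_on_ti (H : Set G) H (fun g hg t ht => hTI g hg t ht) α hα
      (fun x hx => absurd x.2 hx) t t.2 ht

/-- The Frobenius extension `θ* = Ind(θ - θ(1) 1_H) + θ(1) 1_G`. -/
noncomputable def frobStar (θ : H → ℂ) : G → ℂ :=
  indFun H (θ - (θ 1) • (fun _ => (1 : ℂ))) + (θ 1) • (fun _ => (1 : ℂ))

theorem frobStar_apply_mem (hTI : ∀ g : G, g ∉ H → ∀ t ∈ H, g * t * g⁻¹ ∈ H → t = 1)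
    {θ : H → ℂ} (hθ : IsClassFunction H θ) (t : H) : frobStar H θ t = θ t := by
  unfold frobStar
  rw [Pi.add_apply, indFun_restrict_of_ti H hTI]
  · simp
  · intro g k
    simp only [Pi.sub_apply, Pi.smul_apply, hθ g k]
  · simp

theorem frobStar_apply_not_conj (θ : H → ℂ) (x : G) (hx : ∀ g : G, g⁻¹ * x * g ∉ H) :
    frobStar H θ x = θ 1 := by
  unfold frobStar
  rw [Pi.add_apply, indFun_eq_zero_of_not_conj H _ x hx]
  simp

theorem frobStar_one (θ : H → ℂ) : frobStar H θ 1 = θ 1 := by
  unfold frobStar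
  rw [Pi.add_apply, indFun_one]
  simp

theorem isIrrCharacter_frobStar (hTI : ∀ g : G, g ∉ H → ∀ t ∈ H, g * t * g⁻¹ ∈ H → t = 1)
    {θ : H → ℂ} (hθ : IsIrrCharacter H θ) : IsIrrCharacter G (frobStar H θ) := by
  classical
  have : Fintype H := Fintype.ofFinite _
  obtain ⟨n, hnpos, hn⟩ := irr_degree hθ
  have hdconj : conj (θ 1) = θ 1 := by rw [hn, Complex.conj_natCast]
  have hθcf := isClassFunction_of_isIrrCharacter hθ
  have honeHirr : IsIrrCharacter H (fun _ => (1 : ℂ)) := Cfsg.Agent.Lib.Helper4.isIrrCharacter_one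
  have honeGirr : IsIrrCharacter G (fun _ => (1 : ℂ)) := Cfsg.Agent.Lib.Helper4.isIrrCharacter_one
  have hαcf : IsClassFunction H (θ - (θ 1) • (fun _ => (1 : ℂ))) := by
    intro g k
    simp only [Pi.sub_apply, Pi.smul_apply, hθcf g k]
  have hα1 : (θ - (θ 1) • (fun _ : H => (1 : ℂ)) : H → ℂ) 1 = 0 := by simp
  have hmconj : conj (classInner θ (fun _ => (1 : ℂ))) = classInner θ (fun _ => (1 : ℂ)) := by
    rw [classInner_irr hθ honeHirr]; split_ifs <;> simp
  have hθθ : classInner θ θ = 1 := by rw [classInner_irr hθ hθ, if_pos rfl]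
  have h1θ : classInner (fun _ => (1 : ℂ)) θ = classInner θ (fun _ => (1 : ℂ)) := by
    rw [← classInner_conj_symm, hmconj]
  have h11H : classInner (fun _ : H => (1 : ℂ)) (fun _ => (1 : ℂ)) = 1 := by
    rw [classInner_irr honeHirr honeHirr, if_pos rfl]
  have h11G : classInner (fun _ : G => (1 : ℂ)) (fun _ => (1 : ℂ)) = 1 := by
    rw [classInner_irr honeGirr honeGirr, if_pos rfl]
  have hαα : classInner (θ - (θ 1) • (fun _ => (1 : ℂ))) (θ - (θ 1) • (fun _ => (1 : ℂ))) =
      1 - θ 1 * classInner θ (fun _ => (1 : ℂ)) - θ 1 * classInner θ (fun _ => (1 : ℂ))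
        + θ 1 * θ 1 := by
    rw [classInner_sub_left, classInner_sub_right, classInner_sub_right, classInner_smul_left,
      classInner_smul_left, classInner_smul_right, classInner_smul_right, hθθ, h1θ, h11H, hdconj]
    ring
  have hα1' : classInner (θ - (θ 1) • (fun _ => (1 : ℂ))) (fun _ => (1 : ℂ)) =
      classInner θ (fun _ => (1 : ℂ)) - θ 1 := by
    rw [classInner_sub_left, classInner_smul_left, h11H]; ring
  have hIres : (indFun H (θ - (θ 1) • (fun _ => (1 : ℂ)))) ∘ H.subtype =
      (θ - (θ 1) • (fun _ => (1 : ℂ))) := by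
    funext t
    exact indFun_restrict_of_ti H hTI _ hαcf hα1 t
  have hII : classInner (indFun H (θ - (θ 1) • (fun _ => (1 : ℂ))))
      (indFun H (θ - (θ 1) • (fun _ => (1 : ℂ)))) =
      classInner (θ - (θ 1) • (fun _ => (1 : ℂ))) (θ - (θ 1) • (fun _ => (1 : ℂ))) := by
    rw [classInner_indFun_left' H _ _ (isClassFunction_indFun H _), hIres]
  have hI1 : classInner (indFun H (θ - (θ 1) • (fun _ => (1 : ℂ)))) (fun _ : G => (1 : ℂ)) =
      classInner θ (fun _ => (1 : ℂ)) - θ 1 := by
    rw [classInner_indFun_left' H _ _ (isClassFunction_of_isIrrCharacter honeGirr)]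
    exact hα1'
  have h1I : classInner (fun _ : G => (1 : ℂ)) (indFun H (θ - (θ 1) • (fun _ => (1 : ℂ)))) =
      classInner θ (fun _ => (1 : ℂ)) - θ 1 := by
    rw [← classInner_conj_symm, hI1, map_sub, hmconj, hdconj]
  have hgen : IsGeneralizedCharacter G (frobStar H θ) := by
    unfold frobStar
    apply isGeneralizedCharacter_add
    · apply isGeneralizedCharacter_indFun
      apply isGeneralizedCharacter_sub
        (isGeneralizedCharacter_of_isCharacter (isCharacter_of_isIrrCharacter hθ))
      rw [hn, Nat.cast_smul_eq_nsmul]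
      exact isGeneralizedCharacter_nsmul
        (isGeneralizedCharacter_of_isCharacter (isCharacter_of_isIrrCharacter honeHirr)) n
    · rw [hn, Nat.cast_smul_eq_nsmul]
      exact isGeneralizedCharacter_nsmul
        (isGeneralizedCharacter_of_isCharacter (isCharacter_of_isIrrCharacter honeGirr)) n
  apply isIrrCharacter_of_norm_one hgen
  · unfold frobStar
    rw [classInner_add_left, classInner_add_right, classInner_add_right, classInner_smul_left,
      classInner_smul_left, classInner_smul_right, classInner_smul_right, hII, hαα, hI1, h1I, h11G,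
      hdconj]
    ring
  · rw [frobStar_one, hn]
    simpa using hnpos

/-- A nonidentity element is separated from `1` by some irreducible character. -/
theorem exists_irr_ne_of_ne_one {K : Type*} [Group K] [Fintype K] (h : K) (hne : h ≠ 1) :
    ∃ θ : IrrCharacter K, (θ : K → ℂ) h ≠ (θ : K → ℂ) 1 := by
  classical
  have : Fintype (IrrCharacter K) := Fintype.ofFinite _
  by_contra hcon
  push Not at hcon
  have h1 := Cfsg.Agent.Lib.Helper4.column_orthogonality h (1 : K)
  have h2 := Cfsg.Agent.Lib.Helper4.column_orthogonality (1 : K) (1 : K)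
  rw [if_neg (by rw [isConj_one_left]; exact hne)] at h1
  rw [if_pos (IsConj.refl 1)] at h2
  simp_rw [hcon] at h1
  rw [h1] at h2
  have h3 : (Nat.card (Subgroup.centralizer ({(1 : K)} : Set K)) : ℂ) ≠ 0 := by
    have : Nat.card (Subgroup.centralizer ({(1 : K)} : Set K)) ≠ 0 := Nat.card_pos.ne'
    exact_mod_cast this
  exact h3 h2.symm

/-- **Frobenius' theorem**: for a subgroup `H` meeting its conjugates by elements outside `H`
trivially, the identity and the elements in no conjugate of `H` form a normal subgroup. -/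
theorem frobenius_kernel_subgroup
    (hTI : ∀ g : G, g ∉ H → ∀ t ∈ H, g * t * g⁻¹ ∈ H → t = 1) :
    ∃ N : Subgroup G, N.Normal ∧ ∀ x, x ∈ N ↔ (x = 1 ∨ ∀ g : G, g⁻¹ * x * g ∉ H) := by
  classical
  have : Fintype H := Fintype.ofFinite _
  have key := fun θ : IrrCharacter H => isIrrCharacter_frobStar H hTI θ.2
  choose n ρ hirr hchar using key
  refine ⟨⨅ θ : IrrCharacter H, (ρ θ).ker,
    Subgroup.normal_iInf_normal (fun θ => MonoidHom.normal_ker _), ?_⟩
  intro x
  have hmem : ∀ θ : IrrCharacter H, x ∈ (ρ θ).ker ↔ frobStar H θ x = (θ : H → ℂ) 1 := by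
    intro θ
    have h1 : (Module.finrank ℂ (Fin (n θ) → ℂ) : ℂ) = (θ : H → ℂ) 1 := by
      rw [← Representation.char_one (ρ θ), hchar θ, frobStar_one]
    rw [MonoidHom.mem_ker, Module.End.one_eq_id,
      ← Cfsg.Agent.Lib.Helper4.character_eq_finrank_iff, hchar θ, h1]
  rw [Subgroup.mem_iInf]
  constructor
  · intro hx
    by_contra hcon
    push Not at hcon
    obtain ⟨hx1, g, hg⟩ := hcon
    have hh1 : (⟨g⁻¹ * x * g, hg⟩ : H) ≠ 1 := by
      intro h
      apply hx1
      have h' : g⁻¹ * x * g = 1 := congrArg Subtype.val h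
      have : x = g * (g⁻¹ * x * g) * g⁻¹ := by group
      rw [this, h']; group
    obtain ⟨θ, hθ⟩ := exists_irr_ne_of_ne_one (⟨g⁻¹ * x * g, hg⟩ : H) hh1
    apply hθ
    have h1 := (hmem θ).1 (hx θ)
    have hcf := isClassFunction_of_isIrrCharacter (isIrrCharacter_frobStar H hTI θ.2)
    have h2 : frobStar H θ (g⁻¹ * x * g) = frobStar H θ x := by simpa using hcf x g⁻¹
    rw [← h2] at h1
    rw [← h1]
    exact (frobStar_apply_mem H hTI (isClassFunction_of_isIrrCharacter θ.2)
      (⟨g⁻¹ * x * g, hg⟩ : H)).symm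
  · rintro (rfl | hx) θ
    · exact one_mem _
    · rw [hmem θ]; exact frobStar_apply_not_conj H θ x hx

end

end Cfsg.Agent.Lib.Helper26
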