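import Mathlib
import Cfsg.Prelude.Def_Characters

/-!
# Characters of a finite abelian group trivial on a subgroup (helper26)

Fourier-type lemmas used for the cyclic TI-subgroup statements of the odd order theorem.
-/

namespace Cfsg.Agent.Lib.Helper26

open scoped ComplexConjugate

/-- The complex conjugate of a value of a linear character of a finite group is the value at the
inverse. -/
theorem conj_linChar {W : Type*} [Group W] [Finite W] (φ : W →* ℂˣ) (v : W) :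
    conj ((φ v : ℂˣ) : ℂ) = ((φ v⁻¹ : ℂˣ) : ℂ) := by
  have hfin : (φ v) ^ (orderOf v) = 1 := by
    rw [← map_pow, pow_orderOf_eq_one, map_one]
  have hpos : orderOf v ≠ 0 := (orderOf_pos v).ne'
  have hnorm : ‖((φ v : ℂˣ) : ℂ)‖ = 1 := by
    apply Complex.norm_eq_one_of_pow_eq_one (n := orderOf v) _ hpos
    have := congrArg (fun u : ℂˣ => (u : ℂ)) hfin
    simpa using this
  rw [map_inv, Units.val_inv_eq_inv_val, Complex.inv_eq_conj hnorm]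

/-- Characters trivial on a subgroup `N` of a finite abelian group separate the points outside `N`
from `N`. -/
theorem exists_char_trivial_on_ne_one {W : Type*} [Group W] [Finite W]
    (hc : ∀ a b : W, a * b = b * a) (N : Subgroup W) {x : W} (hx : x ∉ N) :
    ∃ φ : W →* ℂˣ, (∀ n ∈ N, φ n = 1) ∧ φ x ≠ 1 := by
  let _ : CommGroup W := { (inferInstance : Group W) with mul_comm := hc }
  have hx' : (QuotientGroup.mk' N x) ≠ 1 := by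
    rw [Ne, QuotientGroup.mk'_apply, QuotientGroup.eq_one_iff]
    exact hx
  obtain ⟨φq, hφq⟩ := CommGroup.exists_apply_ne_one_of_hasEnoughRootsOfUnity (W ⧸ N) ℂ hx'
  refine ⟨φq.comp (QuotientGroup.mk' N), ?_, hφq⟩
  intro n hn
  have : (QuotientGroup.mk' N n) = 1 := by
    rw [QuotientGroup.mk'_apply, QuotientGroup.eq_one_iff]
    exact hn
  show φq (QuotientGroup.mk' N n) = 1
  rw [this, map_one]

/-- The sum over the characters trivial on `N` of their values at `x ∉ N` vanishes. -/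
theorem sum_char_trivial_on_eq_zero {W : Type*} [Group W] [Finite W]
    (hc : ∀ a b : W, a * b = b * a) (N : Subgroup W) [Fintype (W →* ℂˣ)]
    [DecidablePred (fun φ : W →* ℂˣ => ∀ n ∈ N, φ n = 1)] {x : W} (hx : x ∉ N) :
    ∑ φ ∈ Finset.univ.filter (fun φ : W →* ℂˣ => ∀ n ∈ N, φ n = 1), ((φ x : ℂˣ) : ℂ) = 0 := by
  obtain ⟨φ₀, h0, h0x⟩ := exists_char_trivial_on_ne_one hc N hx
  set Φ := Finset.univ.filter (fun φ : W →* ℂˣ => ∀ n ∈ N, φ n = 1) with hΦ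
  set S := ∑ φ ∈ Φ, ((φ x : ℂˣ) : ℂ) with hS
  have hmul : ((φ₀ x : ℂˣ) : ℂ) * S = S := by
    rw [hS, Finset.mul_sum]
    apply Finset.sum_bij (fun φ _ => φ₀ * φ)
    · intro φ hφ
      simp only [hΦ, Finset.mem_filter, Finset.mem_univ, true_and] at hφ ⊢
      intro n hn
      simp [h0 n hn, hφ n hn]
    · intro a _ b _ hab
      exact mul_left_cancel hab
    · intro ψ hψ
      simp only [hΦ, Finset.mem_filter, Finset.mem_univ, true_and] at hψ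
      refine ⟨φ₀⁻¹ * ψ, ?_, mul_inv_cancel_left φ₀ ψ⟩
      simp only [hΦ, Finset.mem_filter, Finset.mem_univ, true_and]
      intro n hn
      simp [h0 n hn, hψ n hn]
    · intro φ _
      rw [MonoidHom.mul_apply, Units.val_mul]
  have h2 : (((φ₀ x : ℂˣ) : ℂ) - 1) * S = 0 := by linear_combination hmul
  rcases mul_eq_zero.1 h2 with h | h
  · exfalso
    apply h0x
    ext
    simpa [sub_eq_zero] using h
  · exact h

/-- The sum over the characters trivial on `N` of their values at `x ∈ N` is their number. -/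
theorem sum_char_trivial_on_eq_card {W : Type*} [Group W]
    (N : Subgroup W) [Fintype (W →* ℂˣ)]
    [DecidablePred (fun φ : W →* ℂˣ => ∀ n ∈ N, φ n = 1)] {x : W} (hx : x ∈ N) :
    ∑ φ ∈ Finset.univ.filter (fun φ : W →* ℂˣ => ∀ n ∈ N, φ n = 1), ((φ x : ℂˣ) : ℂ) =
      ((Finset.univ.filter (fun φ : W →* ℂˣ => ∀ n ∈ N, φ n = 1)).card : ℂ) := by
  rw [Finset.sum_congr rfl (g := fun _ => (1 : ℂ))]
  · simp
  · intro φ hφ
    simp only [Finset.mem_filter, Finset.mem_univ, true_and] at hφ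
    simp [hφ x hx]

open Classical in
/-- Fourier-type vanishing: if `f` is orthogonal to all `(1 - φ)(1 - ψ)` with `φ` trivial on `N₂` and
`ψ` trivial on `N₁`, where `N₁ ⊓ N₂ = ⊥`, then `f` vanishes outside `N₁ ∪ N₂`. -/
theorem fourier_vanish {W : Type*} [Group W] [Fintype W]
    (hc : ∀ a b : W, a * b = b * a) (N₁ N₂ : Subgroup W) (hdisj : N₁ ⊓ N₂ = ⊥) (f : W → ℂ)
    (horth : ∀ φ ψ : W →* ℂˣ, (∀ n ∈ N₂, φ n = 1) → (∀ n ∈ N₁, ψ n = 1) →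
      ∑ v : W, f v * conj (1 - ((φ v : ℂˣ) : ℂ) - ((ψ v : ℂˣ) : ℂ) + ((φ v : ℂˣ) : ℂ) * ((ψ v : ℂˣ) : ℂ)) = 0)
    (w₀ : W) (h1 : w₀ ∉ N₁) (h2 : w₀ ∉ N₂) : f w₀ = 0 := by
  let _ : Fintype (W →* ℂˣ) := Fintype.ofFinite _
  set Φ := Finset.univ.filter (fun φ : W →* ℂˣ => ∀ n ∈ N₂, φ n = 1) with hΦ
  set Ψ := Finset.univ.filter (fun ψ : W →* ℂˣ => ∀ n ∈ N₁, ψ n = 1) with hΨ
  -- the double sum is zero
  have hT : ∑ φ ∈ Φ, ∑ ψ ∈ Ψ, ((φ w₀ : ℂˣ) : ℂ) * ((ψ w₀ : ℂˣ) : ℂ) *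
      ∑ v : W, f v * conj (1 - ((φ v : ℂˣ) : ℂ) - ((ψ v : ℂˣ) : ℂ)
        + ((φ v : ℂˣ) : ℂ) * ((ψ v : ℂˣ) : ℂ)) = 0 := by
    apply Finset.sum_eq_zero
    intro φ hφ
    apply Finset.sum_eq_zero
    intro ψ hψ
    simp only [hΦ, hΨ, Finset.mem_filter, Finset.mem_univ, true_and] at hφ hψ
    rw [horth φ ψ hφ hψ, mul_zero]
  -- the inner sums
  have hz2 : ∑ φ ∈ Φ, ((φ w₀ : ℂˣ) : ℂ) = 0 := sum_char_trivial_on_eq_zero hc N₂ h2
  have hz1 : ∑ ψ ∈ Ψ, ((ψ w₀ : ℂˣ) : ℂ) = 0 := sum_char_trivial_on_eq_zero hc N₁ h1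
  have e : ∀ (φ : W →* ℂˣ) (v : W), ((φ w₀ : ℂˣ) : ℂ) * (1 - conj ((φ v : ℂˣ) : ℂ)) =
      ((φ w₀ : ℂˣ) : ℂ) - ((φ (w₀ * v⁻¹) : ℂˣ) : ℂ) := by
    intro φ v
    rw [conj_linChar, map_mul, Units.val_mul]; ring
  have hA : ∀ v : W, ∑ φ ∈ Φ, ((φ w₀ : ℂˣ) : ℂ) * (1 - conj ((φ v : ℂˣ) : ℂ)) =
      if w₀ * v⁻¹ ∈ N₂ then -(Φ.card : ℂ) else 0 := by
    intro v
    simp_rw [e]
    rw [Finset.sum_sub_distrib, hz2]
    split_ifs with h
    · have : ∑ φ ∈ Φ, ((φ (w₀ * v⁻¹) : ℂˣ) : ℂ) = (Φ.card : ℂ) := sum_char_trivial_on_eq_card N₂ h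
      rw [this]; ring
    · have : ∑ φ ∈ Φ, ((φ (w₀ * v⁻¹) : ℂˣ) : ℂ) = 0 := sum_char_trivial_on_eq_zero hc N₂ h
      rw [this]; ring
  have hB : ∀ v : W, ∑ ψ ∈ Ψ, ((ψ w₀ : ℂˣ) : ℂ) * (1 - conj ((ψ v : ℂˣ) : ℂ)) =
      if w₀ * v⁻¹ ∈ N₁ then -(Ψ.card : ℂ) else 0 := by
    intro v
    simp_rw [e]
    rw [Finset.sum_sub_distrib, hz1]
    split_ifs with h
    · have : ∑ ψ ∈ Ψ, ((ψ (w₀ * v⁻¹) : ℂˣ) : ℂ) = (Ψ.card : ℂ) := sum_char_trivial_on_eq_card N₁ h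
      rw [this]; ring
    · have : ∑ ψ ∈ Ψ, ((ψ (w₀ * v⁻¹) : ℂˣ) : ℂ) = 0 := sum_char_trivial_on_eq_zero hc N₁ h
      rw [this]; ring
  -- rewrite the double sum
  have hT2 : ∑ φ ∈ Φ, ∑ ψ ∈ Ψ, ((φ w₀ : ℂˣ) : ℂ) * ((ψ w₀ : ℂˣ) : ℂ) *
      ∑ v : W, f v * conj (1 - ((φ v : ℂˣ) : ℂ) - ((ψ v : ℂˣ) : ℂ)
        + ((φ v : ℂˣ) : ℂ) * ((ψ v : ℂˣ) : ℂ)) =
      ∑ v : W, f v * ((∑ φ ∈ Φ, ((φ w₀ : ℂˣ) : ℂ) * (1 - conj ((φ v : ℂˣ) : ℂ))) *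
        (∑ ψ ∈ Ψ, ((ψ w₀ : ℂˣ) : ℂ) * (1 - conj ((ψ v : ℂˣ) : ℂ)))) := by
    calc ∑ φ ∈ Φ, ∑ ψ ∈ Ψ, ((φ w₀ : ℂˣ) : ℂ) * ((ψ w₀ : ℂˣ) : ℂ) *
          ∑ v : W, f v * conj (1 - ((φ v : ℂˣ) : ℂ) - ((ψ v : ℂˣ) : ℂ)
            + ((φ v : ℂˣ) : ℂ) * ((ψ v : ℂˣ) : ℂ))
        = ∑ φ ∈ Φ, ∑ ψ ∈ Ψ, ∑ v : W, f v * ((((φ w₀ : ℂˣ) : ℂ) * (1 - conj ((φ v : ℂˣ) : ℂ))) *
            (((ψ w₀ : ℂˣ) : ℂ) * (1 - conj ((ψ v : ℂˣ) : ℂ)))) := by
          apply Finset.sum_congr rfl; intro φ _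
          apply Finset.sum_congr rfl; intro ψ _
          rw [Finset.mul_sum]
          apply Finset.sum_congr rfl; intro v _
          simp only [map_add, map_sub, map_mul, map_one]; ring
      _ = ∑ φ ∈ Φ, ∑ v : W, ∑ ψ ∈ Ψ, f v * ((((φ w₀ : ℂˣ) : ℂ) * (1 - conj ((φ v : ℂˣ) : ℂ))) *
            (((ψ w₀ : ℂˣ) : ℂ) * (1 - conj ((ψ v : ℂˣ) : ℂ)))) := by
          apply Finset.sum_congr rfl; intro φ _
          exact Finset.sum_comm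
      _ = ∑ v : W, ∑ φ ∈ Φ, ∑ ψ ∈ Ψ, f v * ((((φ w₀ : ℂˣ) : ℂ) * (1 - conj ((φ v : ℂˣ) : ℂ))) *
            (((ψ w₀ : ℂˣ) : ℂ) * (1 - conj ((ψ v : ℂˣ) : ℂ)))) := Finset.sum_comm
      _ = _ := by
          apply Finset.sum_congr rfl; intro v _
          rw [Finset.sum_mul_sum, Finset.mul_sum]
          apply Finset.sum_congr rfl; intro φ _
          rw [Finset.mul_sum]
  rw [hT2] at hT
  simp_rw [hA, hB] at hT
  have hiff : ∀ v : W, (w₀ * v⁻¹ ∈ N₂ ∧ w₀ * v⁻¹ ∈ N₁) ↔ v = w₀ := by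
    intro v
    constructor
    · rintro ⟨a, b⟩
      have : w₀ * v⁻¹ ∈ N₁ ⊓ N₂ := ⟨b, a⟩
      rw [hdisj, Subgroup.mem_bot] at this
      exact (mul_inv_eq_one.1 this).symm
    · rintro rfl
      simp
  have hterm : ∀ v : W, f v * ((if w₀ * v⁻¹ ∈ N₂ then -(Φ.card : ℂ) else 0) *
      (if w₀ * v⁻¹ ∈ N₁ then -(Ψ.card : ℂ) else 0)) =
      if v = w₀ then f w₀ * ((Φ.card : ℂ) * (Ψ.card : ℂ)) else 0 := by
    intro v
    by_cases hv : v = w₀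
    · subst hv
      simp
    · rw [if_neg hv]
      have := (hiff v).not.2 hv
      rw [not_and_or] at this
      rcases this with h | h
      · rw [if_neg h]; ring
      · rw [if_neg h]; ring
  simp_rw [hterm] at hT
  rw [Finset.sum_ite_eq' Finset.univ w₀, if_pos (Finset.mem_univ _)] at hT
  have hΦpos : (Φ.card : ℂ) ≠ 0 := by
    have : (1 : W →* ℂˣ) ∈ Φ := by
      simp [hΦ]
    exact_mod_cast (Finset.card_pos.2 ⟨_, this⟩).ne'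
  have hΨpos : (Ψ.card : ℂ) ≠ 0 := by
    have : (1 : W →* ℂˣ) ∈ Ψ := by
      simp [hΨ]
    exact_mod_cast (Finset.card_pos.2 ⟨_, this⟩).ne'
  rcases mul_eq_zero.1 hT with h | h
  · exact h
  · exfalso
    rcases mul_eq_zero.1 h with h | h
    · exact hΦpos h
    · exact hΨpos h

end Cfsg.Agent.Lib.Helper26
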