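import Mathlib
import Cfsg.Prelude.Def_Characters
import Cfsg.Agent.Lib.Helper26.IndChar
import Cfsg.Agent.Lib.Helper4.BurnsideClass
import Cfsg.Agent.S0173

/-!
# Induction from a normal subgroup; fixed-point-free automorphisms and characters (helper26)

* `classInner_indFun_indFun_normal`: `⟨Ind τ, Ind σ⟩ = |K|⁻¹ Σ_x ⟨τ, σ^x⟩` for `K` normal.
* `eq_one_of_conj_fpf`: a fixed-point-free automorphism fixes no nontrivial conjugacy class.
* `eq_one_of_comp_fpf`: a fixed-point-free automorphism fixes no nontrivial irreducible character.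
-/

namespace Cfsg.Agent.Lib.Helper26
open Cfsg
open scoped ComplexConjugate

/-- Mackey's formula for a normal subgroup `K`:
`⟨Ind τ, Ind σ⟩_G = |K|⁻¹ Σ_{x ∈ G} ⟨τ, σ^x⟩_K`. -/
theorem classInner_indFun_indFun_normal {G : Type*} [Group G] [Fintype G] (K : Subgroup G)
    [hN : K.Normal] [Fintype K] (τ σ : K → ℂ) :
    classInner (indFun K τ) (indFun K σ) =
      (Nat.card K : ℂ)⁻¹ *
        ∑ x : G, classInner τ (fun k : K => σ ⟨x * k * x⁻¹, hN.conj_mem k k.2 x⟩) := by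
  rw [classInner_indFun_left' K τ _ (isClassFunction_indFun K σ)]
  have h : (indFun K σ) ∘ K.subtype = (Nat.card K : ℂ)⁻¹ •
      ∑ x : G, (fun k : K => σ ⟨x * k * x⁻¹, hN.conj_mem k k.2 x⟩) := by
    funext k
    simp only [Function.comp_apply, Subgroup.coe_subtype, Pi.smul_apply, Finset.sum_apply,
      smul_eq_mul]
    exact Cfsg.Agent.Lib.Helper2.indFun_coe_of_normal K σ k
  rw [h, classInner_smul_right, classInner_sum_right]
  simp

/-- A fixed-point-free automorphism of a finite group fixes no nontrivial conjugacy class. -/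
theorem eq_one_of_conj_fpf {K : Type*} [Group K] [Finite K] (φ : K ≃* K)
    (hfpf : ∀ y, φ y = y → y = 1) (k c : K) (h : c * φ k * c⁻¹ = k) : k = 1 := by
  have hinj : Function.Injective (fun y : K => y⁻¹ * φ y) := by
    intro y z hyz
    have hyz' : y⁻¹ * φ y = z⁻¹ * φ z := hyz
    have h1 : φ (z * y⁻¹) = z * y⁻¹ := by
      rw [map_mul, map_inv]
      have : φ z = z * (y⁻¹ * φ y) := by rw [hyz']; group
      rw [this]; group
    have h2 := hfpf _ h1
    exact (mul_inv_eq_one.1 h2).symm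
  have hsurj := Finite.injective_iff_surjective.1 hinj
  obtain ⟨y, hy⟩ := hsurj c
  have hy' : y⁻¹ * φ y = c := hy
  subst hy'
  have hφk : φ k = (y⁻¹ * φ y)⁻¹ * k * (y⁻¹ * φ y) := by
    calc φ k = (y⁻¹ * φ y)⁻¹ * ((y⁻¹ * φ y) * φ k * (y⁻¹ * φ y)⁻¹) * (y⁻¹ * φ y) := by group
      _ = (y⁻¹ * φ y)⁻¹ * k * (y⁻¹ * φ y) := by rw [h]
  have h2 : φ (y * k * y⁻¹) = y * k * y⁻¹ := by
    rw [map_mul, map_mul, map_inv, hφk]
    group
  have h3 := hfpf _ h2
  have h4 : k = y⁻¹ * (y * k * y⁻¹) * y := by group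
  rw [h4, h3]; group

/-- A fixed-point-free automorphism of a finite group fixes no nontrivial irreducible character
(Brauer's permutation lemma). -/
theorem eq_one_of_comp_fpf {K : Type*} [Group K] [Finite K] (φ : K ≃* K)
    (hfpf : ∀ y, φ y = y → y = 1) {τ : K → ℂ} (hτ : IsIrrCharacter K τ) (hfix : τ ∘ φ = τ) :
    τ = fun _ => 1 := by
  have hB := Cfsg.Agent.S0173.result φ
  have key : ∀ C : ConjClasses K, ConjClasses.map φ.toMonoidHom C = C → C = ConjClasses.mk 1 := by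
    intro C hC
    obtain ⟨k, rfl⟩ := ConjClasses.mk_surjective C
    have hC' : ConjClasses.mk (φ k) = ConjClasses.mk k := hC
    have h1 : IsConj (φ k) k := ConjClasses.mk_eq_mk_iff_isConj.1 hC'
    obtain ⟨c, hc⟩ := isConj_iff.1 h1
    rw [eq_one_of_conj_fpf φ hfpf k c hc]
  have hcl : Nat.card {C : ConjClasses K // ConjClasses.map φ.toMonoidHom C = C} = 1 := by
    rw [Nat.card_eq_one_iff_unique]
    refine ⟨⟨?_⟩, ⟨⟨ConjClasses.mk 1, ?_⟩⟩⟩
    · rintro ⟨C, hC⟩ ⟨D, hD⟩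
      apply Subtype.ext
      show C = D
      rw [key C hC, key D hD]
    · show ConjClasses.mk (φ 1) = ConjClasses.mk 1
      rw [map_one]
  rw [hcl] at hB
  have hsub : Subsingleton {χ : IrrCharacter K // (χ : K → ℂ) ∘ φ = (χ : K → ℂ)} :=
    (Nat.card_eq_one_iff_unique.1 hB.symm).1
  have h1 : (⟨⟨τ, hτ⟩, hfix⟩ : {χ : IrrCharacter K // (χ : K → ℂ) ∘ φ = (χ : K → ℂ)}) =
      ⟨⟨fun _ => 1, Cfsg.Agent.Lib.Helper4.isIrrCharacter_one⟩, rfl⟩ := Subsingleton.elim _ _
  exact congrArg (fun x => (x.1 : K → ℂ)) h1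

end Cfsg.Agent.Lib.Helper26
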