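import Mathlib
import Cfsg.Prelude.Def_Characters
import Cfsg.Agent.Lib.Helper26.IndNormal

/-!
# Clifford's theorem for characters (helper26)

* `conjFunN N χ g`: the conjugate `n ↦ χ (g n g⁻¹)` of a function on a normal subgroup.
* `classInner_restrict_conjFunN`: `⟨θ_N, χ^g⟩ = ⟨θ_N, χ⟩` for a class function `θ` of `G`.
* `classInner_restrict_eq_zero`: irreducible constituents of `θ_N` are conjugate.
* `clifford_restrict`: `θ_N = e • Σ_{ψ ∈ orbit of χ} ψ`.
-/

namespace Cfsg.Agent.Lib.Helper26
open Cfsg
open scoped ComplexConjugate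

section
variable {G : Type*} [Group G] [Fintype G] (N : Subgroup G) [hN : N.Normal]

/-- The conjugate of a function on a normal subgroup. -/
def conjFunN (χ : N → ℂ) (g : G) : N → ℂ :=
  fun n => χ ⟨g * n * g⁻¹, hN.conj_mem n n.2 g⟩

theorem isIrrCharacter_conjFunN {χ : N → ℂ} (hχ : IsIrrCharacter N χ) (g : G) :
    IsIrrCharacter N (conjFunN N χ g) :=
  Cfsg.Agent.Lib.Helper2.isIrrCharacter_conj_of_normal N hχ g

variable [Fintype N]

theorem classInner_restrict_conjFunN {θ : G → ℂ} (hθ : IsClassFunction G θ) (χ : N → ℂ) (g : G) :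
    classInner (θ ∘ N.subtype) (conjFunN N χ g) = classInner (θ ∘ N.subtype) χ := by
  unfold classInner
  congr 1
  refine Fintype.sum_equiv (MulAut.conjNormal g : N ≃* N).toEquiv _ _ (fun n => ?_)
  have h1 : θ (((MulAut.conjNormal g : N ≃* N) n : N) : G) = θ (n : G) := by
    rw [MulAut.conjNormal_apply]
    exact hθ (n : G) g
  have h2 : conjFunN N χ g n = χ ((MulAut.conjNormal g : N ≃* N) n) := by
    unfold conjFunN
    congr 1
  show θ (n : G) * conj (conjFunN N χ g n) =
    θ (((MulAut.conjNormal g : N ≃* N) n : N) : G) * conj (χ ((MulAut.conjNormal g : N ≃* N) n))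
  rw [h2, h1]

/-- The irreducible constituents of the restriction of an irreducible character to a normal
subgroup are all conjugate. -/
theorem classInner_restrict_eq_zero {θ : G → ℂ} (hθ : IsIrrCharacter G θ) {χ ψ : N → ℂ}
    (hχ : IsIrrCharacter N χ) (hψ : IsIrrCharacter N ψ)
    (hconst : classInner (θ ∘ N.subtype) χ ≠ 0) (hψO : ∀ g : G, ψ ≠ conjFunN N χ g) :
    classInner (θ ∘ N.subtype) ψ = 0 := by
  classical
  have hθcf := isClassFunction_of_isIrrCharacter hθ
  have hI : IsCharacter G (indFun N χ) := isCharacter_indFun N (isCharacter_of_isIrrCharacter hχ)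
  have hIψ : IsCharacter G (indFun N ψ) := isCharacter_indFun N (isCharacter_of_isIrrCharacter hψ)
  have h1 : classInner (indFun N χ) θ = classInner χ (θ ∘ N.subtype) :=
    classInner_indFun_left' N χ θ hθcf
  obtain ⟨c, hc⟩ := classInner_isCharacter_nat hI (isCharacter_of_isIrrCharacter hθ)
  have hcpos : c ≠ 0 := by
    rintro rfl
    apply hconst
    rw [← classInner_conj_symm, ← h1, hc]; simp
  have hX : IsCharacter G (indFun N χ - θ) := by
    apply isCharacter_of_nat_coeff
    · intro g k
      simp only [Pi.sub_apply, isClassFunction_indFun N χ g k, hθcf g k]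
    · intro μ
      by_cases hμ : (μ : G → ℂ) = θ
      · refine ⟨c - 1, ?_⟩
        rw [classInner_sub_left, hμ, hc, classInner_irr hθ hθ, if_pos rfl]
        have : 1 ≤ c := Nat.one_le_iff_ne_zero.2 hcpos
        push_cast [Nat.cast_sub this]; ring
      · obtain ⟨k, hk⟩ := classInner_isCharacter_nat hI (isCharacter_of_isIrrCharacter μ.2)
        refine ⟨k, ?_⟩
        rw [classInner_sub_left, hk, classInner_irr hθ μ.2, if_neg (fun h => hμ h.symm), sub_zero]
  obtain ⟨k, hk⟩ := classInner_isCharacter_nat hX hIψ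
  obtain ⟨m, hm⟩ := classInner_isCharacter_nat
    (isCharacter_restrict N (isCharacter_of_isIrrCharacter hθ)) (isCharacter_of_isIrrCharacter hψ)
  have h2 : classInner (indFun N χ) (indFun N ψ) = 0 := by
    rw [classInner_indFun_indFun_normal N χ ψ, Finset.sum_eq_zero, mul_zero]
    intro x _
    rw [classInner_irr hχ (Cfsg.Agent.Lib.Helper2.isIrrCharacter_conj_of_normal N hψ x), if_neg]
    intro hχψ
    apply hψO x⁻¹
    have h4 : ∀ n : N, ψ n = conjFunN N χ x⁻¹ n := by
      intro n
      unfold conjFunN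
      rw [hχψ]
      beta_reduce
      congr 1
      apply Subtype.ext
      simp [mul_assoc]
    exact funext h4
  have h3 : classInner θ (indFun N ψ) = (m : ℂ) := by
    rw [classInner_indFun_right' N θ hθcf ψ]; exact hm
  rw [classInner_sub_left, h2, h3] at hk
  rw [hm]
  have h5 : (m : ℂ) + k = 0 := by rw [← hk]; ring
  have h6 : m + k = 0 := by exact_mod_cast h5
  have h7 : m = 0 := by omega
  rw [h7]; simp

/-- **Clifford's theorem**: the restriction of an irreducible character `θ` to a normal subgroup `N`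
is `e` times the sum of the distinct conjugates of any irreducible constituent `χ`. -/
theorem clifford_restrict {θ : G → ℂ} (hθ : IsIrrCharacter G θ) {χ : N → ℂ}
    (hχ : IsIrrCharacter N χ) (hconst : classInner (θ ∘ N.subtype) χ ≠ 0) :
    θ ∘ N.subtype = classInner (θ ∘ N.subtype) χ •
      ∑ ψ ∈ Finset.univ.image (conjFunN N χ), ψ := by
  classical
  have : Fintype (IrrCharacter N) := Fintype.ofFinite _
  have hθcf := isClassFunction_of_isIrrCharacter hθ
  have hrescf : IsClassFunction N (θ ∘ N.subtype) :=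
    isClassFunction_of_isCharacter (isCharacter_restrict N (isCharacter_of_isIrrCharacter hθ))
  have hexp := Cfsg.Agent.Lib.Helper4.classFunction_expansion (θ ∘ N.subtype) hrescf
  have hcoef : ∀ μ : IrrCharacter N, classInner (θ ∘ N.subtype) (μ : N → ℂ) =
      if (μ : N → ℂ) ∈ Finset.univ.image (conjFunN N χ) then classInner (θ ∘ N.subtype) χ
        else 0 := by
    intro μ
    by_cases hμ : (μ : N → ℂ) ∈ Finset.univ.image (conjFunN N χ)
    · rw [if_pos hμ]
      obtain ⟨g, -, hg⟩ := Finset.mem_image.1 hμ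
      rw [← hg]; exact classInner_restrict_conjFunN N hθcf χ g
    · rw [if_neg hμ]
      apply classInner_restrict_eq_zero N hθ hχ μ.2 hconst
      intro g hg
      apply hμ
      rw [hg]; exact Finset.mem_image_of_mem _ (Finset.mem_univ g)
  have hOF : Finset.univ.image (conjFunN N χ) =
      (Finset.univ.filter (fun μ : IrrCharacter N =>
        (μ : N → ℂ) ∈ Finset.univ.image (conjFunN N χ))).image Subtype.val := by
    ext ψ
    constructor
    · intro hψ
      obtain ⟨g, -, hg⟩ := Finset.mem_image.1 hψ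
      refine Finset.mem_image.2 ⟨⟨ψ, hg ▸ isIrrCharacter_conjFunN N hχ g⟩, ?_, rfl⟩
      exact Finset.mem_filter.2 ⟨Finset.mem_univ _, hψ⟩
    · intro hψ
      obtain ⟨μ, hμ, rfl⟩ := Finset.mem_image.1 hψ
      exact (Finset.mem_filter.1 hμ).2
  calc θ ∘ N.subtype
      = ∑ μ : IrrCharacter N, classInner (θ ∘ N.subtype) (μ : N → ℂ) • (μ : N → ℂ) := hexp
    _ = ∑ μ : IrrCharacter N,
          (if (μ : N → ℂ) ∈ Finset.univ.image (conjFunN N χ)
            then classInner (θ ∘ N.subtype) χ • (μ : N → ℂ) else 0) := by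
        apply Finset.sum_congr rfl
        intro μ _
        rw [hcoef μ]
        split_ifs <;> simp
    _ = ∑ μ ∈ Finset.univ.filter (fun μ : IrrCharacter N =>
          (μ : N → ℂ) ∈ Finset.univ.image (conjFunN N χ)),
          classInner (θ ∘ N.subtype) χ • (μ : N → ℂ) := by
        rw [Finset.sum_filter]
    _ = classInner (θ ∘ N.subtype) χ • ∑ μ ∈ Finset.univ.filter (fun μ : IrrCharacter N =>
          (μ : N → ℂ) ∈ Finset.univ.image (conjFunN N χ)), (μ : N → ℂ) := by
        rw [Finset.smul_sum]
    _ = classInner (θ ∘ N.subtype) χ • ∑ ψ ∈ Finset.univ.image (conjFunN N χ), ψ := by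
        congr 1
        conv_rhs => rw [hOF]
        rw [Finset.sum_image (fun a _ b _ h => Subtype.ext h)]

end

end Cfsg.Agent.Lib.Helper26
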