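import Cfsg.Agent.Lib.Helper26.IndNormal

/-!
# Irreducibility of induced characters from a normal subgroup acted on freely (helper26)

* `isIrrCharacter_indFun_of_fpf`: if `K ⊴ G` and no element outside `K` commutes with a
  non-identity element of `K`, then `Ind τ` is irreducible for each non-principal `τ ∈ Irr K`.
* `exists_nonprincipal_constituent`: if a character `χ` of `G` is not constant on `K`, then
  `χ|_K` has a non-principal irreducible constituent.
* `eq_of_classInner_ne_zero`: irreducible characters with nonzero inner product are equal.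
-/

namespace Cfsg.Agent.Lib.Helper26
open Cfsg

theorem eq_of_classInner_ne_zero {G : Type*} [Group G] [Fintype G] {χ ψ : G → ℂ}
    (hχ : IsIrrCharacter G χ) (hψ : IsIrrCharacter G ψ) (h : classInner χ ψ ≠ 0) : χ = ψ := by
  by_contra hne
  apply h
  rw [classInner_irr hχ hψ, if_neg hne]

theorem isIrrCharacter_indFun_of_fpf {G : Type*} [Group G] [Fintype G] (K : Subgroup G)
    [hN : K.Normal] (hfpf : ∀ x : G, x ∉ K → ∀ k ∈ K, x * k = k * x → k = 1)
    (τ : K → ℂ) (hτ : IsIrrCharacter K τ) (hτ1 : τ ≠ fun _ => 1) :
    IsIrrCharacter G (indFun K τ) := by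
  classical
  have : Fintype K := Fintype.ofFinite _
  have hchar : IsCharacter G (indFun K τ) :=
    isCharacter_indFun K (isCharacter_of_isIrrCharacter hτ)
  have hcf := isClassFunction_of_isIrrCharacter hτ
  have hterm : ∀ x : G, classInner τ (fun k : K => τ ⟨x * k * x⁻¹, hN.conj_mem k k.2 x⟩) =
      if x ∈ K then 1 else 0 := by
    intro x
    have hirr := Cfsg.Agent.Lib.Helper2.isIrrCharacter_conj_of_normal K hτ x
    by_cases hx : x ∈ K
    · rw [if_pos hx]
      have heq : (fun k : K => τ ⟨x * k * x⁻¹, hN.conj_mem k k.2 x⟩) = τ := by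
        funext k
        have := hcf k ⟨x, hx⟩
        rw [← this]
        rfl
      rw [heq, classInner_irr hτ hτ, if_pos rfl]
    · rw [if_neg hx, classInner_irr hτ hirr]
      rw [if_neg]
      intro heq
      have hfix : τ ∘ (MulAut.conjNormal x : K ≃* K) = τ := by
        funext y
        have h1 := congrFun heq y
        simp only [Function.comp_apply]
        rw [h1]
        congr 1
      have hfpf' : ∀ y : K, (MulAut.conjNormal x : K ≃* K) y = y → y = 1 := by
        intro y hy
        have h1 : x * (y : G) * x⁻¹ = (y : G) := by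
          have := congrArg Subtype.val hy
          simpa [MulAut.conjNormal_apply] using this
        have h2 : x * (y : G) = (y : G) * x := by
          calc x * (y : G) = (x * (y : G) * x⁻¹) * x := by group
            _ = (y : G) * x := by rw [h1]
        have := hfpf x hx (y : G) y.2 h2
        exact Subtype.ext this
      exact hτ1 (eq_one_of_comp_fpf _ hfpf' hτ hfix)
  apply isIrrCharacter_of_norm_one (isGeneralizedCharacter_of_isCharacter hchar)
  · rw [classInner_indFun_indFun_normal K τ τ]
    simp_rw [hterm]
    rw [Finset.sum_boole]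
    have e : Nat.card K = (Finset.univ.filter (fun x : G => x ∈ K)).card := by
      rw [Nat.card_eq_fintype_card, Fintype.card_subtype]
    rw [← e]
    have hK : (Nat.card K : ℂ) ≠ 0 := by
      have : Nat.card K ≠ 0 := Nat.card_pos.ne'
      exact_mod_cast this
    exact inv_mul_cancel₀ hK
  · rw [indFun_one]
    obtain ⟨d, hd, hd1⟩ := irr_degree hτ
    rw [hd1]
    have hcast : (Nat.card K : ℂ)⁻¹ * ((Fintype.card G : ℂ) * (d : ℂ)) =
        (((Nat.card K : ℝ)⁻¹ * ((Fintype.card G : ℝ) * (d : ℝ)) : ℝ) : ℂ) := by
      push_cast; ring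
    rw [hcast, Complex.ofReal_re]
    have hK : (0 : ℝ) < Nat.card K := by exact_mod_cast Nat.card_pos
    have hG : (0 : ℝ) < Fintype.card G := by exact_mod_cast Fintype.card_pos
    have hd' : (0 : ℝ) < d := by exact_mod_cast hd
    exact mul_pos (inv_pos.2 hK) (mul_pos hG hd')

/-- If a class function `f` on `K` is not constant, some non-principal irreducible character
of `K` has nonzero inner product with it. -/
theorem exists_nonprincipal_constituent {K : Type*} [Group K] [Fintype K] (f : K → ℂ)
    (hf : IsClassFunction K f) (hne : ∃ y : K, f y ≠ f 1) :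
    ∃ φ : K → ℂ, IsIrrCharacter K φ ∧ φ ≠ (fun _ => 1) ∧ classInner f φ ≠ 0 := by
  classical
  haveI : Fintype (IrrCharacter K) := Fintype.ofFinite _
  by_contra hcon
  push Not at hcon
  obtain ⟨y, hy⟩ := hne
  apply hy
  have hexp := Cfsg.Agent.Lib.Helper4.classFunction_expansion f hf
  have hval : ∀ z : K, f z = ∑ ψ : IrrCharacter K, classInner f (ψ : K → ℂ) * (ψ : K → ℂ) z := by
    intro z
    have := congrFun hexp z
    simpa [Finset.sum_apply] using this
  rw [hval y, hval 1]
  apply Finset.sum_congr rfl
  intro ψ _
  by_cases hψ : (ψ : K → ℂ) = fun _ => 1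
  · rw [hψ]
  · rw [hcon ψ ψ.2 hψ, zero_mul, zero_mul]

end Cfsg.Agent.Lib.Helper26
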