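import Mathlib
import Cfsg.Prelude.Def_Characters

set_option autoImplicit false

/-!
# Feit–Thompson lemma on abelian TI-like subgroups: group-theoretic part (helper26)
-/

namespace Cfsg.Agent.Lib.Helper26.FTLemma

open Cfsg
open scoped Classical

section Sums
variable {G : Type*} [Group G] [Fintype G]

theorem sum_subtype_eq {M : Type*} [AddCommMonoid M] (S : Subgroup G) [Fintype S]
    [DecidablePred (fun g : G => g ∈ S)] (F : G → M) :
    ∑ n : S, F n = ∑ g : G, (if g ∈ S then F g else 0) := by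
  rw [← Finset.sum_filter]
  exact (Finset.sum_subtype (Finset.univ.filter (fun g : G => g ∈ S)) (by simp) F).symm

theorem card_filter_mem (S : Subgroup G) [DecidablePred (fun g : G => g ∈ S)] :
    (Finset.univ.filter (fun g : G => g ∈ S)).card = Nat.card S := by
  rw [Nat.card_eq_fintype_card]
  exact (Fintype.card_of_subtype (Finset.univ.filter (fun g : G => g ∈ S)) (by simp)).symm

theorem sum_indicator_const {M : Type*} [AddCommMonoid M] (S : Subgroup G)
    [DecidablePred (fun g : G => g ∈ S)] (c : M) :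
    ∑ g : G, (if g ∈ S then c else 0) = Nat.card S • c := by
  rw [← Finset.sum_filter, Finset.sum_const, card_filter_mem]

end Sums

section A
variable {G : Type*} [Group G]

theorem mem_map_conj (H : Subgroup G) (a g : G) :
    g ∈ H.map (MulAut.conj a).toMonoidHom ↔ a⁻¹ * g * a ∈ H := by
  rw [Subgroup.mem_map]
  constructor
  · rintro ⟨h, hh, rfl⟩
    have : a⁻¹ * ((MulAut.conj a).toMonoidHom h) * a = h := by
      simp [MulAut.conj_apply, mul_assoc]
    rw [this]
    exact hh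
  · intro h
    refine ⟨a⁻¹ * g * a, h, ?_⟩
    simp [MulAut.conj_apply, mul_assoc]

/-- the hypothesis on centralizers of non-central elements -/
def OneConj (H : Subgroup G) : Prop :=
  ∀ g : G, g ∉ Subgroup.center G → ∀ a b : G,
    Subgroup.centralizer ({g} : Set G) ⊓ H.map (MulAut.conj a).toMonoidHom ≠ ⊥ →
    Subgroup.centralizer ({g} : Set G) ⊓ H.map (MulAut.conj b).toMonoidHom ≠ ⊥ →
    H.map (MulAut.conj a).toMonoidHom = H.map (MulAut.conj b).toMonoidHom

theorem inv_mul_mem_normalizer (H : Subgroup G) (hone : OneConj H) {y : G}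
    (hy : y ∉ Subgroup.center G) {a b h₁ h₂ : G} (h₁H : h₁ ∈ H) (h₁1 : h₁ ≠ 1)
    (h₂H : h₂ ∈ H) (h₂1 : h₂ ≠ 1)
    (hc₁ : (a * h₁ * a⁻¹) * y = y * (a * h₁ * a⁻¹))
    (hc₂ : (b * h₂ * b⁻¹) * y = y * (b * h₂ * b⁻¹)) :
    a⁻¹ * b ∈ Subgroup.normalizer (H : Set G) := by
  have hne : ∀ (c h : G), h ∈ H → h ≠ 1 → (c * h * c⁻¹) * y = y * (c * h * c⁻¹) →
      Subgroup.centralizer ({y} : Set G) ⊓ H.map (MulAut.conj c).toMonoidHom ≠ ⊥ := by
    intro c h hH h1 hc hbot
    have hmem : c * h * c⁻¹ ∈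
        Subgroup.centralizer ({y} : Set G) ⊓ H.map (MulAut.conj c).toMonoidHom := by
      refine Subgroup.mem_inf.mpr ⟨?_, ?_⟩
      · rw [Subgroup.mem_centralizer_iff]
        intro x hx
        rw [Set.mem_singleton_iff] at hx
        rw [hx]
        exact hc.symm
      · rw [mem_map_conj]
        have : c⁻¹ * (c * h * c⁻¹) * c = h := by group
        rw [this]
        exact hH
    rw [hbot, Subgroup.mem_bot] at hmem
    apply h1
    have : h = c⁻¹ * (c * h * c⁻¹) * c := by group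
    rw [this, hmem]
    group
  have heq := hone y hy a b (hne a h₁ h₁H h₁1 hc₁) (hne b h₂ h₂H h₂1 hc₂)
  rw [Subgroup.mem_normalizer_iff]
  intro h
  have e1 : h ∈ H ↔ b * h * b⁻¹ ∈ H.map (MulAut.conj b).toMonoidHom := by
    rw [mem_map_conj]
    have : b⁻¹ * (b * h * b⁻¹) * b = h := by group
    rw [this]
  have e2 : b * h * b⁻¹ ∈ H.map (MulAut.conj a).toMonoidHom ↔
      a⁻¹ * b * h * (a⁻¹ * b)⁻¹ ∈ H := by
    rw [mem_map_conj]
    have : a⁻¹ * (b * h * b⁻¹) * a = a⁻¹ * b * h * (a⁻¹ * b)⁻¹ := by group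
    rw [this]
  rw [e1, ← heq, e2]

theorem not_mem_center_of_mem (H : Subgroup G) (hZ : H ⊓ Subgroup.center G = ⊥) {h : G}
    (hH : h ∈ H) (h1 : h ≠ 1) : h ∉ Subgroup.center G := by
  intro hz
  have : h ∈ H ⊓ Subgroup.center G := Subgroup.mem_inf.mpr ⟨hH, hz⟩
  rw [hZ, Subgroup.mem_bot] at this
  exact h1 this

theorem mem_normalizer_of_comm (H : Subgroup G) (hone : OneConj H)
    (hZ : H ⊓ Subgroup.center G = ⊥) {g h : G} (hH : h ∈ H) (h1 : h ≠ 1)
    (hc : h * g = g * h) : g ∈ Subgroup.normalizer (H : Set G) := by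
  have hy : h ∉ Subgroup.center G := not_mem_center_of_mem H hZ hH h1
  have e : g * h * g⁻¹ = h := by
    rw [← hc]
    group
  have := inv_mul_mem_normalizer H hone hy (a := 1) (b := g) hH h1 hH h1 (by simp)
    (by rw [e])
  simpa using this

theorem center_le_normalizer (H : Subgroup G) : Subgroup.center G ≤ Subgroup.normalizer (H : Set G) := by
  intro z hz
  rw [Subgroup.mem_normalizer_iff]
  intro h
  rw [Subgroup.mem_center_iff] at hz
  have : z * h * z⁻¹ = h := by
    rw [← hz h]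
    group
  rw [this]

/-- elements of the normalizer acting freely: all `x * n`, `x ∈ H`, are conjugate to `n` -/
theorem apply_mul_eq_of_fpf [Finite G] (H : Subgroup G) (χ : G → ℂ) (hχ : IsClassFunction G χ)
    {n : G} (hn : n ∈ Subgroup.normalizer (H : Set G)) (hfree : ∀ h ∈ H, h ≠ 1 → h * n ≠ n * h) :
    ∀ x ∈ H, χ (x * n) = χ n := by
  intro x hx
  have hnorm : ∀ k : H, (k : G) * n * (k : G)⁻¹ * n⁻¹ ∈ H := by
    intro k
    have h1 : n * (k : G)⁻¹ * n⁻¹ ∈ H :=
      (Subgroup.mem_normalizer_iff.mp hn _).mp (H.inv_mem k.2)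
    have : (k : G) * n * (k : G)⁻¹ * n⁻¹ = (k : G) * (n * (k : G)⁻¹ * n⁻¹) := by group
    rw [this]
    exact H.mul_mem k.2 h1
  let φ : H → H := fun k => ⟨(k : G) * n * (k : G)⁻¹ * n⁻¹, hnorm k⟩
  have hinj : Function.Injective φ := by
    intro k k' hkk
    have h1 : (k : G) * n * (k : G)⁻¹ * n⁻¹ = (k' : G) * n * (k' : G)⁻¹ * n⁻¹ :=
      congrArg Subtype.val hkk
    have h3 : (k : G) * n * (k : G)⁻¹ = (k' : G) * n * (k' : G)⁻¹ := by
      have := congrArg (· * n) h1
      simpa using this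
    have h2 : ((k' : G)⁻¹ * k) * n = n * ((k' : G)⁻¹ * k) := by
      calc ((k' : G)⁻¹ * k) * n = (k' : G)⁻¹ * ((k : G) * n * (k : G)⁻¹) * k := by group
        _ = (k' : G)⁻¹ * ((k' : G) * n * (k' : G)⁻¹) * k := by rw [h3]
        _ = n * ((k' : G)⁻¹ * k) := by group
    by_contra hne
    have hne' : (k' : G)⁻¹ * k ≠ 1 := by
      intro h4
      apply hne
      apply Subtype.ext
      have : (k : G) = (k' : G) * ((k' : G)⁻¹ * k) := by group
      rw [this, h4, mul_one]
    exact hfree _ (H.mul_mem (H.inv_mem k'.2) k.2) hne' h2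
  have hsurj : Function.Surjective φ := Finite.injective_iff_surjective.mp hinj
  obtain ⟨k, hk⟩ := hsurj ⟨x, hx⟩
  have h1 : (k : G) * n * (k : G)⁻¹ * n⁻¹ = x := congrArg Subtype.val hk
  have h2 : x * n = (k : G) * n * (k : G)⁻¹ := by
    rw [← h1]
    group
  rw [h2, hχ n k]

end A

section Count
variable {G : Type*} [Group G] [Fintype G]

/-- at most `|N_G(H)|` conjugating elements move a non-central `y` into the set of elements
commuting with a non-identity element of `H` -/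
theorem card_conj_filter_le (H : Subgroup G) (hone : OneConj H) (y : G)
    (hy : y ∉ Subgroup.center G) (P : G → Prop)
    [DecidablePred (fun x : G => P (x⁻¹ * y * x))]
    (hP : ∀ g, P g → ∃ h ∈ H, h ≠ 1 ∧ h * g = g * h) :
    ((Finset.univ.filter (fun x : G => P (x⁻¹ * y * x))).card : ℝ) ≤ Nat.card (Subgroup.normalizer (H : Set G)) := by
  rcases (Finset.univ.filter (fun x : G => P (x⁻¹ * y * x))).eq_empty_or_nonempty with he | hne
  · rw [he]
    simp
  obtain ⟨x₁, hx₁⟩ := hne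
  have hcomm : ∀ x : G, P (x⁻¹ * y * x) → ∃ h ∈ H, h ≠ 1 ∧
      (x * h * x⁻¹) * y = y * (x * h * x⁻¹) := by
    intro x hx
    obtain ⟨h, hH, h1, hc⟩ := hP _ hx
    refine ⟨h, hH, h1, ?_⟩
    calc (x * h * x⁻¹) * y = x * (h * (x⁻¹ * y * x)) * x⁻¹ := by group
      _ = x * ((x⁻¹ * y * x) * h) * x⁻¹ := by rw [hc]
      _ = y * (x * h * x⁻¹) := by group
  obtain ⟨h₁, h₁H, h₁1, hc₁⟩ := hcomm x₁ (Finset.mem_filter.mp hx₁).2
  have hsub : Finset.univ.filter (fun x : G => P (x⁻¹ * y * x)) ⊆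
      (Finset.univ.filter (fun g : G => g ∈ Subgroup.normalizer (H : Set G))).image (fun n => x₁ * n) := by
    intro x hx
    obtain ⟨h₂, h₂H, h₂1, hc₂⟩ := hcomm x (Finset.mem_filter.mp hx).2
    have hmem := inv_mul_mem_normalizer H hone hy h₁H h₁1 h₂H h₂1 hc₁ hc₂
    rw [Finset.mem_image]
    refine ⟨x₁⁻¹ * x, Finset.mem_filter.mpr ⟨Finset.mem_univ _, hmem⟩, ?_⟩
    group
  have h1 := Finset.card_le_card hsub
  have h2 := Finset.card_image_le (s := Finset.univ.filter (fun g : G => g ∈ Subgroup.normalizer (H : Set G)))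
    (f := fun n => x₁ * n)
  rw [card_filter_mem] at h2
  exact_mod_cast h1.trans h2

end Count

end Cfsg.Agent.Lib.Helper26.FTLemma
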