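import Mathlib
import Cfsg.Prelude.Def_Characters
import Cfsg.Agent.Lib.Helper4.CharOrtho
import Cfsg.Agent.Lib.Helper4.FaithfulIrr
import Cfsg.Agent.Lib.Helper26.CharBasic
import Cfsg.Agent.Lib.Helper26.CharInt
import Cfsg.Agent.Lib.Helper26.GenChar
import Cfsg.Agent.Lib.Helper26.IndChar
import Cfsg.Agent.Lib.Helper26.FTLemmaA

set_option autoImplicit false

/-!
# Feit–Thompson lemma: averaging a character over a normal subgroup (helper26)
-/

namespace Cfsg.Agent.Lib.Helper26.FTLemma

open Cfsg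
open scoped ComplexConjugate Classical

section Center

theorem center_scalar {G : Type*} [Group G] [Finite G] {χ : G → ℂ}
    (hχ : IsIrrCharacter G χ) (z : G) (hz : z ∈ Subgroup.center G) :
    ∃ ζ : ℂ, Complex.normSq ζ = 1 ∧ ∀ g : G, χ (z * g) = ζ * χ g := by
  obtain ⟨n, ρ, hirr, rfl⟩ := hχ
  obtain ⟨ζ, hζ⟩ := Cfsg.Agent.Lib.Helper4.exists_scalar_of_mem_center ρ hirr z hz
  have hnt := Cfsg.Agent.Lib.Helper4.nontrivial_of_irreducible ρ hirr
  rw [← Module.End.one_eq_id] at hζ
  have hpow : ζ ^ (Nat.card G) = 1 := by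
    have h1 : ρ (z ^ Nat.card G) = 1 := by rw [pow_card_eq_one', map_one]
    rw [map_pow, hζ, smul_pow, one_pow] at h1
    obtain ⟨v, hv⟩ := exists_ne (0 : Fin n → ℂ)
    have h3 := LinearMap.congr_fun h1 v
    rw [LinearMap.smul_apply, Module.End.one_apply] at h3
    have h4 : (ζ ^ Nat.card G - 1) • v = 0 := by
      rw [sub_smul, one_smul, h3, sub_self]
    rcases smul_eq_zero.1 h4 with h5 | h5
    · exact sub_eq_zero.1 h5
    · exact absurd h5 hv
  have hnorm : ‖ζ‖ = 1 := Complex.norm_eq_one_of_pow_eq_one hpow Nat.card_pos.ne'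
  refine ⟨ζ, ?_, ?_⟩
  · rw [Complex.normSq_eq_norm_sq, hnorm]
    norm_num
  · intro g
    show LinearMap.trace ℂ _ (ρ (z * g)) = ζ * LinearMap.trace ℂ _ (ρ g)
    rw [map_mul, hζ, smul_mul_assoc, one_mul, map_smul, smul_eq_mul]

end Center

section B
variable {L : Type*} [Group L] [Fintype L]

theorem sum_normSq_eq (f : L → ℂ) :
    ((∑ n : L, Complex.normSq (f n) : ℝ) : ℂ) = (Nat.card L : ℂ) * classInner f f := by
  unfold classInner
  have hne : (Nat.card L : ℂ) ≠ 0 := Nat.cast_ne_zero.2 Nat.card_pos.ne'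
  rw [← mul_assoc, mul_inv_cancel₀ hne, one_mul]
  push_cast
  refine Finset.sum_congr rfl fun n _ => ?_
  rw [Complex.mul_conj]

theorem irr_avg (K : Subgroup L) [hKn : K.Normal] (ξ : L → ℂ) (hξ : IsIrrCharacter L ξ) :
    ∃ c : ℂ, (c = 0 ∨ c = (Nat.card K : ℂ)) ∧
      ∀ n : L, ∑ x : L, (if x ∈ K then ξ (x * n) else 0) = c * ξ n := by
  have hξ1 : ξ 1 ≠ 0 := by
    obtain ⟨d, hd, h⟩ := irr_degree hξ
    rw [h]
    exact Nat.cast_ne_zero.2 hd.ne'
  obtain ⟨m, ρ, hirr, rfl⟩ := hξ
  let f : L → ℂ := fun x => if x ∈ K then 1 else 0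
  have hf : IsClassFunction L f := by
    intro g h
    show (if h * g * h⁻¹ ∈ K then (1 : ℂ) else 0) = if g ∈ K then 1 else 0
    have : h * g * h⁻¹ ∈ K ↔ g ∈ K := by
      constructor
      · intro hh
        have := hKn.conj_mem _ hh h⁻¹
        simpa [mul_assoc] using this
      · intro hg
        exact hKn.conj_mem _ hg h
    simp only [this]
  obtain ⟨c, hc1, hc2⟩ := Cfsg.Agent.Lib.Helper4.opSum_eq_smul_of_irreducible ρ hirr f hf
  rw [← Module.End.one_eq_id] at hc1
  have key : ∀ n : L,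
      ∑ x : L, (if x ∈ K then ρ.character (x * n) else 0) = c * ρ.character n := by
    intro n
    have h1 : LinearMap.trace ℂ _ (Cfsg.Agent.Lib.Helper4.opSum ρ f * ρ n) =
        c * ρ.character n := by
      rw [hc1, smul_mul_assoc, one_mul, map_smul, smul_eq_mul]
      rfl
    rw [← h1]
    unfold Cfsg.Agent.Lib.Helper4.opSum
    rw [Finset.sum_mul, map_sum]
    refine Finset.sum_congr rfl fun x _ => ?_
    rw [smul_mul_assoc, map_smul, smul_eq_mul, ← map_mul]
    show _ = f x * ρ.character (x * n)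
    simp only [f]
    split_ifs <;> simp
  refine ⟨c, ?_, key⟩
  have hK1 : ∑ y : L, (if y ∈ K then ρ.character y else 0) = c * ρ.character 1 := by
    simpa using key 1
  have hb : ∀ n ∈ K,
      ∑ x : L, (if x ∈ K then ρ.character (x * n) else 0) = c * ρ.character 1 := by
    intro n hn
    rw [← hK1]
    let F : L → ℂ := fun y => if y ∈ K then ρ.character y else 0
    have hF := Equiv.sum_comp (Equiv.mulRight n) F
    rw [← hF]
    refine Finset.sum_congr rfl fun x _ => ?_
    show _ = if x * n ∈ K then ρ.character (x * n) else 0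
    have : x * n ∈ K ↔ x ∈ K :=
      ⟨fun h => by simpa using K.mul_mem h (K.inv_mem hn), fun h => K.mul_mem h hn⟩
    simp only [this]
  have hc : ∀ n ∈ K, c * ρ.character n = c * ρ.character 1 :=
    fun n hn => (key n).symm.trans (hb n hn)
  have h2 : c * (c * ρ.character 1) = (Nat.card K : ℂ) * (c * ρ.character 1) := by
    have h3 : c * ∑ y : L, (if y ∈ K then ρ.character y else 0) =
        ∑ y : L, (if y ∈ K then c * ρ.character 1 else 0) := by
      rw [Finset.mul_sum]
      refine Finset.sum_congr rfl fun y _ => ?_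
      split_ifs with h
      · exact hc y h
      · simp
    rw [hK1, sum_indicator_const, nsmul_eq_mul] at h3
    exact h3
  have h4 : (c - (Nat.card K : ℂ)) * c * ρ.character 1 = 0 := by
    linear_combination h2
  rcases mul_eq_zero.1 h4 with h5 | h5
  · rcases mul_eq_zero.1 h5 with h6 | h6
    · exact Or.inr (sub_eq_zero.1 h6)
    · exact Or.inl h6
  · exact absurd h5 hξ1

/-- the decomposition of a character of `L` into the part fixed by averaging over the normal
subgroup `K` and the rest -/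
theorem avg_decomp (K : Subgroup L) [K.Normal] (θ : L → ℂ) (hθ : IsCharacter L θ)
    (P : L → ℂ)
    (hP : ∀ n, P n = (Nat.card K : ℂ)⁻¹ * ∑ x : L, (if x ∈ K then θ (x * n) else 0)) :
    (∑ n : L, Complex.normSq (θ n) =
      ∑ n : L, Complex.normSq (P n) + ∑ n : L, Complex.normSq (θ n - P n)) ∧
    ((∃ n, θ n ≠ P n) → (Nat.card L : ℝ) ≤ ∑ n : L, Complex.normSq (θ n - P n)) := by
  haveI : Fintype (IrrCharacter L) := Fintype.ofFinite _
  have hθg : IsGeneralizedCharacter L θ := isGeneralizedCharacter_of_isCharacter hθ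
  obtain ⟨c, hc⟩ := exists_int_coeff hθg
  have hexp := genChar_expansion hθg c hc
  choose e he using fun μ : IrrCharacter L => irr_avg K μ.1 μ.2
  have hKne : (Nat.card K : ℂ) ≠ 0 := Nat.cast_ne_zero.2 Nat.card_pos.ne'
  let t : IrrCharacter L → ℤ := fun μ => if e μ = 0 then 0 else c μ
  let d : IrrCharacter L → ℤ := fun μ => if e μ = 0 then c μ else 0
  have hθv : ∀ y, θ y = ∑ μ : IrrCharacter L, (c μ : ℂ) * (μ : L → ℂ) y := fun y => by
    conv_lhs => rw [hexp]
    simp only [Finset.sum_apply, Pi.smul_apply, smul_eq_mul]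
  have hPv : ∀ n, P n = ∑ μ : IrrCharacter L, (t μ : ℂ) * (μ : L → ℂ) n := by
    intro n
    rw [hP n]
    have h1 : ∀ x, (if x ∈ K then θ (x * n) else 0) =
        ∑ μ : IrrCharacter L, (c μ : ℂ) * (if x ∈ K then (μ : L → ℂ) (x * n) else 0) := by
      intro x
      split_ifs
      · exact hθv _
      · simp
    simp_rw [h1]
    rw [Finset.sum_comm]
    simp_rw [← Finset.mul_sum, (he _).2]
    rw [Finset.mul_sum]
    refine Finset.sum_congr rfl fun μ _ => ?_
    rcases (he μ).1 with h0 | hK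
    · simp [t, h0]
    · have hne : e μ ≠ 0 := by rw [hK]; exact hKne
      simp only [t, if_neg hne]
      rw [hK]
      field_simp
  let β : L → ℂ := fun n => θ n - P n
  have hβv : ∀ n, β n = ∑ μ : IrrCharacter L, (d μ : ℂ) * (μ : L → ℂ) n := by
    intro n
    show θ n - P n = _
    rw [hθv n, hPv n, ← Finset.sum_sub_distrib]
    refine Finset.sum_congr rfl fun μ _ => ?_
    simp only [t, d]
    split_ifs <;> push_cast <;> ring
  have hPexp : P = ∑ μ : IrrCharacter L, (t μ : ℂ) • (μ : L → ℂ) := by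
    funext n
    rw [hPv n]
    simp only [Finset.sum_apply, Pi.smul_apply, smul_eq_mul]
  have hβexp : β = ∑ μ : IrrCharacter L, (d μ : ℂ) • (μ : L → ℂ) := by
    funext n
    rw [hβv n]
    simp only [Finset.sum_apply, Pi.smul_apply, smul_eq_mul]
  have hgen : ∀ s : IrrCharacter L → ℤ,
      IsGeneralizedCharacter L (∑ μ : IrrCharacter L, (s μ : ℂ) • (μ : L → ℂ)) := by
    intro s
    apply isGeneralizedCharacter_sum
    intro μ _
    rw [Int.cast_smul_eq_zsmul ℂ (s μ) (μ : L → ℂ)]
    exact isGeneralizedCharacter_zsmul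
      (isGeneralizedCharacter_of_isCharacter (isCharacter_of_isIrrCharacter μ.2)) _
  have hcoef : ∀ (s : IrrCharacter L → ℤ) (ν : IrrCharacter L),
      classInner (∑ μ : IrrCharacter L, (s μ : ℂ) • (μ : L → ℂ)) (ν : L → ℂ) = (s ν : ℂ) := by
    intro s ν
    rw [classInner_sum_left]
    simp_rw [classInner_smul_left, Cfsg.Agent.Lib.Helper4.classInner_irr]
    simp
  have hPg : IsGeneralizedCharacter L P := hPexp ▸ hgen t
  have hβg : IsGeneralizedCharacter L β := hβexp ▸ hgen d
  have hPc : ∀ μ : IrrCharacter L, classInner P (μ : L → ℂ) = (t μ : ℂ) := by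
    intro μ
    rw [hPexp]
    exact hcoef t μ
  have hβc : ∀ μ : IrrCharacter L, classInner β (μ : L → ℂ) = (d μ : ℂ) := by
    intro μ
    rw [hβexp]
    exact hcoef d μ
  have nθ := genChar_norm hθg c hc
  have nP := genChar_norm hPg t hPc
  have nβ := genChar_norm hβg d hβc
  have hsq : ∑ μ : IrrCharacter L, (c μ) ^ 2 =
      ∑ μ : IrrCharacter L, (t μ) ^ 2 + ∑ μ : IrrCharacter L, (d μ) ^ 2 := by
    rw [← Finset.sum_add_distrib]
    refine Finset.sum_congr rfl fun μ _ => ?_
    simp only [t, d]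
    split_ifs <;> ring
  have hLne : (Nat.card L : ℂ) ≠ 0 := Nat.cast_ne_zero.2 Nat.card_pos.ne'
  constructor
  · apply Complex.ofReal_injective
    rw [Complex.ofReal_add, sum_normSq_eq, sum_normSq_eq, sum_normSq_eq (fun n => θ n - P n)]
    show (Nat.card L : ℂ) * classInner θ θ =
      (Nat.card L : ℂ) * classInner P P + (Nat.card L : ℂ) * classInner β β
    rw [nθ, nP, nβ, hsq]
    push_cast
    ring
  · rintro ⟨n₀, hn₀⟩
    have hsum : ∑ n : L, Complex.normSq (θ n - P n) =
        (Nat.card L : ℝ) * ((∑ μ : IrrCharacter L, (d μ) ^ 2 : ℤ) : ℝ) := by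
      apply Complex.ofReal_injective
      rw [sum_normSq_eq (fun n => θ n - P n)]
      show (Nat.card L : ℂ) * classInner β β = _
      rw [nβ]
      push_cast
      rfl
    have hpos : 0 < ∑ n : L, Complex.normSq (θ n - P n) := by
      have h1 : 0 < Complex.normSq (θ n₀ - P n₀) :=
        Complex.normSq_pos.mpr (sub_ne_zero.mpr hn₀)
      have h2 : Complex.normSq (θ n₀ - P n₀) ≤ ∑ n : L, Complex.normSq (θ n - P n) :=
        Finset.single_le_sum (f := fun n => Complex.normSq (θ n - P n))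
          (fun n _ => Complex.normSq_nonneg _) (Finset.mem_univ n₀)
      linarith
    have hk0 : (0 : ℤ) ≤ ∑ μ : IrrCharacter L, (d μ) ^ 2 :=
      Finset.sum_nonneg fun μ _ => sq_nonneg _
    have hk1 : (1 : ℤ) ≤ ∑ μ : IrrCharacter L, (d μ) ^ 2 := by
      by_contra hlt
      have h0 : ∑ μ : IrrCharacter L, (d μ) ^ 2 = 0 := by omega
      rw [hsum, h0] at hpos
      simp at hpos
    rw [hsum]
    have hL0 : (0 : ℝ) ≤ (Nat.card L : ℝ) := Nat.cast_nonneg _
    have hk1' : (1 : ℝ) ≤ ((∑ μ : IrrCharacter L, (d μ) ^ 2 : ℤ) : ℝ) := by exact_mod_cast hk1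
    nlinarith

end B

end Cfsg.Agent.Lib.Helper26.FTLemma
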