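import Mathlib
import Cfsg.Prelude.Def_Characters
import Cfsg.Agent.Lib.Helper26.FTLemmaA
import Cfsg.Agent.Lib.Helper26.FTLemmaB

set_option autoImplicit false

/-!
# Feit–Thompson lemma: `χ(1)² > |H| ⟨χ_H, 1_H⟩²` (helper26)
-/

namespace Cfsg.Agent.Lib.Helper26.FTLemma

open Cfsg
open scoped ComplexConjugate Classical

section C
variable {G : Type*} [Group G] [Fintype G]

theorem sum_normSq_irr' {χ : G → ℂ} (hχ : IsIrrCharacter G χ) :
    ∑ g : G, Complex.normSq (χ g) = (Nat.card G : ℝ) := by
  apply Complex.ofReal_injective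
  rw [sum_normSq_eq]
  have h1 := classInner_irr hχ hχ
  rw [if_pos rfl] at h1
  rw [h1]
  push_cast
  ring

/-- average of `χ` over the left `H`-translates -/
noncomputable def avgH (H : Subgroup G) (χ : G → ℂ) (g : G) : ℂ :=
  (Nat.card H : ℂ)⁻¹ * ∑ x : G, (if x ∈ H then χ (x * g) else 0)

/-- commuting with a non-identity element of `H` -/
def InB (H : Subgroup G) (g : G) : Prop := ∃ h ∈ H, h ≠ 1 ∧ h * g = g * h

theorem sum_H_mul_right (H : Subgroup G) {h : G} (hh : h ∈ H) (F : G → ℂ) :
    ∑ x : G, (if x ∈ H then F (x * h) else 0) = ∑ y : G, (if y ∈ H then F y else 0) := by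
  let F' : G → ℂ := fun y => if y ∈ H then F y else 0
  have hF := Equiv.sum_comp (Equiv.mulRight h) F'
  rw [← hF]
  refine Finset.sum_congr rfl fun x _ => ?_
  show _ = if x * h ∈ H then F (x * h) else 0
  have : x * h ∈ H ↔ x ∈ H :=
    ⟨fun h' => by simpa using H.mul_mem h' (H.inv_mem hh), fun h' => H.mul_mem h' hh⟩
  simp only [this]

theorem avgH_mem (H : Subgroup G) (χ : G → ℂ) {h : G} (hh : h ∈ H) :
    avgH H χ h = avgH H χ 1 := by
  unfold avgH
  congr 1
  rw [sum_H_mul_right H hh (fun y => χ y)]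
  simp

theorem avgH_one_eq_classInner (H : Subgroup G) [Fintype H] (χ : G → ℂ) :
    avgH H χ 1 = classInner (fun h : H => χ h) (fun _ => 1) := by
  unfold avgH classInner
  congr 1
  have := sum_subtype_eq H (fun g : G => χ g)
  simp only [mul_one, map_one]
  rw [← this]

theorem normalizer_decomp (H : Subgroup G) {χ : G → ℂ} (hχ : IsIrrCharacter G χ) :
    (∑ g : G, (if g ∈ Subgroup.normalizer (H : Set G) then Complex.normSq (χ g) else 0) =
      ∑ g : G, (if g ∈ Subgroup.normalizer (H : Set G) then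
        Complex.normSq (avgH H χ g) else 0) +
      ∑ g : G, (if g ∈ Subgroup.normalizer (H : Set G) then
        Complex.normSq (χ g - avgH H χ g) else 0)) ∧
    ((∃ g ∈ Subgroup.normalizer (H : Set G), χ g ≠ avgH H χ g) →
      (Nat.card (Subgroup.normalizer (H : Set G)) : ℝ) ≤
        ∑ g : G, (if g ∈ Subgroup.normalizer (H : Set G) then
          Complex.normSq (χ g - avgH H χ g) else 0)) := by
  have hHN : H ≤ Subgroup.normalizer (H : Set G) := Subgroup.le_normalizer
  haveI : (H.subgroupOf (Subgroup.normalizer (H : Set G))).Normal := Subgroup.normal_in_normalizer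
  have hθ : IsCharacter (Subgroup.normalizer (H : Set G))
      (fun n : Subgroup.normalizer (H : Set G) => χ n) :=
    isCharacter_restrict _ (isCharacter_of_isIrrCharacter hχ)
  have hP : ∀ n : Subgroup.normalizer (H : Set G), avgH H χ n =
      (Nat.card (H.subgroupOf (Subgroup.normalizer (H : Set G))) : ℂ)⁻¹ *
        ∑ x : Subgroup.normalizer (H : Set G),
          (if x ∈ H.subgroupOf (Subgroup.normalizer (H : Set G)) then
            χ ((x * n : Subgroup.normalizer (H : Set G)) : G) else 0) := by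
    intro n
    unfold avgH
    have hcard : Nat.card (H.subgroupOf (Subgroup.normalizer (H : Set G))) = Nat.card H :=
      Nat.card_congr (Subgroup.subgroupOfEquivOfLe hHN).toEquiv
    rw [hcard]
    congr 1
    have e1 : ∀ x : Subgroup.normalizer (H : Set G),
        (if x ∈ H.subgroupOf (Subgroup.normalizer (H : Set G)) then
            χ ((x * n : Subgroup.normalizer (H : Set G)) : G) else 0) =
        (fun g : G => if g ∈ H then χ (g * n) else 0) (x : G) := by
      intro x
      simp only [Subgroup.mem_subgroupOf, Subgroup.coe_mul]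
    rw [Finset.sum_congr rfl (fun x _ => e1 x),
      sum_subtype_eq (Subgroup.normalizer (H : Set G))
        (fun g : G => if g ∈ H then χ (g * n) else 0)]
    refine Finset.sum_congr rfl fun g _ => ?_
    by_cases hg : g ∈ H
    · simp [hg, hHN hg]
    · simp [hg]
  obtain ⟨h1, h2⟩ := avg_decomp (H.subgroupOf (Subgroup.normalizer (H : Set G)))
    (fun n : Subgroup.normalizer (H : Set G) => χ n) hθ
    (fun n : Subgroup.normalizer (H : Set G) => avgH H χ n) hP
  rw [sum_subtype_eq (Subgroup.normalizer (H : Set G)) (fun g : G => Complex.normSq (χ g)),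
    sum_subtype_eq (Subgroup.normalizer (H : Set G))
      (fun g : G => Complex.normSq (avgH H χ g)),
    sum_subtype_eq (Subgroup.normalizer (H : Set G))
      (fun g : G => Complex.normSq (χ g - avgH H χ g))] at h1
  rw [sum_subtype_eq (Subgroup.normalizer (H : Set G))
      (fun g : G => Complex.normSq (χ g - avgH H χ g))] at h2
  refine ⟨h1, ?_⟩
  rintro ⟨g, hg, hne⟩
  exact h2 ⟨⟨g, hg⟩, hne⟩

theorem avgH_eq_of_not_inB (H : Subgroup G) {χ : G → ℂ} (hχc : IsClassFunction G χ) {g : G}
    (hg : g ∈ Subgroup.normalizer (H : Set G)) (hB : ¬ InB H g) : avgH H χ g = χ g := by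
  unfold avgH
  have hfree : ∀ h ∈ H, h ≠ 1 → h * g ≠ g * h := fun h hH h1 hc => hB ⟨h, hH, h1, hc⟩
  have h1 := apply_mul_eq_of_fpf H χ hχc hg hfree
  have h2 : ∀ x : G, (if x ∈ H then χ (x * g) else 0) = if x ∈ H then χ g else 0 := by
    intro x
    split_ifs with hx
    · exact h1 x hx
    · rfl
  simp_rw [h2]
  rw [sum_indicator_const, nsmul_eq_mul, ← mul_assoc,
    inv_mul_cancel₀ (Nat.cast_ne_zero.2 Nat.card_pos.ne'), one_mul]

theorem sum_center {χ : G → ℂ} (hχ : IsIrrCharacter G χ) :
    ∑ g : G, (if g ∈ Subgroup.center G then Complex.normSq (χ g) else 0) =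
      (Nat.card (Subgroup.center G) : ℝ) * Complex.normSq (χ 1) := by
  have h1 : ∀ g : G, (if g ∈ Subgroup.center G then Complex.normSq (χ g) else 0) =
      if g ∈ Subgroup.center G then Complex.normSq (χ 1) else 0 := by
    intro g
    split_ifs with hg
    · obtain ⟨ζ, hζ, hmul⟩ := center_scalar hχ g hg
      have := hmul 1
      rw [mul_one] at this
      rw [this, map_mul, hζ, one_mul]
    · rfl
  simp_rw [h1]
  rw [sum_indicator_const, nsmul_eq_mul]

theorem sum_inB_le (H : Subgroup G) (hone : OneConj H) {χ : G → ℂ} (hχ : IsIrrCharacter G χ) :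
    (Nat.card G : ℝ) * ∑ g : G, (if InB H g ∧ g ∉ Subgroup.center G then
        Complex.normSq (χ g) else 0) ≤
      (Nat.card (Subgroup.normalizer (H : Set G)) : ℝ) * ((Nat.card G : ℝ) -
        ∑ g : G, (if g ∈ Subgroup.center G then Complex.normSq (χ g) else 0)) := by
  have hχc : IsClassFunction G χ := isClassFunction_of_isIrrCharacter hχ
  let S : G → Prop := fun g => InB H g ∧ g ∉ Subgroup.center G
  let w : G → ℝ := fun g => Complex.normSq (χ g)
  have hw : ∀ g x : G, w (x⁻¹ * g * x) = w g := by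
    intro g x
    show Complex.normSq (χ (x⁻¹ * g * x)) = Complex.normSq (χ g)
    have := hχc g x⁻¹
    rw [inv_inv] at this
    rw [this]
  have step1 : (Nat.card G : ℝ) * ∑ g : G, (if S g then w g else 0) =
      ∑ x : G, ∑ y : G, (if S (x⁻¹ * y * x) then w y else 0) := by
    have h1 : ∀ x : G, ∑ y : G, (if S (x⁻¹ * y * x) then w y else 0) =
        ∑ g : G, (if S g then w g else 0) := by
      intro x
      let F : G → ℝ := fun g => if S g then w g else 0
      have hF := Equiv.sum_comp (MulAut.conj x⁻¹).toEquiv F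
      rw [← hF]
      refine Finset.sum_congr rfl fun y _ => ?_
      show _ = if S (x⁻¹ * y * x⁻¹⁻¹) then w (x⁻¹ * y * x⁻¹⁻¹) else 0
      rw [inv_inv, hw]
    simp_rw [h1]
    rw [Finset.sum_const, Finset.card_univ, nsmul_eq_mul, Nat.card_eq_fintype_card]
  have step2 : ∑ x : G, ∑ y : G, (if S (x⁻¹ * y * x) then w y else 0) =
      ∑ y : G, ((Finset.univ.filter (fun x : G => S (x⁻¹ * y * x))).card : ℝ) * w y := by
    rw [Finset.sum_comm]
    refine Finset.sum_congr rfl fun y _ => ?_
    rw [← Finset.sum_filter, Finset.sum_const, nsmul_eq_mul]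
  have step3 : ∀ y : G, ((Finset.univ.filter (fun x : G => S (x⁻¹ * y * x))).card : ℝ) * w y ≤
      (Nat.card (Subgroup.normalizer (H : Set G)) : ℝ) *
        (w y - if y ∈ Subgroup.center G then w y else 0) := by
    intro y
    have hwy : 0 ≤ w y := Complex.normSq_nonneg _
    by_cases hy : y ∈ Subgroup.center G
    · have hempty : Finset.univ.filter (fun x : G => S (x⁻¹ * y * x)) = ∅ := by
        apply Finset.filter_eq_empty_iff.mpr
        intro x _ hS
        apply hS.2
        have : x⁻¹ * y * x = y := by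
          rw [Subgroup.mem_center_iff] at hy
          rw [mul_assoc, ← hy x, ← mul_assoc, inv_mul_cancel, one_mul]
        rw [this]
        exact hy
      rw [hempty, if_pos hy]
      simp
    · rw [if_neg hy, sub_zero]
      exact mul_le_mul_of_nonneg_right
        (card_conj_filter_le H hone y hy S (fun g hg => hg.1)) hwy
  calc (Nat.card G : ℝ) * ∑ g : G, (if InB H g ∧ g ∉ Subgroup.center G then
        Complex.normSq (χ g) else 0)
      = ∑ y : G, ((Finset.univ.filter (fun x : G => S (x⁻¹ * y * x))).card : ℝ) * w y := by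
        rw [← step2, ← step1]
    _ ≤ ∑ y : G, (Nat.card (Subgroup.normalizer (H : Set G)) : ℝ) *
        (w y - if y ∈ Subgroup.center G then w y else 0) :=
        Finset.sum_le_sum fun y _ => step3 y
    _ = (Nat.card (Subgroup.normalizer (H : Set G)) : ℝ) * ((Nat.card G : ℝ) -
        ∑ g : G, (if g ∈ Subgroup.center G then Complex.normSq (χ g) else 0)) := by
        rw [← Finset.mul_sum, Finset.sum_sub_distrib]
        congr 2
        exact sum_normSq_irr' hχ

theorem sum_inB_avg_ge (H : Subgroup G) (hab : ∀ a ∈ H, ∀ b ∈ H, a * b = b * a)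
    (hZ : H ⊓ Subgroup.center G = ⊥) {χ : G → ℂ} (hχ : IsIrrCharacter G χ)
    (hH1 : ∃ h ∈ H, h ≠ 1) :
    (Nat.card H : ℝ) * (Nat.card (Subgroup.center G) : ℝ) * Complex.normSq (avgH H χ 1) ≤
      ∑ g : G, (if g ∈ Subgroup.normalizer (H : Set G) ∧ InB H g then
        Complex.normSq (avgH H χ g) else 0) := by
  haveI : Fintype (H × Subgroup.center G) := Fintype.ofFinite _
  let m : H × Subgroup.center G → G := fun p => (p.1 : G) * (p.2 : G)
  have hinj : Function.Injective m := by
    rintro ⟨h, z⟩ ⟨h', z'⟩ heq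
    have heq' : (h : G) * (z : G) = (h' : G) * (z' : G) := heq
    have h1 : (h' : G)⁻¹ * h = (z' : G) * (z : G)⁻¹ := by
      calc (h' : G)⁻¹ * h = (h' : G)⁻¹ * ((h : G) * z) * (z : G)⁻¹ := by group
        _ = (h' : G)⁻¹ * ((h' : G) * z') * (z : G)⁻¹ := by rw [heq']
        _ = (z' : G) * (z : G)⁻¹ := by group
    have h2 : (h' : G)⁻¹ * h ∈ H ⊓ Subgroup.center G := by
      refine Subgroup.mem_inf.mpr ⟨H.mul_mem (H.inv_mem h'.2) h.2, ?_⟩
      rw [h1]
      exact (Subgroup.center G).mul_mem z'.2 ((Subgroup.center G).inv_mem z.2)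
    rw [hZ, Subgroup.mem_bot] at h2
    have h3 : (h : G) = h' := by
      have : (h : G) = (h' : G) * ((h' : G)⁻¹ * h) := by group
      rw [this, h2, mul_one]
    have h4 : (z : G) = z' := by
      rw [h3] at heq'
      exact mul_left_cancel heq'
    exact Prod.ext (Subtype.ext h3) (Subtype.ext h4)
  have hval : ∀ p : H × Subgroup.center G,
      Complex.normSq (avgH H χ (m p)) = Complex.normSq (avgH H χ 1) := by
    rintro ⟨h, z⟩
    obtain ⟨ζ, hζ, hmul⟩ := center_scalar hχ (z : G) z.2
    have hzc := Subgroup.mem_center_iff.mp z.2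
    have e1 : avgH H χ ((h : G) * (z : G)) = ζ * avgH H χ 1 := by
      unfold avgH
      have e2 : ∀ x : G, (if x ∈ H then χ (x * ((h : G) * (z : G))) else 0) =
          ζ * (if x ∈ H then χ (x * (h : G)) else 0) := by
        intro x
        split_ifs
        · rw [← hmul, ← mul_assoc, hzc]
        · simp
      simp_rw [e2]
      rw [← Finset.mul_sum, sum_H_mul_right H h.2 (fun y => χ y)]
      simp only [mul_one]
      ring
    show Complex.normSq (avgH H χ ((h : G) * (z : G))) = _
    rw [e1, map_mul, hζ, one_mul]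
  obtain ⟨h₀, hh₀, h₀1⟩ := hH1
  have hcond : ∀ p : H × Subgroup.center G,
      m p ∈ Subgroup.normalizer (H : Set G) ∧ InB H (m p) := by
    rintro ⟨h, z⟩
    refine ⟨(Subgroup.normalizer (H : Set G)).mul_mem (Subgroup.le_normalizer h.2)
      (center_le_normalizer H z.2), h₀, hh₀, h₀1, ?_⟩
    have hzc := Subgroup.mem_center_iff.mp z.2
    show h₀ * ((h : G) * (z : G)) = (h : G) * (z : G) * h₀
    calc h₀ * ((h : G) * (z : G)) = (h₀ * h) * z := by group
      _ = ((h : G) * h₀) * z := by rw [hab h₀ hh₀ h h.2]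
      _ = (h : G) * (h₀ * z) := by group
      _ = (h : G) * ((z : G) * h₀) := by rw [hzc h₀]
      _ = (h : G) * (z : G) * h₀ := by group
  let T : Finset G := Finset.univ.image m
  have hT : ∑ g ∈ T, Complex.normSq (avgH H χ g) =
      (Nat.card H : ℝ) * (Nat.card (Subgroup.center G) : ℝ) * Complex.normSq (avgH H χ 1) := by
    rw [Finset.sum_image (fun a _ b _ hab' => hinj hab')]
    simp_rw [hval]
    rw [Finset.sum_const, Finset.card_univ, nsmul_eq_mul, ← Nat.card_eq_fintype_card,
      Nat.card_prod]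
    push_cast
    ring
  rw [← hT]
  calc ∑ g ∈ T, Complex.normSq (avgH H χ g)
      = ∑ g ∈ T, (if g ∈ Subgroup.normalizer (H : Set G) ∧ InB H g then
        Complex.normSq (avgH H χ g) else 0) := by
        refine Finset.sum_congr rfl fun g hg => ?_
        obtain ⟨p, _, rfl⟩ := Finset.mem_image.mp hg
        rw [if_pos (hcond p)]
    _ ≤ ∑ g : G, (if g ∈ Subgroup.normalizer (H : Set G) ∧ InB H g then
        Complex.normSq (avgH H χ g) else 0) := by
        apply Finset.sum_le_sum_of_subset_of_nonneg (Finset.subset_univ T)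
        intro g _ _
        split_ifs
        · exact Complex.normSq_nonneg _
        · exact le_refl _

/-- the main inequality -/
theorem claim_one (H : Subgroup G) (hab : ∀ a ∈ H, ∀ b ∈ H, a * b = b * a)
    (hZ : H ⊓ Subgroup.center G = ⊥) (hone : OneConj H) {χ : G → ℂ}
    (hχ : IsIrrCharacter G χ) (hker : ∃ h ∈ H, χ h ≠ χ 1) :
    (Nat.card H : ℝ) * Complex.normSq (avgH H χ 1) < Complex.normSq (χ 1) := by
  have hχc : IsClassFunction G χ := isClassFunction_of_isIrrCharacter hχ
  obtain ⟨h₀, hh₀, hχh₀⟩ := hker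
  have h₀1 : h₀ ≠ 1 := by
    rintro rfl
    exact hχh₀ rfl
  have hHN : H ≤ Subgroup.normalizer (H : Set G) := Subgroup.le_normalizer
  obtain ⟨h1, h2⟩ := normalizer_decomp H hχ
  have hex : ∃ g ∈ Subgroup.normalizer (H : Set G), χ g ≠ avgH H χ g := by
    by_cases h0 : χ 1 = avgH H χ 1
    · refine ⟨h₀, hHN hh₀, ?_⟩
      rw [avgH_mem H χ hh₀, ← h0]
      exact hχh₀
    · exact ⟨1, Subgroup.one_mem _, h0⟩
  have h2' := h2 hex
  have h3 := sum_inB_le H hone hχ
  have h4 := sum_inB_avg_ge H hab hZ hχ ⟨h₀, hh₀, h₀1⟩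
  have h5 := sum_center hχ
  -- the pointwise identity
  have hpt : ∑ g : G, (if g ∈ Subgroup.normalizer (H : Set G) then
        Complex.normSq (χ g) else 0) =
      ∑ g : G, (if InB H g ∧ g ∉ Subgroup.center G then Complex.normSq (χ g) else 0) +
      ∑ g : G, (if g ∈ Subgroup.center G then Complex.normSq (χ g) else 0) +
      ∑ g : G, (if g ∈ Subgroup.normalizer (H : Set G) then
        Complex.normSq (avgH H χ g) else 0) -
      ∑ g : G, (if g ∈ Subgroup.normalizer (H : Set G) ∧ InB H g then
        Complex.normSq (avgH H χ g) else 0) := by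
    rw [← Finset.sum_add_distrib, ← Finset.sum_add_distrib, ← Finset.sum_sub_distrib]
    refine Finset.sum_congr rfl fun g _ => ?_
    generalize hu : Complex.normSq (χ g) = u
    generalize hv : Complex.normSq (avgH H χ g) = v
    by_cases hB : InB H g
    · have hN : g ∈ Subgroup.normalizer (H : Set G) := by
        obtain ⟨h, hH, hh1, hc⟩ := hB
        exact mem_normalizer_of_comm H hone hZ hH hh1 hc
      by_cases hz : g ∈ Subgroup.center G
      · rw [if_pos hN, if_neg (fun h => h.2 hz), if_pos hz, if_pos hN, if_pos ⟨hN, hB⟩]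
        ring
      · rw [if_pos hN, if_pos ⟨hB, hz⟩, if_neg hz, if_pos hN, if_pos ⟨hN, hB⟩]
        ring
    · have hz : g ∉ Subgroup.center G := by
        intro hz
        apply hB
        refine ⟨h₀, hh₀, h₀1, ?_⟩
        exact Subgroup.mem_center_iff.mp hz h₀
      by_cases hN : g ∈ Subgroup.normalizer (H : Set G)
      · rw [if_pos hN, if_neg (fun h => hB h.1), if_neg hz, if_pos hN, if_neg (fun h => hB h.2)]
        have := avgH_eq_of_not_inB H hχc hN hB
        rw [← hu, ← hv, this]
        ring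
      · rw [if_neg hN, if_neg (fun h => hB h.1), if_neg hz, if_neg hN, if_neg (fun h => hN h.1)]
        ring
  set XN := ∑ g : G, (if g ∈ Subgroup.normalizer (H : Set G) then
        Complex.normSq (χ g) else 0)
  set AN := ∑ g : G, (if g ∈ Subgroup.normalizer (H : Set G) then
        Complex.normSq (avgH H χ g) else 0)
  set BN := ∑ g : G, (if g ∈ Subgroup.normalizer (H : Set G) then
        Complex.normSq (χ g - avgH H χ g) else 0)
  set S := ∑ g : G, (if InB H g ∧ g ∉ Subgroup.center G then Complex.normSq (χ g) else 0)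
  set ZZ := ∑ g : G, (if g ∈ Subgroup.center G then Complex.normSq (χ g) else 0)
  set AB := ∑ g : G, (if g ∈ Subgroup.normalizer (H : Set G) ∧ InB H g then
        Complex.normSq (avgH H χ g) else 0)
  set nG : ℝ := (Nat.card G : ℝ)
  set nN : ℝ := (Nat.card (Subgroup.normalizer (H : Set G)) : ℝ)
  set nZ : ℝ := (Nat.card (Subgroup.center G) : ℝ)
  set nH : ℝ := (Nat.card H : ℝ)
  set A1 : ℝ := Complex.normSq (avgH H χ 1)
  set F : ℝ := Complex.normSq (χ 1)
  have hnG : 0 < nG := Nat.cast_pos.mpr Nat.card_pos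
  have hnN : 0 < nN := Nat.cast_pos.mpr Nat.card_pos
  have hnZ : 0 < nZ := Nat.cast_pos.mpr Nat.card_pos
  have hF : 0 < F := by
    apply Complex.normSq_pos.mpr
    obtain ⟨d, hd, h⟩ := irr_degree hχ
    rw [h]
    exact Nat.cast_ne_zero.2 hd.ne'
  have hS : nN - ZZ + nH * nZ * A1 ≤ S := by linarith
  have hS' : nG * (nN - ZZ + nH * nZ * A1) ≤ nG * S := mul_le_mul_of_nonneg_left hS hnG.le
  have key : nG * nZ * (nH * A1) ≤ nZ * F * (nG - nN) := by
    rw [h5] at h3 hS'
    nlinarith
  by_contra hle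
  push_neg at hle
  have h6 : nG * nZ * F ≤ nG * nZ * (nH * A1) :=
    mul_le_mul_of_nonneg_left hle (mul_pos hnG hnZ).le
  have h7 : 0 < nZ * F * nN := mul_pos (mul_pos hnZ hF) hnN
  nlinarith

end C

end Cfsg.Agent.Lib.Helper26.FTLemma
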