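import Mathlib
import Cfsg.Prelude.Def_Characters
import Cfsg.Agent.Lib.Helper4.TwoClasses
import Cfsg.Agent.Lib.Helper4.BurnsideClass
import Cfsg.Agent.Lib.Helper7.Gallagher
import Cfsg.Agent.Lib.Helper28.DualRep
import Cfsg.Agent.Lib.Helper26.FTLemmaC

set_option autoImplicit false

/-!
# Feit–Thompson lemma: `(1 + χ(1))² > |H|` (helper26)
-/

namespace Cfsg.Agent.Lib.Helper26.FTLemma

open Cfsg
open scoped ComplexConjugate Classical

theorem irr_degree_one_of_comm {A : Type*} [Group A] [Fintype A]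
    (hcomm : ∀ a b : A, a * b = b * a) (μ : IrrCharacter A) : (μ : A → ℂ) 1 = 1 := by
  haveI : Fintype (IrrCharacter A) := Fintype.ofFinite _
  choose d hd0 hd using fun ν : IrrCharacter A => irr_degree ν.2
  have h1 : ∑ ν : IrrCharacter A, (d ν) ^ 2 = Nat.card A := by
    have := Cfsg.Agent.Lib.Helper4.sum_sq_degree (G := A)
    simp_rw [hd] at this
    exact_mod_cast this
  have h2 : Fintype.card (IrrCharacter A) = Nat.card A := by
    rw [← Nat.card_eq_fintype_card, Cfsg.Agent.Lib.Helper4.card_irr_eq_card_conjClasses]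
    symm
    apply Nat.card_congr
    refine Equiv.ofBijective ConjClasses.mk ⟨?_, ConjClasses.mk_surjective⟩
    intro a b hab
    rw [ConjClasses.mk_eq_mk_iff_isConj, isConj_iff] at hab
    obtain ⟨c, hc⟩ := hab
    rw [← hc, hcomm c a, mul_assoc, mul_inv_cancel, mul_one]
  have h3 : ∑ ν : IrrCharacter A, ((d ν) ^ 2 - 1) = 0 := by
    rw [Finset.sum_tsub_distrib _ (fun ν _ => Nat.one_le_pow _ _ (hd0 ν)), h1, Finset.sum_const,
      Finset.card_univ, h2]
    simp
  have h4 := (Finset.sum_eq_zero_iff.mp h3) μ (Finset.mem_univ μ)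
  have h5 : d μ = 1 := by
    have h7 := hd0 μ
    have h6 : (d μ) ^ 2 ≤ 1 := by omega
    nlinarith
  rw [hd μ, h5]
  simp

section D
variable {G : Type*} [Group G] [Fintype G]

theorem claim_two (H : Subgroup G) [Fintype H] (hab : ∀ a ∈ H, ∀ b ∈ H, a * b = b * a)
    (hZ : H ⊓ Subgroup.center G = ⊥) (hone : OneConj H) {χ : G → ℂ}
    (hχ : IsIrrCharacter G χ) (hχ1 : χ 1 ≠ 1)
    (hgen : ∀ M : Subgroup G, M.Normal → H ≤ M → M = ⊤) :
    (Nat.card H : ℝ) < (1 + (χ 1).re) ^ 2 := by
  haveI : Fintype (IrrCharacter G) := Fintype.ofFinite _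
  obtain ⟨f, hf0, hf⟩ := irr_degree hχ
  have hf2 : 2 ≤ f := by
    rcases Nat.lt_or_ge f 2 with h | h
    · exfalso
      apply hχ1
      rw [hf]
      have : f = 1 := by omega
      rw [this]
      simp
    · exact h
  rw [hf]
  simp only [Complex.natCast_re]
  by_contra hle
  push_neg at hle
  have hχc := isCharacter_of_isIrrCharacter hχ
  let ψ : G → ℂ := χ * (fun g => conj (χ g))
  have hψ : IsCharacter G ψ :=
    Cfsg.Agent.Lib.Helper7.isCharacter_mul hχc (Cfsg.Agent.Lib.Helper28.isCharacter_conj hχc)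
  have hψv : ∀ g, ψ g = χ g * conj (χ g) := fun g => rfl
  choose c hc using fun θ : IrrCharacter G =>
    classInner_isCharacter_nat hψ (isCharacter_of_isIrrCharacter θ.2)
  have hexp : ψ = ∑ θ : IrrCharacter G, (c θ : ℂ) • (θ : G → ℂ) := by
    have h := Cfsg.Agent.Lib.Helper4.classFunction_expansion ψ (isClassFunction_of_isCharacter hψ)
    simp_rw [hc] at h
    exact h
  choose d hd0 hd using fun θ : IrrCharacter G => irr_degree θ.2
  have h1H : IsCharacter H (fun _ : H => (1 : ℂ)) :=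
    isCharacter_of_isIrrCharacter Cfsg.Agent.Lib.Helper4.isIrrCharacter_one
  have hkex : ∀ θ : IrrCharacter G, ∃ n : ℕ,
      classInner (fun h : H => (θ : G → ℂ) h) (fun _ : H => (1 : ℂ)) = n := fun θ =>
    classInner_isCharacter_nat (isCharacter_restrict H (isCharacter_of_isIrrCharacter θ.2)) h1H
  choose k hk using hkex
  -- degrees
  have hdeg : (f : ℝ) * f = ∑ θ : IrrCharacter G, (c θ : ℝ) * (d θ : ℝ) := by
    have h := congrFun hexp 1
    rw [hψv] at h
    simp only [Finset.sum_apply, Pi.smul_apply, smul_eq_mul, hd, hf, map_natCast] at h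
    exact_mod_cast h
  -- multiplicities of the trivial character of `H`
  have hA : ∑ θ : IrrCharacter G, (c θ : ℂ) * (k θ : ℂ) =
      classInner (fun h : H => χ h) (fun h : H => χ h) := by
    have h : (fun h : H => ψ h) = ∑ θ : IrrCharacter G, (c θ : ℂ) • (fun h : H => (θ : G → ℂ) h) := by
      funext h
      show ψ (h : G) = (∑ θ : IrrCharacter G, (c θ : ℂ) • (fun h : H => (θ : G → ℂ) h)) h
      rw [congrFun hexp (h : G), Finset.sum_apply, Finset.sum_apply]
      rfl
    have h2 : classInner (fun h : H => ψ h) (fun _ => 1) =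
        ∑ θ : IrrCharacter G, (c θ : ℂ) * (k θ : ℂ) := by
      rw [h, classInner_sum_left]
      simp_rw [classInner_smul_left, hk]
    rw [← h2]
    unfold classInner
    congr 1
    refine Finset.sum_congr rfl fun h _ => ?_
    show ψ (h : G) * conj (1 : ℂ) = χ (h : G) * conj (χ (h : G))
    rw [hψv, map_one, mul_one]
  have hAf : (f : ℝ) ≤ ∑ θ : IrrCharacter G, (c θ : ℝ) * (k θ : ℝ) := by
    haveI : Fintype (IrrCharacter H) := Fintype.ofFinite _
    have hg : IsGeneralizedCharacter H (fun h : H => χ h) :=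
      isGeneralizedCharacter_of_isCharacter (isCharacter_restrict H hχc)
    obtain ⟨e, he⟩ := exists_int_coeff hg
    have hn := genChar_norm hg e he
    have hexpH := genChar_expansion hg e he
    have hone' : ∀ μ : IrrCharacter H, (μ : H → ℂ) 1 = 1 :=
      irr_degree_one_of_comm (fun a b => Subtype.ext (hab a a.2 b b.2))
    have hf' : (f : ℂ) = ((∑ μ : IrrCharacter H, e μ : ℤ) : ℂ) := by
      have h := congrFun hexpH 1
      simp only [Finset.sum_apply, Pi.smul_apply, smul_eq_mul, hone', mul_one] at h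
      rw [show ((1 : H) : G) = 1 from rfl, hf] at h
      rw [h]
      push_cast
      rfl
    have hf'' : (f : ℤ) = ∑ μ : IrrCharacter H, e μ := by exact_mod_cast hf'
    have hA' : ((∑ θ : IrrCharacter G, c θ * k θ : ℕ) : ℤ) = ∑ μ : IrrCharacter H, (e μ) ^ 2 := by
      have : (∑ θ : IrrCharacter G, (c θ : ℂ) * (k θ : ℂ)) =
          ((∑ μ : IrrCharacter H, (e μ) ^ 2 : ℤ) : ℂ) := by rw [hA, hn]
      exact_mod_cast this
    have hle' : ∑ μ : IrrCharacter H, e μ ≤ ∑ μ : IrrCharacter H, (e μ) ^ 2 := by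
      refine Finset.sum_le_sum fun μ _ => ?_
      rcases le_or_gt (e μ) 0 with h0 | h0
      · nlinarith [sq_nonneg (e μ)]
      · nlinarith
    have h3 : (f : ℤ) ≤ ((∑ θ : IrrCharacter G, c θ * k θ : ℕ) : ℤ) := by
      rw [hf'', hA']
      exact hle'
    have h4 : f ≤ ∑ θ : IrrCharacter G, c θ * k θ := by exact_mod_cast h3
    have h5 : (f : ℝ) ≤ ((∑ θ : IrrCharacter G, c θ * k θ : ℕ) : ℝ) := by exact_mod_cast h4
    push_cast at h5
    exact h5
  -- the trivial character
  let θ₀ : IrrCharacter G := ⟨fun _ => 1, Cfsg.Agent.Lib.Helper4.isIrrCharacter_one⟩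
  have hc0 : c θ₀ = 1 := by
    have h1 : classInner ψ (θ₀ : G → ℂ) = 1 := by
      have h1 := classInner_irr hχ hχ
      rw [if_pos rfl] at h1
      rw [← h1]
      unfold classInner
      congr 1
      refine Finset.sum_congr rfl fun g _ => ?_
      rw [hψv]
      simp [θ₀]
    rw [hc θ₀] at h1
    exact_mod_cast h1
  have hd0' : d θ₀ = 1 := by
    have h1 := hd θ₀
    have h2 : (θ₀ : G → ℂ) 1 = 1 := rfl
    rw [h2] at h1
    exact_mod_cast h1.symm
  have hk0 : k θ₀ = 1 := by
    have h1 := hk θ₀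
    have h2 : classInner (fun h : H => (θ₀ : G → ℂ) h) (fun _ => (1 : ℂ)) = 1 := by
      have h3 := classInner_irr (Cfsg.Agent.Lib.Helper4.isIrrCharacter_one (G := H))
        (Cfsg.Agent.Lib.Helper4.isIrrCharacter_one (G := H))
      rw [if_pos rfl] at h3
      exact h3
    rw [h2] at h1
    exact_mod_cast h1.symm
  have hθ : ∀ θ : IrrCharacter G, θ ≠ θ₀ → ((1 : ℝ) + f) * (k θ : ℝ) < (d θ : ℝ) := by
    intro θ hne
    have hker : ∃ h ∈ H, (θ : G → ℂ) h ≠ (θ : G → ℂ) 1 := by
      by_contra hcon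
      push_neg at hcon
      have hle' : H ≤ Cfsg.Agent.Lib.Helper4.charKer θ :=
        fun h hh => (Cfsg.Agent.Lib.Helper4.mem_charKer θ h).mpr (hcon h hh)
      have htop := hgen _ (Cfsg.Agent.Lib.Helper4.charKer_normal θ) hle'
      have hconst : ∀ g, (θ : G → ℂ) g = (θ : G → ℂ) 1 := fun g =>
        (Cfsg.Agent.Lib.Helper4.mem_charKer θ g).mp (htop ▸ Subgroup.mem_top g)
      have hsum := sum_normSq_irr' θ.2
      simp_rw [hconst, hd θ] at hsum
      rw [Finset.sum_const, Finset.card_univ, nsmul_eq_mul, ← Nat.card_eq_fintype_card,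
        Complex.normSq_natCast] at hsum
      have hG : (0 : ℝ) < Nat.card G := Nat.cast_pos.mpr Nat.card_pos
      have hd1 : ((d θ : ℝ)) * (d θ) = 1 := by
        have := mul_left_cancel₀ hG.ne' (hsum.trans (mul_one _).symm)
        exact this
      have hd1' : d θ = 1 := by
        have h9 : d θ * d θ = 1 := by exact_mod_cast hd1
        exact Nat.eq_one_of_mul_eq_one_left h9
      apply hne
      apply Subtype.ext
      funext g
      rw [hconst g, hd θ, hd1']
      simp [θ₀]
    have h1 := claim_one H hab hZ hone θ.2 hker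
    rw [avgH_one_eq_classInner, hk θ, hd θ, Complex.normSq_natCast, Complex.normSq_natCast] at h1
    have hk0 : (0 : ℝ) ≤ k θ := Nat.cast_nonneg _
    have hd0r : (0 : ℝ) < d θ := Nat.cast_pos.mpr (hd0 θ)
    have h2 : ((1 + (f : ℝ)) * k θ) ^ 2 < (d θ : ℝ) ^ 2 := by
      have := mul_le_mul_of_nonneg_right hle (mul_nonneg hk0 hk0)
      nlinarith
    exact lt_of_pow_lt_pow_left₀ 2 hd0r.le h2
  -- split off the trivial character
  have hs1 := (Finset.add_sum_erase Finset.univ (fun θ : IrrCharacter G => (c θ : ℝ) * (d θ : ℝ))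
    (Finset.mem_univ θ₀)).symm
  have hs2 := (Finset.add_sum_erase Finset.univ (fun θ : IrrCharacter G => (c θ : ℝ) * (k θ : ℝ))
    (Finset.mem_univ θ₀)).symm
  simp only [hc0, hd0', hk0, Nat.cast_one, mul_one] at hs1 hs2
  rw [hs1] at hdeg
  rw [hs2] at hAf
  have hex : ∃ θ ∈ Finset.univ.erase θ₀, 0 < c θ := by
    by_contra hcon
    push_neg at hcon
    have hz : ∑ θ ∈ Finset.univ.erase θ₀, (c θ : ℝ) * (d θ : ℝ) = 0 := by
      apply Finset.sum_eq_zero
      intro θ hθm
      have := hcon θ hθm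
      have h0 : c θ = 0 := by omega
      rw [h0]
      simp
    rw [hz] at hdeg
    have hf2' : (2 : ℝ) ≤ f := by exact_mod_cast hf2
    nlinarith
  have hlt : ∑ θ ∈ Finset.univ.erase θ₀, (1 + (f : ℝ)) * ((c θ : ℝ) * (k θ : ℝ)) <
      ∑ θ ∈ Finset.univ.erase θ₀, (c θ : ℝ) * (d θ : ℝ) := by
    apply Finset.sum_lt_sum
    · intro θ hθm
      have hne := Finset.ne_of_mem_erase hθm
      have h1 := hθ θ hne
      have hc0' : (0 : ℝ) ≤ c θ := Nat.cast_nonneg _
      nlinarith [mul_le_mul_of_nonneg_left h1.le hc0']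
    · obtain ⟨θ, hθm, hcpos⟩ := hex
      refine ⟨θ, hθm, ?_⟩
      have hne := Finset.ne_of_mem_erase hθm
      have h1 := hθ θ hne
      have hc0' : (0 : ℝ) < c θ := Nat.cast_pos.mpr hcpos
      nlinarith [mul_lt_mul_of_pos_left h1 hc0']
  rw [← Finset.mul_sum] at hlt
  have hf2' : (2 : ℝ) ≤ f := by exact_mod_cast hf2
  nlinarith

end D

end Cfsg.Agent.Lib.Helper26.FTLemma
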