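import Mathlib
import Cfsg.Prelude.Def_Characters
import Cfsg.Agent.Lib.Helper4.RepEigen
import Cfsg.Agent.Lib.Helper24.LinBridge
import Cfsg.Agent.Lib.Helper26.IndIrr
import Cfsg.Agent.Lib.Helper26.FTLemmaD

set_option autoImplicit false

/-!
# Brauer–Leonard: characters of a group with a normal subgroup acted on freely (helper26)
-/

namespace Cfsg.Agent.Lib.Helper26.BL

open Cfsg Cfsg.Agent.Lib.Helper26.FTLemma
open scoped ComplexConjugate Classical

section Basic
variable {L : Type*} [Group L] [Fintype L]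

/-- constant on a subgroup -/
def ConstOn (K : Subgroup L) (μ : L → ℂ) : Prop := ∀ k ∈ K, μ k = μ 1

theorem normSq_le_degree {μ : L → ℂ} (hμ : IsCharacter L μ) (g : L) :
    Complex.normSq (μ g) ≤ Complex.normSq (μ 1) := by
  obtain ⟨n, ρ, rfl⟩ := hμ
  have h := Cfsg.Agent.Lib.Helper4.norm_character_le ρ g
  have h0 : 0 ≤ ‖ρ.character g‖ := norm_nonneg _
  have h2 := pow_le_pow_left₀ h0 h 2
  rw [Representation.char_one, Complex.normSq_natCast, Complex.normSq_eq_norm_sq, ← sq]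
  exact h2

theorem normSq_eq_one_of_degree_one {μ : L → ℂ} (hμ : IsCharacter L μ) (h1 : μ 1 = 1) (g : L) :
    Complex.normSq (μ g) = 1 := by
  obtain ⟨φ, rfl⟩ := Cfsg.Agent.Lib.Helper24.exists_hom_of_isCharacter hμ h1
  have hpow : ((φ g : ℂˣ) : ℂ) ^ (Nat.card L) = 1 := by
    have h3 : φ g ^ Nat.card L = 1 := by rw [← map_pow, pow_card_eq_one', map_one]
    have h2 := congrArg (fun u : ℂˣ => (u : ℂ)) h3
    simpa using h2
  have hnorm : ‖((φ g : ℂˣ) : ℂ)‖ = 1 :=
    Complex.norm_eq_one_of_pow_eq_one hpow Nat.card_pos.ne'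
  show Complex.normSq ((φ g : ℂˣ) : ℂ) = 1
  rw [Complex.normSq_eq_norm_sq, hnorm]
  norm_num

theorem center_mul {A : Type*} [Group A] [Finite A] {η : A → ℂ} (hη : IsIrrCharacter A η)
    (z : A) (hz : z ∈ Subgroup.center A) :
    Complex.normSq (η z / η 1) = 1 ∧ ∀ a : A, η (z * a) = (η z / η 1) * η a := by
  obtain ⟨ζ, hζ, hmul⟩ := center_scalar hη z hz
  have h1 : η 1 ≠ 0 := by
    obtain ⟨d, hd, h⟩ := irr_degree hη
    rw [h]
    exact Nat.cast_ne_zero.2 hd.ne'
  have h2 : η z / η 1 = ζ := by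
    have h3 := hmul 1
    rw [mul_one] at h3
    rw [h3]
    field_simp
  rw [h2]
  exact ⟨hζ, hmul⟩

/-- `K ≤ A`, `K` central in `A`, and the elements outside `A` act freely on `K` -/
structure FreeCentral (A K : Subgroup L) : Prop where
  le : K ≤ A
  central : ∀ a ∈ A, ∀ k ∈ K, a * k = k * a
  free : ∀ s : L, s ∉ A → ∀ k ∈ K, s * k = k * s → k = 1

theorem comm_surj {A K : Subgroup L} [hK : K.Normal] (hfc : FreeCentral A K) {s : L}
    (hs : s ∉ A) : ∀ y ∈ K, ∃ x ∈ K, y = x⁻¹ * (s * x * s⁻¹) := by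
  have hmem : ∀ k : K, (k : L)⁻¹ * (s * (k : L) * s⁻¹) ∈ K := fun k =>
    K.mul_mem (K.inv_mem k.2) (hK.conj_mem _ k.2 s)
  let φ : K → K := fun k => ⟨(k : L)⁻¹ * (s * (k : L) * s⁻¹), hmem k⟩
  have hinj : Function.Injective φ := by
    intro k k' hkk
    have h1 : (k : L)⁻¹ * (s * (k : L) * s⁻¹) = (k' : L)⁻¹ * (s * (k' : L) * s⁻¹) :=
      congrArg Subtype.val hkk
    have h3 : (k : L)⁻¹ * s * (k : L) = (k' : L)⁻¹ * s * (k' : L) := by
      have h4 := congrArg (· * s) h1
      simpa [mul_assoc] using h4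
    have h2 : s * ((k : L) * (k' : L)⁻¹) = ((k : L) * (k' : L)⁻¹) * s := by
      calc s * ((k : L) * (k' : L)⁻¹)
          = (k : L) * ((k : L)⁻¹ * s * (k : L)) * (k' : L)⁻¹ := by group
        _ = (k : L) * ((k' : L)⁻¹ * s * (k' : L)) * (k' : L)⁻¹ := by rw [h3]
        _ = ((k : L) * (k' : L)⁻¹) * s := by group
    have h4 := hfc.free s hs _ (K.mul_mem k.2 (K.inv_mem k'.2)) h2
    apply Subtype.ext
    exact mul_inv_eq_one.mp h4
  have hsurj : Function.Surjective φ := Finite.injective_iff_surjective.mp hinj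
  intro y hy
  obtain ⟨x, hx⟩ := hsurj ⟨y, hy⟩
  exact ⟨x, x.2, (congrArg Subtype.val hx).symm⟩

theorem const_of_conj_inv {A K : Subgroup L} [hA : A.Normal] [hK : K.Normal]
    (hfc : FreeCentral A K) {η : A → ℂ} (hη : IsIrrCharacter A η) {s : L} (hs : s ∉ A)
    (hinv : ∀ k : A, (k : L) ∈ K → η ⟨s * k * s⁻¹, hA.conj_mem k k.2 s⟩ = η k) :
    ConstOn (K.subgroupOf A) η := by
  intro y hy
  have hyK : (y : L) ∈ K := Subgroup.mem_subgroupOf.mp hy
  obtain ⟨x, hxK, hyx⟩ := comm_surj hfc hs (y : L) hyK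
  have hxA : x ∈ A := hfc.le hxK
  have hcen : (⟨x, hxA⟩ : A)⁻¹ ∈ Subgroup.center A := by
    rw [Subgroup.mem_center_iff]
    intro a
    apply Subtype.ext
    show (a : L) * x⁻¹ = x⁻¹ * (a : L)
    exact hfc.central a a.2 x⁻¹ (K.inv_mem hxK)
  obtain ⟨-, hmul⟩ := center_mul hη (⟨x, hxA⟩ : A)⁻¹ hcen
  have e1 : y = (⟨x, hxA⟩ : A)⁻¹ * ⟨s * x * s⁻¹, hA.conj_mem x hxA s⟩ := by
    apply Subtype.ext
    show (y : L) = x⁻¹ * (s * x * s⁻¹)
    exact hyx
  have e2 : (1 : A) = (⟨x, hxA⟩ : A)⁻¹ * ⟨x, hxA⟩ := by simp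
  have h3 := hinv ⟨x, hxA⟩ hxK
  rw [e1, hmul, h3, ← hmul, ← e2]

theorem isIrrCharacter_ind {A K : Subgroup L} [hA : A.Normal] [hK : K.Normal]
    (hfc : FreeCentral A K) {η : A → ℂ} (hη : IsIrrCharacter A η)
    (hnc : ¬ ConstOn (K.subgroupOf A) η) : IsIrrCharacter L (indFun A η) := by
  haveI : Fintype A := Fintype.ofFinite _
  have hchar : IsCharacter L (indFun A η) :=
    isCharacter_indFun A (isCharacter_of_isIrrCharacter hη)
  have hcf := isClassFunction_of_isIrrCharacter hη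
  have hterm : ∀ x : L, classInner η (fun k : A => η ⟨x * k * x⁻¹, hA.conj_mem k k.2 x⟩) =
      if x ∈ A then 1 else 0 := by
    intro x
    have hirr := Cfsg.Agent.Lib.Helper2.isIrrCharacter_conj_of_normal A hη x
    by_cases hx : x ∈ A
    · rw [if_pos hx]
      have heq : (fun k : A => η ⟨x * k * x⁻¹, hA.conj_mem k k.2 x⟩) = η := by
        funext k
        have := hcf k ⟨x, hx⟩
        rw [← this]
        rfl
      rw [heq, classInner_irr hη hη, if_pos rfl]
    · rw [if_neg hx, classInner_irr hη hirr, if_neg]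
      intro heq
      apply hnc
      apply const_of_conj_inv hfc hη hx
      intro k _
      exact (congrFun heq k).symm
  apply isIrrCharacter_of_norm_one (isGeneralizedCharacter_of_isCharacter hchar)
  · rw [classInner_indFun_indFun_normal A η η]
    simp_rw [hterm]
    rw [Finset.sum_boole]
    have e : Nat.card A = (Finset.univ.filter (fun x : L => x ∈ A)).card := by
      rw [Nat.card_eq_fintype_card, Fintype.card_subtype]
    rw [← e]
    have hK' : (Nat.card A : ℂ) ≠ 0 := Nat.cast_ne_zero.2 Nat.card_pos.ne'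
    exact inv_mul_cancel₀ hK'
  · rw [indFun_one]
    obtain ⟨d, hd, hd1⟩ := irr_degree hη
    rw [hd1]
    have hcast : (Nat.card A : ℂ)⁻¹ * ((Fintype.card L : ℂ) * (d : ℂ)) =
        (((Nat.card A : ℝ)⁻¹ * ((Fintype.card L : ℝ) * (d : ℝ)) : ℝ) : ℂ) := by
      push_cast
      ring
    rw [hcast, Complex.ofReal_re]
    have hK' : (0 : ℝ) < Nat.card A := by exact_mod_cast Nat.card_pos
    have hG : (0 : ℝ) < Fintype.card L := by exact_mod_cast Fintype.card_pos
    have hd' : (0 : ℝ) < d := by exact_mod_cast hd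
    exact mul_pos (inv_pos.2 hK') (mul_pos hG hd')

theorem typeB_eq_ind {A K : Subgroup L} [hA : A.Normal] [hK : K.Normal]
    (hfc : FreeCentral A K) {μ : L → ℂ} (hμ : IsIrrCharacter L μ) (hnc : ¬ ConstOn K μ) :
    ∃ η : A → ℂ, IsIrrCharacter A η ∧ ¬ ConstOn (K.subgroupOf A) η ∧ μ = indFun A η := by
  haveI : Fintype A := Fintype.ofFinite _
  haveI : Fintype (IrrCharacter A) := Fintype.ofFinite _
  have hcf : IsClassFunction A (μ ∘ A.subtype) := by
    intro g h
    have := isClassFunction_of_isIrrCharacter hμ (g : L) (h : L)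
    simpa using this
  by_contra hcon
  push_neg at hcon
  have hall : ∀ η : IrrCharacter A, classInner (μ ∘ A.subtype) (η : A → ℂ) ≠ 0 →
      ConstOn (K.subgroupOf A) (η : A → ℂ) := by
    intro η hne
    by_contra hnc'
    have hind := isIrrCharacter_ind hfc η.2 hnc'
    apply hcon η.1 η.2 hnc'
    apply eq_of_classInner_ne_zero hμ hind
    rw [classInner_indFun_right' A μ (isClassFunction_of_isIrrCharacter hμ) η.1]
    exact hne
  apply hnc
  intro k hk
  have hkA : k ∈ A := hfc.le hk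
  have hexp := Cfsg.Agent.Lib.Helper4.classFunction_expansion (μ ∘ A.subtype) hcf
  have hval : ∀ z : A, μ z =
      ∑ ψ : IrrCharacter A, classInner (μ ∘ A.subtype) (ψ : A → ℂ) * (ψ : A → ℂ) z := by
    intro z
    have := congrFun hexp z
    simpa [Finset.sum_apply] using this
  have h1 : μ k = ∑ ψ : IrrCharacter A,
      classInner (μ ∘ A.subtype) (ψ : A → ℂ) * (ψ : A → ℂ) ⟨k, hkA⟩ := hval ⟨k, hkA⟩
  have h2 : μ 1 = ∑ ψ : IrrCharacter A,
      classInner (μ ∘ A.subtype) (ψ : A → ℂ) * (ψ : A → ℂ) 1 := hval 1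
  rw [h1, h2]
  apply Finset.sum_congr rfl
  intro ψ _
  by_cases hz : classInner (μ ∘ A.subtype) (ψ : A → ℂ) = 0
  · rw [hz, zero_mul, zero_mul]
  · rw [hall ψ hz ⟨k, hkA⟩ (Subgroup.mem_subgroupOf.mpr hk)]

theorem ind_degree (A : Subgroup L) (η : A → ℂ) : indFun A η 1 = (A.index : ℂ) * η 1 := by
  rw [indFun_one]
  have h := Subgroup.card_mul_index A
  have hA : (Nat.card A : ℂ) ≠ 0 := Nat.cast_ne_zero.2 Nat.card_pos.ne'
  rw [← Nat.card_eq_fintype_card, ← h]
  push_cast
  field_simp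

theorem avg_irr (K : Subgroup L) [hK : K.Normal] {μ : L → ℂ} (hμ : IsIrrCharacter L μ) :
    (ConstOn K μ → ∀ n, avgH K μ n = μ n) ∧ (¬ ConstOn K μ → ∀ n, avgH K μ n = 0) := by
  obtain ⟨c, hc, hsum⟩ := irr_avg K μ hμ
  have hKne : (Nat.card K : ℂ) ≠ 0 := Nat.cast_ne_zero.2 Nat.card_pos.ne'
  have hμ1 : μ 1 ≠ 0 := by
    obtain ⟨d, hd, h⟩ := irr_degree hμ
    rw [h]
    exact Nat.cast_ne_zero.2 hd.ne'
  have havg : ∀ n, avgH K μ n = (Nat.card K : ℂ)⁻¹ * (c * μ n) := by
    intro n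
    unfold avgH
    rw [hsum]
  have hfull : c = (Nat.card K : ℂ) → ∀ n, avgH K μ n = μ n := by
    intro hcK n
    rw [havg, hcK, ← mul_assoc, inv_mul_cancel₀ hKne, one_mul]
  constructor
  · intro hconst n
    apply hfull
    have h1 := hsum 1
    have h2 : ∀ x : L, (if x ∈ K then μ (x * 1) else 0) = if x ∈ K then μ 1 else 0 := by
      intro x
      split_ifs with hx
      · rw [mul_one, hconst x hx]
      · rfl
    simp_rw [h2] at h1
    rw [sum_indicator_const, nsmul_eq_mul] at h1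
    exact (mul_right_cancel₀ hμ1 h1).symm
  · intro hnc n
    rcases hc with h0 | hK'
    · rw [havg, h0, zero_mul, mul_zero]
    · exfalso
      apply hnc
      intro k hk
      rw [← hfull hK' k, ← hfull hK' 1]
      exact avgH_mem K μ hk

theorem res_split [Fintype (IrrCharacter L)] (K : Subgroup L) [hK : K.Normal] {Θ : L → ℂ}
    (hΘ : IsCharacter L Θ) :
    ∃ m : IrrCharacter L → ℕ,
      (∀ μ : IrrCharacter L, classInner Θ (μ : L → ℂ) = (m μ : ℂ)) ∧
      (∀ n, Θ n = ∑ μ : IrrCharacter L, (m μ : ℂ) * (μ : L → ℂ) n) ∧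
      (∀ n, avgH K Θ n = ∑ μ : IrrCharacter L,
        if ConstOn K (μ : L → ℂ) then (m μ : ℂ) * (μ : L → ℂ) n else 0) ∧
      (∑ n : L, Complex.normSq (Θ n - avgH K Θ n) =
        (Nat.card L : ℝ) * ∑ μ : IrrCharacter L,
          if ConstOn K (μ : L → ℂ) then (0 : ℝ) else ((m μ : ℝ)) ^ 2) := by
  choose m hm using fun μ : IrrCharacter L =>
    classInner_isCharacter_nat hΘ (isCharacter_of_isIrrCharacter μ.2)
  have hexp : ∀ n, Θ n = ∑ μ : IrrCharacter L, (m μ : ℂ) * (μ : L → ℂ) n := by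
    intro n
    have h := Cfsg.Agent.Lib.Helper4.classFunction_expansion Θ (isClassFunction_of_isCharacter hΘ)
    simp_rw [hm] at h
    have := congrFun h n
    simpa [Finset.sum_apply] using this
  have havg : ∀ n, avgH K Θ n = ∑ μ : IrrCharacter L,
        if ConstOn K (μ : L → ℂ) then (m μ : ℂ) * (μ : L → ℂ) n else 0 := by
    intro n
    have h1 : avgH K Θ n = ∑ μ : IrrCharacter L, (m μ : ℂ) * avgH K (μ : L → ℂ) n := by
      unfold avgH
      have h2 : ∀ x : L, (if x ∈ K then Θ (x * n) else 0) =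
          ∑ μ : IrrCharacter L, (m μ : ℂ) * (if x ∈ K then (μ : L → ℂ) (x * n) else 0) := by
        intro x
        split_ifs
        · exact hexp _
        · simp
      simp_rw [h2]
      rw [Finset.sum_comm, Finset.mul_sum]
      refine Finset.sum_congr rfl fun μ _ => ?_
      rw [← Finset.mul_sum]
      ring
    rw [h1]
    refine Finset.sum_congr rfl fun μ _ => ?_
    obtain ⟨hA, hB⟩ := avg_irr K μ.2
    split_ifs with hc
    · rw [hA hc]
    · rw [hB hc, mul_zero]
  refine ⟨m, hm, hexp, havg, ?_⟩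
  let d : IrrCharacter L → ℂ := fun μ => if ConstOn K (μ : L → ℂ) then 0 else (m μ : ℂ)
  have hβ : ∀ n, Θ n - avgH K Θ n = ∑ μ : IrrCharacter L, d μ * (μ : L → ℂ) n := by
    intro n
    rw [hexp n, havg n, ← Finset.sum_sub_distrib]
    refine Finset.sum_congr rfl fun μ _ => ?_
    simp only [d]
    split_ifs <;> ring
  have hβf : (fun n => Θ n - avgH K Θ n) = ∑ μ : IrrCharacter L, d μ • (μ : L → ℂ) := by
    funext n
    rw [hβ n]
    simp only [Finset.sum_apply, Pi.smul_apply, smul_eq_mul]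
  have hinner : classInner (fun n => Θ n - avgH K Θ n) (fun n => Θ n - avgH K Θ n) =
      ∑ μ : IrrCharacter L, d μ * conj (d μ) := by
    rw [hβf, classInner_sum_left]
    refine Finset.sum_congr rfl fun μ _ => ?_
    rw [classInner_smul_left, classInner_sum_right]
    simp_rw [classInner_smul_right, Cfsg.Agent.Lib.Helper4.classInner_irr]
    simp
  apply Complex.ofReal_injective
  rw [sum_normSq_eq (fun n => Θ n - avgH K Θ n), hinner]
  push_cast
  congr 1
  refine Finset.sum_congr rfl fun μ _ => ?_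
  simp only [d]
  split_ifs
  · simp
  · simp [sq]

end Basic

end Cfsg.Agent.Lib.Helper26.BL
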