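import Mathlib
import Cfsg.Prelude.Def_Characters
import Cfsg.Agent.Lib.Helper7.Gallagher
import Cfsg.Agent.Lib.Helper28.DualRep
import Cfsg.Agent.Lib.Helper26.BLA

set_option autoImplicit false

/-!
# Brauer–Leonard: induced characters from the centralizer (helper26)
-/

namespace Cfsg.Agent.Lib.Helper26.BL

open Cfsg Cfsg.Agent.Lib.Helper26.FTLemma
open scoped ComplexConjugate Classical

theorem mult_orth {K : Type*} [Group K] [Fintype K] (f g : K → ℂ)
    (hf : ∀ x y, f (x * y) = f x * f y) (hg : ∀ x y, g (x * y) = g x * g y)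
    (hf1 : ∀ x, Complex.normSq (f x) = 1) (hg1 : ∀ x, Complex.normSq (g x) = 1) :
    ∑ x : K, f x * conj (g x) = if f = g then (Nat.card K : ℂ) else 0 := by
  split_ifs with h
  · subst h
    have h1 : ∀ x, f x * conj (f x) = 1 := by
      intro x
      rw [Complex.mul_conj, hf1]
      simp
    simp_rw [h1]
    rw [Finset.sum_const, Finset.card_univ, nsmul_eq_mul, mul_one, Nat.card_eq_fintype_card]
  · have hex : ∃ y, f y ≠ g y := by
      by_contra hcon
      push Not at hcon
      exact h (funext hcon)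
    obtain ⟨y, hy⟩ := hex
    have hre := Equiv.sum_comp (Equiv.mulLeft y) (fun x => f x * conj (g x))
    have h1 : ∑ x : K, f x * conj (g x) = f y * conj (g y) * ∑ x : K, f x * conj (g x) := by
      rw [Finset.mul_sum]
      conv_lhs => rw [← hre]
      refine Finset.sum_congr rfl fun x _ => ?_
      simp only [Equiv.coe_mulLeft]
      rw [hf, hg, map_mul]
      ring
    have h2 : f y * conj (g y) ≠ 1 := by
      intro h3
      apply hy
      have h4 : g y * conj (g y) = 1 := by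
        rw [Complex.mul_conj, hg1]
        simp
      have hgy : conj (g y) ≠ 0 := by
        intro h0
        rw [h0, mul_zero] at h4
        exact zero_ne_one h4
      exact mul_right_cancel₀ hgy (h3.trans h4.symm)
    have h3 : (1 - f y * conj (g y)) * ∑ x : K, f x * conj (g x) = 0 := by
      linear_combination h1
    rcases mul_eq_zero.1 h3 with h4 | h4
    · exact absurd (sub_eq_zero.1 h4).symm h2
    · exact h4

section Ind
variable {L : Type*} [Group L] [Fintype L]

/-- conjugate of a function on a normal subgroup -/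
def conjFn (A : Subgroup L) [hA : A.Normal] (η : A → ℂ) (x : L) : A → ℂ :=
  fun a => η ⟨x * a * x⁻¹, hA.conj_mem a a.2 x⟩

theorem conjFn_irr (A : Subgroup L) [hA : A.Normal] {η : A → ℂ} (hη : IsIrrCharacter A η)
    (x : L) : IsIrrCharacter A (conjFn A η x) :=
  Cfsg.Agent.Lib.Helper2.isIrrCharacter_conj_of_normal A hη x

theorem conjFn_one (A : Subgroup L) [hA : A.Normal] (η : A → ℂ) (x : L) :
    conjFn A η x 1 = η 1 := by
  unfold conjFn
  congr 1
  apply Subtype.ext
  simp

theorem indFun_coe_conjFn (A : Subgroup L) [hA : A.Normal] (η : A → ℂ) (a : A) :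
    indFun A η a = (Nat.card A : ℂ)⁻¹ * ∑ x : L, conjFn A η x a :=
  Cfsg.Agent.Lib.Helper2.indFun_coe_of_normal A η a

theorem typeB_const_degree {A K : Subgroup L} [hA : A.Normal] [hK : K.Normal]
    (hfc : FreeCentral A K) {η₀ : A → ℂ} (hη₀ : IsIrrCharacter A η₀) (h1 : η₀ 1 = 1)
    {μ : L → ℂ} (hμ : IsIrrCharacter L μ) (hnc : ¬ ConstOn K μ)
    (hne : classInner (fun n => indFun A η₀ n * conj (indFun A η₀ n)) μ ≠ 0) :
    μ 1 = (A.index : ℂ) := by
  haveI : Fintype A := Fintype.ofFinite _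
  obtain ⟨η, hη, -, rfl⟩ := typeB_eq_ind hfc hμ hnc
  rw [ind_degree]
  suffices h : η 1 = 1 by rw [h, mul_one]
  have hψcf : IsClassFunction L (fun n => indFun A η₀ n * conj (indFun A η₀ n)) := by
    intro g h
    show indFun A η₀ (h * g * h⁻¹) * conj (indFun A η₀ (h * g * h⁻¹)) = _
    rw [isClassFunction_indFun A η₀ g h]
  rw [classInner_indFun_right' A _ hψcf η] at hne
  have hres : ((fun n => indFun A η₀ n * conj (indFun A η₀ n)) ∘ A.subtype) =
      ((Nat.card A : ℂ)⁻¹ * (Nat.card A : ℂ)⁻¹) •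
        ∑ x : L, ∑ y : L, (conjFn A η₀ x * fun a => conj (conjFn A η₀ y a)) := by
    funext a
    simp only [Function.comp_apply, Subgroup.coe_subtype, Pi.smul_apply, Finset.sum_apply,
      smul_eq_mul, Pi.mul_apply]
    rw [indFun_coe_conjFn A η₀ a, map_mul, map_inv₀, Complex.conj_natCast, map_sum,
      mul_mul_mul_comm, Finset.sum_mul_sum]
  rw [hres, classInner_smul_left, classInner_sum_left] at hne
  have hex : ∃ x y : L,
      classInner (conjFn A η₀ x * fun a => conj (conjFn A η₀ y a)) η ≠ 0 := by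
    by_contra hcon
    push Not at hcon
    apply hne
    rw [Finset.sum_eq_zero, mul_zero]
    intro x _
    rw [classInner_sum_left]
    exact Finset.sum_eq_zero fun y _ => hcon x y
  obtain ⟨x, y, hxy⟩ := hex
  have hcx := conjFn_irr A hη₀ x
  have hcy := conjFn_irr A hη₀ y
  have hx1 : conjFn A η₀ x 1 = 1 := by rw [conjFn_one, h1]
  have hy1 : conjFn A η₀ y 1 = 1 := by rw [conjFn_one, h1]
  have hTchar : IsCharacter A (conjFn A η₀ x * fun a => conj (conjFn A η₀ y a)) :=
    Cfsg.Agent.Lib.Helper7.isCharacter_mul (isCharacter_of_isIrrCharacter hcx)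
      (Cfsg.Agent.Lib.Helper28.isCharacter_conj (isCharacter_of_isIrrCharacter hcy))
  have hTns : ∀ a : A,
      Complex.normSq ((conjFn A η₀ x * fun a => conj (conjFn A η₀ y a)) a) = 1 := by
    intro a
    rw [Pi.mul_apply, map_mul, Complex.normSq_conj,
      normSq_eq_one_of_degree_one (isCharacter_of_isIrrCharacter hcx) hx1 a,
      normSq_eq_one_of_degree_one (isCharacter_of_isIrrCharacter hcy) hy1 a, mul_one]
  have hT1 : (conjFn A η₀ x * fun a => conj (conjFn A η₀ y a)) 1 = 1 := by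
    rw [Pi.mul_apply, hx1, hy1]
    simp
  have hTirr : IsIrrCharacter A (conjFn A η₀ x * fun a => conj (conjFn A η₀ y a)) := by
    apply isIrrCharacter_of_norm_one (isGeneralizedCharacter_of_isCharacter hTchar)
    · have h := sum_normSq_eq (conjFn A η₀ x * fun a => conj (conjFn A η₀ y a))
      simp_rw [hTns] at h
      rw [Finset.sum_const, Finset.card_univ, nsmul_eq_mul, mul_one,
        ← Nat.card_eq_fintype_card] at h
      have hAne : (Nat.card A : ℂ) ≠ 0 := Nat.cast_ne_zero.2 Nat.card_pos.ne'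
      push_cast at h
      have h5 : (Nat.card A : ℂ) * classInner (conjFn A η₀ x * fun a => conj (conjFn A η₀ y a))
          (conjFn A η₀ x * fun a => conj (conjFn A η₀ y a)) = (Nat.card A : ℂ) * 1 := by
        rw [← h, mul_one]
      exact mul_left_cancel₀ hAne h5
    · rw [hT1]
      simp
  have h6 := eq_of_classInner_ne_zero hTirr hη hxy
  rw [← h6, hT1]

theorem sum_normSq_ind_on_K {A K : Subgroup L} [hA : A.Normal] [hK : K.Normal]
    (hfc : FreeCentral A K) {η : A → ℂ} (hη : IsIrrCharacter A η)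
    (hnc : ¬ ConstOn (K.subgroupOf A) η) :
    ∑ x : L, (if x ∈ K then Complex.normSq (indFun A η x) else 0) =
      (Nat.card K : ℝ) * (A.index : ℝ) * Complex.normSq (η 1) := by
  haveI : Fintype A := Fintype.ofFinite _
  haveI : Fintype K := Fintype.ofFinite _
  have hη1 : η 1 ≠ 0 := by
    obtain ⟨d, hd, h⟩ := irr_degree hη
    rw [h]
    exact Nat.cast_ne_zero.2 hd.ne'
  have hmemA : ∀ (s : L) (k : K), s * (k : L) * s⁻¹ ∈ A :=
    fun s k => hA.conj_mem _ (hfc.le k.2) s
  have hmemK : ∀ (s : L) (k : K), s * (k : L) * s⁻¹ ∈ K := fun s k => hK.conj_mem _ k.2 s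
  let f : L → K → ℂ := fun s k => η ⟨s * (k : L) * s⁻¹, hmemA s k⟩ / η 1
  have hcenter : ∀ (s : L) (k : K),
      (⟨s * (k : L) * s⁻¹, hmemA s k⟩ : A) ∈ Subgroup.center A := by
    intro s k
    rw [Subgroup.mem_center_iff]
    intro a
    apply Subtype.ext
    exact hfc.central a a.2 _ (hmemK s k)
  have hfmul : ∀ s (x y : K), f s (x * y) = f s x * f s y := by
    intro s x y
    obtain ⟨-, hmul⟩ := center_mul hη _ (hcenter s x)
    show η ⟨s * ((x * y : K) : L) * s⁻¹, hmemA s (x * y)⟩ / η 1 =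
      (η ⟨s * (x : L) * s⁻¹, hmemA s x⟩ / η 1) * (η ⟨s * (y : L) * s⁻¹, hmemA s y⟩ / η 1)
    have e : (⟨s * ((x * y : K) : L) * s⁻¹, hmemA s (x * y)⟩ : A) =
        ⟨s * (x : L) * s⁻¹, hmemA s x⟩ * ⟨s * (y : L) * s⁻¹, hmemA s y⟩ := by
      apply Subtype.ext
      show s * ((x : L) * (y : L)) * s⁻¹ = (s * (x : L) * s⁻¹) * (s * (y : L) * s⁻¹)
      group
    rw [e, hmul]
    ring
  have hfns : ∀ s (x : K), Complex.normSq (f s x) = 1 := by
    intro s x
    exact (center_mul hη _ (hcenter s x)).1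
  have hind : ∀ k : K, indFun A η (k : L) = (Nat.card A : ℂ)⁻¹ * η 1 * ∑ s : L, f s k := by
    intro k
    have h0 : indFun A η (k : L) =
        (Nat.card A : ℂ)⁻¹ * ∑ x : L, η ⟨x * (k : L) * x⁻¹, hmemA x k⟩ :=
      Cfsg.Agent.Lib.Helper2.indFun_coe_of_normal A η ⟨(k : L), hfc.le k.2⟩
    rw [h0, mul_assoc]
    congr 1
    rw [Finset.mul_sum]
    refine Finset.sum_congr rfl fun s _ => ?_
    show η ⟨s * (k : L) * s⁻¹, hmemA s k⟩ = η 1 * (η ⟨s * (k : L) * s⁻¹, hmemA s k⟩ / η 1)
    field_simp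
  have hfeq : ∀ s t : L, f s = f t ↔ s * t⁻¹ ∈ A := by
    intro s t
    constructor
    · intro hst
      by_contra hnot
      apply hnc
      apply const_of_conj_inv hfc hη hnot
      intro k hk
      have hk' : t⁻¹ * (k : L) * t ∈ K := by
        have := hK.conj_mem _ hk t⁻¹
        simpa using this
      have h1 := congrFun hst ⟨t⁻¹ * (k : L) * t, hk'⟩
      have h2 : η ⟨s * (t⁻¹ * (k : L) * t) * s⁻¹, hmemA s ⟨_, hk'⟩⟩ =
          η ⟨t * (t⁻¹ * (k : L) * t) * t⁻¹, hmemA t ⟨_, hk'⟩⟩ :=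
        (div_left_inj' hη1).mp h1
      have e1 : (⟨s * t⁻¹ * (k : L) * (s * t⁻¹)⁻¹, hA.conj_mem k k.2 (s * t⁻¹)⟩ : A) =
          ⟨s * (t⁻¹ * (k : L) * t) * s⁻¹, hmemA s ⟨_, hk'⟩⟩ := by
        apply Subtype.ext
        show s * t⁻¹ * (k : L) * (s * t⁻¹)⁻¹ = s * (t⁻¹ * (k : L) * t) * s⁻¹
        group
      have e2 : (⟨t * (t⁻¹ * (k : L) * t) * t⁻¹, hmemA t ⟨_, hk'⟩⟩ : A) = k := by
        apply Subtype.ext
        show t * (t⁻¹ * (k : L) * t) * t⁻¹ = (k : L)
        group
      rw [e1, h2, e2]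
    · intro hst
      funext k
      show η ⟨s * (k : L) * s⁻¹, hmemA s k⟩ / η 1 = η ⟨t * (k : L) * t⁻¹, hmemA t k⟩ / η 1
      congr 2
      apply Subtype.ext
      show s * (k : L) * s⁻¹ = t * (k : L) * t⁻¹
      have hc := hfc.central _ hst _ (hmemK t k)
      calc s * (k : L) * s⁻¹
          = (s * t⁻¹) * (t * (k : L) * t⁻¹) * (s * t⁻¹)⁻¹ := by group
        _ = (t * (k : L) * t⁻¹) * (s * t⁻¹) * (s * t⁻¹)⁻¹ := by rw [hc]
        _ = t * (k : L) * t⁻¹ := by group
  have horth : ∀ s t : L, ∑ k : K, f s k * conj (f t k) =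
      if s * t⁻¹ ∈ A then (Nat.card K : ℂ) else 0 := by
    intro s t
    rw [mult_orth (f s) (f t) (hfmul s) (hfmul t) (hfns s) (hfns t)]
    by_cases h : s * t⁻¹ ∈ A
    · rw [if_pos ((hfeq s t).mpr h), if_pos h]
    · rw [if_neg (fun h' => h ((hfeq s t).mp h')), if_neg h]
  have hcount : ∑ s : L, ∑ t : L, (if s * t⁻¹ ∈ A then (Nat.card K : ℂ) else 0) =
      (Nat.card L : ℂ) * (Nat.card A : ℂ) * (Nat.card K : ℂ) := by
    rw [Finset.sum_comm]
    have h1 : ∀ t : L, ∑ s : L, (if s * t⁻¹ ∈ A then (Nat.card K : ℂ) else 0) =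
        (Nat.card A : ℂ) * (Nat.card K : ℂ) := by
      intro t
      rw [← Equiv.sum_comp (Equiv.mulRight t)
        (fun s => if s * t⁻¹ ∈ A then (Nat.card K : ℂ) else 0)]
      simp only [Equiv.coe_mulRight, mul_inv_cancel_right]
      rw [sum_indicator_const, nsmul_eq_mul]
    simp_rw [h1]
    rw [Finset.sum_const, Finset.card_univ, nsmul_eq_mul, ← Nat.card_eq_fintype_card]
    ring
  have hmain : ∑ k : K, ((Complex.normSq (indFun A η (k : L)) : ℝ) : ℂ) =
      ((Nat.card A : ℂ)⁻¹ * η 1) * conj ((Nat.card A : ℂ)⁻¹ * η 1) *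
        ((Nat.card L : ℂ) * (Nat.card A : ℂ) * (Nat.card K : ℂ)) := by
    rw [← hcount]
    have h1 : ∀ k : K, ((Complex.normSq (indFun A η (k : L)) : ℝ) : ℂ) =
        ((Nat.card A : ℂ)⁻¹ * η 1) * conj ((Nat.card A : ℂ)⁻¹ * η 1) *
          ∑ s : L, ∑ t : L, f s k * conj (f t k) := by
      intro k
      have h2 : (∑ s : L, f s k) * conj (∑ t : L, f t k) =
          ∑ s : L, ∑ t : L, f s k * conj (f t k) := by
        rw [map_sum, Finset.sum_mul_sum]
      rw [← h2, ← Complex.mul_conj, hind k]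
      simp only [map_mul]
      ring
    simp_rw [h1]
    rw [← Finset.mul_sum]
    congr 1
    rw [Finset.sum_comm]
    refine Finset.sum_congr rfl fun s _ => ?_
    rw [Finset.sum_comm]
    refine Finset.sum_congr rfl fun t _ => ?_
    exact horth s t
  have hfinal : ((∑ k : K, Complex.normSq (indFun A η (k : L)) : ℝ) : ℂ) =
      (((Nat.card K : ℝ) * (A.index : ℝ) * Complex.normSq (η 1) : ℝ) : ℂ) := by
    rw [Complex.ofReal_sum, hmain]
    rw [Complex.ofReal_mul, Complex.ofReal_mul, ← Complex.mul_conj]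
    rw [map_mul, map_inv₀, Complex.conj_natCast]
    have hidx := Subgroup.card_mul_index A
    have hL : (Nat.card L : ℂ) = (Nat.card A : ℂ) * (A.index : ℂ) := by
      rw [← hidx]
      push_cast
      ring
    have hAne : (Nat.card A : ℂ) ≠ 0 := Nat.cast_ne_zero.2 Nat.card_pos.ne'
    rw [hL]
    push_cast
    field_simp
  rw [← sum_subtype_eq K (fun x : L => Complex.normSq (indFun A η x))]
  exact Complex.ofReal_injective hfinal

end Ind

end Cfsg.Agent.Lib.Helper26.BL
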