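import Mathlib
import Cfsg.Prelude.Def_Characters
import Cfsg.Agent.Lib.Helper26.BLA2

set_option autoImplicit false

/-!
# Brauer–Leonard: the basic inequality for a TI Sylow subgroup (helper26)
-/

namespace Cfsg.Agent.Lib.Helper26.BL

open Cfsg Cfsg.Agent.Lib.Helper26.FTLemma
open scoped ComplexConjugate Classical

/-- a `Fintype` structure on the irreducible characters -/
noncomputable def irrFintype (L : Type*) [Group L] [Fintype L] : Fintype (IrrCharacter L) :=
  Fintype.ofFinite _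

attribute [local instance] irrFintype

section Defs
variable {L : Type*} [Group L]

/-- the degree as a natural number -/
noncomputable def deg (μ : L → ℂ) : ℕ := ⌊(μ 1).re⌋₊

theorem deg_spec {μ : L → ℂ} (h : IsIrrCharacter L μ) : μ 1 = (deg μ : ℂ) ∧ 0 < deg μ := by
  obtain ⟨n, hn, h1⟩ := irr_degree h
  have h2 : deg μ = n := by
    unfold deg
    rw [h1]
    simp
  rw [h2]
  exact ⟨h1, hn⟩

theorem deg_spec' {μ : L → ℂ} (h : IsCharacter L μ) : μ 1 = (deg μ : ℂ) := by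
  obtain ⟨n, ρ, rfl⟩ := h
  unfold deg
  rw [Representation.char_one]
  simp

variable [Fintype L]

/-- the multiplicity as a natural number -/
noncomputable def mult (Θ μ : L → ℂ) : ℕ := ⌊(classInner Θ μ).re⌋₊

theorem mult_spec {Θ μ : L → ℂ} (hΘ : IsCharacter L Θ) (hμ : IsCharacter L μ) :
    classInner Θ μ = (mult Θ μ : ℂ) := by
  obtain ⟨n, hn⟩ := classInner_isCharacter_nat hΘ hμ
  unfold mult
  rw [hn]
  simp

/-- degree of the part constant on `K` -/
noncomputable def kA (K : Subgroup L) (Θ : L → ℂ) : ℕ :=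
  ∑ μ : IrrCharacter L,
    if ConstOn K (μ : L → ℂ) then mult Θ (μ : L → ℂ) * deg (μ : L → ℂ) else 0

/-- number of constituents not constant on `K` -/
noncomputable def bB (K : Subgroup L) (Θ : L → ℂ) : ℕ :=
  ∑ μ : IrrCharacter L, if ConstOn K (μ : L → ℂ) then 0 else mult Θ (μ : L → ℂ)

/-- norm of the part not constant on `K` -/
noncomputable def mB (K : Subgroup L) (Θ : L → ℂ) : ℕ :=
  ∑ μ : IrrCharacter L, if ConstOn K (μ : L → ℂ) then 0 else (mult Θ (μ : L → ℂ)) ^ 2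

theorem split_mult (K : Subgroup L) [hK : K.Normal] {Θ : L → ℂ} (hΘ : IsCharacter L Θ) :
    (∀ n, Θ n = ∑ μ : IrrCharacter L, (mult Θ (μ : L → ℂ) : ℂ) * (μ : L → ℂ) n) ∧
    (∀ n, avgH K Θ n = ∑ μ : IrrCharacter L,
      if ConstOn K (μ : L → ℂ) then (mult Θ (μ : L → ℂ) : ℂ) * (μ : L → ℂ) n else 0) ∧
    (∑ n : L, Complex.normSq (Θ n - avgH K Θ n) = (Nat.card L : ℝ) * (mB K Θ : ℝ)) ∧
    (avgH K Θ 1 = (kA K Θ : ℂ)) ∧
    (deg Θ = kA K Θ + ∑ μ : IrrCharacter L,
      if ConstOn K (μ : L → ℂ) then 0 else mult Θ (μ : L → ℂ) * deg (μ : L → ℂ)) := by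
  obtain ⟨m, hm, h1, h2, h3⟩ := res_split K hΘ
  have hmm : m = fun μ : IrrCharacter L => mult Θ (μ : L → ℂ) := by
    funext μ
    have h4 := (hm μ).symm.trans (mult_spec hΘ (isCharacter_of_isIrrCharacter μ.2))
    exact_mod_cast h4
  subst hmm
  have hk : avgH K Θ 1 = (kA K Θ : ℂ) := by
    rw [h2 1]
    unfold kA
    push_cast
    refine Finset.sum_congr rfl fun μ _ => ?_
    split_ifs
    · rw [(deg_spec μ.2).1]
    · rfl
  refine ⟨h1, h2, ?_, hk, ?_⟩
  · rw [h3]
    congr 1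
    unfold mB
    push_cast
    rfl
  · have h5 : (deg Θ : ℂ) = ((kA K Θ + ∑ μ : IrrCharacter L,
        if ConstOn K (μ : L → ℂ) then 0 else mult Θ (μ : L → ℂ) * deg (μ : L → ℂ) : ℕ) : ℂ) := by
      rw [← deg_spec' hΘ, h1 1]
      unfold kA
      push_cast
      rw [← Finset.sum_add_distrib]
      refine Finset.sum_congr rfl fun μ _ => ?_
      rw [(deg_spec μ.2).1]
      split_ifs <;> simp
    exact_mod_cast h5

theorem exists_unique_of_sum_eq_one {ι : Type*} [Fintype ι] (a : ι → ℕ)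
    (h : ∑ i, a i = 1) : ∃ i₀, a i₀ = 1 ∧ ∀ i, i ≠ i₀ → a i = 0 := by
  have hex : ∃ i₀, a i₀ ≠ 0 := by
    by_contra hcon
    push Not at hcon
    rw [Finset.sum_eq_zero (fun i _ => hcon i)] at h
    exact zero_ne_one h
  obtain ⟨i₀, hi₀⟩ := hex
  have hs := (Finset.add_sum_erase Finset.univ a (Finset.mem_univ i₀)).symm
  rw [h] at hs
  have h1 : a i₀ = 1 := by omega
  have h2 : ∑ i ∈ Finset.univ.erase i₀, a i = 0 := by omega
  refine ⟨i₀, h1, fun i hi => ?_⟩
  exact (Finset.sum_eq_zero_iff.mp h2) i (Finset.mem_erase.mpr ⟨hi, Finset.mem_univ i⟩)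

end Defs

section G
variable {G : Type*} [Group G] [Fintype G]

/-- the context of a minimal counterexample -/
structure Ctx (P : Subgroup G) : Prop where
  hab : ∀ a ∈ P, ∀ b ∈ P, a * b = b * a
  hZ : P ⊓ Subgroup.center G = ⊥
  hone : OneConj P
  hne : ∃ h ∈ P, h ≠ 1
  hstar : ∀ x ∈ P, x ≠ 1 → ∀ g : G, g * x = x * g → ∀ y ∈ P, g * y = y * g
  hgen : ∀ M : Subgroup G, M.Normal → P ≤ M → M = ⊤

abbrev NN (P : Subgroup G) : Subgroup G := Subgroup.normalizer (P : Set G)
abbrev CC (P : Subgroup G) : Subgroup G := Subgroup.centralizer (P : Set G)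
abbrev KK (P : Subgroup G) : Subgroup (NN P) := P.subgroupOf (NN P)
abbrev AA (P : Subgroup G) : Subgroup (NN P) := (CC P).subgroupOf (NN P)
abbrev ZS (P : Subgroup G) : Subgroup (NN P) := (Subgroup.center G).subgroupOf (NN P)

/-- restriction to the normalizer -/
def rs (P : Subgroup G) (X : G → ℂ) : NN P → ℂ := fun n => X n

theorem rs_char (P : Subgroup G) {X : G → ℂ} (hX : IsCharacter G X) :
    IsCharacter (NN P) (rs P X) :=
  isCharacter_restrict (NN P) hX

instance KK_normal (P : Subgroup G) : (KK P).Normal := Subgroup.normal_in_normalizer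

theorem CC_le_NN (P : Subgroup G) : CC P ≤ NN P := by
  intro g hg
  rw [Subgroup.mem_centralizer_iff] at hg
  rw [Subgroup.mem_normalizer_iff]
  intro h
  constructor
  · intro hh
    have h1 : g * h * g⁻¹ = h := by
      rw [← hg h hh]
      group
    rw [h1]
    exact hh
  · intro hh
    have h1 := hg _ hh
    have h2 : h = g * h * g⁻¹ := by
      calc h = g⁻¹ * ((g * h * g⁻¹) * g) := by group
        _ = g⁻¹ * (g * (g * h * g⁻¹)) := by rw [h1]
        _ = g * h * g⁻¹ := by group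
    rw [h2]
    exact hh

instance AA_normal (P : Subgroup G) : (AA P).Normal := by
  constructor
  intro c hc n
  rw [Subgroup.mem_subgroupOf] at hc ⊢
  rw [Subgroup.mem_centralizer_iff] at hc ⊢
  intro y hy
  have hy' : (n : G)⁻¹ * y * (n : G) ∈ P := by
    have hn := n.2
    have h1 := (Subgroup.mem_normalizer_iff.mp (Subgroup.inv_mem _ hn) y).mp hy
    simpa using h1
  have h1 := hc _ hy'
  show y * ((n : G) * (c : G) * (n : G)⁻¹) = (n : G) * (c : G) * (n : G)⁻¹ * y
  calc y * ((n : G) * (c : G) * (n : G)⁻¹)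
      = (n : G) * (((n : G)⁻¹ * y * (n : G)) * (c : G)) * (n : G)⁻¹ := by group
    _ = (n : G) * ((c : G) * ((n : G)⁻¹ * y * (n : G))) * (n : G)⁻¹ := by rw [h1]
    _ = (n : G) * (c : G) * (n : G)⁻¹ * y := by group

theorem freeCentral (P : Subgroup G) (ctx : Ctx P) : FreeCentral (AA P) (KK P) := by
  refine ⟨?_, ?_, ?_⟩
  · intro k hk
    rw [Subgroup.mem_subgroupOf] at hk ⊢
    rw [Subgroup.mem_centralizer_iff]
    intro y hy
    exact ctx.hab y hy _ hk
  · intro a ha k hk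
    rw [Subgroup.mem_subgroupOf] at ha hk
    rw [Subgroup.mem_centralizer_iff] at ha
    apply Subtype.ext
    exact (ha _ hk).symm
  · intro s hs k hk hsk
    rw [Subgroup.mem_subgroupOf] at hk
    by_contra hk1
    apply hs
    rw [Subgroup.mem_subgroupOf, Subgroup.mem_centralizer_iff]
    intro y hy
    have hk1' : (k : G) ≠ 1 := fun h => hk1 (Subtype.ext h)
    have hsk' : (s : G) * (k : G) = (k : G) * (s : G) := congrArg Subtype.val hsk
    exact (ctx.hstar _ hk hk1' s hsk' y hy).symm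

theorem inB_iff (P : Subgroup G) (ctx : Ctx P) (g : G) : InB P g ↔ g ∈ CC P := by
  constructor
  · rintro ⟨h, hh, h1, hc⟩
    rw [Subgroup.mem_centralizer_iff]
    intro y hy
    exact (ctx.hstar h hh h1 g hc.symm y hy).symm
  · intro hg
    obtain ⟨h, hh, h1⟩ := ctx.hne
    rw [Subgroup.mem_centralizer_iff] at hg
    exact ⟨h, hh, h1, hg h hh⟩

theorem exists_ne_of_ne_one (P : Subgroup G) (ctx : Ctx P) {θ : G → ℂ}
    (hθ : IsIrrCharacter G θ) (h1 : θ ≠ fun _ => 1) : ∃ h ∈ P, θ h ≠ θ 1 := by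
  by_contra hcon
  push Not at hcon
  have hle' : P ≤ Cfsg.Agent.Lib.Helper4.charKer ⟨θ, hθ⟩ :=
    fun h hh => (Cfsg.Agent.Lib.Helper4.mem_charKer ⟨θ, hθ⟩ h).mpr (hcon h hh)
  have htop := ctx.hgen _ (Cfsg.Agent.Lib.Helper4.charKer_normal ⟨θ, hθ⟩) hle'
  have hconst : ∀ g, θ g = θ 1 := fun g =>
    (Cfsg.Agent.Lib.Helper4.mem_charKer ⟨θ, hθ⟩ g).mp (htop ▸ Subgroup.mem_top g)
  have hsum := sum_normSq_irr' hθ
  obtain ⟨hd, hdpos⟩ := deg_spec hθ
  have hsum2 : ∑ _g : G, Complex.normSq ((deg θ : ℂ)) = (Nat.card G : ℝ) := by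
    rw [← hsum]
    refine Finset.sum_congr rfl fun g _ => ?_
    rw [hconst g, hd]
  rw [Finset.sum_const, Finset.card_univ, nsmul_eq_mul, ← Nat.card_eq_fintype_card,
    Complex.normSq_natCast] at hsum2
  have hG : (0 : ℝ) < Nat.card G := Nat.cast_pos.mpr Nat.card_pos
  have hd1 : ((deg θ : ℝ)) * (deg θ) = 1 :=
    mul_left_cancel₀ hG.ne' (hsum2.trans (mul_one _).symm)
  have hd1' : deg θ = 1 := by
    have h9 : deg θ * deg θ = 1 := by exact_mod_cast hd1
    exact Nat.eq_one_of_mul_eq_one_left h9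
  apply h1
  funext g
  rw [hconst g, hd, hd1']
  simp

theorem exists_ne_of_nonlinear (P : Subgroup G) (ctx : Ctx P) {θ : G → ℂ}
    (hθ : IsIrrCharacter G θ) (h1 : θ 1 ≠ 1) : ∃ h ∈ P, θ h ≠ θ 1 :=
  exists_ne_of_ne_one P ctx hθ (fun h => h1 (by rw [h]))

theorem avgH_coe (P : Subgroup G) (χ : G → ℂ) (n : NN P) :
    avgH P χ (n : G) = avgH (KK P) (rs P χ) n := by
  have hHN : P ≤ NN P := Subgroup.le_normalizer
  unfold avgH
  have hcard : Nat.card (KK P) = Nat.card P :=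
    Nat.card_congr (Subgroup.subgroupOfEquivOfLe hHN).toEquiv
  rw [hcard]
  congr 1
  have e1 : ∀ x : NN P, (if x ∈ KK P then rs P χ (x * n) else 0) =
      (fun g : G => if g ∈ P then χ (g * n) else 0) (x : G) := by
    intro x
    simp only [Subgroup.mem_subgroupOf, rs, Subgroup.coe_mul]
  rw [Finset.sum_congr rfl (fun x _ => e1 x),
    sum_subtype_eq (NN P) (fun g : G => if g ∈ P then χ (g * n) else 0)]
  refine Finset.sum_congr rfl fun g _ => ?_
  by_cases hg : g ∈ P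
  · simp [hg, hHN hg]
  · simp [hg]

theorem pointwise_identity (P : Subgroup G) (ctx : Ctx P) {χ : G → ℂ}
    (hχc : IsClassFunction G χ) :
    ∑ g : G, (if g ∈ NN P then Complex.normSq (χ g) else 0) =
      ∑ g : G, (if InB P g ∧ g ∉ Subgroup.center G then Complex.normSq (χ g) else 0) +
      ∑ g : G, (if g ∈ Subgroup.center G then Complex.normSq (χ g) else 0) +
      ∑ g : G, (if g ∈ NN P then Complex.normSq (avgH P χ g) else 0) -
      ∑ g : G, (if g ∈ NN P ∧ InB P g then Complex.normSq (avgH P χ g) else 0) := by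
  obtain ⟨h₀, hh₀, h₀1⟩ := ctx.hne
  rw [← Finset.sum_add_distrib, ← Finset.sum_add_distrib, ← Finset.sum_sub_distrib]
  refine Finset.sum_congr rfl fun g _ => ?_
  generalize hu : Complex.normSq (χ g) = u
  generalize hv : Complex.normSq (avgH P χ g) = v
  by_cases hB : InB P g
  · have hN : g ∈ NN P := by
      obtain ⟨h, hH, hh1, hc⟩ := hB
      exact mem_normalizer_of_comm P ctx.hone ctx.hZ hH hh1 hc
    by_cases hz : g ∈ Subgroup.center G
    · rw [if_pos hN, if_neg (fun h => h.2 hz), if_pos hz, if_pos hN, if_pos ⟨hN, hB⟩]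
      ring
    · rw [if_pos hN, if_pos ⟨hB, hz⟩, if_neg hz, if_pos hN, if_pos ⟨hN, hB⟩]
      ring
  · have hz : g ∉ Subgroup.center G := by
      intro hz
      apply hB
      refine ⟨h₀, hh₀, h₀1, ?_⟩
      exact Subgroup.mem_center_iff.mp hz h₀
    by_cases hN : g ∈ NN P
    · rw [if_pos hN, if_neg (fun h => hB h.1), if_neg hz, if_pos hN, if_neg (fun h => hB h.2)]
      have := avgH_eq_of_not_inB P hχc hN hB
      rw [← hu, ← hv, this]
      ring
    · rw [if_neg hN, if_neg (fun h => hB h.1), if_neg hz, if_neg hN, if_neg (fun h => hN h.1)]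
      ring

/-- the sum of `|avg χ|²` over the centralizer -/
noncomputable def ABC (P : Subgroup G) (χ : G → ℂ) : ℝ :=
  ∑ g : G, (if g ∈ CC P then Complex.normSq (avgH P χ g) else 0)

theorem ABC_eq (P : Subgroup G) (ctx : Ctx P) (χ : G → ℂ) :
    ∑ g : G, (if g ∈ NN P ∧ InB P g then Complex.normSq (avgH P χ g) else 0) = ABC P χ := by
  unfold ABC
  refine Finset.sum_congr rfl fun g _ => ?_
  have h : (g ∈ NN P ∧ InB P g) ↔ g ∈ CC P := by
    rw [inB_iff P ctx g]
    exact ⟨fun h => h.2, fun h => ⟨CC_le_NN P h, h⟩⟩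
  simp only [h]

theorem ti_basic (P : Subgroup G) (ctx : Ctx P) {χ : G → ℂ} (hχ : IsIrrCharacter G χ) :
    ∑ g : G, (if g ∈ NN P then Complex.normSq (χ g - avgH P χ g) else 0) + ABC P χ ≤
      (Nat.card (NN P) : ℝ) + (Nat.card (Subgroup.center G) : ℝ) * Complex.normSq (χ 1) := by
  have hχc : IsClassFunction G χ := isClassFunction_of_isIrrCharacter hχ
  obtain ⟨h1, -⟩ := normalizer_decomp P hχ
  have hpt := pointwise_identity P ctx hχc
  have h3 := sum_inB_le P ctx.hone hχ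
  have h5 := sum_center hχ
  rw [ABC_eq P ctx χ] at hpt
  set XN := ∑ g : G, (if g ∈ NN P then Complex.normSq (χ g) else 0)
  set AN := ∑ g : G, (if g ∈ NN P then Complex.normSq (avgH P χ g) else 0)
  set BN := ∑ g : G, (if g ∈ NN P then Complex.normSq (χ g - avgH P χ g) else 0)
  set S := ∑ g : G, (if InB P g ∧ g ∉ Subgroup.center G then Complex.normSq (χ g) else 0)
  set ZZ := ∑ g : G, (if g ∈ Subgroup.center G then Complex.normSq (χ g) else 0)
  set nG : ℝ := (Nat.card G : ℝ)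
  set nN : ℝ := (Nat.card (NN P) : ℝ)
  have hnG : 0 < nG := Nat.cast_pos.mpr Nat.card_pos
  have hnN : 0 < nN := Nat.cast_pos.mpr Nat.card_pos
  have hZZ : 0 ≤ ZZ := by
    rw [h5]
    exact mul_nonneg (Nat.cast_nonneg _) (Complex.normSq_nonneg _)
  rw [← h5]
  have hsum : BN + ABC P χ = S + ZZ := by linarith
  rw [hsum]
  have key : nG * (S + ZZ) ≤ nG * (nN + ZZ) := by nlinarith
  exact le_of_mul_le_mul_left key hnG

theorem ineq_R1 (P : Subgroup G) (ctx : Ctx P) {X : G → ℂ} (hX : IsIrrCharacter G X) :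
    (Nat.card (NN P) : ℝ) * (mB (KK P) (rs P X) : ℝ) + ABC P X ≤
      (Nat.card (NN P) : ℝ) + (Nat.card (Subgroup.center G) : ℝ) * Complex.normSq (X 1) := by
  have h1 := ti_basic P ctx hX
  obtain ⟨-, -, h3, -, -⟩ := split_mult (KK P) (rs_char P (isCharacter_of_isIrrCharacter hX))
  have h4 : ∑ g : G, (if g ∈ NN P then Complex.normSq (X g - avgH P X g) else 0) =
      ∑ n : NN P, Complex.normSq (rs P X n - avgH (KK P) (rs P X) n) := by
    rw [← sum_subtype_eq (NN P) (fun g : G => Complex.normSq (X g - avgH P X g))]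
    refine Finset.sum_congr rfl fun n _ => ?_
    rw [avgH_coe]
    rfl
  rw [h4, h3] at h1
  exact h1

theorem ineq_R2 (P : Subgroup G) (ctx : Ctx P) {X : G → ℂ} (hX : IsIrrCharacter G X) :
    (Nat.card P : ℝ) * (Nat.card (Subgroup.center G) : ℝ) * Complex.normSq (avgH P X 1) ≤
      ABC P X := by
  have h := sum_inB_avg_ge P ctx.hab ctx.hZ hX ctx.hne
  rw [ABC_eq P ctx X] at h
  exact h

theorem kA_spec (P : Subgroup G) {X : G → ℂ} (hX : IsCharacter G X) :
    avgH P X 1 = (kA (KK P) (rs P X) : ℂ) := by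
  obtain ⟨-, -, -, h4, -⟩ := split_mult (KK P) (rs_char P hX)
  rw [← h4]
  exact avgH_coe P X 1

theorem mB_pos (P : Subgroup G) {X : G → ℂ} (hX : IsIrrCharacter G X)
    (hex : ∃ h ∈ P, X h ≠ X 1) : 1 ≤ mB (KK P) (rs P X) := by
  by_contra hlt
  have h0 : mB (KK P) (rs P X) = 0 := by omega
  unfold mB at h0
  have hz : ∀ μ : IrrCharacter (NN P), ¬ ConstOn (KK P) (μ : NN P → ℂ) →
      mult (rs P X) (μ : NN P → ℂ) = 0 := by
    intro μ hμ
    have h1 := (Finset.sum_eq_zero_iff.mp h0) μ (Finset.mem_univ μ)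
    rw [if_neg hμ] at h1
    exact pow_eq_zero_iff (two_ne_zero) |>.mp h1
  obtain ⟨h, hh, hne⟩ := hex
  apply hne
  obtain ⟨h1, -, -, -, -⟩ := split_mult (KK P) (rs_char P (isCharacter_of_isIrrCharacter hX))
  have hhN : h ∈ NN P := Subgroup.le_normalizer hh
  have e1 := h1 ⟨h, hhN⟩
  have e2 := h1 1
  show rs P X ⟨h, hhN⟩ = rs P X 1
  rw [e1, e2]
  refine Finset.sum_congr rfl fun μ _ => ?_
  by_cases hc : ConstOn (KK P) (μ : NN P → ℂ)
  · rw [hc ⟨h, hhN⟩ (Subgroup.mem_subgroupOf.mpr hh)]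
  · rw [hz μ hc]
    simp

end G

end Cfsg.Agent.Lib.Helper26.BL
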