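import Mathlib
import Cfsg.Prelude.Def_Characters
import Cfsg.Agent.Lib.Helper26.BLB

set_option autoImplicit false

/-!
# Brauer–Leonard: first steps of the analysis (helper26)
-/

namespace Cfsg.Agent.Lib.Helper26.BL

open Cfsg Cfsg.Agent.Lib.Helper26.FTLemma
open scoped ComplexConjugate Classical

attribute [local instance] irrFintype

section Psi
variable {G : Type*} [Group G] [Fintype G]

/-- `ξ ξ̄` -/
def psi (ξ : G → ℂ) : G → ℂ := fun g => ξ g * conj (ξ g)

theorem psi_char {ξ : G → ℂ} (hξ : IsCharacter G ξ) : IsCharacter G (psi ξ) :=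
  Cfsg.Agent.Lib.Helper7.isCharacter_mul hξ (Cfsg.Agent.Lib.Helper28.isCharacter_conj hξ)

theorem expand_char {Θ : G → ℂ} (hΘ : IsCharacter G Θ) (g : G) :
    Θ g = ∑ θ : IrrCharacter G, (mult Θ (θ : G → ℂ) : ℂ) * (θ : G → ℂ) g := by
  have h := Cfsg.Agent.Lib.Helper4.classFunction_expansion Θ (isClassFunction_of_isCharacter hΘ)
  have h2 := congrFun h g
  simp only [Finset.sum_apply, Pi.smul_apply, smul_eq_mul] at h2
  refine h2.trans (Finset.sum_congr rfl fun θ _ => ?_)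
  rw [mult_spec hΘ (isCharacter_of_isIrrCharacter θ.2)]

/-- the principal character -/
def triv (G : Type*) [Group G] : IrrCharacter G :=
  ⟨fun _ => 1, Cfsg.Agent.Lib.Helper4.isIrrCharacter_one⟩

theorem psi_mult_triv {ξ : G → ℂ} (hξ : IsIrrCharacter G ξ) :
    mult (psi ξ) (triv G : G → ℂ) = 1 := by
  have h1 : classInner (psi ξ) (triv G : G → ℂ) = 1 := by
    have h1 := classInner_irr hξ hξ
    rw [if_pos rfl] at h1
    rw [← h1]
    unfold classInner
    congr 1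
    refine Finset.sum_congr rfl fun g _ => ?_
    simp [psi, triv]
  rw [mult_spec (psi_char (isCharacter_of_isIrrCharacter hξ))
    (isCharacter_of_isIrrCharacter (triv G).2)] at h1
  exact_mod_cast h1

theorem deg_triv : deg (triv G : G → ℂ) = 1 := by
  have h := (deg_spec (triv G).2).1
  have h2 : (triv G : G → ℂ) 1 = 1 := rfl
  rw [h2] at h
  exact_mod_cast h.symm

theorem psi_degree {ξ : G → ℂ} (hξ : IsIrrCharacter G ξ) :
    ∑ θ : IrrCharacter G, mult (psi ξ) (θ : G → ℂ) * deg (θ : G → ℂ) = (deg ξ) ^ 2 := by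
  have h := expand_char (psi_char (isCharacter_of_isIrrCharacter hξ)) 1
  have h1 : psi ξ 1 = ((deg ξ : ℂ)) ^ 2 := by
    unfold psi
    rw [(deg_spec hξ).1, Complex.conj_natCast, sq]
  rw [h1] at h
  have h2 : ((deg ξ : ℂ)) ^ 2 =
      ((∑ θ : IrrCharacter G, mult (psi ξ) (θ : G → ℂ) * deg (θ : G → ℂ) : ℕ) : ℂ) := by
    rw [h]
    push_cast
    refine Finset.sum_congr rfl fun θ _ => ?_
    rw [(deg_spec θ.2).1]
  exact_mod_cast h2.symm

theorem avgH_triv (P : Subgroup G) (g : G) : avgH P (fun _ : G => (1 : ℂ)) g = 1 := by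
  unfold avgH
  rw [sum_indicator_const, nsmul_eq_mul, mul_one,
    inv_mul_cancel₀ (Nat.cast_ne_zero.2 Nat.card_pos.ne')]

theorem kA_triv (P : Subgroup G) : kA (KK P) (rs P (triv G : G → ℂ)) = 1 := by
  have h := kA_spec P (isCharacter_of_isIrrCharacter (triv G).2)
  have h2 : avgH P (triv G : G → ℂ) 1 = 1 := avgH_triv P 1
  rw [h2] at h
  exact_mod_cast h.symm

theorem psi_kA (P : Subgroup G) {ξ : G → ℂ} (hξ : IsIrrCharacter G ξ) :
    ((∑ θ : IrrCharacter G, mult (psi ξ) (θ : G → ℂ) * kA (KK P) (rs P (θ : G → ℂ)) : ℕ) : ℝ) *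
      (Nat.card P : ℝ) = ∑ x : G, (if x ∈ P then Complex.normSq (ξ x) else 0) := by
  have hψ := psi_char (isCharacter_of_isIrrCharacter hξ)
  have hPne : (Nat.card P : ℂ) ≠ 0 := Nat.cast_ne_zero.2 Nat.card_pos.ne'
  have h1 : avgH P (psi ξ) 1 =
      ∑ θ : IrrCharacter G, (mult (psi ξ) (θ : G → ℂ) : ℂ) * avgH P (θ : G → ℂ) 1 := by
    unfold avgH
    have h2 : ∀ x : G, (if x ∈ P then psi ξ (x * 1) else 0) =
        ∑ θ : IrrCharacter G, (mult (psi ξ) (θ : G → ℂ) : ℂ) *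
          (if x ∈ P then (θ : G → ℂ) (x * 1) else 0) := by
      intro x
      split_ifs
      · exact expand_char hψ _
      · simp
    simp_rw [h2]
    rw [Finset.sum_comm, Finset.mul_sum]
    refine Finset.sum_congr rfl fun θ _ => ?_
    rw [← Finset.mul_sum]
    ring
  have h3 : avgH P (psi ξ) 1 =
      (Nat.card P : ℂ)⁻¹ * ((∑ x : G, (if x ∈ P then Complex.normSq (ξ x) else 0) : ℝ) : ℂ) := by
    unfold avgH
    congr 1
    rw [Complex.ofReal_sum]
    refine Finset.sum_congr rfl fun x _ => ?_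
    split_ifs
    · rw [mul_one]
      unfold psi
      rw [Complex.mul_conj]
    · simp
  apply Complex.ofReal_injective
  have h4 : ((∑ θ : IrrCharacter G,
      mult (psi ξ) (θ : G → ℂ) * kA (KK P) (rs P (θ : G → ℂ)) : ℕ) : ℂ) = avgH P (psi ξ) 1 := by
    rw [h1]
    push_cast
    refine Finset.sum_congr rfl fun θ _ => ?_
    rw [kA_spec P (isCharacter_of_isIrrCharacter θ.2)]
  push_cast
  push_cast at h4
  rw [h4, h3]
  field_simp
  simp only [Complex.ofReal_sum]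

theorem claim_one_nat (P : Subgroup G) (ctx : Ctx P) (θ : IrrCharacter G) (hθ : θ ≠ triv G) :
    Nat.card P * (kA (KK P) (rs P (θ : G → ℂ))) ^ 2 < (deg (θ : G → ℂ)) ^ 2 := by
  have hne : (θ : G → ℂ) ≠ fun _ => 1 := fun h => hθ (Subtype.ext h)
  have h := claim_one P ctx.hab ctx.hZ ctx.hone θ.2 (exists_ne_of_ne_one P ctx θ.2 hne)
  rw [kA_spec P (isCharacter_of_isIrrCharacter θ.2), (deg_spec θ.2).1,
    Complex.normSq_natCast, Complex.normSq_natCast] at h
  have h2 : ((Nat.card P * (kA (KK P) (rs P (θ : G → ℂ))) ^ 2 : ℕ) : ℝ) <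
      (((deg (θ : G → ℂ)) ^ 2 : ℕ) : ℝ) := by
    push_cast
    nlinarith
  exact_mod_cast h2

theorem card_NN (P : Subgroup G) : Nat.card (NN P) = Nat.card (CC P) * (AA P).index := by
  have h := Subgroup.card_mul_index (AA P)
  have hcard : Nat.card (AA P) = Nat.card (CC P) :=
    Nat.card_congr (Subgroup.subgroupOfEquivOfLe (CC_le_NN P)).toEquiv
  rw [← h, hcard]

theorem card_CC_ge (P : Subgroup G) (ctx : Ctx P) :
    Nat.card P * Nat.card (Subgroup.center G) ≤ Nat.card (CC P) := by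
  have h := ineq_R2 P ctx (Cfsg.Agent.Lib.Helper4.isIrrCharacter_one (G := G))
  unfold ABC at h
  simp_rw [avgH_triv] at h
  simp only [map_one, mul_one] at h
  rw [sum_indicator_const, nsmul_eq_mul, mul_one] at h
  exact_mod_cast h

theorem index_pos (P : Subgroup G) : 1 ≤ (AA P).index :=
  Nat.one_le_iff_ne_zero.mpr Subgroup.index_ne_zero_of_finite

end Psi

section D
variable {G : Type*} [Group G] [Fintype G]

theorem D1 (P : Subgroup G) (ctx : Ctx P) {ξ : G → ℂ} (hξ : IsIrrCharacter G ξ)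
    (hξ1 : ξ 1 ≠ 1) (hq : (deg ξ) ^ 2 + 1 < Nat.card P) :
    ∃ μ₀ : IrrCharacter (NN P), ¬ ConstOn (KK P) (μ₀ : NN P → ℂ) ∧
      rs P ξ = (μ₀ : NN P → ℂ) := by
  have hchar := rs_char P (isCharacter_of_isIrrCharacter hξ)
  obtain ⟨hexp, -, -, -, -⟩ := split_mult (KK P) hchar
  have hR1 := ineq_R1 P ctx hξ
  have hR2 := ineq_R2 P ctx hξ
  have hM := mB_pos P hξ (exists_ne_of_nonlinear P ctx hξ hξ1)
  rw [kA_spec P (isCharacter_of_isIrrCharacter hξ), Complex.normSq_natCast] at hR2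
  rw [(deg_spec hξ).1, Complex.normSq_natCast] at hR1
  have hN := card_NN P
  have hC := card_CC_ge P ctx
  have he := index_pos P
  have hNr : (Nat.card (NN P) : ℝ) = (Nat.card (CC P) : ℝ) * ((AA P).index : ℝ) := by
    exact_mod_cast hN
  have hCr : (Nat.card P : ℝ) * (Nat.card (Subgroup.center G) : ℝ) ≤ (Nat.card (CC P) : ℝ) := by
    exact_mod_cast hC
  have hqr : ((deg ξ : ℝ)) ^ 2 + 1 < (Nat.card P : ℝ) := by exact_mod_cast hq
  have hMr : (1 : ℝ) ≤ (mB (KK P) (rs P ξ) : ℝ) := by exact_mod_cast hM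
  have her : (1 : ℝ) ≤ ((AA P).index : ℝ) := by exact_mod_cast he
  have hnZ : (0 : ℝ) < (Nat.card (Subgroup.center G) : ℝ) := Nat.cast_pos.mpr Nat.card_pos
  have hnC : (0 : ℝ) < (Nat.card (CC P) : ℝ) := Nat.cast_pos.mpr Nat.card_pos
  have hnN : (0 : ℝ) < (Nat.card (NN P) : ℝ) := Nat.cast_pos.mpr Nat.card_pos
  have hnq : (0 : ℝ) < (Nat.card P : ℝ) := Nat.cast_pos.mpr Nat.card_pos
  set f : ℝ := (deg ξ : ℝ) with hf
  set k : ℝ := (kA (KK P) (rs P ξ) : ℝ) with hk
  set M : ℝ := (mB (KK P) (rs P ξ) : ℝ) with hMdef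
  set nN : ℝ := (Nat.card (NN P) : ℝ)
  set nC : ℝ := (Nat.card (CC P) : ℝ)
  set nZ : ℝ := (Nat.card (Subgroup.center G) : ℝ)
  set q : ℝ := (Nat.card P : ℝ)
  set e : ℝ := ((AA P).index : ℝ)
  have hABC : 0 ≤ ABC P ξ := by
    have : 0 ≤ q * nZ * (k * k) := by positivity
    linarith
  have hnNC : nC ≤ nN := by
    rw [hNr]
    nlinarith
  -- k = 0
  have hk0 : kA (KK P) (rs P ξ) = 0 := by
    by_contra hne
    have hk1 : (1 : ℝ) ≤ k := by
      rw [hk]
      exact_mod_cast Nat.one_le_iff_ne_zero.mpr hne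
    have h1 : q * nZ * (k * k) ≤ nZ * (f * f) := by nlinarith
    have h2 : q * nZ ≤ q * nZ * (k * k) := by
      have : (1 : ℝ) ≤ k * k := by nlinarith
      have hqz : 0 ≤ q * nZ := by positivity
      nlinarith
    have h3 : nZ * q ≤ nZ * (f * f) := by linarith
    have h4 : q ≤ f * f := le_of_mul_le_mul_left h3 hnZ
    nlinarith
  -- M = 1
  have hM1 : mB (KK P) (rs P ξ) = 1 := by
    by_contra hne
    have hM2 : (2 : ℝ) ≤ M := by
      rw [hMdef]
      have : 2 ≤ mB (KK P) (rs P ξ) := by omega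
      exact_mod_cast this
    have h1 : nN ≤ nZ * (f * f) := by nlinarith
    have h2 : nZ * (f * f) < nZ * q := by
      apply mul_lt_mul_of_pos_left _ hnZ
      nlinarith
    have h3 : nZ * q ≤ nN := by linarith
    linarith
  unfold mB at hM1
  unfold kA at hk0
  obtain ⟨μ₀, hμ₀1, hμ₀others⟩ := exists_unique_of_sum_eq_one _ hM1
  have hnc : ¬ ConstOn (KK P) (μ₀ : NN P → ℂ) := by
    intro hc
    rw [if_pos hc] at hμ₀1
    exact zero_ne_one hμ₀1
  rw [if_neg hnc] at hμ₀1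
  have hm1 : mult (rs P ξ) (μ₀ : NN P → ℂ) = 1 := by
    rcases Nat.pow_eq_one.mp hμ₀1 with h | h
    · exact h
    · exact absurd h two_ne_zero
  have hothers : ∀ μ : IrrCharacter (NN P), μ ≠ μ₀ → mult (rs P ξ) (μ : NN P → ℂ) = 0 := by
    intro μ hμ
    by_cases hc : ConstOn (KK P) (μ : NN P → ℂ)
    · have h1 := (Finset.sum_eq_zero_iff.mp hk0) μ (Finset.mem_univ μ)
      rw [if_pos hc] at h1
      rcases Nat.mul_eq_zero.mp h1 with h | h
      · exact h
      · exact absurd h (deg_spec μ.2).2.ne'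
    · have h1 := hμ₀others μ hμ
      rw [if_neg hc] at h1
      exact (pow_eq_zero_iff two_ne_zero).mp h1
  refine ⟨μ₀, hnc, ?_⟩
  funext n
  rw [hexp n, Finset.sum_eq_single μ₀]
  · rw [hm1]
    simp
  · intro μ _ hμ
    rw [hothers μ hμ]
    simp
  · intro h
    exact absurd (Finset.mem_univ _) h

end D

end Cfsg.Agent.Lib.Helper26.BL
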