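import Mathlib
import Cfsg.Prelude.Def_Characters
import Cfsg.Agent.Lib.Helper26.BLC

set_option autoImplicit false

/-!
# Brauer–Leonard: the constituents of `ξ ξ̄` (helper26)
-/

namespace Cfsg.Agent.Lib.Helper26.BL

open Cfsg Cfsg.Agent.Lib.Helper26.FTLemma
open scoped ComplexConjugate Classical

attribute [local instance] irrFintype

section Arith

theorem arith_A1 {k b e q : ℕ} (h1 : q * k ^ 2 < (k + e * b) ^ 2) (hq : e ^ 2 + 2 ≤ q)
    (hd : k + e * b + 1 ≤ e ^ 2) : k ≤ b := by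
  by_contra hlt
  push Not at hlt
  have he : 1 ≤ e := by
    rcases Nat.eq_zero_or_pos e with h | h
    · subst h
      simp at hd
    · exact h
  have hb : b < e := by
    have h2 : e * b < e * e := by nlinarith
    exact Nat.lt_of_mul_lt_mul_left h2
  have h2 : k + e * b ≤ e * k := by
    obtain ⟨j, rfl⟩ : ∃ j, k = b + 1 + j := ⟨k - (b + 1), by omega⟩
    have h3 : j ≤ e * j := Nat.le_mul_of_pos_left j he
    nlinarith
  have h3 : (k + e * b) ^ 2 ≤ (e * k) ^ 2 := Nat.pow_le_pow_left h2 2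
  have h4 : (e * k) ^ 2 ≤ q * k ^ 2 := by
    have h5 : e ^ 2 ≤ q := by omega
    calc (e * k) ^ 2 = e ^ 2 * k ^ 2 := by ring
      _ ≤ q * k ^ 2 := Nat.mul_le_mul_right _ h5
  omega

theorem arith_A2 {nN nZ q : ℝ} {e b M : ℕ}
    (hR : nN * M + q * nZ * (b : ℝ) ^ 2 ≤ nN + nZ * ((b : ℝ) * (e + 1)) ^ 2)
    (hN : e * q * nZ ≤ nN) (hnZ : 0 < nZ) (hq : (e : ℝ) ^ 2 + 2 ≤ q) (he : 2 ≤ e)
    (hb1 : 1 ≤ b) (hbe : b + 1 ≤ e) (hMb : b ≤ M) : b = 1 ∧ M = 1 := by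
  have her2 : (2 : ℝ) ≤ e := by exact_mod_cast he
  have hq0 : 0 ≤ q := by nlinarith [sq_nonneg (e : ℝ)]
  have hnN : 0 ≤ nN := by
    have : 0 ≤ (e : ℝ) * q * nZ := by positivity
    linarith
  have hMr : (b : ℝ) ≤ M := by exact_mod_cast hMb
  have hb : b = 1 := by
    by_contra hne
    have hb2 : (2 : ℝ) ≤ b := by exact_mod_cast (by omega : 2 ≤ b)
    have her : (b : ℝ) + 1 ≤ e := by exact_mod_cast hbe
    have h1 : (e : ℝ) * q * nZ * (b - 1) + q * nZ * (b : ℝ) ^ 2 ≤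
        nZ * ((b : ℝ) * (e + 1)) ^ 2 := by
      have hx : nN * ((b : ℝ) - 1) ≤ nN * ((M : ℝ) - 1) :=
        mul_le_mul_of_nonneg_left (by linarith) hnN
      have hy : (e : ℝ) * q * nZ * (b - 1) ≤ nN * ((b : ℝ) - 1) :=
        mul_le_mul_of_nonneg_right hN (by linarith)
      nlinarith
    have h2 : (e : ℝ) * q * (b - 1) + q * (b : ℝ) ^ 2 ≤ ((b : ℝ) * (e + 1)) ^ 2 := by
      have h3 : nZ * ((e : ℝ) * q * (b - 1) + q * (b : ℝ) ^ 2) ≤
          nZ * ((b : ℝ) * (e + 1)) ^ 2 := by nlinarith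
      exact le_of_mul_le_mul_left h3 hnZ
    have h3 : ((e : ℝ) ^ 2 + 2) * (e * (b - 1) + (b : ℝ) ^ 2) ≤ ((b : ℝ) * (e + 1)) ^ 2 := by
      have hpos : 0 ≤ (e : ℝ) * (b - 1) + (b : ℝ) ^ 2 := by
        have : 0 ≤ (e : ℝ) * (b - 1) := mul_nonneg (by linarith) (by linarith)
        positivity
      have h4 := mul_le_mul_of_nonneg_right hq hpos
      nlinarith
    have h4 : (e : ℝ) ^ 3 * (b - 1) + 2 * e * (b - 1) + (b : ℝ) ^ 2 ≤ 2 * e * (b : ℝ) ^ 2 := by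
      nlinarith
    have hA : 2 * (b : ℝ) ^ 2 + 1 ≤ ((b : ℝ) + 1) ^ 2 * (b - 1) := by
      nlinarith [mul_nonneg (sub_nonneg.2 hb2)
        (by positivity : (0 : ℝ) ≤ (b : ℝ) ^ 2 + b + 1)]
    have hB : ((b : ℝ) + 1) ^ 2 * (b - 1) ≤ (e : ℝ) ^ 2 * (b - 1) := by
      apply mul_le_mul_of_nonneg_right _ (by linarith)
      exact pow_le_pow_left₀ (by positivity) her 2
    have hC : (e : ℝ) * (2 * (b : ℝ) ^ 2 + 1) ≤ (e : ℝ) ^ 3 * (b - 1) := by
      have h5 := mul_le_mul_of_nonneg_left (hA.trans hB) (by positivity : (0 : ℝ) ≤ e)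
      nlinarith
    have hD : 0 ≤ (e : ℝ) * ((b : ℝ) - 1) := mul_nonneg (by linarith) (by linarith)
    nlinarith
  refine ⟨hb, ?_⟩
  subst hb
  by_contra hne
  have hM2 : (2 : ℝ) ≤ M := by exact_mod_cast (by omega : 2 ≤ M)
  simp only [Nat.cast_one, one_pow, mul_one, one_mul] at hR
  have h1 : nN + q * nZ ≤ nZ * ((e : ℝ) + 1) ^ 2 := by nlinarith
  have h2 : nZ * (q * ((e : ℝ) + 1)) ≤ nZ * ((e : ℝ) + 1) ^ 2 := by nlinarith
  have h3 : q * ((e : ℝ) + 1) ≤ ((e : ℝ) + 1) ^ 2 := le_of_mul_le_mul_left h2 hnZ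
  have h4 : q ≤ (e : ℝ) + 1 := by
    have hpos : (0 : ℝ) < (e : ℝ) + 1 := by linarith
    have h5 : q * ((e : ℝ) + 1) ≤ ((e : ℝ) + 1) * ((e : ℝ) + 1) := by nlinarith
    exact le_of_mul_le_mul_right h5 hpos
  nlinarith

end Arith

section L
variable {L : Type*} [Group L] [Fintype L]

theorem bB_le_mB (K : Subgroup L) (Θ : L → ℂ) : bB K Θ ≤ mB K Θ := by
  unfold bB mB
  refine Finset.sum_le_sum fun μ _ => ?_
  split_ifs
  · exact le_refl _
  · exact Nat.le_self_pow two_ne_zero _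

end L

section An
variable {G : Type*} [Group G] [Fintype G]

theorem sum_P_eq (P : Subgroup G) (ctx : Ctx P) {ξ : G → ℂ} {η₀ : AA P → ℂ}
    (hη₀ : IsIrrCharacter (AA P) η₀) (hnc : ¬ ConstOn ((KK P).subgroupOf (AA P)) η₀)
    (hres : rs P ξ = indFun (AA P) η₀) :
    ∑ x : G, (if x ∈ P then Complex.normSq (ξ x) else 0) =
      (Nat.card P : ℝ) * ((AA P).index : ℝ) * Complex.normSq (η₀ 1) := by
  have hHN : P ≤ NN P := Subgroup.le_normalizer
  have h1 := sum_normSq_ind_on_K (freeCentral P ctx) hη₀ hnc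
  have hcard : Nat.card (KK P) = Nat.card P :=
    Nat.card_congr (Subgroup.subgroupOfEquivOfLe hHN).toEquiv
  rw [hcard, ← hres] at h1
  rw [← h1]
  have h2 := sum_subtype_eq (NN P) (fun g : G => if g ∈ P then Complex.normSq (ξ g) else 0)
  have h3 : ∑ x : NN P, (if x ∈ KK P then Complex.normSq (rs P ξ x) else 0) =
      ∑ n : NN P, (fun g : G => if g ∈ P then Complex.normSq (ξ g) else 0) n := by
    refine Finset.sum_congr rfl fun n _ => ?_
    simp only [Subgroup.mem_subgroupOf, rs]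
  rw [h3, h2]
  refine Finset.sum_congr rfl fun g _ => ?_
  by_cases hg : g ∈ P
  · simp [hg, hHN hg]
  · simp [hg]

theorem deg_xi (P : Subgroup G) {ξ : G → ℂ} (hξ : IsIrrCharacter G ξ) {η₀ : AA P → ℂ}
    (hη₀ : IsIrrCharacter (AA P) η₀) (hres : rs P ξ = indFun (AA P) η₀) :
    deg ξ = (AA P).index * deg η₀ := by
  have h1 : ξ 1 = ((AA P).index : ℂ) * (deg η₀ : ℂ) := by
    have h0 : ξ 1 = rs P ξ 1 := rfl
    rw [h0, hres, ind_degree, (deg_spec hη₀).1]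
  have h2 := (deg_spec hξ).1
  rw [h1] at h2
  exact_mod_cast h2.symm

theorem psi_kA_sum (P : Subgroup G) (ctx : Ctx P) {ξ : G → ℂ} (hξ : IsIrrCharacter G ξ)
    {η₀ : AA P → ℂ} (hη₀ : IsIrrCharacter (AA P) η₀)
    (hnc : ¬ ConstOn ((KK P).subgroupOf (AA P)) η₀) (hres : rs P ξ = indFun (AA P) η₀) :
    ∑ θ : IrrCharacter G, mult (psi ξ) (θ : G → ℂ) * kA (KK P) (rs P (θ : G → ℂ)) =
      (AA P).index * (deg η₀) ^ 2 := by
  have h1 := psi_kA P hξ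
  rw [sum_P_eq P ctx hη₀ hnc hres, (deg_spec hη₀).1, Complex.normSq_natCast] at h1
  have hq0 : (0 : ℝ) < Nat.card P := Nat.cast_pos.mpr Nat.card_pos
  have h2 : ((∑ θ : IrrCharacter G,
      mult (psi ξ) (θ : G → ℂ) * kA (KK P) (rs P (θ : G → ℂ)) : ℕ) : ℝ) * (Nat.card P : ℝ) =
      (((AA P).index * (deg η₀) ^ 2 : ℕ) : ℝ) * (Nat.card P : ℝ) := by
    rw [h1]
    push_cast
    ring
  have h3 := mul_right_cancel₀ hq0.ne' h2
  exact_mod_cast h3

theorem D2 (P : Subgroup G) (ctx : Ctx P) {ξ : G → ℂ} (hξ : IsIrrCharacter G ξ)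
    (hq : (deg ξ) ^ 2 + 1 < Nat.card P) {η₀ : AA P → ℂ} (hη₀ : IsIrrCharacter (AA P) η₀)
    (hnc : ¬ ConstOn ((KK P).subgroupOf (AA P)) η₀) (hres : rs P ξ = indFun (AA P) η₀) :
    deg η₀ = 1 := by
  have hcpos := (deg_spec hη₀).2
  have he := index_pos P
  have hf := deg_xi P hξ hη₀ hres
  have hw := psi_kA_sum P ctx hξ hη₀ hnc hres
  have hS1 := psi_degree hξ
  have hs1 := (Finset.add_sum_erase Finset.univ
    (fun θ : IrrCharacter G => mult (psi ξ) (θ : G → ℂ) * deg (θ : G → ℂ))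
    (Finset.mem_univ (triv G))).symm
  have hs2 := (Finset.add_sum_erase Finset.univ
    (fun θ : IrrCharacter G => mult (psi ξ) (θ : G → ℂ) * kA (KK P) (rs P (θ : G → ℂ)))
    (Finset.mem_univ (triv G))).symm
  simp only [psi_mult_triv hξ, deg_triv, kA_triv, mul_one] at hs1 hs2
  rw [hS1] at hs1
  rw [hw] at hs2
  have hterm : ∀ θ ∈ Finset.univ.erase (triv G),
      deg ξ * (mult (psi ξ) (θ : G → ℂ) * kA (KK P) (rs P (θ : G → ℂ))) ≤
        mult (psi ξ) (θ : G → ℂ) * deg (θ : G → ℂ) := by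
    intro θ hθ
    have hne := Finset.ne_of_mem_erase hθ
    have h1 := claim_one_nat P ctx θ hne
    have h2 : deg ξ * kA (KK P) (rs P (θ : G → ℂ)) ≤ deg (θ : G → ℂ) := by
      have h3 : (deg ξ * kA (KK P) (rs P (θ : G → ℂ))) ^ 2 < (deg (θ : G → ℂ)) ^ 2 := by
        calc (deg ξ * kA (KK P) (rs P (θ : G → ℂ))) ^ 2
            = (deg ξ) ^ 2 * (kA (KK P) (rs P (θ : G → ℂ))) ^ 2 := by ring
          _ ≤ Nat.card P * (kA (KK P) (rs P (θ : G → ℂ))) ^ 2 :=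
              Nat.mul_le_mul_right _ (by omega)
          _ < (deg (θ : G → ℂ)) ^ 2 := h1
      exact (lt_of_pow_lt_pow_left₀ 2 (Nat.zero_le _) h3).le
    calc deg ξ * (mult (psi ξ) (θ : G → ℂ) * kA (KK P) (rs P (θ : G → ℂ)))
        = mult (psi ξ) (θ : G → ℂ) * (deg ξ * kA (KK P) (rs P (θ : G → ℂ))) := by ring
      _ ≤ mult (psi ξ) (θ : G → ℂ) * deg (θ : G → ℂ) := Nat.mul_le_mul_left _ h2
  have hle := Finset.sum_le_sum hterm
  rw [← Finset.mul_sum] at hle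
  set S1 := ∑ θ ∈ Finset.univ.erase (triv G),
    mult (psi ξ) (θ : G → ℂ) * deg (θ : G → ℂ)
  set S2 := ∑ θ ∈ Finset.univ.erase (triv G),
    mult (psi ξ) (θ : G → ℂ) * kA (KK P) (rs P (θ : G → ℂ))
  by_contra hc1
  have hc2 : 2 ≤ deg η₀ := by omega
  rw [hf] at hs1 hle
  set t := (AA P).index * deg η₀ with ht
  have h1 : t * ((AA P).index * (deg η₀) ^ 2) = t + t * S2 := by
    rw [hs2]
    ring
  have h2 : t * ((AA P).index * (deg η₀) ^ 2) = t * t * deg η₀ := by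
    rw [ht]
    ring
  have h4 : t * t * 2 ≤ t * t * deg η₀ := Nat.mul_le_mul_left _ hc2
  have h5 : t ≤ t * t := Nat.le_mul_self t
  nlinarith

theorem rs_psi_inner (P : Subgroup G) {ξ : G → ℂ} (hξ : IsCharacter G ξ)
    (μ : IrrCharacter (NN P)) :
    classInner (rs P (psi ξ)) (μ : NN P → ℂ) =
      ((∑ θ : IrrCharacter G,
        mult (psi ξ) (θ : G → ℂ) * mult (rs P (θ : G → ℂ)) (μ : NN P → ℂ) : ℕ) : ℂ) := by
  have hψ := psi_char hξ
  have hfun : rs P (psi ξ) =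
      ∑ θ : IrrCharacter G, (mult (psi ξ) (θ : G → ℂ) : ℂ) • rs P (θ : G → ℂ) := by
    funext n
    show psi ξ (n : G) = _
    rw [expand_char hψ (n : G)]
    simp only [Finset.sum_apply, Pi.smul_apply, smul_eq_mul]
    rfl
  rw [hfun, classInner_sum_left]
  push_cast
  refine Finset.sum_congr rfl fun θ _ => ?_
  rw [classInner_smul_left, mult_spec (rs_char P (isCharacter_of_isIrrCharacter θ.2))
    (isCharacter_of_isIrrCharacter μ.2)]

theorem T1 (P : Subgroup G) (ctx : Ctx P) {ξ : G → ℂ} (hξ : IsIrrCharacter G ξ)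
    {η₀ : AA P → ℂ} (hη₀ : IsIrrCharacter (AA P) η₀) (hη₀1 : η₀ 1 = 1)
    (hres : rs P ξ = indFun (AA P) η₀) (θ : IrrCharacter G)
    (hcθ : mult (psi ξ) (θ : G → ℂ) ≠ 0) (μ : IrrCharacter (NN P))
    (hμ : ¬ ConstOn (KK P) (μ : NN P → ℂ))
    (hm : mult (rs P (θ : G → ℂ)) (μ : NN P → ℂ) ≠ 0) :
    deg (μ : NN P → ℂ) = (AA P).index := by
  have h1 := rs_psi_inner P (isCharacter_of_isIrrCharacter hξ) μ
  have hpos : 0 < ∑ θ : IrrCharacter G,
      mult (psi ξ) (θ : G → ℂ) * mult (rs P (θ : G → ℂ)) (μ : NN P → ℂ) := by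
    apply Nat.pos_of_ne_zero
    intro h0
    have h2 := (Finset.sum_eq_zero_iff.mp h0) θ (Finset.mem_univ θ)
    rcases Nat.mul_eq_zero.mp h2 with h | h
    · exact hcθ h
    · exact hm h
  have hne : classInner (fun n => indFun (AA P) η₀ n * conj (indFun (AA P) η₀ n))
      (μ : NN P → ℂ) ≠ 0 := by
    have e1 : (fun n => indFun (AA P) η₀ n * conj (indFun (AA P) η₀ n)) = rs P (psi ξ) := by
      rw [← hres]
      rfl
    rw [e1, h1]
    exact Nat.cast_ne_zero.2 hpos.ne'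
  have h2 := typeB_const_degree (freeCentral P ctx) hη₀ hη₀1 μ.2 hμ hne
  have h3 := (deg_spec μ.2).1
  rw [h2] at h3
  exact_mod_cast h3.symm

theorem T2 (P : Subgroup G) (e : ℕ) {θ : G → ℂ} (hθ : IsCharacter G θ)
    (hT1 : ∀ μ : IrrCharacter (NN P), ¬ ConstOn (KK P) (μ : NN P → ℂ) →
      mult (rs P θ) (μ : NN P → ℂ) ≠ 0 → deg (μ : NN P → ℂ) = e) :
    deg θ = kA (KK P) (rs P θ) + e * bB (KK P) (rs P θ) := by
  obtain ⟨-, -, -, -, h5⟩ := split_mult (KK P) (rs_char P hθ)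
  have h0 : deg (rs P θ) = deg θ := rfl
  rw [h0] at h5
  rw [h5]
  congr 1
  unfold bB
  rw [Finset.mul_sum]
  refine Finset.sum_congr rfl fun μ _ => ?_
  split_ifs with hc
  · simp
  · by_cases hm : mult (rs P θ) (μ : NN P → ℂ) = 0
    · rw [hm]
      simp
    · rw [hT1 μ hc hm]
      ring

theorem D3a (P : Subgroup G) (ctx : Ctx P) {ξ : G → ℂ} (hξ : IsIrrCharacter G ξ)
    (hdeg : deg ξ = (AA P).index) (hq : (AA P).index ^ 2 + 1 < Nat.card P)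
    {η₀ : AA P → ℂ} (hη₀ : IsIrrCharacter (AA P) η₀) (hη₀1 : η₀ 1 = 1)
    (hres : rs P ξ = indFun (AA P) η₀) (θ : IrrCharacter G) (hθ : θ ≠ triv G)
    (hcθ : mult (psi ξ) (θ : G → ℂ) ≠ 0) :
    kA (KK P) (rs P (θ : G → ℂ)) ≤ bB (KK P) (rs P (θ : G → ℂ)) ∧
    deg (θ : G → ℂ) = kA (KK P) (rs P (θ : G → ℂ)) +
      (AA P).index * bB (KK P) (rs P (θ : G → ℂ)) ∧
    deg (θ : G → ℂ) + 1 ≤ (AA P).index ^ 2 := by
  have hT2 := T2 P (AA P).index (isCharacter_of_isIrrCharacter θ.2)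
    (fun μ hμ hm => T1 P ctx hξ hη₀ hη₀1 hres θ hcθ μ hμ hm)
  have hS1 := psi_degree hξ
  have hs1 := (Finset.add_sum_erase Finset.univ
    (fun θ : IrrCharacter G => mult (psi ξ) (θ : G → ℂ) * deg (θ : G → ℂ))
    (Finset.mem_univ (triv G))).symm
  simp only [psi_mult_triv hξ, deg_triv, mul_one] at hs1
  rw [hS1, hdeg] at hs1
  have hmem : θ ∈ Finset.univ.erase (triv G) := Finset.mem_erase.mpr ⟨hθ, Finset.mem_univ _⟩
  have h2 := Finset.single_le_sum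
    (f := fun θ : IrrCharacter G => mult (psi ξ) (θ : G → ℂ) * deg (θ : G → ℂ))
    (fun _ _ => Nat.zero_le _) hmem
  have h3 : deg (θ : G → ℂ) ≤ mult (psi ξ) (θ : G → ℂ) * deg (θ : G → ℂ) :=
    Nat.le_mul_of_pos_left _ (Nat.pos_of_ne_zero hcθ)
  have hd1 : deg (θ : G → ℂ) + 1 ≤ (AA P).index ^ 2 := by
    omega
  refine ⟨?_, hT2, hd1⟩
  have h1 := claim_one_nat P ctx θ hθ
  rw [hT2] at h1
  apply arith_A1 h1 (by omega)
  rw [← hT2]
  exact hd1

end An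

end Cfsg.Agent.Lib.Helper26.BL
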