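import Mathlib
import Cfsg.Prelude.Def_Characters
import Cfsg.Agent.Lib.Helper26.BLC2

set_option autoImplicit false

/-!
# Brauer–Leonard: the structure of the centralizer (helper26)
-/

namespace Cfsg.Agent.Lib.Helper26.BL

open Cfsg Cfsg.Agent.Lib.Helper26.FTLemma
open scoped ComplexConjugate Classical

attribute [local instance] irrFintype

section An
variable {G : Type*} [Group G] [Fintype G]

theorem sums_erase (P : Subgroup G) (ctx : Ctx P) {ξ : G → ℂ} (hξ : IsIrrCharacter G ξ)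
    (hdeg : deg ξ = (AA P).index) {η₀ : AA P → ℂ} (hη₀ : IsIrrCharacter (AA P) η₀)
    (hη₀1 : η₀ 1 = 1) (hnc : ¬ ConstOn ((KK P).subgroupOf (AA P)) η₀)
    (hres : rs P ξ = indFun (AA P) η₀) :
    (AA P).index ^ 2 = 1 + ∑ θ ∈ Finset.univ.erase (triv G),
      mult (psi ξ) (θ : G → ℂ) * deg (θ : G → ℂ) ∧
    (AA P).index = 1 + ∑ θ ∈ Finset.univ.erase (triv G),
      mult (psi ξ) (θ : G → ℂ) * kA (KK P) (rs P (θ : G → ℂ)) := by
  have hdη : deg η₀ = 1 := by
    have h := (deg_spec hη₀).1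
    rw [hη₀1] at h
    exact_mod_cast h.symm
  have hw := psi_kA_sum P ctx hξ hη₀ hnc hres
  rw [hdη, one_pow, mul_one] at hw
  have hS1 := psi_degree hξ
  rw [hdeg] at hS1
  have hs1 := (Finset.add_sum_erase Finset.univ
    (fun θ : IrrCharacter G => mult (psi ξ) (θ : G → ℂ) * deg (θ : G → ℂ))
    (Finset.mem_univ (triv G))).symm
  have hs2 := (Finset.add_sum_erase Finset.univ
    (fun θ : IrrCharacter G => mult (psi ξ) (θ : G → ℂ) * kA (KK P) (rs P (θ : G → ℂ)))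
    (Finset.mem_univ (triv G))).symm
  simp only [psi_mult_triv hξ, deg_triv, kA_triv, mul_one] at hs1 hs2
  rw [hS1] at hs1
  rw [hw] at hs2
  exact ⟨hs1, hs2⟩

theorem D3b (P : Subgroup G) (ctx : Ctx P) {ξ : G → ℂ} (hξ : IsIrrCharacter G ξ)
    (hdeg : deg ξ = (AA P).index) (hq : (AA P).index ^ 2 + 1 < Nat.card P)
    {η₀ : AA P → ℂ} (hη₀ : IsIrrCharacter (AA P) η₀) (hη₀1 : η₀ 1 = 1)
    (hnc : ¬ ConstOn ((KK P).subgroupOf (AA P)) η₀) (hres : rs P ξ = indFun (AA P) η₀) :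
    ∀ θ : IrrCharacter G, θ ≠ triv G → mult (psi ξ) (θ : G → ℂ) ≠ 0 →
      bB (KK P) (rs P (θ : G → ℂ)) = kA (KK P) (rs P (θ : G → ℂ)) := by
  have he := index_pos P
  obtain ⟨hs1, hs2⟩ := sums_erase P ctx hξ hdeg hη₀ hη₀1 hnc hres
  have hterm : ∀ θ ∈ Finset.univ.erase (triv G),
      mult (psi ξ) (θ : G → ℂ) * (((AA P).index + 1) * kA (KK P) (rs P (θ : G → ℂ))) ≤
        mult (psi ξ) (θ : G → ℂ) * deg (θ : G → ℂ) := by
    intro θ hθ
    have hne := Finset.ne_of_mem_erase hθ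
    by_cases hc : mult (psi ξ) (θ : G → ℂ) = 0
    · rw [hc]
      simp
    · obtain ⟨h1, h2, -⟩ := D3a P ctx hξ hdeg hq hη₀ hη₀1 hres θ hne hc
      apply Nat.mul_le_mul_left
      rw [h2]
      have h3 := Nat.mul_le_mul_left (AA P).index h1
      nlinarith
  have hsum : ∑ θ ∈ Finset.univ.erase (triv G),
      mult (psi ξ) (θ : G → ℂ) * (((AA P).index + 1) * kA (KK P) (rs P (θ : G → ℂ))) =
      ∑ θ ∈ Finset.univ.erase (triv G), mult (psi ξ) (θ : G → ℂ) * deg (θ : G → ℂ) := by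
    have h1 : ∑ θ ∈ Finset.univ.erase (triv G),
        mult (psi ξ) (θ : G → ℂ) * (((AA P).index + 1) * kA (KK P) (rs P (θ : G → ℂ))) =
        ((AA P).index + 1) * ∑ θ ∈ Finset.univ.erase (triv G),
          mult (psi ξ) (θ : G → ℂ) * kA (KK P) (rs P (θ : G → ℂ)) := by
      rw [Finset.mul_sum]
      refine Finset.sum_congr rfl fun θ _ => ?_
      ring
    rw [h1]
    generalize (∑ θ ∈ Finset.univ.erase (triv G),
      mult (psi ξ) (θ : G → ℂ) * kA (KK P) (rs P (θ : G → ℂ))) = S2 at *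
    generalize (∑ θ ∈ Finset.univ.erase (triv G),
      mult (psi ξ) (θ : G → ℂ) * deg (θ : G → ℂ)) = S1 at *
    generalize (AA P).index = e at *
    subst hs2
    nlinarith
  have hall := (Finset.sum_eq_sum_iff_of_le hterm).mp hsum
  intro θ hθ hc
  have h1 := hall θ (Finset.mem_erase.mpr ⟨hθ, Finset.mem_univ _⟩)
  have h2 := Nat.eq_of_mul_eq_mul_left (Nat.pos_of_ne_zero hc) h1
  obtain ⟨-, h3, -⟩ := D3a P ctx hξ hdeg hq hη₀ hη₀1 hres θ hθ hc
  rw [h3] at h2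
  have h4 : (AA P).index * kA (KK P) (rs P (θ : G → ℂ)) =
      (AA P).index * bB (KK P) (rs P (θ : G → ℂ)) := by linarith
  exact (Nat.eq_of_mul_eq_mul_left he h4).symm

theorem D4 (P : Subgroup G) (ctx : Ctx P) {θ : G → ℂ} (hθ : IsIrrCharacter G θ)
    (he2 : 2 ≤ (AA P).index) (hq : (AA P).index ^ 2 + 1 < Nat.card P)
    (hbk : bB (KK P) (rs P θ) = kA (KK P) (rs P θ))
    (hdeg' : deg θ = kA (KK P) (rs P θ) + (AA P).index * bB (KK P) (rs P θ))
    (hd1 : deg θ + 1 ≤ (AA P).index ^ 2) :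
    kA (KK P) (rs P θ) = 1 ∧ mB (KK P) (rs P θ) = 1 := by
  have hR1 := ineq_R1 P ctx hθ
  have hR2 := ineq_R2 P ctx hθ
  rw [kA_spec P (isCharacter_of_isIrrCharacter hθ), Complex.normSq_natCast] at hR2
  rw [(deg_spec hθ).1, Complex.normSq_natCast] at hR1
  have hN := card_NN P
  have hC := card_CC_ge P ctx
  have hMb := bB_le_mB (KK P) (rs P θ)
  rw [hbk] at hMb hdeg'
  have hdpos := (deg_spec hθ).2
  have hNr : (Nat.card (NN P) : ℝ) = (Nat.card (CC P) : ℝ) * ((AA P).index : ℝ) := by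
    exact_mod_cast hN
  have hCr : (Nat.card P : ℝ) * (Nat.card (Subgroup.center G) : ℝ) ≤ (Nat.card (CC P) : ℝ) := by
    exact_mod_cast hC
  have hqr : (((AA P).index : ℝ)) ^ 2 + 2 ≤ (Nat.card P : ℝ) := by
    have : (AA P).index ^ 2 + 2 ≤ Nat.card P := by omega
    exact_mod_cast this
  have hnZ : (0 : ℝ) < (Nat.card (Subgroup.center G) : ℝ) := Nat.cast_pos.mpr Nat.card_pos
  generalize kA (KK P) (rs P θ) = b at *
  generalize mB (KK P) (rs P θ) = M at *
  generalize (AA P).index = e at *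
  generalize deg θ = d at *
  subst hdeg'
  have hb1 : 1 ≤ b := by
    rcases Nat.eq_zero_or_pos b with h | h
    · subst h
      simp at hdpos
    · exact h
  have hbe : b + 1 ≤ e := by
    by_contra h
    push Not at h
    have h' : e ≤ b := by omega
    have h2 : e * e ≤ e * b := Nat.mul_le_mul_left e h'
    nlinarith
  have her0 : (0 : ℝ) ≤ (e : ℝ) := Nat.cast_nonneg _
  apply arith_A2 (nN := (Nat.card (NN P) : ℝ)) (nZ := (Nat.card (Subgroup.center G) : ℝ))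
    (q := (Nat.card P : ℝ)) ?_ ?_ hnZ hqr he2 hb1 hbe hMb
  · have e1 : ((b : ℝ) * ((e : ℝ) + 1)) ^ 2 = ((b : ℝ) + e * b) * ((b : ℝ) + e * b) := by ring
    rw [e1]
    push_cast at hR1
    nlinarith
  · rw [hNr]
    nlinarith [mul_le_mul_of_nonneg_right hCr her0]

theorem exists_theta (P : Subgroup G) (ctx : Ctx P) {ξ : G → ℂ} (hξ : IsIrrCharacter G ξ)
    (hdeg : deg ξ = (AA P).index) (he2 : 2 ≤ (AA P).index)
    {η₀ : AA P → ℂ} (hη₀ : IsIrrCharacter (AA P) η₀) (hη₀1 : η₀ 1 = 1)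
    (hnc : ¬ ConstOn ((KK P).subgroupOf (AA P)) η₀) (hres : rs P ξ = indFun (AA P) η₀) :
    ∃ θ : IrrCharacter G, θ ≠ triv G ∧ mult (psi ξ) (θ : G → ℂ) ≠ 0 := by
  obtain ⟨-, hs2⟩ := sums_erase P ctx hξ hdeg hη₀ hη₀1 hnc hres
  by_contra hcon
  push Not at hcon
  have h0 : ∑ θ ∈ Finset.univ.erase (triv G),
      mult (psi ξ) (θ : G → ℂ) * kA (KK P) (rs P (θ : G → ℂ)) = 0 := by
    apply Finset.sum_eq_zero
    intro θ hθ
    rw [hcon θ (Finset.ne_of_mem_erase hθ)]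
    simp
  omega

theorem D6 (P : Subgroup G) (ctx : Ctx P) {θ : G → ℂ} (hθ : IsIrrCharacter G θ)
    (hk : kA (KK P) (rs P θ) = 1) (hM : mB (KK P) (rs P θ) = 1) :
    (Nat.card (CC P) : ℝ) ≤ (Nat.card (Subgroup.center G) : ℝ) * Complex.normSq (θ 1) := by
  have hchar := rs_char P (isCharacter_of_isIrrCharacter hθ)
  obtain ⟨-, havg, -, -, -⟩ := split_mult (KK P) hchar
  unfold kA at hk
  obtain ⟨α, hα1, hαothers⟩ := exists_unique_of_sum_eq_one _ hk
  have hαc : ConstOn (KK P) (α : NN P → ℂ) := by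
    by_contra hc
    rw [if_neg hc] at hα1
    exact zero_ne_one hα1
  rw [if_pos hαc] at hα1
  have hαm : mult (rs P θ) (α : NN P → ℂ) = 1 := Nat.eq_one_of_mul_eq_one_right hα1
  have hαd : deg (α : NN P → ℂ) = 1 := Nat.eq_one_of_mul_eq_one_left hα1
  have hα1' : (α : NN P → ℂ) 1 = 1 := by
    rw [(deg_spec α.2).1, hαd]
    simp
  have havg' : ∀ n : NN P, avgH (KK P) (rs P θ) n = (α : NN P → ℂ) n := by
    intro n
    rw [havg n, Finset.sum_eq_single α]
    · rw [if_pos hαc, hαm]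
      simp
    · intro μ _ hμ
      split_ifs with hc
      · have h1 := hαothers μ hμ
        rw [if_pos hc] at h1
        rcases Nat.mul_eq_zero.mp h1 with h | h
        · rw [h]
          simp
        · exact absurd h (deg_spec μ.2).2.ne'
      · rfl
    · intro h
      exact absurd (Finset.mem_univ _) h
  have hABC : ABC P θ = (Nat.card (CC P) : ℝ) := by
    unfold ABC
    have h1 : ∀ g : G, (if g ∈ CC P then Complex.normSq (avgH P θ g) else 0) =
        if g ∈ CC P then (1 : ℝ) else 0 := by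
      intro g
      split_ifs with hg
      · have hgN : g ∈ NN P := CC_le_NN P hg
        have h2 := avgH_coe P θ ⟨g, hgN⟩
        have h3 : avgH P θ g = avgH (KK P) (rs P θ) ⟨g, hgN⟩ := h2
        rw [h3, havg']
        exact normSq_eq_one_of_degree_one (isCharacter_of_isIrrCharacter α.2) hα1' _
      · rfl
    simp_rw [h1]
    rw [sum_indicator_const, nsmul_eq_mul, mul_one]
  have hR1 := ineq_R1 P ctx hθ
  rw [hM, hABC] at hR1
  push_cast at hR1
  linarith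

theorem CC_eq_PZ (P : Subgroup G) (ctx : Ctx P)
    (hcard : Nat.card (CC P) < 2 * (Nat.card P * Nat.card (Subgroup.center G))) :
    Nat.card (CC P) = Nat.card P * Nat.card (Subgroup.center G) ∧
    ∀ c ∈ CC P, ∃ x ∈ P, ∃ z ∈ Subgroup.center G, c = x * z := by
  let φ : P × Subgroup.center G →* G :=
    MonoidHom.noncommCoprod P.subtype (Subgroup.center G).subtype
      (fun m n => Subgroup.mem_center_iff.mp n.2 m)
  have hφ : ∀ p : P × Subgroup.center G, φ p = (p.1 : G) * (p.2 : G) := fun p => rfl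
  have hinj : Function.Injective φ := by
    rintro ⟨h, z⟩ ⟨h', z'⟩ heq
    have heq' : (h : G) * (z : G) = (h' : G) * (z' : G) := heq
    have h1 : (h' : G)⁻¹ * h = (z' : G) * (z : G)⁻¹ := by
      calc (h' : G)⁻¹ * h = (h' : G)⁻¹ * ((h : G) * z) * (z : G)⁻¹ := by group
        _ = (h' : G)⁻¹ * ((h' : G) * z') * (z : G)⁻¹ := by rw [heq']
        _ = (z' : G) * (z : G)⁻¹ := by group
    have h2 : (h' : G)⁻¹ * h ∈ P ⊓ Subgroup.center G := by
      refine Subgroup.mem_inf.mpr ⟨P.mul_mem (P.inv_mem h'.2) h.2, ?_⟩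
      rw [h1]
      exact (Subgroup.center G).mul_mem z'.2 ((Subgroup.center G).inv_mem z.2)
    rw [ctx.hZ, Subgroup.mem_bot] at h2
    have h3 : (h : G) = h' := by
      have : (h : G) = (h' : G) * ((h' : G)⁻¹ * h) := by group
      rw [this, h2, mul_one]
    have h4 : (z : G) = z' := by
      rw [h3] at heq'
      exact mul_left_cancel heq'
    exact Prod.ext (Subtype.ext h3) (Subtype.ext h4)
  have hle : φ.range ≤ CC P := by
    rintro _ ⟨⟨x, z⟩, rfl⟩
    rw [hφ, Subgroup.mem_centralizer_iff]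
    intro y hy
    have hz := Subgroup.mem_center_iff.mp z.2
    show y * ((x : G) * (z : G)) = (x : G) * (z : G) * y
    calc y * ((x : G) * (z : G)) = (y * x) * z := by group
      _ = ((x : G) * y) * z := by rw [ctx.hab y hy x x.2]
      _ = (x : G) * (y * z) := by group
      _ = (x : G) * ((z : G) * y) := by rw [hz y]
      _ = (x : G) * (z : G) * y := by group
  have hcr : Nat.card φ.range = Nat.card P * Nat.card (Subgroup.center G) := by
    rw [← Nat.card_prod]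
    exact (Nat.card_congr (MonoidHom.ofInjective hinj).toEquiv).symm
  have hdvd := Subgroup.card_dvd_of_le hle
  obtain ⟨j, hj⟩ := hdvd
  have hpos : 0 < Nat.card (CC P) := Nat.card_pos
  have hj1 : j = 1 := by
    rw [hcr] at hj
    rcases j with _ | _ | j
    · simp at hj
    · rfl
    · exfalso
      nlinarith
  rw [hj1, mul_one] at hj
  have heq := Subgroup.eq_of_le_of_card_ge hle (by rw [hj])
  refine ⟨by rw [hj, hcr], ?_⟩
  intro c hc
  rw [← heq] at hc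
  obtain ⟨⟨x, z⟩, rfl⟩ := hc
  exact ⟨x, x.2, z, z.2, hφ _⟩

theorem analysis (P : Subgroup G) (ctx : Ctx P) {ξ : G → ℂ} (hξ : IsIrrCharacter G ξ)
    (hξ1 : ξ 1 ≠ 1) (hq : (deg ξ) ^ 2 + 1 < Nat.card P) :
    deg ξ = (AA P).index ∧ 2 ≤ (AA P).index ∧
    (∃ μ₀ : IrrCharacter (NN P), ¬ ConstOn (KK P) (μ₀ : NN P → ℂ) ∧
      rs P ξ = (μ₀ : NN P → ℂ)) ∧
    Nat.card (CC P) = Nat.card P * Nat.card (Subgroup.center G) ∧
    (∀ c ∈ CC P, ∃ x ∈ P, ∃ z ∈ Subgroup.center G, c = x * z) ∧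
    ∃ θ₁ : IrrCharacter G, deg (θ₁ : G → ℂ) = (AA P).index + 1 ∧
      mult (psi ξ) (θ₁ : G → ℂ) ≠ 0 ∧ kA (KK P) (rs P (θ₁ : G → ℂ)) = 1 ∧
      mB (KK P) (rs P (θ₁ : G → ℂ)) = 1 := by
  obtain ⟨μ₀, hμ₀nc, hμ₀⟩ := D1 P ctx hξ hξ1 hq
  obtain ⟨η₀, hη₀, hnc, hind⟩ := typeB_eq_ind (freeCentral P ctx) μ₀.2 hμ₀nc
  have hres : rs P ξ = indFun (AA P) η₀ := hμ₀.trans hind
  have hc := D2 P ctx hξ hq hη₀ hnc hres
  have hη₀1 : η₀ 1 = 1 := by
    rw [(deg_spec hη₀).1, hc]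
    simp
  have hdeg : deg ξ = (AA P).index := by rw [deg_xi P hξ hη₀ hres, hc, mul_one]
  have he2 : 2 ≤ (AA P).index := by
    rw [← hdeg]
    have h1 := (deg_spec hξ).2
    have h2 : deg ξ ≠ 1 := by
      intro h
      apply hξ1
      rw [(deg_spec hξ).1, h]
      simp
    omega
  rw [hdeg] at hq
  obtain ⟨θ₁, hθ₁, hcθ⟩ := exists_theta P ctx hξ hdeg he2 hη₀ hη₀1 hnc hres
  have hbk := D3b P ctx hξ hdeg hq hη₀ hη₀1 hnc hres θ₁ hθ₁ hcθ
  obtain ⟨-, hd, hd1⟩ := D3a P ctx hξ hdeg hq hη₀ hη₀1 hres θ₁ hθ₁ hcθ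
  obtain ⟨hk1, hM1⟩ := D4 P ctx θ₁.2 he2 hq hbk hd hd1
  have hdθ : deg (θ₁ : G → ℂ) = (AA P).index + 1 := by
    rw [hd, hbk, hk1]
    ring
  have h6 := D6 P ctx θ₁.2 hk1 hM1
  rw [(deg_spec θ₁.2).1, hdθ, Complex.normSq_natCast] at h6
  have hcardlt : Nat.card (CC P) < 2 * (Nat.card P * Nat.card (Subgroup.center G)) := by
    have h7 : Nat.card (CC P) ≤
        Nat.card (Subgroup.center G) * (((AA P).index + 1) * ((AA P).index + 1)) := by
      exact_mod_cast h6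
    have hnZ : 0 < Nat.card (Subgroup.center G) := Nat.card_pos
    have h8 : ((AA P).index + 1) * ((AA P).index + 1) < 2 * Nat.card P := by nlinarith
    calc Nat.card (CC P)
        ≤ Nat.card (Subgroup.center G) * (((AA P).index + 1) * ((AA P).index + 1)) := h7
      _ < Nat.card (Subgroup.center G) * (2 * Nat.card P) :=
          Nat.mul_lt_mul_of_pos_left h8 hnZ
      _ = 2 * (Nat.card P * Nat.card (Subgroup.center G)) := by ring
  obtain ⟨hcard, hPZ⟩ := CC_eq_PZ P ctx hcardlt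
  exact ⟨hdeg, he2, ⟨μ₀, hμ₀nc, hμ₀⟩, hcard, hPZ, θ₁, hdθ, hcθ, hk1, hM1⟩

end An

end Cfsg.Agent.Lib.Helper26.BL
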