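import Mathlib
import Cfsg.Prelude.Def_Characters
import Cfsg.Agent.Lib.Helper26.BLB

set_option autoImplicit false

/-!
# Brauer–Leonard: counting characters with a given central character (helper26)
-/

namespace Cfsg.Agent.Lib.Helper26.BL

open Cfsg Cfsg.Agent.Lib.Helper26.FTLemma
open scoped ComplexConjugate Classical

attribute [local instance] irrFintype

section Count
variable {L : Type*} [Group L] [Fintype L]

theorem central_char_eq {z : L} (hz : z ∈ Subgroup.center L) {Φ τ : L → ℂ} {c : ℂ}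
    (hΦ : ∀ g, Φ (z * g) = c * Φ g) (hτ : IsIrrCharacter L τ) (hne : classInner Φ τ ≠ 0) :
    ∀ g, τ (z * g) = c * τ g := by
  obtain ⟨hns, hmul⟩ := center_mul hτ z hz
  have h1 : classInner Φ τ = c * conj (τ z / τ 1) * classInner Φ τ := by
    unfold classInner
    have hre := Equiv.sum_comp (Equiv.mulLeft z) (fun g => Φ g * conj (τ g))
    have h2 : ∑ g : L, Φ g * conj (τ g) =
        c * conj (τ z / τ 1) * ∑ g : L, Φ g * conj (τ g) := by
      conv_lhs => rw [← hre]
      rw [Finset.mul_sum]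
      refine Finset.sum_congr rfl fun g _ => ?_
      simp only [Equiv.coe_mulLeft]
      rw [hΦ, hmul, map_mul]
      ring
    conv_lhs => rw [h2]
    ring
  have h2 : (1 - c * conj (τ z / τ 1)) * classInner Φ τ = 0 := by linear_combination h1
  have h3 : c * conj (τ z / τ 1) = 1 := by
    rcases mul_eq_zero.1 h2 with h | h
    · exact (sub_eq_zero.1 h).symm
    · exact absurd h hne
  have h4 : (τ z / τ 1) * conj (τ z / τ 1) = 1 := by
    rw [Complex.mul_conj, hns]
    simp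
  have h5 : c = τ z / τ 1 := by
    have hcne : conj (τ z / τ 1) ≠ 0 := by
      intro h0
      rw [h0, mul_zero] at h4
      exact zero_ne_one h4
    exact mul_right_cancel₀ hcne (h3.trans h4.symm)
  intro g
  rw [h5]
  exact hmul g

theorem col_orth_one (g : L) :
    ∑ τ : IrrCharacter L, (τ : L → ℂ) g * conj ((τ : L → ℂ) 1) =
      if g = 1 then (Nat.card L : ℂ) else 0 := by
  rw [Cfsg.Agent.Lib.Helper4.column_orthogonality g 1]
  by_cases hg : g = 1
  · subst hg
    rw [if_pos (IsConj.refl 1), if_pos rfl]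
    congr 1
    have h1 : Subgroup.centralizer ({1} : Set L) = ⊤ := by
      ext x
      simp [Subgroup.mem_centralizer_iff]
    rw [h1, Subgroup.card_top]
  · rw [if_neg hg, if_neg]
    intro h
    exact hg (isConj_one_left.mp h)

/-- the same central character on `Zs` -/
def SameZ (Zs : Subgroup L) (σ τ : L → ℂ) : Prop := ∀ z ∈ Zs, τ z * σ 1 = σ z * τ 1

theorem count_H (H Zs : Subgroup L) [hH : H.Normal]
    (hZc : ∀ z ∈ Zs, z ∈ Subgroup.center L) (hHZ : ∀ k ∈ H, k ∈ Zs → k = 1)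
    {σ : L → ℂ} (hσ : IsIrrCharacter L σ) :
    (Nat.card Zs : ℂ) * (Nat.card H : ℂ) *
      ∑ τ : IrrCharacter L, (if ConstOn H (τ : L → ℂ) ∧ SameZ Zs σ (τ : L → ℂ) then
        (τ : L → ℂ) 1 * conj ((τ : L → ℂ) 1) else 0) = (Nat.card L : ℂ) := by
  haveI : Fintype Zs := Fintype.ofFinite _
  have hne1 : ∀ {τ : L → ℂ}, IsIrrCharacter L τ → τ 1 ≠ 0 := by
    intro τ hτ
    obtain ⟨d, hd, h⟩ := irr_degree hτ
    rw [h]
    exact Nat.cast_ne_zero.2 hd.ne'
  have hσ1 := hne1 hσ
  have hHne : (Nat.card H : ℂ) ≠ 0 := Nat.cast_ne_zero.2 Nat.card_pos.ne'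
  let f : (L → ℂ) → Zs → ℂ := fun τ z => τ (z : L) / τ 1
  have hfmul : ∀ {τ : L → ℂ}, IsIrrCharacter L τ → ∀ x y : Zs, f τ (x * y) = f τ x * f τ y := by
    intro τ hτ x y
    obtain ⟨-, hmul⟩ := center_mul hτ (x : L) (hZc x x.2)
    show τ ((x * y : Zs) : L) / τ 1 = (τ (x : L) / τ 1) * (τ (y : L) / τ 1)
    rw [Subgroup.coe_mul, hmul]
    ring
  have hfns : ∀ {τ : L → ℂ}, IsIrrCharacter L τ → ∀ x : Zs, Complex.normSq (f τ x) = 1 :=
    fun hτ x => (center_mul hτ (x : L) (hZc x x.2)).1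
  have hfeq : ∀ τ : IrrCharacter L, f (τ : L → ℂ) = f σ ↔ SameZ Zs σ (τ : L → ℂ) := by
    intro τ
    have hτ1 := hne1 τ.2
    constructor
    · intro h z hz
      have h1 := congrFun h ⟨z, hz⟩
      exact (div_eq_div_iff hτ1 hσ1).mp h1
    · intro h
      funext z
      exact (div_eq_div_iff hτ1 hσ1).mpr (h z z.2)
  have horth : ∀ τ : IrrCharacter L, ∑ z : Zs, (τ : L → ℂ) (z : L) * conj (f σ z) =
      if SameZ Zs σ (τ : L → ℂ) then (Nat.card Zs : ℂ) * (τ : L → ℂ) 1 else 0 := by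
    intro τ
    have hτ1 := hne1 τ.2
    have h1 : ∀ z : Zs, (τ : L → ℂ) (z : L) * conj (f σ z) =
        (τ : L → ℂ) 1 * (f (τ : L → ℂ) z * conj (f σ z)) := by
      intro z
      show _ = (τ : L → ℂ) 1 * ((τ : L → ℂ) (z : L) / (τ : L → ℂ) 1 * conj (f σ z))
      field_simp
    simp_rw [h1]
    rw [← Finset.mul_sum, mult_orth (f (τ : L → ℂ)) (f σ) (hfmul τ.2) (hfmul hσ)
      (hfns τ.2) (hfns hσ)]
    by_cases hs : SameZ Zs σ (τ : L → ℂ)
    · rw [if_pos ((hfeq τ).mpr hs), if_pos hs]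
      ring
    · rw [if_neg (fun h => hs ((hfeq τ).mp h)), if_neg hs, mul_zero]
  -- the double sum
  have hA : ∑ z : Zs, conj (f σ z) * ∑ k : L,
      (if k ∈ H then ∑ τ : IrrCharacter L, (τ : L → ℂ) (k * z) * conj ((τ : L → ℂ) 1) else 0) =
      (Nat.card L : ℂ) := by
    have h1 : ∀ z : Zs, ∑ k : L, (if k ∈ H then ∑ τ : IrrCharacter L,
        (τ : L → ℂ) (k * z) * conj ((τ : L → ℂ) 1) else 0) =
        if z = 1 then (Nat.card L : ℂ) else 0 := by
      intro z
      simp_rw [col_orth_one]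
      by_cases hz : z = 1
      · subst hz
        rw [if_pos rfl, Finset.sum_eq_single (1 : L)]
        · simp [H.one_mem]
        · intro k _ hk
          have hk' : ¬ (k * ((1 : Zs) : L) = 1) := by simpa using hk
          rw [if_neg hk']
          simp
        · intro h
          exact absurd (Finset.mem_univ _) h
      · rw [if_neg hz]
        apply Finset.sum_eq_zero
        intro k _
        by_cases h1 : k ∈ H
        · rw [if_pos h1]
          rw [if_neg]
          intro h2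
          have hk : k = (z : L)⁻¹ := eq_inv_of_mul_eq_one_left h2
          have hkZ : k ∈ Zs := by
            rw [hk]
            exact Zs.inv_mem z.2
          have hk1 := hHZ k h1 hkZ
          rw [hk1, one_mul] at h2
          exact hz (Subtype.ext h2)
        · rw [if_neg h1]
    simp_rw [h1]
    rw [Finset.sum_eq_single (1 : Zs)]
    · rw [if_pos rfl]
      show conj (σ ((1 : Zs) : L) / σ 1) * _ = _
      rw [Subgroup.coe_one, div_self hσ1, map_one, one_mul]
    · intro z _ hz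
      rw [if_neg hz, mul_zero]
    · intro h
      exact absurd (Finset.mem_univ _) h
  have hB : ∑ z : Zs, conj (f σ z) * ∑ k : L,
      (if k ∈ H then ∑ τ : IrrCharacter L, (τ : L → ℂ) (k * z) * conj ((τ : L → ℂ) 1) else 0) =
      (Nat.card Zs : ℂ) * (Nat.card H : ℂ) *
      ∑ τ : IrrCharacter L, (if ConstOn H (τ : L → ℂ) ∧ SameZ Zs σ (τ : L → ℂ) then
        (τ : L → ℂ) 1 * conj ((τ : L → ℂ) 1) else 0) := by
    have h2 : ∀ z : Zs, ∑ k : L, (if k ∈ H then ∑ τ : IrrCharacter L,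
        (τ : L → ℂ) (k * z) * conj ((τ : L → ℂ) 1) else 0) =
        ∑ τ : IrrCharacter L, conj ((τ : L → ℂ) 1) * ((Nat.card H : ℂ) *
          (if ConstOn H (τ : L → ℂ) then (τ : L → ℂ) (z : L) else 0)) := by
      intro z
      have h3 : ∀ k : L, (if k ∈ H then ∑ τ : IrrCharacter L,
          (τ : L → ℂ) (k * z) * conj ((τ : L → ℂ) 1) else 0) =
          ∑ τ : IrrCharacter L, conj ((τ : L → ℂ) 1) *
            (if k ∈ H then (τ : L → ℂ) (k * z) else 0) := by
        intro k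
        split_ifs
        · exact Finset.sum_congr rfl fun τ _ => mul_comm _ _
        · simp
      simp_rw [h3]
      rw [Finset.sum_comm]
      refine Finset.sum_congr rfl fun τ _ => ?_
      rw [← Finset.mul_sum]
      congr 1
      obtain ⟨hA', hB'⟩ := avg_irr H τ.2
      have havg : ∑ k : L, (if k ∈ H then (τ : L → ℂ) (k * z) else 0) =
          (Nat.card H : ℂ) * avgH H (τ : L → ℂ) (z : L) := by
        unfold avgH
        rw [← mul_assoc, mul_inv_cancel₀ hHne, one_mul]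
      rw [havg]
      split_ifs with hc
      · rw [hA' hc]
      · rw [hB' hc]
    simp_rw [h2]
    have h4 : ∀ z : Zs, conj (f σ z) * ∑ τ : IrrCharacter L, conj ((τ : L → ℂ) 1) *
        ((Nat.card H : ℂ) * (if ConstOn H (τ : L → ℂ) then (τ : L → ℂ) (z : L) else 0)) =
        ∑ τ : IrrCharacter L, (if ConstOn H (τ : L → ℂ) then
          conj ((τ : L → ℂ) 1) * (Nat.card H : ℂ) * ((τ : L → ℂ) (z : L) * conj (f σ z))
          else 0) := by
      intro z
      rw [Finset.mul_sum]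
      refine Finset.sum_congr rfl fun τ _ => ?_
      split_ifs
      · ring
      · ring
    simp_rw [h4]
    rw [Finset.sum_comm, Finset.mul_sum]
    refine Finset.sum_congr rfl fun τ _ => ?_
    by_cases hc : ConstOn H (τ : L → ℂ)
    · simp only [if_pos hc]
      rw [← Finset.mul_sum, horth τ]
      by_cases hs : SameZ Zs σ (τ : L → ℂ)
      · rw [if_pos hs, if_pos ⟨hc, hs⟩]
        ring
      · rw [if_neg hs, if_neg (fun h => hs h.2)]
        ring
    · simp only [if_neg hc, Finset.sum_const_zero]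
      rw [if_neg (fun h => hc h.1), mul_zero]
  rw [← hB, hA]

theorem constOn_bot (τ : L → ℂ) : ConstOn (⊥ : Subgroup L) τ := by
  intro k hk
  rw [Subgroup.mem_bot] at hk
  rw [hk]

theorem count_typeB (K Zs : Subgroup L) [hK : K.Normal]
    (hZc : ∀ z ∈ Zs, z ∈ Subgroup.center L) (hKZ : ∀ k ∈ K, k ∈ Zs → k = 1)
    {σ : L → ℂ} (hσ : IsIrrCharacter L σ) :
    (Nat.card Zs : ℝ) * (Nat.card K : ℝ) *
      ∑ τ : IrrCharacter L, (if ¬ ConstOn K (τ : L → ℂ) ∧ SameZ Zs σ (τ : L → ℂ) then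
        ((deg (τ : L → ℂ) : ℝ)) ^ 2 else 0) =
    (Nat.card L : ℝ) * ((Nat.card K : ℝ) - 1) := by
  have h1 := count_H K Zs hZc hKZ hσ
  have h2 := count_H (⊥ : Subgroup L) Zs hZc (fun k hk _ => Subgroup.mem_bot.mp hk) hσ
  rw [Subgroup.card_bot, Nat.cast_one, mul_one] at h2
  have hsq : ∀ τ : IrrCharacter L, (τ : L → ℂ) 1 * conj ((τ : L → ℂ) 1) =
      (((deg (τ : L → ℂ) : ℝ) ^ 2 : ℝ) : ℂ) := by
    intro τ
    rw [(deg_spec τ.2).1, Complex.conj_natCast]
    push_cast
    ring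
  apply Complex.ofReal_injective
  push_cast
  have h3 : ∑ τ : IrrCharacter L, ((if ¬ ConstOn K (τ : L → ℂ) ∧ SameZ Zs σ (τ : L → ℂ) then
        ((deg (τ : L → ℂ) : ℝ)) ^ 2 else 0 : ℝ) : ℂ) =
      ∑ τ : IrrCharacter L, (if ConstOn (⊥ : Subgroup L) (τ : L → ℂ) ∧
        SameZ Zs σ (τ : L → ℂ) then (τ : L → ℂ) 1 * conj ((τ : L → ℂ) 1) else 0) -
      ∑ τ : IrrCharacter L, (if ConstOn K (τ : L → ℂ) ∧ SameZ Zs σ (τ : L → ℂ) then
        (τ : L → ℂ) 1 * conj ((τ : L → ℂ) 1) else 0) := by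
    rw [← Finset.sum_sub_distrib]
    refine Finset.sum_congr rfl fun τ _ => ?_
    have hb := constOn_bot (τ : L → ℂ)
    by_cases hs : SameZ Zs σ (τ : L → ℂ)
    · by_cases hc : ConstOn K (τ : L → ℂ)
      · rw [if_neg (fun h => h.1 hc), if_pos ⟨hb, hs⟩, if_pos ⟨hc, hs⟩]
        simp
      · rw [if_pos ⟨hc, hs⟩, if_pos ⟨hb, hs⟩, if_neg (fun h => hc h.1), hsq τ]
        simp
    · rw [if_neg (fun h => hs h.2), if_neg (fun h => hs h.2), if_neg (fun h => hs h.2)]
      simp
  rw [h3]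
  linear_combination (Nat.card K : ℂ) * h2 - h1

end Count

end Cfsg.Agent.Lib.Helper26.BL
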