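import Mathlib
import Cfsg.Prelude.Def_Characters
import Cfsg.Agent.Lib.Helper26.TIInd
import Cfsg.Agent.Lib.Helper26.GenChar
import Cfsg.Agent.Lib.Helper26.BLC

set_option autoImplicit false

/-!
# Brauer–Leonard: induction of differences from the normalizer (helper26)
-/

namespace Cfsg.Agent.Lib.Helper26.BL

open Cfsg Cfsg.Agent.Lib.Helper26.FTLemma
open scoped ComplexConjugate Classical

attribute [local instance] irrFintype

section TI
variable {G : Type*} [Group G] [Fintype G]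

/-- the TI set `C_G(P) \ Z(G)` -/
def TT (P : Subgroup G) : Set G := {t | t ∈ CC P ∧ t ∉ Subgroup.center G}

theorem hTI (P : Subgroup G) (ctx : Ctx P) :
    ∀ g : G, g ∉ NN P → ∀ t ∈ TT P, g * t * g⁻¹ ∈ TT P → t = 1 := by
  intro g hg t ht hgt
  exfalso
  apply hg
  obtain ⟨h₀, hh₀, h₀1⟩ := ctx.hne
  have h1 : h₀ * t = t * h₀ := (Subgroup.mem_centralizer_iff.mp ht.1) h₀ hh₀
  have h2 : h₀ * (g * t * g⁻¹) = (g * t * g⁻¹) * h₀ :=
    (Subgroup.mem_centralizer_iff.mp hgt.1) h₀ hh₀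
  have hc₁ : (1 * h₀ * (1 : G)⁻¹) * t = t * (1 * h₀ * (1 : G)⁻¹) := by simpa using h1
  have hc₂ : (g⁻¹ * h₀ * g⁻¹⁻¹) * t = t * (g⁻¹ * h₀ * g⁻¹⁻¹) := by
    rw [inv_inv]
    calc (g⁻¹ * h₀ * g) * t = g⁻¹ * (h₀ * (g * t * g⁻¹)) * g := by group
      _ = g⁻¹ * ((g * t * g⁻¹) * h₀) * g := by rw [h2]
      _ = t * (g⁻¹ * h₀ * g) := by group
  have h3 := inv_mul_mem_normalizer P ctx.hone ht.2 hh₀ h₀1 hh₀ h₀1 hc₁ hc₂
  have h4 : g⁻¹ ∈ NN P := by simpa using h3
  simpa using (NN P).inv_mem h4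

theorem rs_inner (P : Subgroup G) {Ψ : G → ℂ} (hΨ : IsCharacter G Ψ)
    (μ : IrrCharacter (NN P)) :
    classInner (rs P Ψ) (μ : NN P → ℂ) =
      ((∑ θ : IrrCharacter G,
        mult Ψ (θ : G → ℂ) * mult (rs P (θ : G → ℂ)) (μ : NN P → ℂ) : ℕ) : ℂ) := by
  have hfun : rs P Ψ =
      ∑ θ : IrrCharacter G, (mult Ψ (θ : G → ℂ) : ℂ) • rs P (θ : G → ℂ) := by
    funext n
    show Ψ (n : G) = _
    rw [expand_char hΨ (n : G)]
    simp only [Finset.sum_apply, Pi.smul_apply, smul_eq_mul]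
    rfl
  rw [hfun, classInner_sum_left]
  push_cast
  refine Finset.sum_congr rfl fun θ _ => ?_
  rw [classInner_smul_left, mult_spec (rs_char P (isCharacter_of_isIrrCharacter θ.2))
    (isCharacter_of_isIrrCharacter μ.2)]

theorem pair_ind (P : Subgroup G) (ctx : Ctx P) {μ ν : NN P → ℂ}
    (hμ : IsIrrCharacter (NN P) μ) (hν : IsIrrCharacter (NN P) ν) (hne : μ ≠ ν)
    (hμA : ∀ n : NN P, n ∉ AA P → μ n = 0) (hνA : ∀ n : NN P, n ∉ AA P → ν n = 0)
    (hZ : ∀ n : NN P, n ∈ ZS P → μ n = ν n)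
    {X : G → ℂ} (hX : IsIrrCharacter G X) (hXμ : mult (rs P X) μ = 1)
    (hXν : mult (rs P X) ν = 0) :
    ∃ Y : G → ℂ, IsIrrCharacter G Y ∧ Y ≠ X ∧ deg Y = deg X ∧
      mult (rs P Y) ν = 1 + mult (rs P Y) μ ∧
      ∀ X' : G → ℂ, IsIrrCharacter G X' → X' ≠ X → X' ≠ Y →
        mult (rs P X') μ = mult (rs P X') ν := by
  have hμc := isCharacter_of_isIrrCharacter hμ
  have hνc := isCharacter_of_isIrrCharacter hν
  have hψcf : IsClassFunction (NN P) (μ - ν) := by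
    intro g h
    simp only [Pi.sub_apply]
    rw [isClassFunction_of_isIrrCharacter hμ g h, isClassFunction_of_isIrrCharacter hν g h]
  have hψT : ∀ x : NN P, (x : G) ∉ TT P → (μ - ν) x = 0 := by
    intro x hx
    by_cases hxA : x ∈ AA P
    · have hxC : (x : G) ∈ CC P := Subgroup.mem_subgroupOf.mp hxA
      have hxZ : (x : G) ∈ Subgroup.center G := by
        by_contra h
        exact hx ⟨hxC, h⟩
      show μ x - ν x = 0
      rw [hZ x (Subgroup.mem_subgroupOf.mpr hxZ), sub_self]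
    · show μ x - ν x = 0
      rw [hμA x hxA, hνA x hxA, sub_zero]
  have hψ1 : (μ - ν) 1 = 0 := by
    show μ 1 - ν 1 = 0
    rw [hZ 1 (one_mem _), sub_self]
  have hgenψ : IsGeneralizedCharacter (NN P) (μ - ν) := ⟨μ, ν, hμc, hνc, rfl⟩
  have hΔgen := isGeneralizedCharacter_indFun (NN P) hgenψ
  have hnorm : classInner (indFun (NN P) (μ - ν)) (indFun (NN P) (μ - ν)) = 2 := by
    rw [classInner_indFun_indFun_ti (TT P) (NN P) (hTI P ctx) (μ - ν) (μ - ν) hψcf hψT hψT hψ1]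
    rw [classInner_sub_left, classInner_sub_right, classInner_sub_right,
      classInner_irr hμ hμ, classInner_irr hμ hν, classInner_irr hν hμ, classInner_irr hν hν,
      if_pos rfl, if_neg hne, if_neg (Ne.symm hne), if_pos rfl]
    norm_num
  have hΔ1 : indFun (NN P) (μ - ν) 1 = 0 := by
    rw [indFun_one, hψ1]
    simp
  obtain ⟨Y₁, Y₂, hY₁, hY₂, hY12, hΔ⟩ := genChar_norm_two hΔgen hnorm hΔ1
  have hinner : ∀ X' : G → ℂ, IsIrrCharacter G X' →
      classInner (indFun (NN P) (μ - ν)) X' =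
        (mult (rs P X') μ : ℂ) - (mult (rs P X') ν : ℂ) := by
    intro X' hX'
    have hX'c := rs_char P (isCharacter_of_isIrrCharacter hX')
    rw [classInner_indFun_left' (NN P) (μ - ν) X' (isClassFunction_of_isIrrCharacter hX')]
    show classInner (μ - ν) (rs P X') = _
    rw [classInner_sub_left, ← classInner_conj_symm (rs P X') μ,
      ← classInner_conj_symm (rs P X') ν, mult_spec hX'c hμc, mult_spec hX'c hνc,
      Complex.conj_natCast, Complex.conj_natCast]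
  have hirr : ∀ X' : G → ℂ, IsIrrCharacter G X' → classInner (Y₁ - Y₂) X' =
      (if Y₁ = X' then (1 : ℂ) else 0) - (if Y₂ = X' then (1 : ℂ) else 0) := by
    intro X' hX'
    rw [classInner_sub_left, classInner_irr hY₁ hX', classInner_irr hY₂ hX']
  have hX1 := hinner X hX
  rw [hΔ, hirr X hX, hXμ, hXν] at hX1
  have hY1X : Y₁ = X := by
    by_contra h
    rw [if_neg h] at hX1
    by_cases h2 : Y₂ = X
    · rw [if_pos h2] at hX1
      norm_num at hX1
    · rw [if_neg h2] at hX1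
      norm_num at hX1
  have hY2X : Y₂ ≠ X := fun h => hY12 (hY1X.trans h.symm)
  refine ⟨Y₂, hY₂, hY2X, ?_, ?_, ?_⟩
  · have h1 : Y₁ 1 = Y₂ 1 := by
      have h2 := congrFun hΔ 1
      rw [hΔ1] at h2
      have h3 : Y₁ 1 - Y₂ 1 = 0 := h2.symm
      exact sub_eq_zero.mp h3
    rw [hY1X] at h1
    unfold deg
    rw [h1]
  · have h2 := hinner Y₂ hY₂
    rw [hΔ, hirr Y₂ hY₂, if_neg hY12, if_pos rfl] at h2
    have h3 : ((mult (rs P Y₂) ν : ℕ) : ℂ) = ((1 + mult (rs P Y₂) μ : ℕ) : ℂ) := by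
      push_cast
      linear_combination h2
    exact_mod_cast h3
  · intro X' hX' hX'X hX'Y
    have h2 := hinner X' hX'
    rw [hΔ, hirr X' hX', if_neg (fun h => hX'X (h.symm.trans hY1X)),
      if_neg (fun h => hX'Y h.symm)] at h2
    have h3 : ((mult (rs P X') μ : ℕ) : ℂ) = ((mult (rs P X') ν : ℕ) : ℂ) := by
      linear_combination -h2
    exact_mod_cast h3

end TI

end Cfsg.Agent.Lib.Helper26.BL
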