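import Mathlib
import Cfsg.Prelude.Def_Characters
import Cfsg.Agent.Lib.Helper26.BLC3
import Cfsg.Agent.Lib.Helper26.BLD1
import Cfsg.Agent.Lib.Helper26.BLD2

set_option autoImplicit false

/-!
# Brauer–Leonard: the final contradiction (helper26)
-/

namespace Cfsg.Agent.Lib.Helper26.BL

open Cfsg Cfsg.Agent.Lib.Helper26.FTLemma
open scoped ComplexConjugate Classical

attribute [local instance] irrFintype

section Gen
variable {L : Type*} [Group L] [Fintype L]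

theorem deg_sum {Θ : L → ℂ} (hΘ : IsCharacter L Θ) :
    deg Θ = ∑ σ : IrrCharacter L, mult Θ (σ : L → ℂ) * deg (σ : L → ℂ) := by
  have h := expand_char hΘ 1
  rw [deg_spec' hΘ] at h
  have h2 : (deg Θ : ℂ) =
      ((∑ σ : IrrCharacter L, mult Θ (σ : L → ℂ) * deg (σ : L → ℂ) : ℕ) : ℂ) := by
    rw [h]
    push_cast
    refine Finset.sum_congr rfl fun σ _ => ?_
    rw [(deg_spec σ.2).1]
  exact_mod_cast h2

theorem eq_of_mult_deg {Θ : L → ℂ} (hΘ : IsCharacter L Θ) (τ : IrrCharacter L)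
    (hm : 1 ≤ mult Θ (τ : L → ℂ)) (hd : deg Θ = deg (τ : L → ℂ)) : Θ = (τ : L → ℂ) := by
  have hsum := deg_sum hΘ
  have hs := (Finset.add_sum_erase Finset.univ
    (fun σ : IrrCharacter L => mult Θ (σ : L → ℂ) * deg (σ : L → ℂ)) (Finset.mem_univ τ)).symm
  rw [← hsum, hd] at hs
  have hdpos := (deg_spec τ.2).2
  have h1 : deg (τ : L → ℂ) ≤ mult Θ (τ : L → ℂ) * deg (τ : L → ℂ) :=
    Nat.le_mul_of_pos_left _ hm
  have h2 : ∑ σ ∈ Finset.univ.erase τ, mult Θ (σ : L → ℂ) * deg (σ : L → ℂ) = 0 := by omega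
  have h3 : mult Θ (τ : L → ℂ) * deg (τ : L → ℂ) = 1 * deg (τ : L → ℂ) := by omega
  have hm1 : mult Θ (τ : L → ℂ) = 1 := Nat.eq_of_mul_eq_mul_right hdpos h3
  have hoth : ∀ σ : IrrCharacter L, σ ≠ τ → mult Θ (σ : L → ℂ) = 0 := by
    intro σ hσ
    have h4 := (Finset.sum_eq_zero_iff.mp h2) σ (Finset.mem_erase.mpr ⟨hσ, Finset.mem_univ _⟩)
    rcases Nat.mul_eq_zero.mp h4 with h | h
    · exact h
    · exact absurd h (deg_spec σ.2).2.ne'
  funext n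
  rw [expand_char hΘ n, Finset.sum_eq_single τ]
  · rw [hm1]
    simp
  · intro σ _ hσ
    rw [hoth σ hσ]
    simp
  · intro h
    exact absurd (Finset.mem_univ _) h

end Gen

section End
variable {G : Type*} [Group G] [Fintype G]

/-- the situation after the first part of the analysis -/
structure EndCtx (P : Subgroup G) : Prop where
  ctx : Ctx P
  he2 : 2 ≤ (AA P).index
  hq : (AA P).index ^ 2 + 1 < Nat.card P
  hcardC : Nat.card (CC P) = Nat.card P * Nat.card (Subgroup.center G)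
  hPZ : ∀ c ∈ CC P, ∃ x ∈ P, ∃ z ∈ Subgroup.center G, c = x * z

theorem ZS_central (P : Subgroup G) : ∀ z ∈ ZS P, z ∈ Subgroup.center (NN P) := by
  intro z hz
  rw [Subgroup.mem_subgroupOf] at hz
  rw [Subgroup.mem_center_iff]
  intro n
  apply Subtype.ext
  exact Subgroup.mem_center_iff.mp hz (n : G)

theorem KK_ZS (P : Subgroup G) (ctx : Ctx P) : ∀ k ∈ KK P, k ∈ ZS P → k = 1 := by
  intro k hk hz
  rw [Subgroup.mem_subgroupOf] at hk hz
  have h : (k : G) ∈ P ⊓ Subgroup.center G := Subgroup.mem_inf.mpr ⟨hk, hz⟩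
  rw [ctx.hZ, Subgroup.mem_bot] at h
  exact Subtype.ext h

theorem card_KK (P : Subgroup G) : Nat.card (KK P) = Nat.card P :=
  Nat.card_congr (Subgroup.subgroupOfEquivOfLe Subgroup.le_normalizer).toEquiv

theorem card_ZS (P : Subgroup G) : Nat.card (ZS P) = Nat.card (Subgroup.center G) :=
  Nat.card_congr (Subgroup.subgroupOfEquivOfLe (center_le_normalizer P)).toEquiv

theorem AA_comm (P : Subgroup G) (E : EndCtx P) : ∀ a b : AA P, a * b = b * a := by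
  intro a b
  have ha : ((a : NN P) : G) ∈ CC P := Subgroup.mem_subgroupOf.mp a.2
  have hb : ((b : NN P) : G) ∈ CC P := Subgroup.mem_subgroupOf.mp b.2
  obtain ⟨x, hx, z, hz, e1⟩ := E.hPZ _ ha
  obtain ⟨x', hx', z', hz', e2⟩ := E.hPZ _ hb
  apply Subtype.ext
  apply Subtype.ext
  show ((a : NN P) : G) * ((b : NN P) : G) = ((b : NN P) : G) * ((a : NN P) : G)
  rw [e1, e2]
  have hzc := Subgroup.mem_center_iff.mp hz
  have hzc' := Subgroup.mem_center_iff.mp hz'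
  calc x * z * (x' * z') = x * (z * x') * z' := by group
    _ = x * (x' * z) * z' := by rw [← hzc x']
    _ = (x * x') * (z * z') := by group
    _ = (x' * x) * (z' * z) := by rw [E.ctx.hab x hx x' hx', hzc' z]
    _ = x' * (x * z') * z := by group
    _ = x' * (z' * x) * z := by rw [hzc' x]
    _ = x' * z' * (x * z) := by group

theorem AA_decomp (P : Subgroup G) (E : EndCtx P) (a : NN P) (ha : a ∈ AA P) :
    ∃ k ∈ KK P, ∃ z ∈ ZS P, a = z * k := by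
  have haC : (a : G) ∈ CC P := Subgroup.mem_subgroupOf.mp ha
  obtain ⟨x, hx, z, hz, e1⟩ := E.hPZ _ haC
  have hxN : x ∈ NN P := Subgroup.le_normalizer hx
  have hzN : z ∈ NN P := center_le_normalizer P hz
  refine ⟨⟨x, hxN⟩, Subgroup.mem_subgroupOf.mpr hx, ⟨z, hzN⟩,
    Subgroup.mem_subgroupOf.mpr hz, ?_⟩
  apply Subtype.ext
  show (a : G) = z * x
  rw [e1, Subgroup.mem_center_iff.mp hz x]

theorem typeB_facts (P : Subgroup G) (E : EndCtx P) {μ : NN P → ℂ}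
    (hμ : IsIrrCharacter (NN P) μ) (hnc : ¬ ConstOn (KK P) μ) :
    deg μ = (AA P).index ∧ ∀ n : NN P, n ∉ AA P → μ n = 0 := by
  obtain ⟨η, hη, -, rfl⟩ := typeB_eq_ind (freeCentral P E.ctx) hμ hnc
  haveI : Fintype (AA P) := Fintype.ofFinite _
  have h1 : η 1 = 1 := FTLemma.irr_degree_one_of_comm (AA_comm P E) ⟨η, hη⟩
  constructor
  · have h2 := (deg_spec hμ).1
    rw [ind_degree, h1, mul_one] at h2
    exact_mod_cast h2.symm
  · intro n hn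
    exact Cfsg.Agent.Lib.Helper2.indFun_of_not_mem_of_normal (AA P) η n hn

theorem card_L (P : Subgroup G) (E : EndCtx P) :
    Nat.card (NN P) = Nat.card P * Nat.card (Subgroup.center G) * (AA P).index := by
  rw [card_NN P, E.hcardC]

theorem constOn_AA (P : Subgroup G) (E : EndCtx P) {σ : NN P → ℂ}
    (hσ : IsIrrCharacter (NN P) σ) (hK : ConstOn (KK P) σ) (hZ : ConstOn (ZS P) σ) :
    ∀ a ∈ AA P, σ a = σ 1 := by
  intro a ha
  obtain ⟨k, hk, z, hz, rfl⟩ := AA_decomp P E a ha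
  obtain ⟨-, hmul⟩ := center_mul hσ z (ZS_central P z hz)
  have hσ1 : σ 1 ≠ 0 := by
    rw [(deg_spec hσ).1]
    exact Nat.cast_ne_zero.2 (deg_spec hσ).2.ne'
  rw [hmul, hZ z hz, hK k hk, div_self hσ1, one_mul]

theorem sameZ_triv_iff (P : Subgroup G) (τ : NN P → ℂ) :
    SameZ (ZS P) (fun _ => (1 : ℂ)) τ ↔ ConstOn (ZS P) τ := by
  unfold SameZ ConstOn
  simp

theorem F_sum (P : Subgroup G) (E : EndCtx P) :
    ∑ τ : IrrCharacter (NN P), (if ¬ ConstOn (KK P) (τ : NN P → ℂ) ∧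
      ConstOn (ZS P) (τ : NN P → ℂ) then ((AA P).index : ℝ) else 0) = (Nat.card P : ℝ) - 1 := by
  have hc := count_typeB (KK P) (ZS P) (ZS_central P) (KK_ZS P E.ctx)
    (Cfsg.Agent.Lib.Helper4.isIrrCharacter_one (G := NN P))
  rw [card_KK, card_ZS, card_L P E] at hc
  have hsum : ∑ τ : IrrCharacter (NN P), (if ¬ ConstOn (KK P) (τ : NN P → ℂ) ∧
      SameZ (ZS P) (fun _ => (1 : ℂ)) (τ : NN P → ℂ) then
        ((deg (τ : NN P → ℂ) : ℝ)) ^ 2 else 0) =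
      ((AA P).index : ℝ) * ∑ τ : IrrCharacter (NN P), (if ¬ ConstOn (KK P) (τ : NN P → ℂ) ∧
        ConstOn (ZS P) (τ : NN P → ℂ) then ((AA P).index : ℝ) else 0) := by
    rw [Finset.mul_sum]
    refine Finset.sum_congr rfl fun τ _ => ?_
    by_cases h : ¬ ConstOn (KK P) (τ : NN P → ℂ) ∧ ConstOn (ZS P) (τ : NN P → ℂ)
    · rw [if_pos ⟨h.1, (sameZ_triv_iff P _).mpr h.2⟩, if_pos h, (typeB_facts P E τ.2 h.1).1]
      ring
    · rw [if_neg (fun h' => h ⟨h'.1, (sameZ_triv_iff P _).mp h'.2⟩), if_neg h, mul_zero]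
  rw [hsum] at hc
  push_cast at hc
  have hq0 : (0 : ℝ) < Nat.card P := Nat.cast_pos.mpr Nat.card_pos
  have hz0 : (0 : ℝ) < Nat.card (Subgroup.center G) := Nat.cast_pos.mpr Nat.card_pos
  have he0 : (0 : ℝ) < ((AA P).index : ℝ) := by
    have := E.he2
    exact Nat.cast_pos.mpr (by omega)
  have hpos : (0 : ℝ) < (Nat.card (Subgroup.center G) : ℝ) * (Nat.card P : ℝ) *
      ((AA P).index : ℝ) := by positivity
  apply mul_left_cancel₀ hpos.ne'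
  linarith

theorem exists_second (P : Subgroup G) (E : EndCtx P) (μ₀ : IrrCharacter (NN P))
    (hμ₀ : ¬ ConstOn (KK P) (μ₀ : NN P → ℂ)) :
    ∃ τ : IrrCharacter (NN P), τ ≠ μ₀ ∧ ¬ ConstOn (KK P) (τ : NN P → ℂ) ∧
      SameZ (ZS P) (μ₀ : NN P → ℂ) (τ : NN P → ℂ) := by
  by_contra hcon
  have hc := count_typeB (KK P) (ZS P) (ZS_central P) (KK_ZS P E.ctx) μ₀.2
  rw [card_KK, card_ZS, card_L P E] at hc
  have hsum : ∑ τ : IrrCharacter (NN P), (if ¬ ConstOn (KK P) (τ : NN P → ℂ) ∧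
      SameZ (ZS P) (μ₀ : NN P → ℂ) (τ : NN P → ℂ) then
        ((deg (τ : NN P → ℂ) : ℝ)) ^ 2 else 0) = (((AA P).index : ℝ)) ^ 2 := by
    rw [Finset.sum_eq_single μ₀]
    · rw [if_pos ⟨hμ₀, fun z _ => rfl⟩, (typeB_facts P E μ₀.2 hμ₀).1]
    · intro τ _ hτ
      rw [if_neg]
      rintro ⟨h1, h2⟩
      exact hcon ⟨τ, hτ, h1, h2⟩
    · intro h
      exact absurd (Finset.mem_univ _) h
  rw [hsum] at hc
  push_cast at hc
  have hq0 : (0 : ℝ) < Nat.card P := Nat.cast_pos.mpr Nat.card_pos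
  have hz0 : (0 : ℝ) < Nat.card (Subgroup.center G) := Nat.cast_pos.mpr Nat.card_pos
  have he2r : (2 : ℝ) ≤ ((AA P).index : ℝ) := by exact_mod_cast E.he2
  have hqr : (((AA P).index : ℝ)) ^ 2 + 1 < (Nat.card P : ℝ) := by exact_mod_cast E.hq
  have hpos : (0 : ℝ) < (Nat.card (Subgroup.center G) : ℝ) * (Nat.card P : ℝ) *
      ((AA P).index : ℝ) := by positivity
  have h1 : (Nat.card (Subgroup.center G) : ℝ) * (Nat.card P : ℝ) * ((AA P).index : ℝ) *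
      ((AA P).index : ℝ) = (Nat.card (Subgroup.center G) : ℝ) * (Nat.card P : ℝ) *
      ((AA P).index : ℝ) * ((Nat.card P : ℝ) - 1) := by linarith
  have h2 := mul_left_cancel₀ hpos.ne' h1
  nlinarith

theorem theta_struct (P : Subgroup G) (E : EndCtx P) {ξ : G → ℂ} (hξ : IsIrrCharacter G ξ)
    (θ₁ : IrrCharacter G) (hcθ : mult (psi ξ) (θ₁ : G → ℂ) ≠ 0)
    (hM1 : mB (KK P) (rs P (θ₁ : G → ℂ)) = 1) :
    ∃ μθ : IrrCharacter (NN P), ¬ ConstOn (KK P) (μθ : NN P → ℂ) ∧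
      ConstOn (ZS P) (μθ : NN P → ℂ) ∧ mult (rs P (θ₁ : G → ℂ)) (μθ : NN P → ℂ) = 1 ∧
      ∀ ν : IrrCharacter (NN P), ¬ ConstOn (KK P) (ν : NN P → ℂ) → ν ≠ μθ →
        mult (rs P (θ₁ : G → ℂ)) (ν : NN P → ℂ) = 0 := by
  unfold mB at hM1
  obtain ⟨μθ, h1, hothers⟩ := exists_unique_of_sum_eq_one _ hM1
  have hnc : ¬ ConstOn (KK P) (μθ : NN P → ℂ) := by
    intro hc
    rw [if_pos hc] at h1
    exact zero_ne_one h1
  rw [if_neg hnc] at h1
  have hm1 : mult (rs P (θ₁ : G → ℂ)) (μθ : NN P → ℂ) = 1 := by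
    rcases Nat.pow_eq_one.mp h1 with h | h
    · exact h
    · exact absurd h two_ne_zero
  refine ⟨μθ, hnc, ?_, hm1, ?_⟩
  · -- central character
    have hθc := isCharacter_of_isIrrCharacter θ₁.2
    have hψc := psi_char (isCharacter_of_isIrrCharacter hξ)
    have step1 : ∀ z ∈ Subgroup.center G, ∀ g : G,
        (θ₁ : G → ℂ) (z * g) = 1 * (θ₁ : G → ℂ) g := by
      intro z hz
      apply central_char_eq hz (Φ := psi ξ) _ θ₁.2
      · rw [mult_spec hψc hθc]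
        exact Nat.cast_ne_zero.2 hcθ
      · intro g
        obtain ⟨hns, hmul⟩ := center_mul hξ z hz
        unfold psi
        rw [hmul, map_mul]
        have h4 : (ξ z / ξ 1) * conj (ξ z / ξ 1) = 1 := by
          rw [Complex.mul_conj, hns]
          simp
        linear_combination (ξ g * conj (ξ g)) * h4
    intro z hz
    have hzG : (z : G) ∈ Subgroup.center G := Subgroup.mem_subgroupOf.mp hz
    have hΦ : ∀ n : NN P, rs P (θ₁ : G → ℂ) (z * n) = 1 * rs P (θ₁ : G → ℂ) n := by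
      intro n
      exact step1 (z : G) hzG (n : G)
    have hne : classInner (rs P (θ₁ : G → ℂ)) (μθ : NN P → ℂ) ≠ 0 := by
      rw [mult_spec (rs_char P hθc) (isCharacter_of_isIrrCharacter μθ.2), hm1]
      simp
    have h5 := central_char_eq (ZS_central P z hz) hΦ μθ.2 hne 1
    rw [mul_one, one_mul] at h5
    exact h5
  · intro ν hν hνμ
    have h2 := hothers ν hνμ
    rw [if_neg hν] at h2
    exact (pow_eq_zero_iff two_ne_zero).mp h2

theorem lemma_fin (P : Subgroup G) (E : EndCtx P) {θ₁ : G → ℂ} (hθ₁ : IsIrrCharacter G θ₁)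
    (hdθ : deg θ₁ = (AA P).index + 1) (μθ : IrrCharacter (NN P))
    (hμθ : ¬ ConstOn (KK P) (μθ : NN P → ℂ)) (hμθZ : ConstOn (ZS P) (μθ : NN P → ℂ))
    (hm : mult (rs P θ₁) (μθ : NN P → ℂ) = 1)
    (hoth : ∀ ν : IrrCharacter (NN P), ¬ ConstOn (KK P) (ν : NN P → ℂ) → ν ≠ μθ →
      mult (rs P θ₁) (ν : NN P → ℂ) = 0)
    {X' : G → ℂ} (hX' : IsIrrCharacter G X') (hdX : deg X' ≠ (AA P).index + 1)
    (ν : IrrCharacter (NN P)) (hν : ¬ ConstOn (KK P) (ν : NN P → ℂ))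
    (hνZ : ConstOn (ZS P) (ν : NN P → ℂ)) :
    mult (rs P X') (ν : NN P → ℂ) = mult (rs P X') (μθ : NN P → ℂ) := by
  by_cases hνμ : ν = μθ
  · rw [hνμ]
  obtain ⟨hdμ, hμA⟩ := typeB_facts P E μθ.2 hμθ
  obtain ⟨hdν, hνA⟩ := typeB_facts P E ν.2 hν
  have hne : (μθ : NN P → ℂ) ≠ (ν : NN P → ℂ) := fun h => hνμ (Subtype.ext h.symm)
  have hZ : ∀ n : NN P, n ∈ ZS P → (μθ : NN P → ℂ) n = (ν : NN P → ℂ) n := by
    intro n hn
    rw [hμθZ n hn, hνZ n hn, (deg_spec μθ.2).1, (deg_spec ν.2).1, hdμ, hdν]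
  obtain ⟨Y, hY, -, hdY, -, hall⟩ :=
    pair_ind P E.ctx μθ.2 ν.2 hne hμA hνA hZ hθ₁ hm (hoth ν hν hνμ)
  have h1 : X' ≠ θ₁ := by
    intro h
    apply hdX
    rw [h, hdθ]
  have h2 : X' ≠ Y := by
    intro h
    apply hdX
    rw [h, hdY, hdθ]
  exact (hall X' hX' h1 h2).symm

theorem big_degree (P : Subgroup G) (E : EndCtx P) {θ₁ : G → ℂ} (hθ₁ : IsIrrCharacter G θ₁)
    (hdθ : deg θ₁ = (AA P).index + 1) (μθ : IrrCharacter (NN P))
    (hμθ : ¬ ConstOn (KK P) (μθ : NN P → ℂ)) (hμθZ : ConstOn (ZS P) (μθ : NN P → ℂ))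
    (hm : mult (rs P θ₁) (μθ : NN P → ℂ) = 1)
    (hoth : ∀ ν : IrrCharacter (NN P), ¬ ConstOn (KK P) (ν : NN P → ℂ) → ν ≠ μθ →
      mult (rs P θ₁) (ν : NN P → ℂ) = 0)
    {X' : G → ℂ} (hX' : IsIrrCharacter G X') (hdX : deg X' ≠ (AA P).index + 1)
    (ν₀ : IrrCharacter (NN P)) (hν₀ : ¬ ConstOn (KK P) (ν₀ : NN P → ℂ))
    (hν₀Z : ConstOn (ZS P) (ν₀ : NN P → ℂ)) (hm0 : mult (rs P X') (ν₀ : NN P → ℂ) ≠ 0) :
    (Nat.card P : ℝ) - 1 ≤ (deg X' : ℝ) := by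
  have hfin := lemma_fin P E hθ₁ hdθ μθ hμθ hμθZ hm hoth hX' hdX
  have hmpos : 1 ≤ mult (rs P X') (μθ : NN P → ℂ) := by
    rw [← hfin ν₀ hν₀ hν₀Z]
    exact Nat.one_le_iff_ne_zero.mpr hm0
  have hsum := deg_sum (rs_char P (isCharacter_of_isIrrCharacter hX'))
  have h0 : deg (rs P X') = deg X' := rfl
  rw [h0] at hsum
  rw [← F_sum P E, hsum]
  push_cast
  refine Finset.sum_le_sum fun τ _ => ?_
  split_ifs with h
  · rw [hfin τ h.1 h.2, (typeB_facts P E τ.2 h.1).1]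
    have h1 : (1 : ℝ) ≤ (mult (rs P X') (μθ : NN P → ℂ) : ℝ) := by exact_mod_cast hmpos
    have h2 : (0 : ℝ) ≤ ((AA P).index : ℝ) := Nat.cast_nonneg _
    nlinarith
  · positivity

theorem exists_Lambda (P : Subgroup G) (E : EndCtx P) {ξ : G → ℂ} (hξ : IsIrrCharacter G ξ)
    (μ₀ : IrrCharacter (NN P)) (hμ₀nc : ¬ ConstOn (KK P) (μ₀ : NN P → ℂ))
    (hμ₀ : rs P ξ = (μ₀ : NN P → ℂ)) :
    ∃ (Λ : G → ℂ) (τ : IrrCharacter (NN P)), IsIrrCharacter G Λ ∧ τ ≠ μ₀ ∧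
      ¬ ConstOn (KK P) (τ : NN P → ℂ) ∧ SameZ (ZS P) (μ₀ : NN P → ℂ) (τ : NN P → ℂ) ∧
      rs P Λ = (τ : NN P → ℂ) := by
  obtain ⟨τ, hτne, hτnc, hτZ⟩ := exists_second P E μ₀ hμ₀nc
  obtain ⟨hdμ, hμA⟩ := typeB_facts P E μ₀.2 hμ₀nc
  obtain ⟨hdτ, hτA⟩ := typeB_facts P E τ.2 hτnc
  have hne : (μ₀ : NN P → ℂ) ≠ (τ : NN P → ℂ) := fun h => hτne (Subtype.ext h.symm)
  have hμc := isCharacter_of_isIrrCharacter μ₀.2
  have hτc := isCharacter_of_isIrrCharacter τ.2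
  have hXμ : mult (rs P ξ) (μ₀ : NN P → ℂ) = 1 := by
    rw [hμ₀]
    have h1 := classInner_irr μ₀.2 μ₀.2
    rw [if_pos rfl, mult_spec hμc hμc] at h1
    exact_mod_cast h1
  have hXν : mult (rs P ξ) (τ : NN P → ℂ) = 0 := by
    rw [hμ₀]
    have h1 := classInner_irr μ₀.2 τ.2
    rw [if_neg hne, mult_spec hμc hτc] at h1
    exact_mod_cast h1
  have he0 : ((AA P).index : ℂ) ≠ 0 := by
    have := E.he2
    exact Nat.cast_ne_zero.2 (by omega)
  have hZ : ∀ n : NN P, n ∈ ZS P → (μ₀ : NN P → ℂ) n = (τ : NN P → ℂ) n := by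
    intro n hn
    have h1 := hτZ n hn
    rw [(deg_spec μ₀.2).1, (deg_spec τ.2).1, hdμ, hdτ] at h1
    exact (mul_right_cancel₀ he0 h1).symm
  obtain ⟨Λ, hΛ, -, hdΛ, hmΛ, -⟩ := pair_ind P E.ctx μ₀.2 τ.2 hne hμA hτA hZ hξ hXμ hXν
  refine ⟨Λ, τ, hΛ, hτne, hτnc, hτZ, ?_⟩
  apply eq_of_mult_deg (rs_char P (isCharacter_of_isIrrCharacter hΛ)) τ (by omega)
  have h0 : deg (rs P Λ) = deg Λ := rfl
  have h1 : deg (rs P ξ) = deg ξ := rfl
  rw [h0, hdΛ, ← h1, hμ₀, hdμ, hdτ]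

end End

end Cfsg.Agent.Lib.Helper26.BL
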