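import Mathlib
import Cfsg.Prelude.Def_Characters
import Cfsg.Agent.Lib.Helper26.BLD3

set_option autoImplicit false

/-!
# Brauer–Leonard: the final contradiction, assembled (helper26)
-/

namespace Cfsg.Agent.Lib.Helper26.BL

open Cfsg Cfsg.Agent.Lib.Helper26.FTLemma
open scoped ComplexConjugate Classical

attribute [local instance] irrFintype

section End
variable {G : Type*} [Group G] [Fintype G]

theorem final_contra (P : Subgroup G) (ctx : Ctx P) {ξ : G → ℂ} (hξ : IsIrrCharacter G ξ)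
    (hξ1 : ξ 1 ≠ 1) (hq : (deg ξ) ^ 2 + 1 < Nat.card P) : False := by
  obtain ⟨hdeg, he2, ⟨μ₀, hμ₀nc, hμ₀⟩, hcardC, hPZ, θ₁, hdθ, hcθ, hk1, hM1⟩ :=
    analysis P ctx hξ hξ1 hq
  rw [hdeg] at hq
  have E : EndCtx P := ⟨ctx, he2, hq, hcardC, hPZ⟩
  obtain ⟨μθ, hμθ, hμθZ, hm, hoth⟩ := theta_struct P E hξ θ₁ hcθ hM1
  obtain ⟨Λ, τ, hΛ, hτne, hτnc, hτZ, hΛτ⟩ := exists_Lambda P E hξ μ₀ hμ₀nc hμ₀
  have hξc := isCharacter_of_isIrrCharacter hξ
  have hΛc := isCharacter_of_isIrrCharacter hΛ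
  have hΨ : IsCharacter G (ξ * fun g => conj (Λ g)) :=
    Cfsg.Agent.Lib.Helper7.isCharacter_mul hξc (Cfsg.Agent.Lib.Helper28.isCharacter_conj hΛc)
  obtain ⟨hdμ, hμA⟩ := typeB_facts P E μ₀.2 hμ₀nc
  obtain ⟨hdτ, hτA⟩ := typeB_facts P E τ.2 hτnc
  have hdΛ : deg Λ = (AA P).index := by
    have h0 : deg (rs P Λ) = deg Λ := rfl
    rw [← h0, hΛτ, hdτ]
  have hdΨ : deg (ξ * fun g => conj (Λ g)) = (AA P).index * (AA P).index := by
    have h1 : (ξ * fun g => conj (Λ g)) 1 = (((AA P).index * (AA P).index : ℕ) : ℂ) := by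
      rw [Pi.mul_apply, (deg_spec hξ).1, (deg_spec hΛ).1, hdeg, hdΛ, Complex.conj_natCast,
        Nat.cast_mul]
    have h2 := deg_spec' hΨ
    rw [h1] at h2
    exact_mod_cast h2.symm
  have hsumΨ := deg_sum hΨ
  rw [hdΨ] at hsumΨ
  have hex : ∃ X' : IrrCharacter G, mult (ξ * fun g => conj (Λ g)) (X' : G → ℂ) ≠ 0 := by
    by_contra hcon
    push Not at hcon
    have hz : ∑ θ : IrrCharacter G,
        mult (ξ * fun g => conj (Λ g)) (θ : G → ℂ) * deg (θ : G → ℂ) = 0 :=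
      Finset.sum_eq_zero (fun θ _ => by rw [hcon θ, zero_mul])
    rw [hz] at hsumΨ
    have := E.he2
    nlinarith
  obtain ⟨X', hX'm⟩ := hex
  have hdle : deg (X' : G → ℂ) ≤ (AA P).index * (AA P).index := by
    rw [hsumΨ]
    have h1 := Finset.single_le_sum
      (f := fun θ : IrrCharacter G =>
        mult (ξ * fun g => conj (Λ g)) (θ : G → ℂ) * deg (θ : G → ℂ))
      (fun _ _ => Nat.zero_le _) (Finset.mem_univ X')
    have h2 : deg (X' : G → ℂ) ≤
        mult (ξ * fun g => conj (Λ g)) (X' : G → ℂ) * deg (X' : G → ℂ) :=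
      Nat.le_mul_of_pos_left _ (Nat.pos_of_ne_zero hX'm)
    exact h2.trans h1
  have hrsΨ : rs P (ξ * fun g => conj (Λ g)) =
      fun n => (μ₀ : NN P → ℂ) n * conj ((τ : NN P → ℂ) n) := by
    funext n
    show ξ (n : G) * conj (Λ (n : G)) = _
    rw [← hμ₀, ← hΛτ]
    rfl
  have hμ1 : (μ₀ : NN P → ℂ) 1 ≠ 0 := by
    rw [(deg_spec μ₀.2).1]
    exact Nat.cast_ne_zero.2 (deg_spec μ₀.2).2.ne'
  have hτ1 : (τ : NN P → ℂ) 1 ≠ 0 := by
    rw [(deg_spec τ.2).1]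
    exact Nat.cast_ne_zero.2 (deg_spec τ.2).2.ne'
  have hcons : ∀ σ : IrrCharacter (NN P), mult (rs P (X' : G → ℂ)) (σ : NN P → ℂ) ≠ 0 →
      ¬ ConstOn (KK P) (σ : NN P → ℂ) ∧ ConstOn (ZS P) (σ : NN P → ℂ) := by
    intro σ hσm
    have hne : classInner (rs P (ξ * fun g => conj (Λ g))) (σ : NN P → ℂ) ≠ 0 := by
      rw [rs_inner P hΨ σ]
      apply Nat.cast_ne_zero.2
      intro h0
      have h1 := (Finset.sum_eq_zero_iff.mp h0) X' (Finset.mem_univ X')
      rcases Nat.mul_eq_zero.mp h1 with h | h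
      · exact hX'm h
      · exact hσm h
    have hZσ : ConstOn (ZS P) (σ : NN P → ℂ) := by
      intro z hz
      have hΦ : ∀ n : NN P, rs P (ξ * fun g => conj (Λ g)) (z * n) =
          1 * rs P (ξ * fun g => conj (Λ g)) n := by
        intro n
        rw [hrsΨ]
        obtain ⟨hns, hmul⟩ := center_mul μ₀.2 z (ZS_central P z hz)
        obtain ⟨-, hmulτ⟩ := center_mul τ.2 z (ZS_central P z hz)
        have hω : (τ : NN P → ℂ) z / (τ : NN P → ℂ) 1 =
            (μ₀ : NN P → ℂ) z / (μ₀ : NN P → ℂ) 1 :=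
          (div_eq_div_iff hτ1 hμ1).mpr (hτZ z hz)
        show (μ₀ : NN P → ℂ) (z * n) * conj ((τ : NN P → ℂ) (z * n)) =
          1 * ((μ₀ : NN P → ℂ) n * conj ((τ : NN P → ℂ) n))
        rw [hmul, hmulτ, hω, map_mul]
        have h4 : ((μ₀ : NN P → ℂ) z / (μ₀ : NN P → ℂ) 1) *
            conj ((μ₀ : NN P → ℂ) z / (μ₀ : NN P → ℂ) 1) = 1 := by
          rw [Complex.mul_conj, hns]
          simp
        linear_combination ((μ₀ : NN P → ℂ) n * conj ((τ : NN P → ℂ) n)) * h4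
      have h5 := central_char_eq (ZS_central P z hz) hΦ σ.2 hne 1
      rw [mul_one, one_mul] at h5
      exact h5
    refine ⟨?_, hZσ⟩
    intro hKσ
    apply hne
    have hA := constOn_AA P E σ.2 hKσ hZσ
    have h1 : classInner (rs P (ξ * fun g => conj (Λ g))) (σ : NN P → ℂ) =
        conj ((σ : NN P → ℂ) 1) * classInner (μ₀ : NN P → ℂ) (τ : NN P → ℂ) := by
      rw [hrsΨ]
      unfold classInner
      rw [mul_left_comm]
      congr 1
      rw [Finset.mul_sum]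
      refine Finset.sum_congr rfl fun n _ => ?_
      show (μ₀ : NN P → ℂ) n * conj ((τ : NN P → ℂ) n) * conj ((σ : NN P → ℂ) n) =
        conj ((σ : NN P → ℂ) 1) * ((μ₀ : NN P → ℂ) n * conj ((τ : NN P → ℂ) n))
      by_cases hn : n ∈ AA P
      · rw [hA n hn]
        ring
      · rw [hμA n hn]
        ring
    rw [h1, classInner_irr μ₀.2 τ.2, if_neg (fun h => hτne (Subtype.ext h.symm)), mul_zero]
  have hsumX := deg_sum (rs_char P (isCharacter_of_isIrrCharacter X'.2))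
  have h0 : deg (rs P (X' : G → ℂ)) = deg (X' : G → ℂ) := rfl
  rw [h0] at hsumX
  have hdX : deg (X' : G → ℂ) = (AA P).index *
      ∑ σ : IrrCharacter (NN P), mult (rs P (X' : G → ℂ)) (σ : NN P → ℂ) := by
    rw [hsumX, Finset.mul_sum]
    refine Finset.sum_congr rfl fun σ _ => ?_
    by_cases hσ : mult (rs P (X' : G → ℂ)) (σ : NN P → ℂ) = 0
    · rw [hσ]
      simp
    · rw [(typeB_facts P E σ.2 (hcons σ hσ).1).1]
      ring
  have hdne : deg (X' : G → ℂ) ≠ (AA P).index + 1 := by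
    intro h
    rw [hdX] at h
    have hdvd : (AA P).index ∣ (AA P).index + 1 := ⟨_, h.symm⟩
    have h1 : (AA P).index ∣ 1 := (Nat.dvd_add_right (dvd_refl _)).mp hdvd
    have h2 := Nat.le_of_dvd one_pos h1
    have h3 := E.he2
    omega
  have hexσ : ∃ σ : IrrCharacter (NN P), mult (rs P (X' : G → ℂ)) (σ : NN P → ℂ) ≠ 0 := by
    by_contra hcon
    push Not at hcon
    have hz : ∑ σ : IrrCharacter (NN P), mult (rs P (X' : G → ℂ)) (σ : NN P → ℂ) = 0 :=
      Finset.sum_eq_zero (fun σ _ => hcon σ)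
    rw [hz, mul_zero] at hdX
    exact (deg_spec X'.2).2.ne' hdX
  obtain ⟨σ₀, hσ₀⟩ := hexσ
  obtain ⟨h1, h2⟩ := hcons σ₀ hσ₀
  have hbig := big_degree P E θ₁.2 hdθ μθ hμθ hμθZ hm hoth X'.2 hdne σ₀ h1 h2 hσ₀
  have hqr : (((AA P).index : ℝ)) ^ 2 + 1 < (Nat.card P : ℝ) := by exact_mod_cast E.hq
  have hdler : (deg (X' : G → ℂ) : ℝ) ≤ ((AA P).index : ℝ) * ((AA P).index : ℝ) := by
    exact_mod_cast hdle
  nlinarith

theorem core_linear (P : Subgroup G) (ctx : Ctx P) {ξ : G → ℂ} (hξ : IsIrrCharacter G ξ)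
    (hq : (deg ξ) ^ 2 + 1 < Nat.card P) : ξ 1 = 1 := by
  by_contra h
  exact final_contra P ctx hξ h hq

end End

end Cfsg.Agent.Lib.Helper26.BL
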