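import Mathlib
import Cfsg.Prelude.Def_Characters
import Cfsg.Agent.Lib.Helper4.LinConst
import Cfsg.Agent.Lib.Helper26.BLD4

set_option autoImplicit false

/-!
# Brauer–Leonard: the minimal counterexample (helper26)
-/

namespace Cfsg.Agent.Lib.Helper26.BL

open Cfsg Cfsg.Agent.Lib.Helper26.FTLemma
open scoped ComplexConjugate Classical Pointwise

universe u

section Grp
variable {G : Type u} [Group G] [Fintype G] {p : ℕ} [hp : Fact p.Prime]

/-- the conjugate of a Sylow subgroup, as a Sylow subgroup -/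
noncomputable def conjSylow (P : Sylow p G) (a : G) : Sylow p G :=
  Sylow.ofCard ((P : Subgroup G).map (MulAut.conj a).toMonoidHom) (by
    rw [← P.card_eq_multiplicity]
    exact (Nat.card_congr (Subgroup.equivMapOfInjective (P : Subgroup G)
      (MulAut.conj a).toMonoidHom (MulAut.conj a).injective).toEquiv).symm)

theorem coe_conjSylow (P : Sylow p G) (a : G) :
    ((conjSylow P a : Sylow p G) : Subgroup G) =
      (P : Subgroup G).map (MulAut.conj a).toMonoidHom :=
  Sylow.coe_ofCard _ _

theorem sylow_eq_of_le_normalizer (Q Q' : Sylow p G)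
    (h : (Q' : Subgroup G) ≤ Subgroup.normalizer ((Q : Subgroup G) : Set G)) :
    (Q' : Subgroup G) = (Q : Subgroup G) := by
  have hQN : (Q : Subgroup G) ≤ Subgroup.normalizer ((Q : Subgroup G) : Set G) :=
    Subgroup.le_normalizer
  haveI : (↑(Q.subtype hQN) :
      Subgroup ↥(Subgroup.normalizer ((Q : Subgroup G) : Set G))).Normal := by
    rw [Sylow.coe_subtype]
    exact Subgroup.normal_in_normalizer
  obtain ⟨n, hn⟩ := MulAction.exists_smul_eq
    (Subgroup.normalizer ((Q : Subgroup G) : Set G)) (Q.subtype hQN) (Q'.subtype h)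
  rw [Sylow.smul_eq_of_normal] at hn
  have h1 : ((Q : Subgroup G)).subgroupOf (Subgroup.normalizer ((Q : Subgroup G) : Set G)) =
      ((Q' : Subgroup G)).subgroupOf (Subgroup.normalizer ((Q : Subgroup G) : Set G)) := by
    rw [← Sylow.coe_subtype Q hQN, ← Sylow.coe_subtype Q' h, hn]
  rw [← Subgroup.map_subgroupOf_eq_of_le h, ← h1, Subgroup.map_subgroupOf_eq_of_le hQN]

theorem ctx_of_minimal (P : Sylow p G)
    (hstar : ∀ R : Subgroup G, IsPGroup p R → ∀ x ∈ R, x ≠ 1 → ∀ g : G, g * x = x * g →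
      ∀ y ∈ R, g * y = y * g)
    (hmin : ∀ H : Subgroup G, H ≠ ⊤ → ∀ Q : Sylow p G, (Q : Subgroup G) ≤ H →
      H ≤ Subgroup.normalizer ((Q : Subgroup G) : Set G))
    (hPn : ¬ (P : Subgroup G).Normal) : Ctx (P : Subgroup G) := by
  have hstarP := hstar (P : Subgroup G) P.isPGroup'
  have hne : ∃ h ∈ (P : Subgroup G), h ≠ 1 := by
    by_contra hcon
    push Not at hcon
    apply hPn
    have h1 : (P : Subgroup G) = ⊥ := (Subgroup.eq_bot_iff_forall _).mpr hcon
    rw [h1]
    infer_instance
  have hab : ∀ a ∈ (P : Subgroup G), ∀ b ∈ (P : Subgroup G), a * b = b * a := by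
    obtain ⟨h, hh, h1⟩ := hne
    haveI : Nontrivial (P : Subgroup G) :=
      ⟨⟨⟨h, hh⟩, 1, fun e => h1 (congrArg Subtype.val e)⟩⟩
    have hlt := IsPGroup.bot_lt_center (P.isPGroup')
    obtain ⟨z, hz, hz1⟩ := SetLike.exists_of_lt hlt
    have hz1' : (z : G) ≠ 1 := fun e => hz1 (Subgroup.mem_bot.mpr (Subtype.ext e))
    intro a ha b hb
    have hc : a * (z : G) = (z : G) * a := by
      have h2 := Subgroup.mem_center_iff.mp hz ⟨a, ha⟩
      exact congrArg Subtype.val h2
    exact hstarP (z : G) z.2 hz1' a hc b hb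
  have hZ : (P : Subgroup G) ⊓ Subgroup.center G = ⊥ := by
    rw [Subgroup.eq_bot_iff_forall]
    intro x hx
    obtain ⟨hxP, hxZ⟩ := Subgroup.mem_inf.mp hx
    by_contra hx1
    apply hPn
    constructor
    intro n hn g
    have hc : g * x = x * g := Subgroup.mem_center_iff.mp hxZ g
    have h2 := hstarP x hxP hx1 g hc n hn
    have h3 : g * n * g⁻¹ = n := by
      rw [h2]
      group
    rw [h3]
    exact hn
  have hone : OneConj (P : Subgroup G) := by
    intro g hg a b ha hb
    have key : ∀ c : G, Subgroup.centralizer ({g} : Set G) ⊓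
        (P : Subgroup G).map (MulAut.conj c).toMonoidHom ≠ ⊥ →
        ((conjSylow P c : Sylow p G) : Subgroup G) ≤ Subgroup.centralizer ({g} : Set G) := by
      intro c hc
      have hex : ∃ x ∈ Subgroup.centralizer ({g} : Set G) ⊓
          (P : Subgroup G).map (MulAut.conj c).toMonoidHom, x ≠ 1 := by
        by_contra hcon
        push Not at hcon
        exact hc ((Subgroup.eq_bot_iff_forall _).mpr hcon)
      obtain ⟨x, hx, hx1⟩ := hex
      obtain ⟨hxC, hxP⟩ := Subgroup.mem_inf.mp hx
      have hgx : g * x = x * g :=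
        (Subgroup.mem_centralizer_iff.mp hxC) g (Set.mem_singleton g)
      have hR : IsPGroup p ((P : Subgroup G).map (MulAut.conj c).toMonoidHom) := by
        rw [← coe_conjSylow]
        exact (conjSylow P c).isPGroup'
      rw [coe_conjSylow]
      intro y hy
      rw [Subgroup.mem_centralizer_iff]
      intro k hk
      rw [Set.mem_singleton_iff] at hk
      rw [hk]
      exact hstar _ hR x hxP hx1 g hgx y hy
    have hH : Subgroup.centralizer ({g} : Set G) ≠ ⊤ := by
      intro htop
      apply hg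
      rw [Subgroup.mem_center_iff]
      intro k
      have h1 : k ∈ Subgroup.centralizer ({g} : Set G) := htop ▸ Subgroup.mem_top k
      exact ((Subgroup.mem_centralizer_iff.mp h1) g (Set.mem_singleton g)).symm
    have h1 := hmin _ hH (conjSylow P a) (key a ha)
    have h2 := sylow_eq_of_le_normalizer (conjSylow P a) (conjSylow P b) ((key b hb).trans h1)
    rw [coe_conjSylow, coe_conjSylow] at h2
    exact h2.symm
  have hgen : ∀ M : Subgroup G, M.Normal → (P : Subgroup G) ≤ M → M = ⊤ := by
    intro M hM hPM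
    by_contra hMtop
    have h1 := hmin M hMtop P hPM
    apply hPn
    constructor
    intro n hn g
    have hle : ((conjSylow P g : Sylow p G) : Subgroup G) ≤ M := by
      rw [coe_conjSylow]
      rintro _ ⟨x, hx, rfl⟩
      exact hM.conj_mem x (hPM hx) g
    have h2 := sylow_eq_of_le_normalizer P (conjSylow P g) (hle.trans h1)
    rw [coe_conjSylow] at h2
    rw [← h2]
    exact ⟨n, hn, rfl⟩
  exact ⟨hab, hZ, hone, hne, hstarP, hgen⟩

end Grp

theorem main_aux (p : ℕ) [hp : Fact p.Prime] : ∀ (m : ℕ) (G : Type u) [Group G] [Fintype G],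
    Nat.card G = m →
    (∀ R : Subgroup G, IsPGroup p R → ∀ x ∈ R, x ≠ 1 → ∀ g : G, g * x = x * g →
      ∀ y ∈ R, g * y = y * g) →
    ∀ (χ : G → ℂ), IsCharacter G χ → (∀ g : G, χ g = χ 1 → g = 1) →
    ∀ P : Sylow p G, (deg χ) ^ 2 + 1 < Nat.card P → (P : Subgroup G).Normal := by
  intro m
  induction m using Nat.strong_induction_on with
  | _ m ih =>
  intro G _ _ hcard hstar χ hχ hfaith P hdeg
  by_contra hPn
  have hmin : ∀ H : Subgroup G, H ≠ ⊤ → ∀ Q : Sylow p G, (Q : Subgroup G) ≤ H →
      H ≤ Subgroup.normalizer ((Q : Subgroup G) : Set G) := by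
    intro H hH Q hQH
    have hcardH : Nat.card H < m := by
      rw [← hcard]
      apply lt_of_le_of_ne (Subgroup.card_le_card_group H)
      intro h
      exact hH (Subgroup.eq_top_of_card_eq H h)
    letI : Fintype H := Fintype.ofFinite H
    have hstarH : ∀ R : Subgroup H, IsPGroup p R → ∀ x ∈ R, x ≠ 1 → ∀ g : H,
        g * x = x * g → ∀ y ∈ R, g * y = y * g := by
      intro R hR x hx hx1 g hgx y hy
      have hR' : IsPGroup p (R.map H.subtype) := hR.map H.subtype
      have h1 := hstar (R.map H.subtype) hR' (x : G) ⟨x, hx, rfl⟩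
        (fun e => hx1 (Subtype.ext e)) (g : G) (congrArg Subtype.val hgx) (y : G) ⟨y, hy, rfl⟩
      exact Subtype.ext h1
    have hχH : IsCharacter H (χ ∘ H.subtype) := isCharacter_restrict H hχ
    have hfaithH : ∀ h : H, (χ ∘ H.subtype) h = (χ ∘ H.subtype) 1 → h = 1 := by
      intro h hh
      exact Subtype.ext (hfaith (h : G) hh)
    have hcardQ : Nat.card ((Q.subtype hQH : Sylow p H) : Subgroup H) =
        Nat.card (P : Subgroup G) := by
      rw [Sylow.coe_subtype, P.card_eq_multiplicity, ← Q.card_eq_multiplicity]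
      exact Nat.card_congr (Subgroup.subgroupOfEquivOfLe hQH).toEquiv
    have hdegH : (deg (χ ∘ H.subtype)) ^ 2 + 1 <
        Nat.card ((Q.subtype hQH : Sylow p H) : Subgroup H) := by
      rw [hcardQ]
      exact hdeg
    have hnorm := ih (Nat.card H) hcardH H rfl hstarH (χ ∘ H.subtype) hχH hfaithH
      (Q.subtype hQH) hdegH
    rw [Sylow.coe_subtype] at hnorm
    exact (Subgroup.normal_subgroupOf_iff_le_normalizer hQH).mp hnorm
  have ctx := ctx_of_minimal P hstar hmin hPn
  obtain ⟨n, ρ, rfl⟩ := hχ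
  have hdn : deg ρ.character = n := by
    unfold deg
    rw [Representation.char_one, Module.finrank_fin_fun]
    simp
  have hlin : ∀ ξ : IrrCharacter G, classInner ρ.character (ξ : G → ℂ) ≠ 0 →
      (ξ : G → ℂ) 1 = 1 := by
    intro ξ hne
    obtain ⟨d, hd1, hdpos, hdle, -⟩ := Cfsg.Agent.Lib.Helper4.constituent_degree ρ ξ hne
    apply core_linear (P : Subgroup G) ctx ξ.2
    have hdξ : deg (ξ : G → ℂ) = d := by
      have h1 := (deg_spec ξ.2).1
      rw [hd1] at h1
      exact_mod_cast h1.symm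
    rw [Module.finrank_fin_fun] at hdle
    rw [hdξ]
    rw [hdn] at hdeg
    exact lt_of_le_of_lt (Nat.add_le_add_right (Nat.pow_le_pow_left hdle 2) 1) hdeg
  have hcomm := Cfsg.Agent.Lib.Helper4.rho_commutator_of_linear_constituents ρ hlin
  apply hPn
  constructor
  intro x hx g
  have h1 : ρ.character (g * x * g⁻¹ * x⁻¹) = ρ.character 1 := by
    show LinearMap.trace ℂ _ (ρ (g * x * g⁻¹ * x⁻¹)) = LinearMap.trace ℂ _ (ρ 1)
    rw [hcomm g x, map_one]
    rfl
  have h2 := hfaith _ h1
  have h3 : g * x * g⁻¹ = x := by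
    have h4 : g * x * g⁻¹ = (g * x * g⁻¹ * x⁻¹) * x := by group
    rw [h4, h2, one_mul]
  rw [h3]
  exact hx

end Cfsg.Agent.Lib.Helper26.BL
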