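import Mathlib
import Cfsg.Prelude.Def_Characters
import Cfsg.Prelude.Def_Blocks
import Cfsg.Agent.Lib.Helper4.Deflate
import Cfsg.Agent.Lib.Helper7.ProjDecomp
import Cfsg.Agent.Lib.Helper26.BLE

set_option autoImplicit false

/-!
# Brauer–Leonard: the alternative for a non-principal irreducible character (helper26)
-/

namespace Cfsg.Agent.Lib.Helper26.BL

open Cfsg
open scoped Pointwise

universe u

/-- partial norm products `∏_{i<j} k^i y k^{-i}` -/
def normSeq {G : Type u} [Group G] (k y : G) : ℕ → G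
  | 0 => 1
  | (j + 1) => normSeq k y j * (k ^ j * y * (k ^ j)⁻¹)

section Alt
variable {G : Type u} [Group G] [Finite G] {p : ℕ} [hp : Fact p.Prime]

/-- uniform centralizers -/
def UC (P : Sylow p G) : Prop :=
  ∀ x ∈ (P : Subgroup G), x ≠ 1 →
    Subgroup.centralizer ({x} : Set G) = Subgroup.centralizer ((P : Subgroup G) : Set G)

theorem uc_comm {P : Sylow p G} (h : UC P) : ∀ x ∈ (P : Subgroup G), x ≠ 1 → ∀ g : G,
    g * x = x * g → ∀ y ∈ (P : Subgroup G), g * y = y * g := by
  intro x hx hx1 g hgx y hy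
  have h1 : g ∈ Subgroup.centralizer ({x} : Set G) := by
    rw [Subgroup.mem_centralizer_iff]
    intro z hz
    rw [Set.mem_singleton_iff] at hz
    rw [hz]
    exact hgx.symm
  rw [h x hx hx1, Subgroup.mem_centralizer_iff] at h1
  exact (h1 y hy).symm

theorem uc_ab {P : Sylow p G} (h : UC P) : ∀ a ∈ (P : Subgroup G), ∀ b ∈ (P : Subgroup G),
    a * b = b * a := by
  intro a ha b hb
  by_cases ha1 : a = 1
  · rw [ha1, one_mul, mul_one]
  · exact uc_comm h a ha ha1 a rfl b hb

theorem uc_all {P : Sylow p G} (hstar : UC P) : ∀ R : Subgroup G, IsPGroup p R → ∀ x ∈ R,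
    x ≠ 1 → ∀ g : G, g * x = x * g → ∀ y ∈ R, g * y = y * g := by
  intro R hR x hx hx1 k hkx y hy
  obtain ⟨Q, hRQ⟩ := hR.exists_le_sylow
  obtain ⟨g, hg⟩ := MulAction.exists_smul_eq G P Q
  have hmem : ∀ w ∈ R, ∃ w₀ ∈ (P : Subgroup G), w = g * w₀ * g⁻¹ := by
    intro w hw
    have h1 : w ∈ (Q : Subgroup G) := hRQ hw
    rw [← hg, Sylow.coe_subgroup_smul, Subgroup.mem_smul_pointwise_iff_exists] at h1
    obtain ⟨w₀, hw₀, e⟩ := h1
    refine ⟨w₀, hw₀, ?_⟩
    rw [← e]
    simp [MulAut.smul_def, MulAut.conj_apply]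
  obtain ⟨x₀, hx₀, rfl⟩ := hmem x hx
  obtain ⟨y₀, hy₀, rfl⟩ := hmem y hy
  have hx₀1 : x₀ ≠ 1 := by
    intro e
    apply hx1
    rw [e]
    group
  have h2 : g⁻¹ * k * g * x₀ = x₀ * (g⁻¹ * k * g) := by
    have e1 : g⁻¹ * k * g * x₀ = g⁻¹ * (k * (g * x₀ * g⁻¹)) * g := by group
    have e2 : x₀ * (g⁻¹ * k * g) = g⁻¹ * ((g * x₀ * g⁻¹) * k) * g := by group
    rw [e1, e2, hkx]
  have h3 := uc_comm hstar x₀ hx₀ hx₀1 _ h2 y₀ hy₀
  have h5 : k * (g * y₀ * g⁻¹) = g * (g⁻¹ * k * g * y₀) * g⁻¹ := by group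
  have h6 : g * y₀ * g⁻¹ * k = g * (y₀ * (g⁻¹ * k * g)) * g⁻¹ := by group
  rw [h5, h6, h3]

theorem uc_TI {P : Sylow p G} (hstar : UC P) (P' : Sylow p G) {q : G}
    (hq : q ∈ (P : Subgroup G)) (hq' : q ∈ (P' : Subgroup G)) (hq1 : q ≠ 1) :
    (P' : Subgroup G) = (P : Subgroup G) := by
  classical
  letI : Fintype G := Fintype.ofFinite G
  have hab := uc_ab hstar
  have hall := uc_all hstar
  have h1 : (P : Subgroup G) ≤ Subgroup.normalizer ((P' : Subgroup G) : Set G) := by
    intro a ha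
    have hc : ∀ y ∈ (P' : Subgroup G), a * y = y * a :=
      hall (P' : Subgroup G) P'.isPGroup' q hq' hq1 a (hab a ha q hq)
    rw [Subgroup.mem_normalizer_iff]
    intro h
    constructor
    · intro hh
      have e : a * h * a⁻¹ = h := by
        rw [hc h hh]
        group
      rw [e]
      exact hh
    · intro hh
      have e1 := hc _ hh
      have e : h = a * h * a⁻¹ := by
        calc h = a⁻¹ * ((a * h * a⁻¹) * a) := by group
          _ = a⁻¹ * (a * (a * h * a⁻¹)) := by rw [e1]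
          _ = a * h * a⁻¹ := by group
      rw [e]
      exact hh
  exact (sylow_eq_of_le_normalizer P' P h1).symm

theorem uc_frattini {P : Sylow p G} (hstar : UC P) (K : Subgroup G) [K.Normal] {q : G}
    (hqP : q ∈ (P : Subgroup G)) (hqK : q ∈ K) (hq1 : q ≠ 1) :
    Subgroup.normalizer ((P : Subgroup G) : Set G) ⊔ K = ⊤ := by
  classical
  letI : Fintype G := Fintype.ofFinite G
  have hQ₀ : IsPGroup p (((P : Subgroup G) ⊓ K).subgroupOf K) :=
    (P.isPGroup'.to_le inf_le_left).comap_subtype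
  obtain ⟨Q', hQ'⟩ := hQ₀.exists_le_sylow
  have hS : IsPGroup p ((Q' : Subgroup K).map K.subtype) := Q'.isPGroup'.map _
  obtain ⟨P', hP'⟩ := hS.exists_le_sylow
  have hqS : q ∈ (Q' : Subgroup K).map K.subtype := by
    refine ⟨⟨q, hqK⟩, hQ' ?_, rfl⟩
    rw [Subgroup.mem_subgroupOf]
    exact ⟨hqP, hqK⟩
  have hPP' : (P' : Subgroup G) = (P : Subgroup G) := uc_TI hstar P' hqP (hP' hqS) hq1
  have hSP : (Q' : Subgroup K).map K.subtype ≤ (P : Subgroup G) := le_trans hP' (le_of_eq hPP')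
  have hfr := Sylow.normalizer_sup_eq_top Q'
  rw [eq_top_iff, ← hfr]
  refine sup_le_sup_right ?_ K
  intro g hg
  have h1 : g * q * g⁻¹ ∈ (Q' : Subgroup K).map K.subtype :=
    (Subgroup.mem_normalizer_iff.mp hg q).mp hqS
  have h2 : g * q * g⁻¹ ∈ (P : Subgroup G) := hSP h1
  have h3 : g * q * g⁻¹ ∈ ((conjSylow P g : Sylow p G) : Subgroup G) := by
    rw [coe_conjSylow]
    exact ⟨q, hqP, rfl⟩
  have h4 : g * q * g⁻¹ ≠ 1 := by
    intro e
    apply hq1
    have e' : q = g⁻¹ * (g * q * g⁻¹) * g := by group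
    rw [e', e]
    group
  have h5 := uc_TI hstar (conjSylow P g) h2 h3 h4
  rw [coe_conjSylow] at h5
  rw [Subgroup.mem_normalizer_iff]
  intro h
  constructor
  · intro hh
    rw [← h5]
    exact ⟨h, hh, rfl⟩
  · intro hh
    rw [← h5] at hh
    obtain ⟨h', hh', e⟩ := hh
    have e' : g * h' * g⁻¹ = g * h * g⁻¹ := e
    have e'' : h' = h := mul_left_cancel (mul_right_cancel e')
    rw [← e'']
    exact hh'

theorem map_top_of_normal {P : Sylow p G}
    (hgen : ∀ M : Subgroup G, M.Normal → (P : Subgroup G) ≤ M → M = ⊤)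
    (K : Subgroup G) [K.Normal]
    (h : ((P : Subgroup G).map (QuotientGroup.mk' K)).Normal) :
    (P : Subgroup G).map (QuotientGroup.mk' K) = ⊤ := by
  have hM : (((P : Subgroup G).map (QuotientGroup.mk' K)).comap (QuotientGroup.mk' K)) = ⊤ :=
    hgen _ (h.comap _) (Subgroup.le_comap_map _ _)
  rw [← Subgroup.map_comap_eq_self_of_surjective (QuotientGroup.mk'_surjective K)
    ((P : Subgroup G).map (QuotientGroup.mk' K)), hM]
  exact Subgroup.map_top_of_surjective _ (QuotientGroup.mk'_surjective K)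

theorem cover_of_map_top {P : Sylow p G} (K : Subgroup G) [K.Normal]
    (h : (P : Subgroup G).map (QuotientGroup.mk' K) = ⊤) :
    ∀ g : G, ∃ a ∈ (P : Subgroup G), a⁻¹ * g ∈ K := by
  intro g
  have hg : (QuotientGroup.mk' K) g ∈ (P : Subgroup G).map (QuotientGroup.mk' K) := by
    rw [h]
    exact Subgroup.mem_top _
  obtain ⟨a, ha, e⟩ := hg
  exact ⟨a, ha, QuotientGroup.eq.mp e⟩

theorem uc_map_top_of_inter {P : Sylow p G} (hstar : UC P)
    (hgen : ∀ M : Subgroup G, M.Normal → (P : Subgroup G) ≤ M → M = ⊤)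
    (K : Subgroup G) [K.Normal] {q : G}
    (hqP : q ∈ (P : Subgroup G)) (hqK : q ∈ K) (hq1 : q ≠ 1) :
    (P : Subgroup G).map (QuotientGroup.mk' K) = ⊤ := by
  apply map_top_of_normal hgen K
  have hfr := uc_frattini hstar K hqP hqK hq1
  constructor
  intro x' hx' g'
  obtain ⟨a, ha, rfl⟩ := hx'
  obtain ⟨g, rfl⟩ := QuotientGroup.mk'_surjective K g'
  have hg : g ∈ Subgroup.normalizer ((P : Subgroup G) : Set G) ⊔ K := by
    rw [hfr]
    exact Subgroup.mem_top g
  rw [Subgroup.mem_sup_of_normal_right] at hg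
  obtain ⟨n', hn', k', hk', rfl⟩ := hg
  have hk1 : (QuotientGroup.mk' K) k' = 1 := (QuotientGroup.eq_one_iff k').mpr hk'
  rw [map_mul, hk1, mul_one]
  refine ⟨n' * a * n'⁻¹, (Subgroup.mem_normalizer_iff.mp hn' a).mp ha, ?_⟩
  simp only [map_mul, map_inv]

theorem linear_of_cover {P : Sylow p G}
    (hab : ∀ a ∈ (P : Subgroup G), ∀ b ∈ (P : Subgroup G), a * b = b * a)
    {m : ℕ} (ρ : Representation ℂ G (Fin m → ℂ)) (hirr : ρ.IsIrreducible)
    (hcov : ∀ g : G, ∃ a ∈ (P : Subgroup G), a⁻¹ * g ∈ MonoidHom.ker ρ) : m = 1 := by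
  classical
  letI : Fintype G := Fintype.ofFinite G
  have hρ : ∀ g : G, ∃ a ∈ (P : Subgroup G), ρ g = ρ a := by
    intro g
    obtain ⟨a, ha, hk⟩ := hcov g
    refine ⟨a, ha, ?_⟩
    rw [MonoidHom.mem_ker] at hk
    have e : ρ g = ρ (a * (a⁻¹ * g)) := by rw [mul_inv_cancel_left]
    rw [e, map_mul, hk, mul_one]
  have hcomm : ∀ z ∈ (⊤ : Subgroup G), ∀ g : G, ρ z * ρ g = ρ g * ρ z := by
    intro z _ g
    obtain ⟨a, ha, e1⟩ := hρ z
    obtain ⟨b, hb, e2⟩ := hρ g
    rw [e1, e2, ← map_mul, ← map_mul, hab a ha b hb]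
  have h1 := Cfsg.Agent.Lib.Helper7.degree_dvd_index_of_comm ρ hirr ⊤ hcomm
  rw [Subgroup.index_top, Module.finrank_fin_fun] at h1
  exact Nat.dvd_one.mp h1

theorem uc_norm_trick {P : Sylow p G} (hstar : UC P) (K : Subgroup G) [K.Normal]
    {k : G} (hkN : k ∈ Subgroup.normalizer ((P : Subgroup G) : Set G)) (hkK : k ∈ K)
    {y : G} (hyP : y ∈ (P : Subgroup G)) (hyK : y ∉ K) :
    k ∈ Subgroup.centralizer ((P : Subgroup G) : Set G) := by
  have hab := uc_ab hstar
  -- (i) `k ^ t ∈ P`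
  have hktP : k ^ (P : Subgroup G).index ∈ (P : Subgroup G) := by
    have hx : (k ^ (P : Subgroup G).index) ^ (Nat.card (P : Subgroup G)) = 1 := by
      rw [← pow_mul, Subgroup.index_mul_card, pow_card_eq_one']
    obtain ⟨n, hn⟩ := IsPGroup.iff_card.mp P.isPGroup'
    rw [hn] at hx
    obtain ⟨j, -, hj⟩ := (Nat.dvd_prime_pow hp.out).mp (orderOf_dvd_of_pow_eq_one hx)
    have hR : IsPGroup p (Subgroup.zpowers (k ^ (P : Subgroup G).index)) :=
      IsPGroup.of_card (n := j) (by rw [Nat.card_zpowers, hj])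
    have hRN : Subgroup.zpowers (k ^ (P : Subgroup G).index) ≤
        Subgroup.normalizer ((P : Subgroup G) : Set G) := by
      rw [Subgroup.zpowers_le]
      exact Subgroup.pow_mem _ hkN _
    have hsup : IsPGroup p
        (Subgroup.zpowers (k ^ (P : Subgroup G).index) ⊔ (P : Subgroup G) : Subgroup G) :=
      hR.to_sup_of_normal_right' P.isPGroup' hRN
    have heq := P.is_maximal' hsup le_sup_right
    have hmem : k ^ (P : Subgroup G).index ∈
        Subgroup.zpowers (k ^ (P : Subgroup G).index) ⊔ (P : Subgroup G) :=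
      (le_sup_left : Subgroup.zpowers (k ^ (P : Subgroup G).index) ≤ _)
        (Subgroup.mem_zpowers _)
    rw [heq] at hmem
    exact hmem
  have hk1 : (QuotientGroup.mk' K) k = 1 := (QuotientGroup.eq_one_iff k).mpr hkK
  have hc : ∀ j : ℕ, k ^ j * y * (k ^ j)⁻¹ ∈ (P : Subgroup G) := fun j =>
    (Subgroup.mem_normalizer_iff.mp (Subgroup.pow_mem _ hkN j) y).mp hyP
  have hZP : ∀ j : ℕ, normSeq k y j ∈ (P : Subgroup G) := by
    intro j
    induction j with
    | zero => exact Subgroup.one_mem _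
    | succ j ih => exact Subgroup.mul_mem _ ih (hc j)
  have hZc : ∀ j : ℕ, k * normSeq k y j * k⁻¹ =
      y⁻¹ * normSeq k y j * (k ^ j * y * (k ^ j)⁻¹) := by
    intro j
    induction j with
    | zero => simp [normSeq]
    | succ j ih =>
      show k * (normSeq k y j * (k ^ j * y * (k ^ j)⁻¹)) * k⁻¹ =
        y⁻¹ * (normSeq k y j * (k ^ j * y * (k ^ j)⁻¹)) * (k ^ (j + 1) * y * (k ^ (j + 1))⁻¹)
      have e1 : k * (normSeq k y j * (k ^ j * y * (k ^ j)⁻¹)) * k⁻¹ =
          (k * normSeq k y j * k⁻¹) * (k * (k ^ j * y * (k ^ j)⁻¹) * k⁻¹) := by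
        simp only [mul_assoc, inv_mul_cancel_left]
      have e2 : k * (k ^ j * y * (k ^ j)⁻¹) * k⁻¹ = k ^ (j + 1) * y * (k ^ (j + 1))⁻¹ := by
        rw [pow_succ', mul_inv_rev]
        simp only [mul_assoc]
      rw [e1, ih, e2]
      simp only [mul_assoc]
  have hZπ : ∀ j : ℕ, (QuotientGroup.mk' K) (normSeq k y j) = (QuotientGroup.mk' K) y ^ j := by
    intro j
    induction j with
    | zero => simp [normSeq]
    | succ j ih =>
      show (QuotientGroup.mk' K) (normSeq k y j * (k ^ j * y * (k ^ j)⁻¹)) = _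
      rw [map_mul, ih, pow_succ]
      congr 1
      simp only [map_mul, map_pow, map_inv, hk1, one_pow, one_mul, inv_one, mul_one]
  have hct : k ^ (P : Subgroup G).index * y * (k ^ (P : Subgroup G).index)⁻¹ = y := by
    rw [hab _ hktP y hyP, mul_inv_cancel_right]
  have hfix : k * normSeq k y (P : Subgroup G).index * k⁻¹ =
      normSeq k y (P : Subgroup G).index := by
    rw [hZc, hct, mul_assoc, hab _ (hZP _) y hyP, inv_mul_cancel_left]
  have hZ1 : normSeq k y (P : Subgroup G).index ≠ 1 := by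
    intro e
    have h1 : (QuotientGroup.mk' K) y ^ (P : Subgroup G).index = 1 := by
      rw [← hZπ, e, map_one]
    have h2 : (QuotientGroup.mk' K) y ^ (Nat.card (P : Subgroup G)) = 1 := by
      rw [← map_pow]
      have h3 : y ^ Nat.card (P : Subgroup G) = 1 := by
        have h4 := pow_card_eq_one' (G := (P : Subgroup G)) (x := ⟨y, hyP⟩)
        have h5 := congrArg Subtype.val h4
        rw [Subgroup.coe_pow, Subgroup.coe_one] at h5
        exact h5
      rw [h3, map_one]
    have h3 : orderOf ((QuotientGroup.mk' K) y) ∣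
        Nat.gcd (Nat.card (P : Subgroup G)) (P : Subgroup G).index :=
      Nat.dvd_gcd (orderOf_dvd_of_pow_eq_one h2) (orderOf_dvd_of_pow_eq_one h1)
    rw [Nat.Coprime.gcd_eq_one P.card_coprime_index] at h3
    have h4 : (QuotientGroup.mk' K) y = 1 := orderOf_eq_one_iff.mp (Nat.dvd_one.mp h3)
    exact hyK ((QuotientGroup.eq_one_iff y).mp h4)
  have hcom : k * normSeq k y (P : Subgroup G).index =
      normSeq k y (P : Subgroup G).index * k := by
    calc k * normSeq k y (P : Subgroup G).index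
        = (k * normSeq k y (P : Subgroup G).index * k⁻¹) * k := by group
      _ = normSeq k y (P : Subgroup G).index * k := by rw [hfix]
  have hfin := uc_comm hstar _ (hZP _) hZ1 k hcom
  rw [Subgroup.mem_centralizer_iff]
  intro h hh
  exact (hfin h hh).symm

theorem uc_normalizer_le_centralizer {P : Sylow p G} (hstar : UC P) (K : Subgroup G)
    [K.Normal] (hcov : ∀ g : G, ∃ a ∈ (P : Subgroup G), a⁻¹ * g ∈ K)
    {y : G} (hyP : y ∈ (P : Subgroup G)) (hyK : y ∉ K) :
    Subgroup.normalizer ((P : Subgroup G) : Set G) ≤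
      Subgroup.centralizer ((P : Subgroup G) : Set G) := by
  intro a ha
  obtain ⟨u, hu, hk⟩ := hcov a
  have hkN : u⁻¹ * a ∈ Subgroup.normalizer ((P : Subgroup G) : Set G) :=
    Subgroup.mul_mem _ (Subgroup.inv_mem _ (Subgroup.le_normalizer hu)) ha
  have h1 := uc_norm_trick hstar K hkN hk hyP hyK
  have h2 : u ∈ Subgroup.centralizer ((P : Subgroup G) : Set G) := by
    rw [Subgroup.mem_centralizer_iff]
    intro h hh
    exact uc_ab hstar h hh u hu
  have e : a = u * (u⁻¹ * a) := by rw [mul_inv_cancel_left]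
  rw [e]
  exact Subgroup.mul_mem _ h2 h1

theorem exists_normal_complement {P : Sylow p G}
    (h : Subgroup.normalizer ((P : Subgroup G) : Set G) ≤
      Subgroup.centralizer ((P : Subgroup G) : Set G)) :
    ∃ N : Subgroup G, N.Normal ∧ N.index = Nat.card (P : Subgroup G) := by
  refine ⟨(MonoidHom.transferSylow P h).ker, MonoidHom.normal_ker _, ?_⟩
  exact (MonoidHom.ker_transferSylow_isComplement' P h).symm.index_eq_card

theorem uc_quotient {P : Sylow p G} (hstar : UC P) (K : Subgroup G) [K.Normal]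
    (hPK : (P : Subgroup G) ⊓ K = ⊥) :
    UC (P.mapSurjective (QuotientGroup.mk'_surjective K)) ∧
    Nat.card ((P : Subgroup G).map (QuotientGroup.mk' K)) = Nat.card (P : Subgroup G) := by
  have hπ : Function.Surjective (QuotientGroup.mk' K) := QuotientGroup.mk'_surjective K
  have hinj : ∀ a ∈ (P : Subgroup G), (QuotientGroup.mk' K) a = 1 → a = 1 := by
    intro a ha e
    have h1 : a ∈ (P : Subgroup G) ⊓ K := ⟨ha, (QuotientGroup.eq_one_iff a).mp e⟩
    rw [hPK] at h1
    exact Subgroup.mem_bot.mp h1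
  have hcard : Nat.card ((P : Subgroup G).map (QuotientGroup.mk' K)) =
      Nat.card (P : Subgroup G) := by
    symm
    apply Nat.card_congr
    refine Equiv.ofBijective (fun a : (P : Subgroup G) =>
      (⟨(QuotientGroup.mk' K) a, Subgroup.mem_map_of_mem _ a.2⟩ :
        (P : Subgroup G).map (QuotientGroup.mk' K))) ⟨?_, ?_⟩
    · intro a b e
      have e' : (QuotientGroup.mk' K) (a : G) = (QuotientGroup.mk' K) (b : G) :=
        congrArg Subtype.val e
      have h1 : (QuotientGroup.mk' K) ((a : G)⁻¹ * (b : G)) = 1 := by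
        rw [map_mul, map_inv, e', inv_mul_cancel]
      have h2 := hinj _ ((P : Subgroup G).mul_mem ((P : Subgroup G).inv_mem a.2) b.2) h1
      apply Subtype.ext
      exact inv_mul_eq_one.mp h2
    · rintro ⟨_, a, ha, rfl⟩
      exact ⟨⟨a, ha⟩, rfl⟩
  have hpK : ¬ p ∣ Nat.card K := by
    intro hdiv
    obtain ⟨n, hn⟩ := IsPGroup.iff_card.mp P.isPGroup'
    have h1 : p ^ n ∣ Nat.card (G ⧸ K) := by
      rw [← hn, ← hcard]
      exact Subgroup.card_subgroup_dvd_card _
    have h2 : p * p ^ n ∣ Nat.card G := by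
      rw [← Subgroup.card_mul_index K, Subgroup.index_eq_card]
      exact Nat.mul_dvd_mul hdiv h1
    have h3 : Nat.card G = p ^ n * (P : Subgroup G).index := by
      rw [← hn]
      exact (Subgroup.card_mul_index _).symm
    rw [h3, mul_comm p] at h2
    have h4 : p ∣ (P : Subgroup G).index :=
      (Nat.mul_dvd_mul_iff_left (pow_pos hp.out.pos n)).mp h2
    exact P.not_dvd_index h4
  refine ⟨?_, hcard⟩
  intro x' hx' hx'1
  apply le_antisymm
  · intro g' hg'
    obtain ⟨x₀, hx₀, rfl⟩ := hx'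
    obtain ⟨g, rfl⟩ := hπ g'
    have hx₀1 : x₀ ≠ 1 := by
      rintro rfl
      exact hx'1 (map_one _)
    have hcomm : (QuotientGroup.mk' K) g * (QuotientGroup.mk' K) x₀ =
        (QuotientGroup.mk' K) x₀ * (QuotientGroup.mk' K) g :=
      ((Subgroup.mem_centralizer_iff.mp hg') _ (Set.mem_singleton _)).symm
    have hfix : ∃ u : G, (QuotientGroup.mk' K) u = (QuotientGroup.mk' K) g ∧
        x₀ * u = u * x₀ := by
      have hzc : ∀ h : Subgroup.zpowers x₀, (QuotientGroup.mk' K) (h : G) *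
          (QuotientGroup.mk' K) g = (QuotientGroup.mk' K) g * (QuotientGroup.mk' K) (h : G) := by
        rintro ⟨h, hh⟩
        obtain ⟨i, rfl⟩ := Subgroup.mem_zpowers_iff.mp hh
        show (QuotientGroup.mk' K) (x₀ ^ i) * (QuotientGroup.mk' K) g =
          (QuotientGroup.mk' K) g * (QuotientGroup.mk' K) (x₀ ^ i)
        rw [map_zpow]
        exact (Commute.zpow_right (show Commute ((QuotientGroup.mk' K) g)
          ((QuotientGroup.mk' K) x₀) from hcomm) i).eq.symm
      letI : MulAction (Subgroup.zpowers x₀)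
          {u : G // (QuotientGroup.mk' K) u = (QuotientGroup.mk' K) g} :=
        { smul := fun h u => ⟨(h : G) * (u : G) * (h : G)⁻¹, by
            rw [map_mul, map_mul, map_inv, u.2, hzc h, mul_inv_cancel_right]⟩
          one_smul := fun u => by
            apply Subtype.ext
            show ((1 : Subgroup.zpowers x₀) : G) * (u : G) *
              ((1 : Subgroup.zpowers x₀) : G)⁻¹ = (u : G)
            simp
          mul_smul := fun a b u => by
            apply Subtype.ext
            show ((a * b : Subgroup.zpowers x₀) : G) * (u : G) *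
              ((a * b : Subgroup.zpowers x₀) : G)⁻¹ =
              (a : G) * ((b : G) * (u : G) * (b : G)⁻¹) * (a : G)⁻¹
            simp [mul_assoc] }
      have hS : Nat.card {u : G // (QuotientGroup.mk' K) u = (QuotientGroup.mk' K) g} =
          Nat.card K := by
        apply Nat.card_congr
        exact
          { toFun := fun u => ⟨g⁻¹ * (u : G), by
              apply (QuotientGroup.eq_one_iff _).mp
              show (QuotientGroup.mk' K) (g⁻¹ * (u : G)) = 1
              rw [map_mul, map_inv, u.2, inv_mul_cancel]⟩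
            invFun := fun c => ⟨g * (c : G), by
              have hc1 : (QuotientGroup.mk' K) (c : G) = 1 :=
                (QuotientGroup.eq_one_iff (c : G)).mpr c.2
              rw [map_mul, hc1, mul_one]⟩
            left_inv := fun u => by
              apply Subtype.ext
              simp
            right_inv := fun c => by
              apply Subtype.ext
              simp }
      have hpg : IsPGroup p (Subgroup.zpowers x₀) :=
        P.isPGroup'.to_le (by rw [Subgroup.zpowers_le]; exact hx₀)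
      have hne := hpg.nonempty_fixed_point_of_prime_not_dvd_card
        {u : G // (QuotientGroup.mk' K) u = (QuotientGroup.mk' K) g} (by rw [hS]; exact hpK)
      obtain ⟨u, hu⟩ := hne
      refine ⟨u.1, u.2, ?_⟩
      have h1 := hu ⟨x₀, Subgroup.mem_zpowers x₀⟩
      have h2 : x₀ * (u : G) * x₀⁻¹ = (u : G) := congrArg Subtype.val h1
      calc x₀ * u.1 = (x₀ * u.1 * x₀⁻¹) * x₀ := by group
        _ = u.1 * x₀ := by rw [h2]
    obtain ⟨u, hu, hux⟩ := hfix
    have huP := uc_comm hstar x₀ hx₀ hx₀1 u hux.symm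
    rw [Subgroup.mem_centralizer_iff]
    rintro _ ⟨y₀, hy₀, rfl⟩
    rw [← hu, ← map_mul, ← map_mul, huP y₀ hy₀]
  · exact Subgroup.centralizer_le (Set.singleton_subset_iff.mpr hx')

end Alt

theorem alt_main {G : Type u} [Group G] [Finite G] {p : ℕ} [hp : Fact p.Prime] (P : Sylow p G)
    (hstar : UC P)
    (hgen : ∀ M : Subgroup G, M.Normal → (P : Subgroup G) ≤ M → M = ⊤)
    (χ : IrrCharacter G) (h1 : (χ : G → ℂ) ≠ fun _ => 1)
    (hdeg : Cfsg.charDegree (χ : G → ℂ) ^ 2 + 1 < Nat.card (P : Subgroup G)) :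
    (∃ N : Subgroup G, N.Normal ∧ N.index = Nat.card (P : Subgroup G)) ∧
      Cfsg.charDegree (χ : G → ℂ) = 1 := by
  classical
  letI : Fintype G := Fintype.ofFinite G
  obtain ⟨m, ρ, hirr, hχ⟩ := χ.2
  have hdm : Cfsg.charDegree (χ : G → ℂ) = m := by
    rw [← hχ, Cfsg.Agent.Lib.Helper4.charDegree_character, Module.finrank_fin_fun]
  haveI hKn : (MonoidHom.ker ρ).Normal := MonoidHom.normal_ker ρ
  have hab := uc_ab hstar
  have hlin : (∀ g : G, ∃ a ∈ (P : Subgroup G), a⁻¹ * g ∈ MonoidHom.ker ρ) → m = 1 :=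
    fun hcov => linear_of_cover hab ρ hirr hcov
  by_cases hQ : (P : Subgroup G) ⊓ MonoidHom.ker ρ = ⊥
  · obtain ⟨hUC, hcardP⟩ := uc_quotient hstar (MonoidHom.ker ρ) hQ
    letI : Fintype (G ⧸ MonoidHom.ker ρ) := Fintype.ofFinite _
    have hχ' : IsCharacter (G ⧸ MonoidHom.ker ρ)
        (Cfsg.Agent.Lib.Helper4.deflate ρ (MonoidHom.ker ρ) le_rfl).character :=
      ⟨m, Cfsg.Agent.Lib.Helper4.deflate ρ (MonoidHom.ker ρ) le_rfl, rfl⟩
    have hfaith : ∀ g' : G ⧸ MonoidHom.ker ρ,
        (Cfsg.Agent.Lib.Helper4.deflate ρ (MonoidHom.ker ρ) le_rfl).character g' =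
        (Cfsg.Agent.Lib.Helper4.deflate ρ (MonoidHom.ker ρ) le_rfl).character 1 → g' = 1 := by
      intro g' hg'
      obtain ⟨g, rfl⟩ := QuotientGroup.mk_surjective g'
      have e1 : (Cfsg.Agent.Lib.Helper4.deflate ρ (MonoidHom.ker ρ) le_rfl).character
          (QuotientGroup.mk g) = ρ.character g := rfl
      have e2 : (Cfsg.Agent.Lib.Helper4.deflate ρ (MonoidHom.ker ρ) le_rfl).character
          (1 : G ⧸ MonoidHom.ker ρ) = ρ.character 1 := rfl
      rw [e1, e2, Cfsg.Agent.Lib.Helper4.character_eq_one_iff_mem_ker] at hg'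
      exact (QuotientGroup.eq_one_iff g).mpr hg'
    have hdeg' : (deg (Cfsg.Agent.Lib.Helper4.deflate ρ (MonoidHom.ker ρ) le_rfl).character) ^ 2
        + 1 < Nat.card ((P.mapSurjective (QuotientGroup.mk'_surjective (MonoidHom.ker ρ)) :
          Sylow p (G ⧸ MonoidHom.ker ρ)) : Subgroup (G ⧸ MonoidHom.ker ρ)) := by
      have e1 : deg (Cfsg.Agent.Lib.Helper4.deflate ρ (MonoidHom.ker ρ) le_rfl).character =
          Cfsg.charDegree (χ : G → ℂ) := by
        rw [← hχ]
        rfl
      rw [e1]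
      show _ < Nat.card ((P : Subgroup G).map (QuotientGroup.mk' (MonoidHom.ker ρ)))
      rw [hcardP]
      exact hdeg
    have hnorm := main_aux p (Nat.card (G ⧸ MonoidHom.ker ρ)) (G ⧸ MonoidHom.ker ρ) rfl
      (uc_all hUC) _ hχ' hfaith _ hdeg'
    have htop := map_top_of_normal hgen (MonoidHom.ker ρ) hnorm
    have hcov := cover_of_map_top (MonoidHom.ker ρ) htop
    have hm1 := hlin hcov
    refine ⟨⟨MonoidHom.ker ρ, hKn, ?_⟩, by rw [hdm, hm1]⟩
    rw [Subgroup.index_eq_card, ← Subgroup.card_top (G := G ⧸ MonoidHom.ker ρ), ← htop, hcardP]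
  · obtain ⟨q, hq, hq1⟩ : ∃ q ∈ (P : Subgroup G) ⊓ MonoidHom.ker ρ, q ≠ 1 := by
      by_contra hcon
      push Not at hcon
      exact hQ ((Subgroup.eq_bot_iff_forall _).mpr hcon)
    obtain ⟨hqP, hqK⟩ := Subgroup.mem_inf.mp hq
    have htop := uc_map_top_of_inter hstar hgen (MonoidHom.ker ρ) hqP hqK hq1
    have hcov := cover_of_map_top (MonoidHom.ker ρ) htop
    have hm1 := hlin hcov
    have hy : ∃ y ∈ (P : Subgroup G), y ∉ MonoidHom.ker ρ := by
      by_contra hcon
      push Not at hcon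
      have hK : MonoidHom.ker ρ = ⊤ := hgen _ hKn hcon
      apply h1
      funext g
      have hg : g ∈ MonoidHom.ker ρ := by
        rw [hK]
        exact Subgroup.mem_top g
      rw [← Cfsg.Agent.Lib.Helper4.character_eq_one_iff_mem_ker] at hg
      rw [← hχ, hg, Representation.char_one, Module.finrank_fin_fun, hm1]
      simp
    obtain ⟨y, hyP, hyK⟩ := hy
    have hNC := uc_normalizer_le_centralizer hstar (MonoidHom.ker ρ) hcov hyP hyK
    exact ⟨exists_normal_complement hNC, by rw [hdm, hm1]⟩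

end Cfsg.Agent.Lib.Helper26.BL
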