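import Mathlib
import Cfsg.Prelude.Def_Blocks
import Cfsg.Agent.Lib.Helper4.GaloisChar
import Cfsg.Agent.Lib.Helper4.Artin
import Cfsg.Agent.Lib.Helper28.BlockIdem

set_option autoImplicit false

/-!
# Blocks do not depend on the maximal ideal over `p` (helper26)

The differences `d g = ω_χ(g) − ω_ψ(g)` are algebraic integers permuted by the Galois group
of the cyclotomic field, so `∏ g, (X − d g)` has rational integer coefficients.  If all `d g`
lie in one maximal ideal over `p`, the polynomial is `X ^ N` modulo `p`, hence every `d g` lies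
in every prime ideal over `p`.
-/

namespace Cfsg.Agent.Lib.Helper26.BlockIndep

open Cfsg Cfsg.Agent.Lib.Helper4 Cfsg.Agent.Lib.Helper28 Polynomial

section A

variable {G : Type*} [Group G] [Fintype G]

theorem mem_centralizer_singleton (a x : G) :
    x ∈ Subgroup.centralizer ({a} : Set G) ↔ Commute a x := by
  rw [Subgroup.mem_centralizer_iff]
  constructor
  · intro h
    exact h a (Set.mem_singleton a)
  · intro h y hy
    rw [Set.mem_singleton_iff] at hy
    rw [hy]
    exact h

/-- the centralizer of a coprime power is the centralizer of the element -/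
theorem centralizer_pow (g : G) (m : ℕ) (hm : m.Coprime (Nat.card G)) :
    Subgroup.centralizer ({g ^ m} : Set G) = Subgroup.centralizer ({g} : Set G) := by
  have hco : (orderOf g).Coprime m :=
    Nat.Coprime.coprime_dvd_left (orderOf_dvd_natCard g) hm.symm
  have hz := zpowers_pow_of_coprime g m hco
  have hg : g ∈ Subgroup.zpowers (g ^ m) := by
    rw [hz]
    exact Subgroup.mem_zpowers g
  obtain ⟨k, hk⟩ := Subgroup.mem_zpowers_iff.mp hg
  ext x
  rw [mem_centralizer_singleton, mem_centralizer_singleton]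
  constructor
  · intro h
    have h2 : Commute ((g ^ m) ^ k) x := h.zpow_left k
    rwa [hk] at h2
  · intro h
    exact h.pow_left m

variable {V₁ V₂ : Type*} [AddCommGroup V₁] [Module ℂ V₁] [FiniteDimensional ℂ V₁]
  [AddCommGroup V₂] [Module ℂ V₂] [FiniteDimensional ℂ V₂]

/-- the difference of central character values, inside the cyclotomic field -/
noncomputable def dK (ρ₁ : Representation ℂ G V₁) (ρ₂ : Representation ℂ G V₂) (g : G) :
    cycK (Nat.card G) :=
  (((Subgroup.centralizer ({g} : Set G)).index : ℕ) : cycK (Nat.card G)) * charK ρ₁ g /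
      ((Module.finrank ℂ V₁ : ℕ) : cycK (Nat.card G))
    - (((Subgroup.centralizer ({g} : Set G)).index : ℕ) : cycK (Nat.card G)) * charK ρ₂ g /
      ((Module.finrank ℂ V₂ : ℕ) : cycK (Nat.card G))

theorem coe_dK (ρ₁ : Representation ℂ G V₁) (ρ₂ : Representation ℂ G V₂) (g : G) :
    ((dK ρ₁ ρ₂ g : cycK (Nat.card G)) : ℂ) =
      centralChar ρ₁.character g - centralChar ρ₂.character g := by
  unfold dK centralChar
  rw [Representation.char_one, Representation.char_one]
  push_cast
  rfl

theorem embedding_dK (ρ₁ : Representation ℂ G V₁) (ρ₂ : Representation ℂ G V₂)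
    (σ : cycK (Nat.card G) →ₐ[ℚ] ℂ) (m : ℕ) (hm : m.Coprime (Nat.card G))
    (hσ : ∀ μ : cycK (Nat.card G), (μ : ℂ) ^ Nat.card G = 1 → σ μ = (μ : ℂ) ^ m) (g : G) :
    σ (dK ρ₁ ρ₂ g) = ((dK ρ₁ ρ₂ (g ^ m) : cycK (Nat.card G)) : ℂ) := by
  rw [coe_dK]
  unfold dK centralChar
  rw [map_sub, map_div₀, map_div₀, map_mul, map_mul, map_natCast, map_natCast, map_natCast,
    embedding_charK ρ₁ σ m hσ g, embedding_charK ρ₂ σ m hσ g, centralizer_pow g m hm,
    Representation.char_one, Representation.char_one]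

/-- the coefficients of `∏ g, (X - d g)` are rational -/
theorem coeff_rational (ρ₁ : Representation ℂ G V₁) (ρ₂ : Representation ℂ G V₂) (k : ℕ) :
    ∃ q : ℚ, (((∏ g : G, (X - C (dK ρ₁ ρ₂ g)) : (cycK (Nat.card G))[X]).coeff k :
      cycK (Nat.card G)) : ℂ) = (q : ℂ) := by
  have hN : 0 < Nat.card G := Nat.card_pos
  apply rational_of_fixed (Nat.card G) hN
  intro σ
  obtain ⟨m, hm, hσ⟩ := embedding_pow (Nat.card G) hN σ
  set PK : (cycK (Nat.card G))[X] := ∏ g : G, (X - C (dK ρ₁ ρ₂ g)) with hPK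
  have h1 : PK.map (σ : cycK (Nat.card G) →+* ℂ) =
      PK.map (algebraMap (cycK (Nat.card G)) ℂ) := by
    rw [hPK, Polynomial.map_prod, Polynomial.map_prod]
    have hR := Equiv.prod_comp (powCoprime hm.symm)
      (fun g : G => (X - C (dK ρ₁ ρ₂ g)).map (algebraMap (cycK (Nat.card G)) ℂ))
    rw [← hR]
    refine Finset.prod_congr rfl fun g _ => ?_
    rw [powCoprime_apply, Polynomial.map_sub, Polynomial.map_sub, Polynomial.map_X,
      Polynomial.map_X, Polynomial.map_C, Polynomial.map_C]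
    congr 2
    exact embedding_dK ρ₁ ρ₂ σ m hm hσ g
  have h2 := congrArg (fun P => P.coeff k) h1
  simp only [Polynomial.coeff_map] at h2
  exact h2

end A

section B

variable {G : Type*} [Fintype G]

/-- the key arithmetic step -/
theorem mem_of_prod (p : ℕ) (M M' : Ideal AlgInt) (hM : IsPModular p M)
    (hM' : IsPModular p M') (d : G → AlgInt) (hdM : ∀ g, d g ∈ M)
    (hrat : ∀ k, ∃ z : ℤ, (((∏ g : G, (X - C (d g)) : AlgInt[X]).coeff k : AlgInt) : ℂ) = (z : ℂ))
    (g₀ : G) : d g₀ ∈ M' := by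
  classical
  set PI : AlgInt[X] := ∏ g : G, (X - C (d g)) with hPI
  set N : ℕ := Fintype.card G with hN
  have hmonic : PI.Monic := monic_prod_of_monic _ _ (fun g _ => monic_X_sub_C _)
  have hdeg : PI.natDegree = N := by
    rw [hPI, natDegree_prod_of_monic _ _ (fun g _ => monic_X_sub_C _)]
    simp [natDegree_X_sub_C, hN]
  have hM1 : PI.map (Ideal.Quotient.mk M) = X ^ N := by
    have h0 : ∀ g, Ideal.Quotient.mk M (d g) = 0 :=
      fun g => Ideal.Quotient.eq_zero_iff_mem.mpr (hdM g)
    rw [hPI, Polynomial.map_prod]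
    simp only [Polynomial.map_sub, Polynomial.map_X, Polynomial.map_C, h0, map_zero, sub_zero,
      Finset.prod_const, Finset.card_univ, hN]
  have hcoefM : ∀ k, k ≠ N → PI.coeff k ∈ M := by
    intro k hk
    have h2 := congrArg (fun P => P.coeff k) hM1
    simp only [coeff_map, coeff_X_pow, if_neg hk] at h2
    exact Ideal.Quotient.eq_zero_iff_mem.mp h2
  have hcoefM' : ∀ k, k ≠ N → PI.coeff k ∈ M' := by
    intro k hk
    obtain ⟨z, hz⟩ := hrat k
    have hzI : PI.coeff k = (z : AlgInt) := Subtype.ext (by rw [hz]; simp)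
    have hzM : (z : AlgInt) ∈ M := hzI ▸ hcoefM k hk
    have hpz : (p : ℤ) ∣ z := by
      by_contra hnd
      have hcop : IsCoprime (p : ℤ) z :=
        (Nat.prime_iff_prime_int.mp hM.1).coprime_iff_not_dvd.mpr hnd
      obtain ⟨a, b, hab⟩ := hcop
      have h1 : ((a : AlgInt) * (p : AlgInt) + (b : AlgInt) * (z : AlgInt)) = 1 := by
        have := congrArg (fun t : ℤ => (t : AlgInt)) hab
        simpa using this
      have h2 : (1 : AlgInt) ∈ M := by
        rw [← h1]
        exact M.add_mem (M.mul_mem_left _ hM.2.2) (M.mul_mem_left _ hzM)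
      exact hM.2.1.ne_top ((Ideal.eq_top_iff_one M).mpr h2)
    obtain ⟨w, rfl⟩ := hpz
    rw [hzI]
    push_cast
    exact M'.mul_mem_right _ hM'.2.2
  have hM'1 : PI.map (Ideal.Quotient.mk M') = X ^ N := by
    ext k
    rw [coeff_map, coeff_X_pow]
    by_cases hk : k = N
    · rw [if_pos hk, hk, ← hdeg, hmonic.coeff_natDegree, map_one]
    · rw [if_neg hk]
      exact Ideal.Quotient.eq_zero_iff_mem.mpr (hcoefM' k hk)
  have hev : (PI.map (Ideal.Quotient.mk M')).eval (Ideal.Quotient.mk M' (d g₀)) = 0 := by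
    rw [hPI, Polynomial.map_prod, eval_prod]
    refine Finset.prod_eq_zero (Finset.mem_univ g₀) ?_
    simp
  rw [hM'1, eval_pow, eval_X, ← map_pow, Ideal.Quotient.eq_zero_iff_mem] at hev
  haveI := hM'.2.1.isPrime
  exact Ideal.IsPrime.mem_of_pow_mem inferInstance _ hev

end B

section C

variable {G : Type*} [Group G] [Fintype G]

theorem sameBlock_indep (p : ℕ) (M M' : Ideal AlgInt) (hM : IsPModular p M)
    (hM' : IsPModular p M') (χ ψ : G → ℂ) (hχ : IsIrrCharacter G χ) (hψ : IsIrrCharacter G ψ)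
    (h : SameBlock M χ ψ) (g₀ : G) :
    ∃ r : AlgInt, r ∈ M' ∧ (r : ℂ) = centralChar χ g₀ - centralChar ψ g₀ := by
  classical
  have hint : ∀ g, IsIntegral ℤ (centralChar χ g - centralChar ψ g) :=
    fun g => (isIntegral_centralChar hχ g).sub (isIntegral_centralChar hψ g)
  let d : G → AlgInt := fun g => ⟨centralChar χ g - centralChar ψ g, hint g⟩
  haveI := hM.2.1.isPrime
  have hdM : ∀ g, d g ∈ M := fun g => mem_of_memLocalIdeal (h g)
  obtain ⟨n₁, ρ₁, -, hρ₁⟩ := hχ
  obtain ⟨n₂, ρ₂, -, hρ₂⟩ := hψ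
  have hrat : ∀ k, ∃ z : ℤ,
      (((∏ g : G, (X - C (d g)) : AlgInt[X]).coeff k : AlgInt) : ℂ) = (z : ℂ) := by
    intro k
    obtain ⟨q, hq⟩ := coeff_rational ρ₁ ρ₂ k
    have hmapI : (∏ g : G, (X - C (d g)) : AlgInt[X]).map (algebraMap AlgInt ℂ) =
        ∏ g : G, (X - C (centralChar χ g - centralChar ψ g)) := by
      rw [Polynomial.map_prod]
      refine Finset.prod_congr rfl fun g _ => ?_
      rw [Polynomial.map_sub, Polynomial.map_X, Polynomial.map_C]
      rfl
    have hmapK : (∏ g : G, (X - C (dK ρ₁ ρ₂ g)) : (cycK (Nat.card G))[X]).map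
        (algebraMap (cycK (Nat.card G)) ℂ) =
        ∏ g : G, (X - C (centralChar χ g - centralChar ψ g)) := by
      rw [Polynomial.map_prod]
      refine Finset.prod_congr rfl fun g _ => ?_
      rw [Polynomial.map_sub, Polynomial.map_X, Polynomial.map_C]
      congr 2
      rw [← hρ₁, ← hρ₂]
      exact coe_dK ρ₁ ρ₂ g
    have hI := congrArg (fun P => P.coeff k) hmapI
    have hK := congrArg (fun P => P.coeff k) hmapK
    simp only [Polynomial.coeff_map] at hI hK
    have heq : (((∏ g : G, (X - C (d g)) : AlgInt[X]).coeff k : AlgInt) : ℂ) = (q : ℂ) := by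
      rw [← hq]
      exact hI.trans hK.symm
    have hint2 : IsIntegral ℤ (algebraMap ℚ ℂ q) := by
      have h3 : IsIntegral ℤ (((∏ g : G, (X - C (d g)) : AlgInt[X]).coeff k : AlgInt) : ℂ) :=
        ((∏ g : G, (X - C (d g)) : AlgInt[X]).coeff k).2
      rw [heq] at h3
      exact h3
    rw [isIntegral_algebraMap_iff (algebraMap ℚ ℂ).injective] at hint2
    obtain ⟨z, hz⟩ := IsIntegrallyClosed.isIntegral_iff.mp hint2
    refine ⟨z, ?_⟩
    rw [heq, ← hz]
    simp
  exact ⟨d g₀, mem_of_prod p M M' hM hM' d hdM hrat g₀, rfl⟩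

end C

end Cfsg.Agent.Lib.Helper26.BlockIndep
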