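import Mathlib
import Cfsg.Prelude.Def_Characters
import Cfsg.Agent.Lib.Helper26.IndChar

/-!
# Exceptional characters: combinatorics of differences of irreducible characters (helper26)
-/

namespace Cfsg.Agent.Lib.Helper26
open Cfsg
open scoped ComplexConjugate

section
variable {G : Type*} [Group G] [Fintype G]

/-- If `⟨μ₁ - μ₂, ν₁ - ν₂⟩ = 1` for irreducible characters with `μ₁ ≠ μ₂`, `ν₁ ≠ ν₂`, then exactly
one of `μ₁ = ν₁`, `μ₂ = ν₂` holds. -/
theorem exceptional_dichotomy {μ₁ μ₂ ν₁ ν₂ : G → ℂ} (hμ₁ : IsIrrCharacter G μ₁)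
    (hμ₂ : IsIrrCharacter G μ₂) (hν₁ : IsIrrCharacter G ν₁) (hν₂ : IsIrrCharacter G ν₂)
    (hμ : μ₁ ≠ μ₂) (hν : ν₁ ≠ ν₂) (h : classInner (μ₁ - μ₂) (ν₁ - ν₂) = 1) :
    (μ₁ = ν₁ ∧ μ₂ ≠ ν₂) ∨ (μ₁ ≠ ν₁ ∧ μ₂ = ν₂) := by
  classical
  have e11 := classInner_irr hμ₁ hν₁
  have e12 := classInner_irr hμ₁ hν₂
  have e21 := classInner_irr hμ₂ hν₁
  have e22 := classInner_irr hμ₂ hν₂
  rw [classInner_sub_left, classInner_sub_right, classInner_sub_right, e11, e12, e21, e22] at h
  by_cases P : μ₁ = ν₁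
  · left
    refine ⟨P, ?_⟩
    intro Q
    have R : μ₁ ≠ ν₂ := fun R => hν (P.symm.trans R)
    have T : μ₂ ≠ ν₁ := fun T => hμ (P.trans T.symm)
    rw [if_pos P, if_neg R, if_neg T, if_pos Q] at h
    norm_num at h
  · right
    refine ⟨P, ?_⟩
    by_contra Q
    rw [if_neg P, if_neg Q] at h
    by_cases R : μ₁ = ν₂ <;> by_cases T : μ₂ = ν₁
    · rw [if_pos R, if_pos T] at h; norm_num at h
    · rw [if_pos R, if_neg T] at h; norm_num at h
    · rw [if_neg R, if_pos T] at h; norm_num at h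
    · rw [if_neg R, if_neg T] at h; norm_num at h

/-- Combinatorial core of the theory of exceptional characters. -/
theorem exceptional_aux {ι : Type*} (i₀ : ι) (β a b : ι → (G → ℂ)) (hβ0 : β i₀ = 0)
    (ha : ∀ l, l ≠ i₀ → IsIrrCharacter G (a l)) (hb : ∀ l, l ≠ i₀ → IsIrrCharacter G (b l))
    (hab : ∀ l, l ≠ i₀ → a l ≠ b l) (hβ : ∀ l, l ≠ i₀ → β l = a l - b l)
    (hinner : ∀ j k, j ≠ i₀ → k ≠ i₀ → j ≠ k → classInner (β j) (β k) = 1)
    (hne : ∃ i₁, i₁ ≠ i₀) :
    ∃ ε : ℂ, (ε = 1 ∨ ε = -1) ∧ ∃ θ : ι → (G → ℂ), (∀ i, IsIrrCharacter G (θ i)) ∧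
      Function.Injective θ ∧ ∀ l, β l = ε • (θ i₀ - θ l) := by
  classical
  have hdich : ∀ j k, j ≠ i₀ → k ≠ i₀ → j ≠ k →
      (a j = a k ∧ b j ≠ b k) ∨ (a j ≠ a k ∧ b j = b k) := by
    intro j k hj hk hjk
    have := hinner j k hj hk hjk
    rw [hβ j hj, hβ k hk] at this
    exact exceptional_dichotomy (ha j hj) (hb j hj) (ha k hk) (hb k hk) (hab j hj) (hab k hk) this
  obtain ⟨i₁, hi₁⟩ := hne
  by_cases hcase : ∃ j k, j ≠ i₀ ∧ k ≠ i₀ ∧ j ≠ k ∧ a j = a k
  · obtain ⟨j, k, hj, hk, hjk, hajk⟩ := hcase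
    have hall : ∀ l, l ≠ i₀ → a l = a j := by
      intro l hl
      by_cases hlj : l = j
      · rw [hlj]
      by_cases hlk : l = k
      · rw [hlk, hajk]
      rcases hdich j l hj hl (Ne.symm hlj) with ⟨h1, -⟩ | ⟨h1, h2⟩
      · exact h1.symm
      · exfalso
        rcases hdich k l hk hl (Ne.symm hlk) with ⟨h3, -⟩ | ⟨-, h4⟩
        · exact h1 (hajk.trans h3)
        · rcases hdich j k hj hk hjk with ⟨-, h5⟩ | ⟨h5, -⟩
          · exact h5 (h2.trans h4.symm)
          · exact h5 hajk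
    refine ⟨1, Or.inl rfl, fun i => if i = i₀ then a j else b i, ?_, ?_, ?_⟩
    · intro i
      show IsIrrCharacter G (if i = i₀ then a j else b i)
      by_cases hi : i = i₀
      · rw [if_pos hi]; exact ha j hj
      · rw [if_neg hi]; exact hb i hi
    · intro x y hxy
      have hxy' : (if x = i₀ then a j else b x) = (if y = i₀ then a j else b y) := hxy
      by_cases hx : x = i₀ <;> by_cases hy : y = i₀
      · rw [hx, hy]
      · exfalso
        rw [if_pos hx, if_neg hy] at hxy'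
        exact hab y hy ((hall y hy).trans hxy')
      · exfalso
        rw [if_neg hx, if_pos hy] at hxy'
        exact hab x hx ((hall x hx).trans hxy'.symm)
      · rw [if_neg hx, if_neg hy] at hxy'
        by_contra hne
        rcases hdich x y hx hy hne with ⟨-, h5⟩ | ⟨h5, -⟩
        · exact h5 hxy'
        · exact h5 ((hall x hx).trans (hall y hy).symm)
    · intro l
      rw [one_smul]
      show β l = (if i₀ = i₀ then a j else b i₀) - (if l = i₀ then a j else b l)
      rw [if_pos rfl]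
      by_cases hl : l = i₀
      · rw [if_pos hl, hl, hβ0, sub_self]
      · rw [if_neg hl, hβ l hl, hall l hl]
  · push Not at hcase
    have hall : ∀ l l', l ≠ i₀ → l' ≠ i₀ → b l = b l' := by
      intro l l' hl hl'
      by_cases hll : l = l'
      · rw [hll]
      rcases hdich l l' hl hl' hll with ⟨h1, -⟩ | ⟨-, h2⟩
      · exact absurd h1 (hcase l l' hl hl' hll)
      · exact h2
    refine ⟨-1, Or.inr rfl, fun i => if i = i₀ then b i₁ else a i, ?_, ?_, ?_⟩
    · intro i
      show IsIrrCharacter G (if i = i₀ then b i₁ else a i)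
      by_cases hi : i = i₀
      · rw [if_pos hi]; exact hb i₁ hi₁
      · rw [if_neg hi]; exact ha i hi
    · intro x y hxy
      have hxy' : (if x = i₀ then b i₁ else a x) = (if y = i₀ then b i₁ else a y) := hxy
      by_cases hx : x = i₀ <;> by_cases hy : y = i₀
      · rw [hx, hy]
      · exfalso
        rw [if_pos hx, if_neg hy] at hxy'
        exact hab y hy (hxy'.symm.trans (hall i₁ y hi₁ hy))
      · exfalso
        rw [if_neg hx, if_pos hy] at hxy'
        exact hab x hx (hxy'.trans (hall i₁ x hi₁ hx))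
      · rw [if_neg hx, if_neg hy] at hxy'
        by_contra hne
        exact hcase x y hx hy hne hxy'
    · intro l
      show β l = (-1 : ℂ) • ((if i₀ = i₀ then b i₁ else a i₀) - (if l = i₀ then b i₁ else a l))
      rw [if_pos rfl]
      by_cases hl : l = i₀
      · rw [if_pos hl, hl, hβ0, sub_self, smul_zero]
      · rw [if_neg hl, hβ l hl, hall l i₁ hl hi₁]
        simp

end

end Cfsg.Agent.Lib.Helper26
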