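import Mathlib
import Cfsg.Prelude.Def_Characters
import Cfsg.Agent.Lib.Helper26.IndIrr
import Cfsg.Agent.Lib.Helper26.TIInd
import Cfsg.Agent.Lib.Helper26.GenChar
import Cfsg.Agent.Lib.Helper26.Exceptional
import Cfsg.Agent.Lib.Helper26.FrobeniusKernel
import Cfsg.Agent.Lib.Helper4.Monomial

/-!
# Exceptional characters for an abelian TI subgroup with Frobenius normalizer (helper26)

* `irr_degree_one_of_comm`: irreducible characters of commutative groups have degree one.
* `relevant_eq_indFun`, `relevant_vanish`, `relevant_degree`: for a normal subgroup `A` of `L` with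
  `C_L(a) ≤ A` for `a ∈ A#`, every irreducible character of `L` not constant on `A` is induced from
  a non-principal irreducible character of `A`, vanishes off `A` and (if `A` is abelian) has degree
  `[L : A]`.
* `exceptional_coherent`: a family of at least two irreducible characters of `N` of equal degree
  vanishing off a TI set `T` is coherent.
-/

namespace Cfsg.Agent.Lib.Helper26
open Cfsg
open scoped ComplexConjugate

theorem irr_degree_one_of_comm {A : Type*} [Group A] [Fintype A]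
    (hcomm : ∀ a b : A, a * b = b * a) {φ : A → ℂ} (hφ : IsIrrCharacter A φ) : φ 1 = 1 := by
  obtain ⟨n, ρ, hρ, rfl⟩ := hφ
  have h1 : Module.finrank ℂ (Fin n → ℂ) = 1 :=
    Cfsg.Agent.Lib.Helper4.finrank_eq_one_of_commute ρ hρ (fun g k => by
      rw [← map_mul, ← map_mul, hcomm g k])
  rw [Representation.char_one, h1]
  simp

section
variable {L : Type*} [Group L] [Fintype L] (A : Subgroup L) [hA : A.Normal]

theorem relevant_eq_indFun
    (hfpf : ∀ x : L, x ∉ A → ∀ k ∈ A, x * k = k * x → k = 1)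
    {χ : L → ℂ} (hχ : IsIrrCharacter L χ) (hrel : ∃ k : L, k ∈ A ∧ χ k ≠ χ 1) :
    ∃ φ : A → ℂ, IsIrrCharacter A φ ∧ φ ≠ (fun _ => 1) ∧ χ = indFun A φ := by
  classical
  haveI : Fintype A := Fintype.ofFinite _
  obtain ⟨k, hk, hne⟩ := hrel
  have hcf : IsClassFunction A (χ ∘ A.subtype) := by
    intro g h
    have := isClassFunction_of_isIrrCharacter hχ (g : L) (h : L)
    simpa using this
  obtain ⟨φ, hφ, hφ1, hin⟩ := exists_nonprincipal_constituent (χ ∘ A.subtype) hcf
    ⟨⟨k, hk⟩, by simpa using hne⟩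
  have hind := isIrrCharacter_indFun_of_fpf A hfpf φ hφ hφ1
  refine ⟨φ, hφ, hφ1, eq_of_classInner_ne_zero hχ hind ?_⟩
  rw [classInner_indFun_right' A χ (isClassFunction_of_isIrrCharacter hχ) φ]
  exact hin

theorem relevant_vanish
    (hfpf : ∀ x : L, x ∉ A → ∀ k ∈ A, x * k = k * x → k = 1)
    {χ : L → ℂ} (hχ : IsIrrCharacter L χ) (hrel : ∃ k : L, k ∈ A ∧ χ k ≠ χ 1) :
    ∀ x : L, x ∉ A → χ x = 0 := by
  obtain ⟨φ, -, -, rfl⟩ := relevant_eq_indFun A hfpf hχ hrel
  intro x hx
  apply indFun_eq_zero_of_not_conj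
  intro g hg
  apply hx
  have := hA.conj_mem _ hg g
  simpa [mul_assoc] using this

theorem relevant_degree
    (hfpf : ∀ x : L, x ∉ A → ∀ k ∈ A, x * k = k * x → k = 1)
    (hab : ∀ a ∈ A, ∀ b ∈ A, a * b = b * a)
    {χ : L → ℂ} (hχ : IsIrrCharacter L χ) (hrel : ∃ k : L, k ∈ A ∧ χ k ≠ χ 1) :
    χ 1 = (A.index : ℂ) := by
  classical
  haveI : Fintype A := Fintype.ofFinite _
  obtain ⟨φ, hφ, -, rfl⟩ := relevant_eq_indFun A hfpf hχ hrel
  have h1 : φ 1 = 1 :=
    irr_degree_one_of_comm (fun a b => Subtype.ext (hab a a.2 b b.2)) hφ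
  rw [indFun_one, h1, mul_one]
  have hci : (Nat.card A : ℂ) * (A.index : ℂ) = (Fintype.card L : ℂ) := by
    rw [← Nat.cast_mul, Subgroup.card_mul_index, Nat.card_eq_fintype_card]
  have hA0 : (Nat.card A : ℂ) ≠ 0 := Nat.cast_ne_zero.mpr Nat.card_pos.ne'
  rw [← hci]
  field_simp

end

theorem exceptional_coherent {G : Type*} [Group G] [Fintype G] (N : Subgroup G) [Fintype N]
    (T : Set G) (hTI : ∀ g : G, g ∉ N → ∀ t ∈ T, g * t * g⁻¹ ∈ T → t = 1)
    {ι : Type*} (c : ι → (N → ℂ)) (hc : ∀ i, IsIrrCharacter N (c i))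
    (hinj : Function.Injective c) (hvan : ∀ i, ∀ x : N, (x : G) ∉ T → c i x = 0)
    (hdeg : ∀ i j, c i 1 = c j 1) (i₀ i₁ : ι) (h01 : i₁ ≠ i₀) :
    ∃ (ε : ℂ) (θ : ι → (G → ℂ)), (ε = 1 ∨ ε = -1) ∧ (∀ i, IsIrrCharacter G (θ i)) ∧
      Function.Injective θ ∧ ∀ i j, indFun N (c i - c j) = ε • (θ i - θ j) := by
  classical
  have hcf : ∀ i j, IsClassFunction N (c i - c j) := by
    intro i j g h
    simp only [Pi.sub_apply]
    rw [isClassFunction_of_isIrrCharacter (hc i) g h,
      isClassFunction_of_isIrrCharacter (hc j) g h]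
  have hvan2 : ∀ i j, ∀ x : N, (x : G) ∉ T → (c i - c j) x = 0 := by
    intro i j x hx
    simp only [Pi.sub_apply, hvan i x hx, hvan j x hx, sub_zero]
  have hone : ∀ i j, (c i - c j) 1 = 0 := by
    intro i j
    simp only [Pi.sub_apply, hdeg i j, sub_self]
  have hgen : ∀ i j, IsGeneralizedCharacter G (indFun N (c i - c j)) := fun i j =>
    isGeneralizedCharacter_indFun N ⟨c i, c j, isCharacter_of_isIrrCharacter (hc i),
      isCharacter_of_isIrrCharacter (hc j), rfl⟩
  have hinner : ∀ j k, classInner (indFun N (c i₀ - c j)) (indFun N (c i₀ - c k))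
      = classInner (c i₀ - c j) (c i₀ - c k) := fun j k =>
    classInner_indFun_indFun_ti T N hTI _ _ (hcf i₀ j) (hvan2 i₀ j) (hvan2 i₀ k) (hone i₀ j)
  have hcc : ∀ i j, classInner (c i) (c j) = if i = j then 1 else 0 := by
    intro i j
    rw [classInner_irr (hc i) (hc j)]
    by_cases h : i = j
    · rw [if_pos h, if_pos (congrArg c h)]
    · rw [if_neg h, if_neg (fun h' => h (hinj h'))]
  have hval : ∀ j k, j ≠ i₀ → k ≠ i₀ →
      classInner (c i₀ - c j) (c i₀ - c k) = if j = k then 2 else 1 := by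
    intro j k hj hk
    rw [classInner_sub_left, classInner_sub_right, classInner_sub_right, hcc, hcc, hcc, hcc,
      if_pos rfl, if_neg (Ne.symm hk), if_neg hj]
    by_cases h : j = k
    · rw [if_pos h, if_pos h]; norm_num
    · rw [if_neg h, if_neg h]; norm_num
  have hone' : ∀ i j, indFun N (c i - c j) 1 = 0 := by
    intro i j
    rw [indFun_one, hone i j, mul_zero, mul_zero]
  have hzero : indFun N (0 : N → ℂ) = 0 := by
    have := indFun_smul N 0 (0 : N → ℂ)
    simpa using this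
  have hex : ∀ l, ∃ a b : G → ℂ, l ≠ i₀ →
      (IsIrrCharacter G a ∧ IsIrrCharacter G b ∧ a ≠ b ∧ indFun N (c i₀ - c l) = a - b) := by
    intro l
    by_cases hl : l = i₀
    · exact ⟨0, 0, fun h => absurd hl h⟩
    · have hn : classInner (indFun N (c i₀ - c l)) (indFun N (c i₀ - c l)) = 2 := by
        rw [hinner, hval l l hl hl, if_pos rfl]
      obtain ⟨a, b, ha, hb, hab, he⟩ := genChar_norm_two (hgen i₀ l) hn (hone' i₀ l)
      exact ⟨a, b, fun _ => ⟨ha, hb, hab, he⟩⟩
  choose a b hab using hex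
  obtain ⟨ε, hε, θ, hθ, hθinj, hβ⟩ := exceptional_aux i₀ (fun l => indFun N (c i₀ - c l)) a b
    (by simp only [sub_self]; exact hzero)
    (fun l hl => (hab l hl).1) (fun l hl => (hab l hl).2.1) (fun l hl => (hab l hl).2.2.1)
    (fun l hl => (hab l hl).2.2.2)
    (fun j k hj hk hjk => by
      show classInner (indFun N (c i₀ - c j)) (indFun N (c i₀ - c k)) = 1
      rw [hinner, hval j k hj hk, if_neg hjk])
    ⟨i₁, h01⟩
  have hβ' : ∀ l, indFun N (c i₀ - c l) = ε • (θ i₀ - θ l) := hβ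
  refine ⟨ε, θ, hε, hθ, hθinj, ?_⟩
  intro i j
  have h1 : c i - c j = (c i₀ - c j) - (c i₀ - c i) := by abel
  rw [h1, indFun_sub, hβ' j, hβ' i, ← smul_sub]
  congr 1
  abel

end Cfsg.Agent.Lib.Helper26
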