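import Mathlib
import Cfsg.Prelude.Def_Characters
import Cfsg.Prelude.Def_Blocks
import Cfsg.Agent.Lib.Helper26.Clifford
import Cfsg.Agent.Lib.Helper26.CharInt
import Cfsg.Agent.Lib.Helper7.CliffordCorr

/-!
# Central characters and Clifford theory (helper26)

* `class_sum_eq`: a sum over the `G`-class of `n ∈ N` as a sum over `G`.
* `symSum_eq`: the sum of all `G`-conjugates of a function on `N` in terms of the distinct
  conjugates.
* `constituent_iff_centralChar`: `θ` is a constituent of `χ_N` iff the central character of `χ`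
  agrees on `N` with the induced central character of `θ`.
-/

set_option autoImplicit false

namespace Cfsg.Agent.Lib.Helper26
open Cfsg
open scoped ComplexConjugate

section
variable {G : Type*} [Group G] [Fintype G] (N : Subgroup G) [hN : N.Normal]

theorem conjFunN_one (φ : N → ℂ) : conjFunN N φ 1 = φ := by
  funext n
  unfold conjFunN
  congr 1
  apply Subtype.ext
  simp

theorem conjFunN_mul (φ : N → ℂ) (a b : G) :
    conjFunN N (conjFunN N φ a) b = conjFunN N φ (a * b) := by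
  funext n
  unfold conjFunN
  congr 1
  apply Subtype.ext
  show a * (b * (n : G) * b⁻¹) * a⁻¹ = a * b * (n : G) * (a * b)⁻¹
  group

theorem conjFunN_apply_one (φ : N → ℂ) (g : G) : conjFunN N φ g 1 = φ 1 := by
  unfold conjFunN
  congr 1
  apply Subtype.ext
  simp

theorem class_sum_eq (f : N → ℂ) (n : N) :
    (Nat.card (Subgroup.centralizer ({(n : G)} : Set G)) : ℂ) *
      ∑ᶠ h ∈ {h : N | IsConj (n : G) (h : G)}, f h =
    ∑ g : G, f ⟨g * n * g⁻¹, hN.conj_mem n n.2 g⟩ := by
  classical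
  have hfin : ∑ᶠ h ∈ {h : N | IsConj (n : G) (h : G)}, f h =
      ∑ h ∈ Finset.univ.filter (fun h : N => IsConj (n : G) (h : G)), f h := by
    rw [finsum_mem_eq_finite_toFinset_sum _ (Set.toFinite _)]
    apply Finset.sum_congr _ (fun _ _ => rfl)
    ext h
    simp
  rw [hfin]
  obtain ⟨c, hc⟩ : ∃ c : G → N, c = fun g => ⟨g * n * g⁻¹, hN.conj_mem n n.2 g⟩ := ⟨_, rfl⟩
  have hcval : ∀ g, ((c g : N) : G) = g * n * g⁻¹ := by
    intro g
    rw [hc]
  have hmaps : ∀ g ∈ (Finset.univ : Finset G),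
      c g ∈ Finset.univ.filter (fun h : N => IsConj (n : G) (h : G)) := by
    intro g _
    rw [Finset.mem_filter]
    refine ⟨Finset.mem_univ _, isConj_iff.mpr ⟨g, ?_⟩⟩
    rw [hcval]
  have hrhs : ∑ g : G, f ⟨g * n * g⁻¹, hN.conj_mem n n.2 g⟩ = ∑ g : G, f (c g) := by
    rw [hc]
  rw [hrhs, ← Finset.sum_fiberwise_of_maps_to' hmaps f, Finset.mul_sum]
  apply Finset.sum_congr rfl
  intro h hh
  rw [Finset.sum_const, nsmul_eq_mul]
  congr 1
  obtain ⟨g₀, hg₀⟩ := isConj_iff.mp (Finset.mem_filter.mp hh).2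
  have hcardC : Nat.card (Subgroup.centralizer ({(n : G)} : Set G)) =
      (Finset.univ.filter
        (fun z : G => z ∈ Subgroup.centralizer ({(n : G)} : Set G))).card := by
    rw [Nat.card_eq_fintype_card, Fintype.card_subtype]
  rw [hcardC]
  norm_cast
  symm
  apply Finset.card_nbij' (fun g => g₀⁻¹ * g) (fun z => g₀ * z)
  · intro g hg
    rw [Finset.mem_coe, Finset.mem_filter] at hg ⊢
    refine ⟨Finset.mem_univ _, ?_⟩
    have h1 : g * n * g⁻¹ = (h : G) := by
      rw [← hcval, hg.2]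
    rw [Subgroup.mem_centralizer_iff]
    intro x hx
    rw [Set.mem_singleton_iff] at hx
    rw [hx]
    have h2 : g * n * g⁻¹ = g₀ * n * g₀⁻¹ := by rw [h1, hg₀]
    have h3 : g₀⁻¹ * g * (n : G) = (n : G) * (g₀⁻¹ * g) := by
      calc g₀⁻¹ * g * (n : G) = g₀⁻¹ * (g * n * g⁻¹) * g := by group
        _ = g₀⁻¹ * (g₀ * n * g₀⁻¹) * g := by rw [h2]
        _ = (n : G) * (g₀⁻¹ * g) := by group
    exact h3.symm
  · intro z hz
    rw [Finset.mem_coe, Finset.mem_filter] at hz ⊢
    refine ⟨Finset.mem_univ _, ?_⟩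
    have h1 := (Subgroup.mem_centralizer_iff.mp hz.2) (n : G) (Set.mem_singleton _)
    apply Subtype.ext
    rw [hcval, ← hg₀]
    calc g₀ * z * (n : G) * (g₀ * z)⁻¹ = g₀ * (z * n) * z⁻¹ * g₀⁻¹ := by group
      _ = g₀ * ((n : G) * z) * z⁻¹ * g₀⁻¹ := by rw [h1]
      _ = g₀ * n * g₀⁻¹ := by group
  · intro g _
    show g₀ * (g₀⁻¹ * g) = g
    rw [mul_inv_cancel_left]
  · intro z _
    show g₀⁻¹ * (g₀ * z) = z
    rw [inv_mul_cancel_left]

variable [Fintype N]

theorem symSum_eq (θ : N → ℂ) (n : N) :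
    ∑ g : G, conjFunN N θ g n =
      ((Finset.univ.filter (fun g : G => conjFunN N θ g = θ)).card : ℂ) *
        ∑ ψ ∈ Finset.univ.image (conjFunN N θ), ψ n := by
  classical
  have hmaps : ∀ g ∈ (Finset.univ : Finset G),
      conjFunN N θ g ∈ Finset.univ.image (conjFunN N θ) :=
    fun g _ => Finset.mem_image_of_mem _ (Finset.mem_univ g)
  rw [← Finset.sum_fiberwise_of_maps_to' hmaps (fun ψ : N → ℂ => ψ n), Finset.mul_sum]
  apply Finset.sum_congr rfl
  intro ψ hψ
  obtain ⟨g₀, -, hg₀⟩ := Finset.mem_image.mp hψ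
  rw [Finset.sum_const, nsmul_eq_mul]
  congr 2
  apply Finset.card_nbij' (fun g => g * g₀⁻¹) (fun g => g * g₀)
  · intro g hg
    rw [Finset.mem_coe, Finset.mem_filter] at hg ⊢
    refine ⟨Finset.mem_univ _, ?_⟩
    show conjFunN N θ (g * g₀⁻¹) = θ
    rw [← conjFunN_mul, hg.2, ← hg₀, conjFunN_mul, mul_inv_cancel, conjFunN_one]
  · intro g hg
    rw [Finset.mem_coe, Finset.mem_filter] at hg ⊢
    refine ⟨Finset.mem_univ _, ?_⟩
    show conjFunN N θ (g * g₀) = ψ
    rw [← conjFunN_mul, hg.2, hg₀]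
  · intro g _
    show g * g₀⁻¹ * g₀ = g
    rw [inv_mul_cancel_right]
  · intro g _
    show g * g₀ * g₀⁻¹ = g
    rw [mul_inv_cancel_right]

theorem card_mul_centralChar (χ : G → ℂ) (g : G) :
    (Nat.card (Subgroup.centralizer ({g} : Set G)) : ℂ) * centralChar χ g =
      (Nat.card G : ℂ) * χ g / χ 1 := by
  unfold centralChar
  rw [← Subgroup.card_mul_index (Subgroup.centralizer ({g} : Set G))]
  push_cast
  ring

theorem card_mul_inducedCentralChar (θ : N → ℂ) (n : N) :
    (Nat.card (Subgroup.centralizer ({(n : G)} : Set G)) : ℂ) *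
      inducedCentralChar N θ (n : G) = (∑ g : G, conjFunN N θ g n) / θ 1 := by
  unfold inducedCentralChar
  rw [class_sum_eq N (fun h => θ h / θ 1) n, Finset.sum_div]
  rfl

theorem constituent_iff_centralChar (χ : G → ℂ) (hχ : IsIrrCharacter G χ) (θ : N → ℂ)
    (hθ : IsIrrCharacter N θ) :
    classInner (fun n : N => χ n) θ ≠ 0 ↔
      ∀ n : N, centralChar χ (n : G) = inducedCentralChar N θ (n : G) := by
  classical
  obtain ⟨dχ, hdχ0, hdχ⟩ := irr_degree hχ
  obtain ⟨dθ, hdθ0, hdθ⟩ := irr_degree hθ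
  have hχ1 : χ 1 ≠ 0 := by
    rw [hdχ]
    exact_mod_cast hdχ0.ne'
  have hθ1 : θ 1 ≠ 0 := by
    rw [hdθ]
    exact_mod_cast hdθ0.ne'
  have hcardC : ∀ g : G, (Nat.card (Subgroup.centralizer ({g} : Set G)) : ℂ) ≠ 0 :=
    fun g => Nat.cast_ne_zero.mpr Nat.card_pos.ne'
  have hiff : ∀ n : N, centralChar χ (n : G) = inducedCentralChar N θ (n : G) ↔
      (Nat.card G : ℂ) * χ n / χ 1 = (∑ g : G, conjFunN N θ g n) / θ 1 := by
    intro n
    rw [← card_mul_centralChar χ (n : G), ← card_mul_inducedCentralChar N θ n]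
    constructor
    · intro h
      rw [h]
    · intro h
      exact mul_left_cancel₀ (hcardC _) h
  have hforward : ∀ μ : N → ℂ, IsIrrCharacter N μ → classInner (χ ∘ N.subtype) μ ≠ 0 →
      ∀ n : N, (Nat.card G : ℂ) * χ n / χ 1 = (∑ g : G, conjFunN N μ g n) / μ 1 := by
    intro μ hμ he n
    obtain ⟨dμ, hdμ0, hdμ⟩ := irr_degree hμ
    have hμ1 : μ 1 ≠ 0 := by
      rw [hdμ]
      exact_mod_cast hdμ0.ne'
    have hcl := clifford_restrict N hχ hμ he
    obtain ⟨e, hedef⟩ : ∃ e : ℂ, e = classInner (χ ∘ N.subtype) μ := ⟨_, rfl⟩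
    rw [← hedef] at hcl he
    obtain ⟨T, hTdef⟩ : ∃ T : N → ℂ,
        T = fun m => ∑ ψ ∈ Finset.univ.image (conjFunN N μ), ψ m := ⟨_, rfl⟩
    have hχn : ∀ m : N, χ m = e * T m := by
      intro m
      have h1 := congrFun hcl m
      simp only [Function.comp_apply, Subgroup.coe_subtype, Pi.smul_apply, Finset.sum_apply,
        smul_eq_mul] at h1
      rw [hTdef]
      exact h1
    have hS : ∀ m : N, ∑ g : G, conjFunN N μ g m =
        ((Finset.univ.filter (fun g : G => conjFunN N μ g = μ)).card : ℂ) * T m := by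
      intro m
      rw [hTdef]
      exact symSum_eq N μ m
    have hS1 : ∑ g : G, conjFunN N μ g 1 = (Nat.card G : ℂ) * μ 1 := by
      rw [Finset.sum_congr rfl (fun g _ => conjFunN_apply_one N μ g), Finset.sum_const,
        Finset.card_univ, nsmul_eq_mul, Nat.card_eq_fintype_card]
    have hχ1' : χ 1 = e * T 1 := hχn 1
    have hT1 : T 1 ≠ 0 := by
      intro h0
      apply hχ1
      rw [hχ1', h0, mul_zero]
    have hrel : (Nat.card G : ℂ) * μ 1 =
        ((Finset.univ.filter (fun g : G => conjFunN N μ g = μ)).card : ℂ) * T 1 := by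
      rw [← hS1, hS 1]
    rw [hχn n, hχ1', hS n, div_eq_div_iff (mul_ne_zero he hT1) hμ1]
    linear_combination (e * T n) * hrel
  have hsame : (fun n : N => χ n) = χ ∘ N.subtype := rfl
  rw [hsame]
  constructor
  · intro he n
    exact (hiff n).mpr (hforward θ hθ he n)
  · intro hall hzero
    have hXchar : IsCharacter N (χ ∘ N.subtype) :=
      isCharacter_restrict N (isCharacter_of_isIrrCharacter hχ)
    have hX1 : (χ ∘ N.subtype) 1 ≠ 0 := hχ1
    obtain ⟨μ, hμne⟩ := Cfsg.Agent.Lib.Helper7.exists_constituent hXchar hX1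
    obtain ⟨dμ, hdμ0, hdμ⟩ := irr_degree μ.2
    have hμ1 : (μ : N → ℂ) 1 ≠ 0 := by
      rw [hdμ]
      exact_mod_cast hdμ0.ne'
    have hfun : (∑ g : G, conjFunN N θ g) = (θ 1 / (μ : N → ℂ) 1) • (∑ g : G, conjFunN N μ g) := by
      funext n
      simp only [Finset.sum_apply, Pi.smul_apply, smul_eq_mul]
      have h1 := (hiff n).mp (hall n)
      have h2 := hforward μ μ.2 hμne n
      rw [h1] at h2
      rw [div_eq_div_iff hθ1 hμ1] at h2
      field_simp
      linear_combination h2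
    have hcf := isClassFunction_of_isIrrCharacter hχ
    have hleft : ∃ k : ℕ, 0 < k ∧ classInner (∑ g : G, conjFunN N θ g) θ = (k : ℂ) := by
      rw [classInner_sum_left,
        Finset.sum_congr rfl (fun g _ => classInner_irr (isIrrCharacter_conjFunN N hθ g) hθ),
        Finset.sum_boole]
      refine ⟨_, ?_, rfl⟩
      apply Finset.card_pos.mpr
      refine ⟨1, ?_⟩
      rw [Finset.mem_filter]
      exact ⟨Finset.mem_univ _, conjFunN_one N θ⟩
    have hright : classInner (∑ g : G, conjFunN N μ g) θ = 0 := by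
      rw [classInner_sum_left]
      apply Finset.sum_eq_zero
      intro g _
      rw [classInner_irr (isIrrCharacter_conjFunN N μ.2 g) hθ, if_neg]
      intro hEq
      apply hμne
      rw [← classInner_restrict_conjFunN N hcf (μ : N → ℂ) g, hEq]
      exact hzero
    obtain ⟨k, hk0, hk⟩ := hleft
    rw [hfun, classInner_smul_left, hright, mul_zero] at hk
    have hk' : (k : ℂ) = 0 := hk.symm
    have hk'' : k = 0 := by exact_mod_cast hk'
    omega

end

end Cfsg.Agent.Lib.Helper26
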