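import Mathlib
import Cfsg.Prelude.Def_Characters
import Cfsg.Agent.Lib.Helper26.IndChar

/-!
# Degrees and kernels of induced characters (helper26)
-/

namespace Cfsg.Agent.Lib.Helper26
open Cfsg
open scoped ComplexConjugate

theorem isCharacter_degree_nat {G : Type*} [Group G] {X : G → ℂ} (h : IsCharacter G X) :
    ∃ j : ℕ, X 1 = j := by
  obtain ⟨n, ρ, rfl⟩ := h
  exact ⟨n, by simp [Representation.char_one]⟩

section
variable {G : Type*} [Group G] [Fintype G]

/-- If the permutation character `Ind_H 1` takes its degree at `d`, then `d ∈ H`. -/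
theorem mem_of_indFun_const_one_eq (H : Subgroup G) (d : G)
    (h : indFun H (fun _ => (1 : ℂ)) d = indFun H (fun _ => (1 : ℂ)) 1) : d ∈ H := by
  classical
  unfold indFun at h
  have hne : (Nat.card H : ℂ)⁻¹ ≠ 0 := by
    apply inv_ne_zero
    have : Nat.card H ≠ 0 := Nat.card_pos.ne'
    exact_mod_cast this
  have h' := mul_left_cancel₀ hne h
  have e1 : ∀ x : G, extendByZero H (fun _ => (1 : ℂ)) (x⁻¹ * d * x) =
      if x⁻¹ * d * x ∈ H then 1 else 0 := by
    intro x
    by_cases hx : x⁻¹ * d * x ∈ H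
    · rw [if_pos hx, extendByZero_apply_mem H _ _ hx]
    · rw [if_neg hx, extendByZero_apply_not_mem H _ _ hx]
  have e2 : ∀ x : G, extendByZero H (fun _ => (1 : ℂ)) (x⁻¹ * 1 * x) = 1 := by
    intro x
    have hx : x⁻¹ * 1 * x ∈ H := by simp
    rw [extendByZero_apply_mem H _ _ hx]
  simp_rw [e1, e2] at h'
  rw [Finset.sum_boole, Finset.sum_const, Finset.card_univ, nsmul_eq_mul, mul_one] at h'
  have h'' : (Finset.univ.filter (fun x : G => x⁻¹ * d * x ∈ H)).card = Fintype.card G := by
    exact_mod_cast h'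
  have h3 : Finset.univ.filter (fun x : G => x⁻¹ * d * x ∈ H) = Finset.univ := by
    rw [← Finset.card_eq_iff_eq_univ]; exact h''
  have h4 : (1 : G) ∈ Finset.univ.filter (fun x : G => x⁻¹ * d * x ∈ H) := by
    rw [h3]; exact Finset.mem_univ _
  simpa using (Finset.mem_filter.1 h4).2

/-- An induced function is constant (equal to its degree) on a normal subgroup `D ≤ H` on which the
inducing function takes the value `θ 1`. -/
theorem indFun_eq_degree_of_normal_le_ker (H : Subgroup G) (θ : H → ℂ) (D : Subgroup G)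
    [hDn : D.Normal] (hDH : D ≤ H) (hθ : ∀ d (hd : d ∈ D), θ ⟨d, hDH hd⟩ = θ 1) (d : G)
    (hd : d ∈ D) : indFun H θ d = indFun H θ 1 := by
  unfold indFun
  congr 1
  apply Finset.sum_congr rfl
  intro x _
  have hx : x⁻¹ * d * x ∈ D := by
    have := hDn.conj_mem d hd x⁻¹
    simpa using this
  have h1 : x⁻¹ * 1 * x = 1 := by group
  rw [extendByZero_apply_mem H θ _ (hDH hx), hθ _ hx,
    extendByZero_apply_mem H θ _ (by rw [h1]; exact H.one_mem)]
  congr 1
  exact Subtype.ext (by simp)

end

end Cfsg.Agent.Lib.Helper26
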