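import Mathlib
import Cfsg.Prelude.Def_Characters
import Cfsg.Agent.Lib.Helper26.CharBasic
import Cfsg.Agent.Lib.Helper4.CharOrtho

/-!
# Counting the irreducible characters fixed by a twist (helper26)

For a class function `F`, `Σ_Θ ⟨F Θ, Θ⟩ = Σ_C F(C)`, the sum of `F` over the conjugacy classes.
-/

set_option autoImplicit false

namespace Cfsg.Agent.Lib.Helper26.CH
open Cfsg Cfsg.Agent.Lib.Helper26
open scoped ComplexConjugate

open scoped Classical in
theorem sum_twist_inner {G : Type*} [Group G] [Fintype G] [Fintype (IrrCharacter G)]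
    [Fintype (ConjClasses G)] (F : G → ℂ) (hF : IsClassFunction G F) :
    ∑ Θ : IrrCharacter G, classInner (fun g => F g * (Θ : G → ℂ) g) (Θ : G → ℂ) =
      ∑ C : ConjClasses G, F (Quotient.out C) := by
  unfold classInner
  rw [← Finset.mul_sum, Finset.sum_comm]
  -- the class function `H`
  obtain ⟨H, hH⟩ : ∃ H : G → ℂ, H = fun g => ∑ Θ : IrrCharacter G,
      F g * (Θ : G → ℂ) g * conj ((Θ : G → ℂ) g) := ⟨_, rfl⟩
  have hHcf : ∀ g k : G, H (k * g * k⁻¹) = H g := by
    intro g k
    rw [hH]
    simp only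
    apply Finset.sum_congr rfl
    intro Θ _
    rw [hF g k, Cfsg.Agent.Lib.Helper4.isClassFunction_of_isIrrCharacter Θ.2 g k]
  have hHval : ∀ g : G, H g = F g * (Nat.card (Subgroup.centralizer ({g} : Set G)) : ℂ) := by
    intro g
    rw [hH]
    simp only
    have h1 := Cfsg.Agent.Lib.Helper4.column_orthogonality g g
    rw [if_pos (IsConj.refl g)] at h1
    rw [← h1, Finset.mul_sum]
    apply Finset.sum_congr rfl
    intro Θ _
    ring
  have h0 : ∑ g : G, ∑ Θ : IrrCharacter G, F g * (Θ : G → ℂ) g * conj ((Θ : G → ℂ) g) =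
      ∑ g : G, H g := by
    rw [hH]
  rw [h0, ← Finset.sum_fiberwise Finset.univ (ConjClasses.mk : G → ConjClasses G) H,
    Finset.mul_sum]
  apply Finset.sum_congr rfl
  intro C _
  have hC : ConjClasses.mk (Quotient.out C) = C := Quotient.out_eq C
  have h1 : ∀ g ∈ Finset.univ.filter (fun g : G => ConjClasses.mk g = C),
      H g = H (Quotient.out C) := by
    intro g hg
    have h2 : ConjClasses.mk g = ConjClasses.mk (Quotient.out C) := by
      rw [hC]
      exact (Finset.mem_filter.1 hg).2
    obtain ⟨c, hc⟩ := isConj_iff.1 (ConjClasses.mk_eq_mk_iff_isConj.1 h2)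
    rw [← hc, hHcf]
  rw [Finset.sum_congr rfl h1, Finset.sum_const, nsmul_eq_mul, hHval]
  have h3 : (Finset.univ.filter (fun g : G => ConjClasses.mk g = C)).card =
      (Subgroup.centralizer ({Quotient.out C} : Set G)).index := by
    rw [← Cfsg.Agent.Lib.Helper4.ncard_conj_eq_index, Set.ncard_eq_toFinset_card']
    congr 1
    ext x
    simp only [Finset.mem_filter, Finset.mem_univ, true_and, Set.mem_toFinset, Set.mem_setOf_eq]
    rw [show (ConjClasses.mk x = C) ↔ (ConjClasses.mk x = ConjClasses.mk (Quotient.out C)) from by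
      rw [hC], ConjClasses.mk_eq_mk_iff_isConj, isConj_comm]
  rw [h3]
  have h4 := Subgroup.card_mul_index (Subgroup.centralizer ({Quotient.out C} : Set G))
  have h5 : (Nat.card G : ℂ) = (Nat.card (Subgroup.centralizer ({Quotient.out C} : Set G)) : ℂ) *
      ((Subgroup.centralizer ({Quotient.out C} : Set G)).index : ℂ) := by
    rw [← h4]
    push_cast
    ring
  have hG : (Nat.card G : ℂ) ≠ 0 := Nat.cast_ne_zero.2 Nat.card_pos.ne'
  rw [h5] at hG ⊢
  have hidx := right_ne_zero_of_mul hG
  have hcard := left_ne_zero_of_mul hG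
  field_simp

end Cfsg.Agent.Lib.Helper26.CH
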