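import Mathlib
import Cfsg.Prelude.Def_Characters
import Cfsg.Agent.Lib.Helper26.Clifford
import Cfsg.Agent.Lib.Helper26.IndChar
import Cfsg.Agent.Lib.Helper26.CharInt
import Cfsg.Agent.Lib.Helper26.CharBasic
import Cfsg.Agent.Lib.Helper26.TIInd
import Cfsg.Agent.Lib.Helper4.CharOrtho
import Cfsg.Agent.Lib.Helper2.CharConj

/-!
# Clifford theory along an injective homomorphism with normal range (helper26)

* `exists_constituent`: a class function with nonzero value at `1` has an irreducible constituent.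
* `exists_above`: every irreducible character of `S` lies under an irreducible character of `G`.
* `clifford_degree`, `clifford_hom`: `Θ(1) = m χ(1)`, and `m = 1` forces `Θ|_S = χ`.
-/

set_option autoImplicit false

namespace Cfsg.Agent.Lib.Helper26.CH
open Cfsg Cfsg.Agent.Lib.Helper26
open scoped ComplexConjugate

theorem classInner_comp_mulEquiv {A B : Type*} [Group A] [Group B] [Fintype A] [Fintype B]
    (e : A ≃* B) (f g : B → ℂ) : classInner (f ∘ e) (g ∘ e) = classInner f g := by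
  unfold classInner
  rw [Nat.card_congr e.toEquiv]
  congr 1
  exact Fintype.sum_equiv e.toEquiv _ _ (fun a => rfl)

/-- a class function with nonzero value at `1` has an irreducible constituent -/
theorem exists_constituent {G : Type*} [Group G] [Fintype G] {X : G → ℂ}
    (hX : IsClassFunction G X) (h1 : X 1 ≠ 0) :
    ∃ Θ : G → ℂ, IsIrrCharacter G Θ ∧ classInner X Θ ≠ 0 := by
  classical
  haveI : Fintype (IrrCharacter G) := Fintype.ofFinite _
  by_contra hcon
  push Not at hcon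
  apply h1
  have hexp := Cfsg.Agent.Lib.Helper4.classFunction_expansion X hX
  have h2 : X 1 = ∑ μ : IrrCharacter G, classInner X (μ : G → ℂ) * (μ : G → ℂ) 1 := by
    have h3 := congrFun hexp 1
    simp only [Finset.sum_apply, Pi.smul_apply, smul_eq_mul] at h3
    exact h3
  rw [h2]
  apply Finset.sum_eq_zero
  intro μ _
  rw [hcon μ μ.2, zero_mul]

/-- every irreducible character of `S` lies under an irreducible character of `G` -/
theorem exists_above {S G : Type*} [Group S] [Group G] [Fintype S] [Fintype G]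
    (ι : S →* G) (hι : Function.Injective ι) {χ : S → ℂ} (hχ : IsIrrCharacter S χ) :
    ∃ Θ : G → ℂ, IsIrrCharacter G Θ ∧ classInner (Θ ∘ ι) χ ≠ 0 := by
  classical
  haveI : Fintype ι.range := Fintype.ofFinite _
  let e : S ≃* ι.range := MonoidHom.ofInjective hι
  have he : ∀ s, ((e s : ι.range) : G) = ι s := fun s => MonoidHom.ofInjective_apply hι
  have hχ' : IsIrrCharacter ι.range (χ ∘ e.symm) :=
    Cfsg.Agent.Lib.Helper2.isIrrCharacter_comp_mulEquiv hχ e.symm
  have hind : IsCharacter G (indFun ι.range (χ ∘ e.symm)) :=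
    isCharacter_indFun _ (isCharacter_of_isIrrCharacter hχ')
  have hdeg : indFun ι.range (χ ∘ e.symm) 1 ≠ 0 := by
    rw [indFun_one]
    obtain ⟨d, hd, hd1⟩ := irr_degree hχ'
    rw [hd1]
    apply mul_ne_zero
    · apply inv_ne_zero
      exact_mod_cast Nat.card_pos.ne'
    · apply mul_ne_zero
      · exact_mod_cast Fintype.card_ne_zero
      · exact_mod_cast (by omega : d ≠ 0)
  obtain ⟨Θ, hΘ, hne⟩ := exists_constituent (isClassFunction_of_isCharacter hind) hdeg
  refine ⟨Θ, hΘ, ?_⟩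
  rw [classInner_indFun_left' _ _ _ (isClassFunction_of_isIrrCharacter hΘ)] at hne
  have h3 : classInner (Θ ∘ ι) χ = classInner (Θ ∘ ι.range.subtype) (χ ∘ e.symm) := by
    rw [← classInner_comp_mulEquiv e (Θ ∘ ι.range.subtype) (χ ∘ e.symm)]
    congr 1
    funext s
    show χ s = χ (e.symm (e s))
    rw [MulEquiv.symm_apply_apply]
  intro h0
  apply hne
  rw [← classInner_conj_symm, ← h3, h0, map_zero]

/-- Clifford: degrees -/
theorem clifford_degree {G : Type*} [Group G] [Fintype G] (N : Subgroup G) [hN : N.Normal]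
    [Fintype N] {θ : G → ℂ} (hθ : IsIrrCharacter G θ) {χ : N → ℂ} (hχ : IsIrrCharacter N χ)
    (hconst : classInner (θ ∘ N.subtype) χ ≠ 0) :
    ∃ m : ℕ, 1 ≤ m ∧ θ 1 = m * χ 1 ∧ (m = 1 → θ ∘ N.subtype = χ) := by
  classical
  have hcl := clifford_restrict N hθ hχ hconst
  obtain ⟨k, hk⟩ := classInner_isCharacter_nat
    (isCharacter_restrict N (isCharacter_of_isIrrCharacter hθ)) (isCharacter_of_isIrrCharacter hχ)
  rw [hk] at hcl hconst
  have hk0 : k ≠ 0 := by
    rintro rfl
    exact hconst Nat.cast_zero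
  obtain ⟨O, hO⟩ : ∃ O : Finset (N → ℂ), O = Finset.univ.image (conjFunN N χ) := ⟨_, rfl⟩
  rw [← hO] at hcl
  have hmem : χ ∈ O := by
    rw [hO]
    apply Finset.mem_image.2
    refine ⟨1, Finset.mem_univ _, ?_⟩
    funext n
    unfold conjFunN
    congr 1
    apply Subtype.ext
    simp
  have hval : ∀ ψ ∈ O, ψ 1 = χ 1 := by
    intro ψ hψ
    rw [hO] at hψ
    obtain ⟨g, -, rfl⟩ := Finset.mem_image.1 hψ
    unfold conjFunN
    congr 1
    apply Subtype.ext
    simp
  have h1 : θ 1 = (k : ℂ) * (O.card * χ 1) := by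
    have h2 := congrFun hcl 1
    simp only [Function.comp_apply, Pi.smul_apply, Finset.sum_apply, smul_eq_mul] at h2
    rw [Finset.sum_congr rfl hval, Finset.sum_const, nsmul_eq_mul] at h2
    rw [← h2]
    simp
  refine ⟨k * O.card, ?_, ?_, ?_⟩
  · have h2 : 1 ≤ O.card := Finset.card_pos.2 ⟨χ, hmem⟩
    exact Nat.one_le_iff_ne_zero.2 (Nat.mul_ne_zero hk0 (by omega))
  · rw [h1]
    push_cast
    ring
  · intro hm
    have hk1 : k = 1 := Nat.dvd_one.1 (Dvd.intro _ hm)
    have hO1 : O.card = 1 := Nat.dvd_one.1 (Dvd.intro_left _ hm)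
    obtain ⟨a, ha⟩ := Finset.card_eq_one.1 hO1
    have ha' : a = χ := by
      rw [ha] at hmem
      exact (Finset.mem_singleton.1 hmem).symm
    rw [hcl, ha, Finset.sum_singleton, ha', hk1]
    simp

/-- Clifford along an injective homomorphism with normal range -/
theorem clifford_hom {S G : Type*} [Group S] [Group G] [Fintype S] [Fintype G]
    (ι : S →* G) (hι : Function.Injective ι) [hN : ι.range.Normal]
    {Θ : G → ℂ} (hΘ : IsIrrCharacter G Θ) {χ : S → ℂ} (hχ : IsIrrCharacter S χ)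
    (hne : classInner (Θ ∘ ι) χ ≠ 0) :
    ∃ m : ℕ, 1 ≤ m ∧ Θ 1 = m * χ 1 ∧ (m = 1 → ∀ s, Θ (ι s) = χ s) := by
  classical
  haveI : Fintype ι.range := Fintype.ofFinite _
  let e : S ≃* ι.range := MonoidHom.ofInjective hι
  have he : ∀ s, ((e s : ι.range) : G) = ι s := fun s => MonoidHom.ofInjective_apply hι
  have hχ' : IsIrrCharacter ι.range (χ ∘ e.symm) :=
    Cfsg.Agent.Lib.Helper2.isIrrCharacter_comp_mulEquiv hχ e.symm
  have h3 : classInner (Θ ∘ ι) χ = classInner (Θ ∘ ι.range.subtype) (χ ∘ e.symm) := by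
    rw [← classInner_comp_mulEquiv e (Θ ∘ ι.range.subtype) (χ ∘ e.symm)]
    congr 1
    funext s
    show χ s = χ (e.symm (e s))
    rw [MulEquiv.symm_apply_apply]
  rw [h3] at hne
  obtain ⟨m, hm1, hdeg, hm⟩ := clifford_degree ι.range hΘ hχ' hne
  refine ⟨m, hm1, ?_, ?_⟩
  · rw [hdeg]
    show (m : ℂ) * χ (e.symm 1) = m * χ 1
    rw [map_one]
  · intro h1 s
    have h4 := congrFun (hm h1) (e s)
    have h5 : (Θ ∘ ι.range.subtype) (e s) = Θ (ι s) := by
      show Θ ((e s : ι.range) : G) = Θ (ι s)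
      rw [he]
    rw [h5] at h4
    rw [h4]
    show χ (e.symm (e s)) = χ s
    rw [MulEquiv.symm_apply_apply]

/-- `ψ` is a conjugate of `χ` under `G` (along `ι`) -/
def IsConjAlong {S G : Type*} [Group S] [Group G] (ι : S →* G) (χ ψ : S → ℂ) : Prop :=
  ∃ g₀ : G, ∀ s s' : S, ι s' = g₀ * ι s * g₀⁻¹ → ψ s = χ s'

/-- Clifford for conjugation-invariant linear functionals: `L(Θ|_S) = m L(χ)` -/
theorem clifford_functional {S G : Type*} [Group S] [Group G] [Fintype S] [Fintype G]
    (ι : S →* G) (hι : Function.Injective ι) [hN : ι.range.Normal]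
    {Θ : G → ℂ} (hΘ : IsIrrCharacter G Θ) {χ : S → ℂ} (hχ : IsIrrCharacter S χ)
    (hne : classInner (Θ ∘ ι) χ ≠ 0) :
    ∃ m : ℕ, 1 ≤ m ∧ ∀ L : (S → ℂ) →ₗ[ℂ] ℂ, (∀ ψ, IsConjAlong ι χ ψ → L ψ = L χ) →
      L (Θ ∘ ι) = m * L χ := by
  classical
  haveI : Fintype ι.range := Fintype.ofFinite _
  let e : S ≃* ι.range := MonoidHom.ofInjective hι
  have he : ∀ s, ((e s : ι.range) : G) = ι s := fun s => MonoidHom.ofInjective_apply hι
  have hχ' : IsIrrCharacter ι.range (χ ∘ e.symm) :=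
    Cfsg.Agent.Lib.Helper2.isIrrCharacter_comp_mulEquiv hχ e.symm
  have h3 : classInner (Θ ∘ ι) χ = classInner (Θ ∘ ι.range.subtype) (χ ∘ e.symm) := by
    rw [← classInner_comp_mulEquiv e (Θ ∘ ι.range.subtype) (χ ∘ e.symm)]
    congr 1
    funext s
    show χ s = χ (e.symm (e s))
    rw [MulEquiv.symm_apply_apply]
  rw [h3] at hne
  have hcl := clifford_restrict ι.range hΘ hχ' hne
  obtain ⟨k, hk⟩ := classInner_isCharacter_nat
    (isCharacter_restrict ι.range (isCharacter_of_isIrrCharacter hΘ))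
    (isCharacter_of_isIrrCharacter hχ')
  rw [hk] at hcl hne
  have hk0 : k ≠ 0 := by
    rintro rfl
    exact hne Nat.cast_zero
  obtain ⟨O, hO⟩ : ∃ O : Finset (ι.range → ℂ),
      O = Finset.univ.image (conjFunN ι.range (χ ∘ e.symm)) := ⟨_, rfl⟩
  rw [← hO] at hcl
  have hne' : O.Nonempty := by
    rw [hO]
    exact Finset.image_nonempty.2 Finset.univ_nonempty
  refine ⟨k * O.card, ?_, ?_⟩
  · exact Nat.one_le_iff_ne_zero.2 (Nat.mul_ne_zero hk0 (Finset.card_pos.2 hne').ne')
  · intro L hL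
    have h4 : Θ ∘ ι = (k : ℂ) • ∑ ψ ∈ O, (ψ ∘ e) := by
      funext s
      have h5 := congrFun hcl (e s)
      simp only [Function.comp_apply, Pi.smul_apply, Finset.sum_apply, smul_eq_mul] at h5 ⊢
      rw [← h5]
      show Θ (ι s) = Θ ((e s : ι.range) : G)
      rw [he]
    rw [h4, map_smul, map_sum]
    have h6 : ∀ ψ ∈ O, L (ψ ∘ e) = L χ := by
      intro ψ hψ
      rw [hO] at hψ
      obtain ⟨g₀, -, rfl⟩ := Finset.mem_image.1 hψ
      apply hL
      refine ⟨g₀, ?_⟩
      intro s s' hs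
      show conjFunN ι.range (χ ∘ e.symm) g₀ (e s) = χ s'
      unfold conjFunN
      show χ (e.symm ⟨g₀ * ((e s : ι.range) : G) * g₀⁻¹, _⟩) = χ s'
      congr 1
      rw [MulEquiv.symm_apply_eq]
      apply Subtype.ext
      show g₀ * ((e s : ι.range) : G) * g₀⁻¹ = ((e s' : ι.range) : G)
      rw [he, he, hs]
    rw [Finset.sum_congr rfl h6, Finset.sum_const, nsmul_eq_mul, smul_eq_mul]
    push_cast
    ring

/-- Clifford along an injective homomorphism with normal range: degrees, restriction and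
invariant functionals, with the same multiplicity `m` -/
theorem clifford_full {S G : Type*} [Group S] [Group G] [Fintype S] [Fintype G]
    (ι : S →* G) (hι : Function.Injective ι) [hN : ι.range.Normal]
    {Θ : G → ℂ} (hΘ : IsIrrCharacter G Θ) {χ : S → ℂ} (hχ : IsIrrCharacter S χ)
    (hne : classInner (Θ ∘ ι) χ ≠ 0) :
    ∃ m : ℕ, 1 ≤ m ∧ Θ 1 = m * χ 1 ∧ (m = 1 → ∀ s, Θ (ι s) = χ s) ∧
      ∀ L : (S → ℂ) →ₗ[ℂ] ℂ, (∀ ψ, IsConjAlong ι χ ψ → L ψ = L χ) → L (Θ ∘ ι) = m * L χ := by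
  obtain ⟨m, hm1, hL⟩ := clifford_functional ι hι hΘ hχ hne
  obtain ⟨m', hm1', hdeg, hres⟩ := clifford_hom ι hι hΘ hχ hne
  have h1 := hL (LinearMap.proj (1 : S)) (by
    intro ψ hψ
    obtain ⟨g₀, hg⟩ := hψ
    show ψ 1 = χ 1
    apply hg
    rw [map_one, mul_one, mul_inv_cancel])
  have h2 : (Θ ∘ ι) 1 = Θ 1 := by
    show Θ (ι 1) = Θ 1
    rw [map_one]
  have h3 : Θ 1 = m * χ 1 := by
    rw [← h2]
    exact h1
  have hmm : m = m' := by
    obtain ⟨d, hd, hd1⟩ := irr_degree hχ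
    rw [hd1] at h3 hdeg
    rw [h3] at hdeg
    have h4 : ((m * d : ℕ) : ℂ) = ((m' * d : ℕ) : ℂ) := by
      push_cast
      exact hdeg
    have h5 : m * d = m' * d := by exact_mod_cast h4
    exact Nat.eq_of_mul_eq_mul_right hd h5
  subst hmm
  exact ⟨m, hm1, hdeg, hres, hL⟩

end Cfsg.Agent.Lib.Helper26.CH
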