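import Cfsg.Agent.Lib.Helper26.ConstDeg

/-!
# Tools for extending coherent sets (helper26)

* `classInner_self_real`: `classInner g g` is a nonnegative real.
* `bessel_orth`: Bessel inequality for an orthogonal (not normalized) family with real data.
* `exists_orth_glue`: a map `T` on an orthogonal set `Z`, isometric and virtual-character valued on
  `Z`, extends to an everywhere additive linear isometry on `zspan Z`.
* `cs_span_R`: in a coherence system, if `U - V = ∑ R φ`, `‖U‖² = ‖φ‖²`, `U ⊥ V`, then `U` is in the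
  span of `R φ`.
* `sub_conj_mem_zspanOn`, `cs_card_R'`.
-/

namespace Cfsg.Agent.Lib.Helper26
open Cfsg
open scoped ComplexConjugate

section Pos
variable {G : Type*} [Group G] [Fintype G]

theorem classInner_self_real (g : G → ℂ) : ∃ r : ℝ, 0 ≤ r ∧ classInner g g = (r : ℂ) := by
  refine ⟨(Nat.card G : ℝ)⁻¹ * ∑ x : G, Complex.normSq (g x), ?_, ?_⟩
  · apply mul_nonneg
    · positivity
    · exact Finset.sum_nonneg (fun x _ => Complex.normSq_nonneg _)
  · unfold classInner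
    push_cast
    congr 1
    apply Finset.sum_congr rfl
    intro x _
    rw [Complex.mul_conj]

theorem bessel_orth {ι : Type*} [DecidableEq ι] (s : Finset ι) (v : ι → G → ℂ) (n c : ι → ℝ)
    (y : ℝ) (hn : ∀ i ∈ s, n i ≠ 0)
    (hv : ∀ i ∈ s, ∀ j ∈ s, classInner (v i) (v j) = if i = j then (n i : ℂ) else 0)
    (Y : G → ℂ) (hY : classInner Y Y = (y : ℂ)) (hc : ∀ i ∈ s, classInner Y (v i) = (c i : ℂ)) :
    ∑ i ∈ s, (c i) ^ 2 / n i ≤ y := by
  obtain ⟨P, hP⟩ : ∃ P, P = ∑ i ∈ s, ((c i / n i : ℝ) : ℂ) • v i := ⟨_, rfl⟩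
  have hvP : ∀ i ∈ s, classInner (v i) P = (c i : ℂ) := by
    intro i hi
    rw [hP, classInner_sum_right]
    have h2 : ∀ j ∈ s, classInner (v i) (((c j / n j : ℝ) : ℂ) • v j) =
        if i = j then (c i : ℂ) else 0 := by
      intro j hj
      rw [classInner_smul_right, hv i hi j hj, Complex.conj_ofReal]
      split_ifs with h
      · subst h
        have h3 : (n i : ℂ) ≠ 0 := by exact_mod_cast hn i hi
        push_cast
        field_simp
      · simp
    rw [Finset.sum_congr rfl h2, Finset.sum_ite_eq s i, if_pos hi]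
  have hYP : classInner Y P = ((∑ i ∈ s, (c i) ^ 2 / n i : ℝ) : ℂ) := by
    rw [hP, classInner_sum_right, Complex.ofReal_sum]
    apply Finset.sum_congr rfl
    intro i hi
    rw [classInner_smul_right, hc i hi, Complex.conj_ofReal]
    push_cast
    ring
  have hPY : classInner P Y = ((∑ i ∈ s, (c i) ^ 2 / n i : ℝ) : ℂ) := by
    rw [← classInner_conj_symm, hYP, Complex.conj_ofReal]
  have hPP : classInner P P = ((∑ i ∈ s, (c i) ^ 2 / n i : ℝ) : ℂ) := by
    have h0 : classInner P P = classInner (∑ i ∈ s, ((c i / n i : ℝ) : ℂ) • v i) P := by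
      rw [← hP]
    rw [h0, classInner_sum_left, Complex.ofReal_sum]
    apply Finset.sum_congr rfl
    intro i hi
    rw [classInner_smul_left, hvP i hi]
    push_cast
    ring
  obtain ⟨r, hr, e⟩ := classInner_self_real (Y - P)
  rw [classInner_sub_left, classInner_sub_right, classInner_sub_right, hY, hYP, hPY, hPP] at e
  have e' : ((y - ∑ i ∈ s, (c i) ^ 2 / n i : ℝ) : ℂ) = (r : ℂ) := by
    rw [← e]; push_cast; ring
  have h5 := Complex.ofReal_injective e'
  linarith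

end Pos

section Glue2
variable {L : Type*} [Group L] [Fintype L] {G : Type*} [Group G] [Fintype G]

theorem exists_orth_glue (Z : Set (L → ℂ))
    (horth : ∀ χ ∈ Z, ∀ φ ∈ Z, χ ≠ φ → classInner χ φ = 0)
    (hnz : ∀ χ ∈ Z, classInner χ χ ≠ 0)
    (T : (L → ℂ) → (G → ℂ)) (hTgen : ∀ ξ ∈ Z, IsGeneralizedCharacter G (T ξ))
    (hTinner : ∀ ξ ∈ Z, ∀ ξ' ∈ Z, classInner (T ξ) (T ξ') = classInner ξ ξ') :
    ∃ τ₂ : (L → ℂ) → (G → ℂ), (∀ a b, τ₂ (a + b) = τ₂ a + τ₂ b) ∧
      (∀ (n : ℤ) a, τ₂ (n • a) = n • τ₂ a) ∧ (∀ ξ ∈ Z, τ₂ ξ = T ξ) ∧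
      IsLinearIsometryOn (zspan Z) τ₂ := by
  classical
  have hfin := finite_of_orthogonal Z horth hnz
  obtain ⟨τ₁, hτ₁⟩ : ∃ τ₁ : (L → ℂ) → (G → ℂ),
      τ₁ = fun θ => ∑ χ ∈ hfin.toFinset, (classInner θ χ / classInner χ χ) • T χ := ⟨_, rfl⟩
  have hτ₁add : ∀ a b, τ₁ (a + b) = τ₁ a + τ₁ b := by
    intro a b
    rw [hτ₁]
    show ∑ χ ∈ hfin.toFinset, (classInner (a + b) χ / classInner χ χ) • T χ =
      ∑ χ ∈ hfin.toFinset, (classInner a χ / classInner χ χ) • T χ +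
      ∑ χ ∈ hfin.toFinset, (classInner b χ / classInner χ χ) • T χ
    rw [← Finset.sum_add_distrib]
    apply Finset.sum_congr rfl
    intro χ _
    rw [classInner_add_left, add_div, add_smul]
  have hτ₁smul : ∀ (n : ℤ) a, τ₁ (n • a) = n • τ₁ a := by
    intro n a
    rw [hτ₁]
    show ∑ χ ∈ hfin.toFinset, (classInner (n • a) χ / classInner χ χ) • T χ =
      n • ∑ χ ∈ hfin.toFinset, (classInner a χ / classInner χ χ) • T χ
    rw [Finset.smul_sum]
    apply Finset.sum_congr rfl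
    intro χ _
    rw [classInner_zsmul_left, mul_div_assoc, mul_smul, Int.cast_smul_eq_zsmul]
  have hτ₁S : ∀ χ ∈ Z, τ₁ χ = T χ := by
    intro χ hχ
    rw [hτ₁]
    show ∑ φ ∈ hfin.toFinset, (classInner χ φ / classInner φ φ) • T φ = T χ
    rw [Finset.sum_eq_single χ]
    · rw [div_self (hnz χ hχ), one_smul]
    · intro φ hφ hne
      rw [horth χ hχ φ (hfin.mem_toFinset.mp hφ) (Ne.symm hne), zero_div, zero_smul]
    · intro h; exact absurd (hfin.mem_toFinset.mpr hχ) h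
  exact ⟨τ₁, hτ₁add, hτ₁smul, hτ₁S, isLinearIsometryOn_of_gens Z τ₁ hτ₁add hτ₁smul
      (fun χ hχ => by rw [hτ₁S χ hχ]; exact hTgen χ hχ)
      (fun χ hχ ψ hψ => by rw [hτ₁S χ hχ, hτ₁S ψ hψ]; exact hTinner χ hχ ψ hψ)⟩

theorem sub_conj_mem_zspanOn {Z : Set (L → ℂ)} {ψ : L → ℂ} (hψ : ψ ∈ Z) (hψc : conjFun ψ ∈ Z)
    (hchar : IsCharacter L ψ) : ψ - conjFun ψ ∈ zspanOn Z ({1}ᶜ : Set L) := by
  rw [mem_zspanOn_compl_one]
  refine ⟨Submodule.sub_mem _ (Submodule.subset_span hψ) (Submodule.subset_span hψc), ?_⟩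
  obtain ⟨j, hj⟩ := isCharacter_degree_nat hchar
  show ψ 1 - (starRingEnd ℂ) (ψ 1) = 0
  rw [hj, Complex.conj_natCast, sub_self]

end Glue2

section CS2
variable {L : Type*} [Group L] [Fintype L] {G : Type*} [Group G] [Fintype G]
  {S : Set (L → ℂ)} {τ : (L → ℂ) → (G → ℂ)} {R : (L → ℂ) → Finset (G → ℂ)}

theorem cs_card_R' (hS : IsCoherenceSystem S τ R) {χ : L → ℂ} (hχ : χ ∈ S) :
    ((R χ).card : ℂ) = 2 * classInner χ χ := by
  classical
  have hχc := hS.conj_mem χ hχ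
  obtain ⟨n, -, hn⟩ := cs_norm hS hχ
  have o3 : classInner χ (conjFun χ) = 0 :=
    hS.orthogonal χ hχ _ hχc (Ne.symm (hS.conj_ne χ hχ))
  have o3' : classInner (conjFun χ) χ = 0 := hS.orthogonal _ hχc χ hχ (hS.conj_ne χ hχ)
  have m2 := sub_conj_mem_zspanOn hχ hχc (hS.isCharacter χ hχ)
  rw [← classInner_sum_sum_orthonormal (R χ) (R χ) subset_rfl (hS.orthonormal χ hχ),
    ← hS.sum_eq χ hχ, hS.isometry.2.2.1 _ m2 _ m2, classInner_sub_left, classInner_sub_right,
    classInner_sub_right, o3, o3', classInner_conjFun_conjFun, hn, Complex.conj_natCast]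
  ring

theorem cs_span_R (hS : IsCoherenceSystem S τ R) {φ : L → ℂ} (hφ : φ ∈ S)
    (U V : G → ℂ) (hU : IsGeneralizedCharacter G U) (hUV : U - V = ∑ α ∈ R φ, α)
    (hUU : classInner U U = classInner φ φ) (hUV0 : classInner U V = 0) :
    ∀ γ : G → ℂ, (∀ α ∈ R φ, classInner α γ = 0) → classInner U γ = 0 := by
  classical
  obtain ⟨n, -, hn⟩ := cs_norm hS hφ
  have hex : ∀ i : G → ℂ, ∃ k : ℤ, i ∈ R φ → classInner U i = k := by
    intro i
    by_cases hi : i ∈ R φ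
    · obtain ⟨k, hk⟩ := classInner_generalized_int hU (hS.virtual φ hφ i hi)
      exact ⟨k, fun _ => hk⟩
    · exact ⟨0, fun h => absurd h hi⟩
  choose b hb using hex
  have hsum : ∑ i ∈ R φ, b i = (n : ℤ) := by
    have hV : V = U - ∑ α ∈ R φ, α := by rw [← hUV]; abel
    have h : ((∑ i ∈ R φ, b i : ℤ) : ℂ) = ((n : ℤ) : ℂ) := by
      rw [hV, classInner_sub_right, hUU, hn, classInner_sum_right] at hUV0
      rw [Int.cast_sum, Int.cast_natCast]
      have h2 : ∑ i ∈ R φ, classInner U i = ∑ i ∈ R φ, (b i : ℂ) :=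
        Finset.sum_congr rfl (fun i hi => hb i hi)
      rw [← h2]
      exact (sub_eq_zero.mp hUV0).symm
    exact_mod_cast h
  obtain ⟨hB1, -⟩ := norm_sub_proj (R φ) (fun i => i) (hS.orthonormal φ hφ) U b hb
  obtain ⟨D, hD⟩ : ∃ D, D = U - ∑ i ∈ R φ, b i • i := ⟨_, rfl⟩
  have hB1' : classInner D D = classInner U U - ∑ i ∈ R φ, ((b i : ℂ)) ^ 2 := by
    rw [hD]; exact hB1
  have hDgen : IsGeneralizedCharacter G D := by
    rw [hD]
    exact isGeneralizedCharacter_sub hU (isGeneralizedCharacter_sum _ _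
      (fun i hi => isGeneralizedCharacter_zsmul (hS.virtual φ hφ i hi) (b i)))
  obtain ⟨N, hN, hN0⟩ := genChar_norm_nat hDgen
  have hsq : (N : ℤ) + ∑ i ∈ R φ, (b i) ^ 2 = n := by
    have h : (((N : ℤ) + ∑ i ∈ R φ, (b i) ^ 2 : ℤ) : ℂ) = ((n : ℤ) : ℂ) := by
      have h' := hB1'
      rw [hN, hUU, hn] at h'
      push_cast
      linear_combination h'
    exact_mod_cast h
  have hge : ∀ i ∈ R φ, 0 ≤ (b i) ^ 2 - b i := fun i _ => sub_nonneg.mpr (Int.le_self_sq (b i))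
  have hs1 := Finset.sum_nonneg hge
  rw [Finset.sum_sub_distrib, hsum] at hs1
  have hN0' : N = 0 := by
    have h : (N : ℤ) = 0 := by linarith [Int.natCast_nonneg N]
    exact_mod_cast h
  have hD0 : D = 0 := hN0 hN0'
  have hUeq : U = ∑ i ∈ R φ, b i • i := by rw [hD] at hD0; exact sub_eq_zero.mp hD0
  intro γ hγ
  rw [hUeq, classInner_sum_left]
  apply Finset.sum_eq_zero
  intro i hi
  rw [classInner_zsmul_left, hγ i hi, mul_zero]

end CS2

end Cfsg.Agent.Lib.Helper26
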