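import Mathlib
import Cfsg.Prelude.Def_Characters

/-!
# Linear characters of `W₁ ⊔ W₂` (helper26)

Helper lemmas on homomorphisms `↥(W₁ ⊔ W₂) →* ℂˣ`: extensionality on the two factors, unique
factorisation `φ * ψ`, the coercion to `→* ℂ`, and linear independence (Dedekind) of the
functions `(1 - φ)(1 - ψ)`.
-/

namespace Cfsg.Agent.Lib.Helper26

/-- Two homomorphisms on `W₁ ⊔ W₂` agreeing on `W₁` and on `W₂` are equal. -/
theorem hom_ext_sup {G : Type*} [Group G] {M : Type*} [Group M] (W₁ W₂ : Subgroup G)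
    (φ φ' : ↥(W₁ ⊔ W₂) →* M)
    (h1 : ∀ w : ↥(W₁ ⊔ W₂), (w : G) ∈ W₁ → φ w = φ' w)
    (h2 : ∀ w : ↥(W₁ ⊔ W₂), (w : G) ∈ W₂ → φ w = φ' w) : φ = φ' := by
  have hle : W₁ ⊔ W₂ ≤ (MonoidHom.eqLocus φ φ').map (W₁ ⊔ W₂).subtype := by
    apply sup_le
    · intro a ha
      exact ⟨⟨a, (le_sup_left : W₁ ≤ W₁ ⊔ W₂) ha⟩, h1 _ ha, rfl⟩
    · intro a ha
      exact ⟨⟨a, (le_sup_right : W₂ ≤ W₁ ⊔ W₂) ha⟩, h2 _ ha, rfl⟩
  ext w
  obtain ⟨w', hw', hww'⟩ := hle w.2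
  have : w' = w := Subtype.ext hww'
  subst this
  exact hw'

/-- Unique factorisation of a linear character of `W₁ ⊔ W₂` as `φ * ψ` with `φ` trivial on `W₂`
and `ψ` trivial on `W₁`. -/
theorem mul_eq_mul_imp {G : Type*} [Group G] (W₁ W₂ : Subgroup G)
    (φ φ' ψ ψ' : ↥(W₁ ⊔ W₂) →* ℂˣ)
    (hφ : ∀ w : ↥(W₁ ⊔ W₂), (w : G) ∈ W₂ → φ w = 1)
    (hφ' : ∀ w : ↥(W₁ ⊔ W₂), (w : G) ∈ W₂ → φ' w = 1)
    (hψ : ∀ w : ↥(W₁ ⊔ W₂), (w : G) ∈ W₁ → ψ w = 1)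
    (hψ' : ∀ w : ↥(W₁ ⊔ W₂), (w : G) ∈ W₁ → ψ' w = 1)
    (h : φ * ψ = φ' * ψ') : φ = φ' ∧ ψ = ψ' := by
  have hw : ∀ w, φ w * ψ w = φ' w * ψ' w := fun w => by
    have := DFunLike.congr_fun h w
    simpa using this
  constructor
  · apply hom_ext_sup
    · intro w hw1
      have := hw w
      rwa [hψ w hw1, hψ' w hw1, mul_one, mul_one] at this
    · intro w hw2
      rw [hφ w hw2, hφ' w hw2]
  · apply hom_ext_sup
    · intro w hw1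
      rw [hψ w hw1, hψ' w hw1]
    · intro w hw2
      have := hw w
      rwa [hφ w hw2, hφ' w hw2, one_mul, one_mul] at this

theorem hom_mul_one {W : Type*} [Group W] (φ : W →* ℂˣ) : φ * 1 = φ := by
  ext w; simp

theorem hom_one_mul {W : Type*} [Group W] (φ : W →* ℂˣ) : 1 * φ = φ := by
  ext w; simp

/-- Coercion of a linear character with values in `ℂˣ` to a monoid hom with values in `ℂ`. -/
noncomputable def toC {W : Type*} [Group W] (ω : W →* ℂˣ) : W →* ℂ := (Units.coeHom ℂ).comp ω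

@[simp] theorem toC_apply {W : Type*} [Group W] (ω : W →* ℂˣ) (w : W) : toC ω w = (ω w : ℂ) := rfl

theorem toC_injective {W : Type*} [Group W] : Function.Injective (toC : (W →* ℂˣ) → (W →* ℂ)) := by
  intro a b h
  ext w
  have := DFunLike.congr_fun h w
  simpa using this

/-- Dedekind: the functions `(1 - φ)(1 - ψ) = 1 - φ - ψ + φψ` indexed by pairs `(φ, ψ)` with
`φ ≠ 1` trivial on `W₂` and `ψ ≠ 1` trivial on `W₁` are linearly independent. -/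
theorem linearIndependent_one_sub_mul {G : Type*} [Group G] (W₁ W₂ : Subgroup G) :
    LinearIndependent ℂ (fun p : {p : (↥(W₁ ⊔ W₂) →* ℂˣ) × (↥(W₁ ⊔ W₂) →* ℂˣ) //
      p.1 ≠ 1 ∧ p.2 ≠ 1 ∧ (∀ w : ↥(W₁ ⊔ W₂), (w : G) ∈ W₂ → p.1 w = 1) ∧
        (∀ w : ↥(W₁ ⊔ W₂), (w : G) ∈ W₁ → p.2 w = 1)} =>
      fun w : ↥(W₁ ⊔ W₂) => 1 - (p.1.1 w : ℂ) - (p.1.2 w : ℂ) + (p.1.1 w : ℂ) * (p.1.2 w : ℂ)) := by
  classical
  set ι := {p : (↥(W₁ ⊔ W₂) →* ℂˣ) × (↥(W₁ ⊔ W₂) →* ℂˣ) //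
      p.1 ≠ 1 ∧ p.2 ≠ 1 ∧ (∀ w : ↥(W₁ ⊔ W₂), (w : G) ∈ W₂ → p.1 w = 1) ∧
        (∀ w : ↥(W₁ ⊔ W₂), (w : G) ∈ W₁ → p.2 w = 1)} with hι
  -- the Dedekind family
  have hD := linearIndependent_monoidHom ↥(W₁ ⊔ W₂) ℂ
  let F : ι → ((↥(W₁ ⊔ W₂) →* ℂ) →₀ ℂ) := fun p =>
    Finsupp.single (toC 1) 1 - Finsupp.single (toC p.1.1) 1 - Finsupp.single (toC p.1.2) 1
      + Finsupp.single (toC (p.1.1 * p.1.2)) 1
  have h1 : ∀ w : ↥(W₁ ⊔ W₂), (w : G) ∈ W₂ → (1 : ↥(W₁ ⊔ W₂) →* ℂˣ) w = 1 := fun _ _ => rfl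
  have h1' : ∀ w : ↥(W₁ ⊔ W₂), (w : G) ∈ W₁ → (1 : ↥(W₁ ⊔ W₂) →* ℂˣ) w = 1 := fun _ _ => rfl
  have hF : LinearIndependent ℂ F := by
    rw [linearIndependent_iff']
    intro s g hsum q hq
    have hev := DFunLike.congr_fun hsum (toC (q.1.1 * q.1.2))
    rw [Finsupp.finsetSum_apply] at hev
    have hterm : ∀ p ∈ s, (g p • F p) (toC (q.1.1 * q.1.2)) = if p = q then g p else 0 := by
      intro p _
      have e1 : ¬ (toC (1 : ↥(W₁ ⊔ W₂) →* ℂˣ) = toC (q.1.1 * q.1.2)) := by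
        intro h
        have h' : (1 : ↥(W₁ ⊔ W₂) →* ℂˣ) * 1 = q.1.1 * q.1.2 := by
          rw [hom_mul_one]; exact toC_injective h
        exact q.2.1 (mul_eq_mul_imp W₁ W₂ 1 q.1.1 1 q.1.2 h1 q.2.2.2.1 h1' q.2.2.2.2 h').1.symm
      have e2 : ¬ (toC p.1.1 = toC (q.1.1 * q.1.2)) := by
        intro h
        have h' : p.1.1 * 1 = q.1.1 * q.1.2 := by rw [hom_mul_one]; exact toC_injective h
        exact q.2.2.1
          (mul_eq_mul_imp W₁ W₂ p.1.1 q.1.1 1 q.1.2 p.2.2.2.1 q.2.2.2.1 h1' q.2.2.2.2 h').2.symm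
      have e3 : ¬ (toC p.1.2 = toC (q.1.1 * q.1.2)) := by
        intro h
        have h' : 1 * p.1.2 = q.1.1 * q.1.2 := by rw [hom_one_mul]; exact toC_injective h
        exact q.2.1
          (mul_eq_mul_imp W₁ W₂ 1 q.1.1 p.1.2 q.1.2 h1 q.2.2.2.1 p.2.2.2.2 q.2.2.2.2 h').1.symm
      have e4 : (toC (p.1.1 * p.1.2) = toC (q.1.1 * q.1.2)) ↔ p = q := by
        constructor
        · intro h
          have h' := mul_eq_mul_imp W₁ W₂ p.1.1 q.1.1 p.1.2 q.1.2 p.2.2.2.1 q.2.2.2.1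
            p.2.2.2.2 q.2.2.2.2 (toC_injective h)
          apply Subtype.ext
          exact Prod.ext h'.1 h'.2
        · intro h; rw [h]
      simp only [F, Finsupp.smul_apply, Finsupp.add_apply, Finsupp.sub_apply, Finsupp.single_apply,
        smul_eq_mul, if_neg e1, if_neg e2, if_neg e3, e4]
      split_ifs <;> ring
    rw [Finset.sum_congr rfl hterm, Finset.sum_ite_eq' s q g, if_pos hq] at hev
    simpa using hev
  have hker : LinearMap.ker (Finsupp.linearCombination ℂ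
      (fun f : ↥(W₁ ⊔ W₂) →* ℂ => (f : ↥(W₁ ⊔ W₂) → ℂ))) = ⊥ := linearIndependent_iff_ker.1 hD
  have := hF.map' _ hker
  have h3 : (fun p : ι => fun w : ↥(W₁ ⊔ W₂) =>
      1 - (p.1.1 w : ℂ) - (p.1.2 w : ℂ) + (p.1.1 w : ℂ) * (p.1.2 w : ℂ)) =
      ⇑(Finsupp.linearCombination ℂ (fun f : ↥(W₁ ⊔ W₂) →* ℂ => (f : ↥(W₁ ⊔ W₂) → ℂ))) ∘ F := by
    funext p
    funext w
    simp only [F, Function.comp_apply, map_add, map_sub, Finsupp.linearCombination_single, one_smul,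
      Pi.add_apply, Pi.sub_apply, toC_apply]
    simp
  rw [h3]
  exact this

end Cfsg.Agent.Lib.Helper26
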