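import Mathlib
import Cfsg.Prelude.Def_Characters
import Cfsg.Agent.Lib.Helper26.CharBasic
import Cfsg.Agent.Lib.Helper26.LinChar
import Cfsg.Agent.Lib.Helper26.Fourier

/-!
# Orthogonality of linear characters (helper26)
-/

namespace Cfsg.Agent.Lib.Helper26
open Cfsg
open scoped ComplexConjugate

/-- A linear character with values in `ℂˣ` seen as a complex-valued function. -/
noncomputable def linFun {W : Type*} [Group W] (ω : W →* ℂˣ) : W → ℂ := fun w => ((ω w : ℂˣ) : ℂ)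

@[simp] theorem linFun_apply {W : Type*} [Group W] (ω : W →* ℂˣ) (w : W) :
    linFun ω w = ((ω w : ℂˣ) : ℂ) := rfl

theorem classInner_linFun {W : Type*} [Group W] [Fintype W] (ω ω' : W →* ℂˣ)
    [Decidable (ω = ω')] :
    classInner (linFun ω) (linFun ω') = if ω = ω' then 1 else 0 := by
  unfold classInner
  have hne : (Nat.card W : ℂ) ≠ 0 := by
    have : Nat.card W ≠ 0 := Nat.card_pos.ne'
    exact_mod_cast this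
  have hterm : ∀ w : W, linFun ω w * conj (linFun ω' w) = (((ω * ω'⁻¹) w : ℂˣ) : ℂ) := by
    intro w
    rw [linFun_apply, linFun_apply, conj_linChar, map_inv, MonoidHom.mul_apply,
      MonoidHom.inv_apply, Units.val_mul]
  simp_rw [hterm]
  by_cases h : ω = ω'
  · rw [if_pos h, h]
    have : ∀ w : W, (((ω' * ω'⁻¹) w : ℂˣ) : ℂ) = 1 := by
      intro w
      rw [MonoidHom.mul_apply, MonoidHom.inv_apply, mul_inv_cancel, Units.val_one]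
    simp_rw [this]
    rw [Finset.sum_const, Finset.card_univ, nsmul_eq_mul, mul_one, ← Nat.card_eq_fintype_card,
      inv_mul_cancel₀ hne]
  · rw [if_neg h]
    have hne1 : toC (ω * ω'⁻¹) ≠ 1 := by
      intro h1
      apply h
      have h2 : ω * ω'⁻¹ = 1 := by
        apply toC_injective
        rw [h1]
        ext w
        simp
      exact mul_inv_eq_one.1 h2
    have h3 := sum_hom_units_eq_zero (toC (ω * ω'⁻¹)) hne1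
    simp only [toC_apply] at h3
    rw [h3, mul_zero]

theorem one_sub_mul_eq_linFun {W : Type*} [Group W] (φ ψ : W →* ℂˣ) :
    (fun w : W => 1 - ((φ w : ℂˣ) : ℂ) - ((ψ w : ℂˣ) : ℂ) + ((φ w : ℂˣ) : ℂ) * ((ψ w : ℂˣ) : ℂ)) =
      linFun 1 - linFun φ - linFun ψ + linFun (φ * ψ) := by
  funext w
  simp only [Pi.add_apply, Pi.sub_apply, linFun_apply, MonoidHom.one_apply, Units.val_one,
    MonoidHom.mul_apply, Units.val_mul]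

theorem const_one_eq_linFun {W : Type*} [Group W] :
    (fun _ : W => (1 : ℂ)) = linFun 1 := by
  funext w
  simp only [linFun_apply, MonoidHom.one_apply, Units.val_one]

section Sup
variable {G : Type*} [Group G] (W₁ W₂ : Subgroup G)

theorem one_ne_mul (φ ψ : ↥(W₁ ⊔ W₂) →* ℂˣ) (hφ : φ ≠ 1)
    (hφ₂ : ∀ w : ↥(W₁ ⊔ W₂), (w : G) ∈ W₂ → φ w = 1)
    (hψ₁ : ∀ w : ↥(W₁ ⊔ W₂), (w : G) ∈ W₁ → ψ w = 1) : (1 : ↥(W₁ ⊔ W₂) →* ℂˣ) ≠ φ * ψ := by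
  intro h
  have h' : (1 : ↥(W₁ ⊔ W₂) →* ℂˣ) * 1 = φ * ψ := by rw [hom_mul_one]; exact h
  exact hφ (mul_eq_mul_imp W₁ W₂ 1 φ 1 ψ (fun _ _ => rfl) hφ₂ (fun _ _ => rfl) hψ₁ h').1.symm

theorem left_ne_mul (φ φ' ψ' : ↥(W₁ ⊔ W₂) →* ℂˣ) (hψ' : ψ' ≠ 1)
    (hφ₂ : ∀ w : ↥(W₁ ⊔ W₂), (w : G) ∈ W₂ → φ w = 1)
    (hφ₂' : ∀ w : ↥(W₁ ⊔ W₂), (w : G) ∈ W₂ → φ' w = 1)
    (hψ₁' : ∀ w : ↥(W₁ ⊔ W₂), (w : G) ∈ W₁ → ψ' w = 1) : φ ≠ φ' * ψ' := by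
  intro h
  have h' : φ * 1 = φ' * ψ' := by rw [hom_mul_one]; exact h
  exact hψ' (mul_eq_mul_imp W₁ W₂ φ φ' 1 ψ' hφ₂ hφ₂' (fun _ _ => rfl) hψ₁' h').2.symm

theorem right_ne_mul (ψ φ' ψ' : ↥(W₁ ⊔ W₂) →* ℂˣ) (hφ' : φ' ≠ 1)
    (hψ₁ : ∀ w : ↥(W₁ ⊔ W₂), (w : G) ∈ W₁ → ψ w = 1)
    (hφ₂' : ∀ w : ↥(W₁ ⊔ W₂), (w : G) ∈ W₂ → φ' w = 1)
    (hψ₁' : ∀ w : ↥(W₁ ⊔ W₂), (w : G) ∈ W₁ → ψ' w = 1) : ψ ≠ φ' * ψ' := by
  intro h
  have h' : 1 * ψ = φ' * ψ' := by rw [hom_one_mul]; exact h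
  exact hφ' (mul_eq_mul_imp W₁ W₂ 1 φ' ψ ψ' (fun _ _ => rfl) hφ₂' hψ₁ hψ₁' h').1.symm

theorem left_ne_right (φ ψ' : ↥(W₁ ⊔ W₂) →* ℂˣ) (hφ : φ ≠ 1)
    (hφ₂ : ∀ w : ↥(W₁ ⊔ W₂), (w : G) ∈ W₂ → φ w = 1)
    (hψ₁' : ∀ w : ↥(W₁ ⊔ W₂), (w : G) ∈ W₁ → ψ' w = 1) : φ ≠ ψ' := by
  intro h
  have h' : φ * 1 = 1 * ψ' := by rw [hom_mul_one, hom_one_mul]; exact h
  exact hφ (mul_eq_mul_imp W₁ W₂ φ 1 1 ψ' hφ₂ (fun _ _ => rfl) (fun _ _ => rfl) hψ₁' h').1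

/-- `⟨1, (1-φ)(1-ψ)⟩ = 1` on `W₁ ⊔ W₂`. -/
theorem classInner_one_one_sub_mul [Fintype ↥(W₁ ⊔ W₂)] (φ ψ : ↥(W₁ ⊔ W₂) →* ℂˣ)
    (hφ : φ ≠ 1) (hψ : ψ ≠ 1)
    (hφ₂ : ∀ w : ↥(W₁ ⊔ W₂), (w : G) ∈ W₂ → φ w = 1)
    (hψ₁ : ∀ w : ↥(W₁ ⊔ W₂), (w : G) ∈ W₁ → ψ w = 1) :
    classInner (fun _ : ↥(W₁ ⊔ W₂) => (1 : ℂ))
      (fun w => 1 - ((φ w : ℂˣ) : ℂ) - ((ψ w : ℂˣ) : ℂ) + ((φ w : ℂˣ) : ℂ) * ((ψ w : ℂˣ) : ℂ)) = 1 := by
  classical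
  rw [one_sub_mul_eq_linFun, const_one_eq_linFun, classInner_add_right, classInner_sub_right,
    classInner_sub_right, classInner_linFun, classInner_linFun, classInner_linFun,
    classInner_linFun, if_pos rfl, if_neg (Ne.symm hφ), if_neg (Ne.symm hψ),
    if_neg (one_ne_mul W₁ W₂ φ ψ hφ hφ₂ hψ₁)]
  ring

/-- The inner product of `(1-φ)(1-ψ)` and `(1-φ')(1-ψ')` on `W₁ ⊔ W₂`. -/
theorem classInner_one_sub_mul [Fintype ↥(W₁ ⊔ W₂)] (φ φ' ψ ψ' : ↥(W₁ ⊔ W₂) →* ℂˣ)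
    (hφ : φ ≠ 1) (hφ' : φ' ≠ 1) (hψ : ψ ≠ 1) (hψ' : ψ' ≠ 1)
    (hφ₂ : ∀ w : ↥(W₁ ⊔ W₂), (w : G) ∈ W₂ → φ w = 1)
    (hφ₂' : ∀ w : ↥(W₁ ⊔ W₂), (w : G) ∈ W₂ → φ' w = 1)
    (hψ₁ : ∀ w : ↥(W₁ ⊔ W₂), (w : G) ∈ W₁ → ψ w = 1)
    (hψ₁' : ∀ w : ↥(W₁ ⊔ W₂), (w : G) ∈ W₁ → ψ' w = 1)
    [Decidable (φ = φ')] [Decidable (ψ = ψ')] :
    classInner
      (fun w : ↥(W₁ ⊔ W₂) =>
        1 - ((φ w : ℂˣ) : ℂ) - ((ψ w : ℂˣ) : ℂ) + ((φ w : ℂˣ) : ℂ) * ((ψ w : ℂˣ) : ℂ))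
      (fun w : ↥(W₁ ⊔ W₂) =>
        1 - ((φ' w : ℂˣ) : ℂ) - ((ψ' w : ℂˣ) : ℂ) + ((φ' w : ℂˣ) : ℂ) * ((ψ' w : ℂˣ) : ℂ)) =
      1 + (if φ = φ' then 1 else 0) + (if ψ = ψ' then 1 else 0) +
        (if φ = φ' then 1 else 0) * (if ψ = ψ' then 1 else 0) := by
  classical
  have v11 : classInner (linFun (1 : ↥(W₁ ⊔ W₂) →* ℂˣ)) (linFun 1) = 1 := by
    rw [classInner_linFun, if_pos rfl]
  have v12 : classInner (linFun (1 : ↥(W₁ ⊔ W₂) →* ℂˣ)) (linFun φ') = 0 := by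
    rw [classInner_linFun, if_neg (Ne.symm hφ')]
  have v13 : classInner (linFun (1 : ↥(W₁ ⊔ W₂) →* ℂˣ)) (linFun ψ') = 0 := by
    rw [classInner_linFun, if_neg (Ne.symm hψ')]
  have v14 : classInner (linFun (1 : ↥(W₁ ⊔ W₂) →* ℂˣ)) (linFun (φ' * ψ')) = 0 := by
    rw [classInner_linFun, if_neg (one_ne_mul W₁ W₂ φ' ψ' hφ' hφ₂' hψ₁')]
  have v21 : classInner (linFun φ) (linFun 1) = 0 := by
    rw [classInner_linFun, if_neg hφ]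
  have v22 : classInner (linFun φ) (linFun φ') = if φ = φ' then 1 else 0 := by
    rw [classInner_linFun]
  have v23 : classInner (linFun φ) (linFun ψ') = 0 := by
    rw [classInner_linFun, if_neg (left_ne_right W₁ W₂ φ ψ' hφ hφ₂ hψ₁')]
  have v24 : classInner (linFun φ) (linFun (φ' * ψ')) = 0 := by
    rw [classInner_linFun, if_neg (left_ne_mul W₁ W₂ φ φ' ψ' hψ' hφ₂ hφ₂' hψ₁')]
  have v31 : classInner (linFun ψ) (linFun 1) = 0 := by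
    rw [classInner_linFun, if_neg hψ]
  have v32 : classInner (linFun ψ) (linFun φ') = 0 := by
    rw [classInner_linFun, if_neg (Ne.symm (left_ne_right W₁ W₂ φ' ψ hφ' hφ₂' hψ₁))]
  have v33 : classInner (linFun ψ) (linFun ψ') = if ψ = ψ' then 1 else 0 := by
    rw [classInner_linFun]
  have v34 : classInner (linFun ψ) (linFun (φ' * ψ')) = 0 := by
    rw [classInner_linFun, if_neg (right_ne_mul W₁ W₂ ψ φ' ψ' hφ' hψ₁ hφ₂' hψ₁')]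
  have v41 : classInner (linFun (φ * ψ)) (linFun 1) = 0 := by
    rw [classInner_linFun, if_neg (Ne.symm (one_ne_mul W₁ W₂ φ ψ hφ hφ₂ hψ₁))]
  have v42 : classInner (linFun (φ * ψ)) (linFun φ') = 0 := by
    rw [classInner_linFun, if_neg (Ne.symm (left_ne_mul W₁ W₂ φ' φ ψ hψ hφ₂' hφ₂ hψ₁))]
  have v43 : classInner (linFun (φ * ψ)) (linFun ψ') = 0 := by
    rw [classInner_linFun, if_neg (Ne.symm (right_ne_mul W₁ W₂ ψ' φ ψ hφ hψ₁' hφ₂ hψ₁))]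
  have v44 : classInner (linFun (φ * ψ)) (linFun (φ' * ψ')) =
      (if φ = φ' then 1 else 0) * (if ψ = ψ' then 1 else 0) := by
    rw [classInner_linFun]
    by_cases h1 : φ = φ'
    · by_cases h2 : ψ = ψ'
      · rw [if_pos h1, if_pos h2, if_pos (by rw [h1, h2]), mul_one]
      · rw [if_pos h1, if_neg h2, mul_zero, if_neg]
        intro h
        exact h2 (mul_eq_mul_imp W₁ W₂ φ φ' ψ ψ' hφ₂ hφ₂' hψ₁ hψ₁' h).2
    · rw [if_neg h1, zero_mul, if_neg]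
      intro h
      exact h1 (mul_eq_mul_imp W₁ W₂ φ φ' ψ ψ' hφ₂ hφ₂' hψ₁ hψ₁' h).1
  rw [one_sub_mul_eq_linFun, one_sub_mul_eq_linFun]
  simp only [classInner_add_left, classInner_sub_left, classInner_add_right, classInner_sub_right]
  rw [v11, v12, v13, v14, v21, v22, v23, v24, v31, v32, v33, v34, v41, v42, v43, v44]
  ring

end Sup

end Cfsg.Agent.Lib.Helper26
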