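import Mathlib
import Cfsg.Agent.Lib.Helper26.LinChar

/-!
# The internal direct product `W₁ ⊔ W₂` of two commuting subgroups and its linear characters
(helper26)
-/

namespace Cfsg.Agent.Lib.Helper26

section DualSplit
variable {G : Type*} [Group G] (W₁ W₂ : Subgroup G)

/-- Elements of the join of two elementwise commuting subgroups are products. -/
theorem mem_sup_of_commute (hcomm : ∀ a ∈ W₁, ∀ b ∈ W₂, a * b = b * a) {t : G}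
    (ht : t ∈ W₁ ⊔ W₂) : ∃ a ∈ W₁, ∃ b ∈ W₂, t = a * b := by
  let S : Subgroup G :=
    { carrier := {t | ∃ a ∈ W₁, ∃ b ∈ W₂, t = a * b}
      mul_mem' := by
        rintro x y ⟨a, ha, b, hb, rfl⟩ ⟨a', ha', b', hb', rfl⟩
        refine ⟨a * a', W₁.mul_mem ha ha', b * b', W₂.mul_mem hb hb', ?_⟩
        have h := hcomm a' ha' b hb
        calc a * b * (a' * b') = a * (b * a') * b' := by group
          _ = a * (a' * b) * b' := by rw [h]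
          _ = a * a' * (b * b') := by group
      one_mem' := ⟨1, W₁.one_mem, 1, W₂.one_mem, by simp⟩
      inv_mem' := by
        rintro x ⟨a, ha, b, hb, rfl⟩
        refine ⟨a⁻¹, W₁.inv_mem ha, b⁻¹, W₂.inv_mem hb, ?_⟩
        have h := hcomm a⁻¹ (W₁.inv_mem ha) b⁻¹ (W₂.inv_mem hb)
        rw [mul_inv_rev, h] }
  have hle : W₁ ⊔ W₂ ≤ S := by
    apply sup_le
    · intro a ha
      exact ⟨a, ha, 1, W₂.one_mem, by simp⟩
    · intro b hb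
      exact ⟨1, W₁.one_mem, b, hb, by simp⟩
  exact hle ht

/-- The multiplication map `W₁ × W₂ →* W₁ ⊔ W₂`. -/
noncomputable def mulHomSup (hcomm : ∀ a ∈ W₁, ∀ b ∈ W₂, a * b = b * a) :
    ↥W₁ × ↥W₂ →* ↥(W₁ ⊔ W₂) where
  toFun p := ⟨(p.1 : G) * (p.2 : G),
    Subgroup.mul_mem _ (Subgroup.mem_sup_left p.1.2) (Subgroup.mem_sup_right p.2.2)⟩
  map_one' := by
    apply Subtype.ext
    simp
  map_mul' := by
    rintro ⟨a, b⟩ ⟨a', b'⟩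
    apply Subtype.ext
    have h := hcomm a' a'.2 b b.2
    show ((a * a' : ↥W₁) : G) * ((b * b' : ↥W₂) : G) = ((a : G) * (b : G)) * ((a' : G) * (b' : G))
    rw [Subgroup.coe_mul, Subgroup.coe_mul]
    calc (a : G) * a' * ((b : G) * b') = a * ((a' : G) * b) * b' := by group
      _ = a * ((b : G) * a') * b' := by rw [h]
      _ = (a : G) * b * ((a' : G) * b') := by group

@[simp] theorem mulHomSup_coe (hcomm : ∀ a ∈ W₁, ∀ b ∈ W₂, a * b = b * a) (p : ↥W₁ × ↥W₂) :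
    ((mulHomSup W₁ W₂ hcomm p : ↥(W₁ ⊔ W₂)) : G) = (p.1 : G) * (p.2 : G) := rfl

theorem mulHomSup_bijective (hdisj : W₁ ⊓ W₂ = ⊥)
    (hcomm : ∀ a ∈ W₁, ∀ b ∈ W₂, a * b = b * a) :
    Function.Bijective (mulHomSup W₁ W₂ hcomm) := by
  constructor
  · rw [injective_iff_map_eq_one]
    rintro ⟨a, b⟩ h
    have h' : (a : G) * (b : G) = 1 := congrArg Subtype.val h
    have ha : (a : G) ∈ W₁ ⊓ W₂ := ⟨a.2, by
      have : (a : G) = (b : G)⁻¹ := eq_inv_of_mul_eq_one_left h'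
      rw [this]; exact W₂.inv_mem b.2⟩
    rw [hdisj, Subgroup.mem_bot] at ha
    have hb : (b : G) = 1 := by rw [ha, one_mul] at h'; exact h'
    exact Prod.ext (Subtype.ext ha) (Subtype.ext hb)
  · intro w
    obtain ⟨a, ha, b, hb, hab⟩ := mem_sup_of_commute W₁ W₂ hcomm w.2
    exact ⟨(⟨a, ha⟩, ⟨b, hb⟩), Subtype.ext hab.symm⟩

/-- `W₁ × W₂ ≃* W₁ ⊔ W₂` for commuting subgroups with trivial intersection. -/
noncomputable def supEquiv (hdisj : W₁ ⊓ W₂ = ⊥) (hcomm : ∀ a ∈ W₁, ∀ b ∈ W₂, a * b = b * a) :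
    ↥W₁ × ↥W₂ ≃* ↥(W₁ ⊔ W₂) :=
  MulEquiv.ofBijective (mulHomSup W₁ W₂ hcomm) (mulHomSup_bijective W₁ W₂ hdisj hcomm)

/-- Projection of `W₁ ⊔ W₂` onto `W₁`. -/
noncomputable def proj₁ (hdisj : W₁ ⊓ W₂ = ⊥) (hcomm : ∀ a ∈ W₁, ∀ b ∈ W₂, a * b = b * a) :
    ↥(W₁ ⊔ W₂) →* ↥W₁ :=
  (MonoidHom.fst _ _).comp (supEquiv W₁ W₂ hdisj hcomm).symm.toMonoidHom

/-- Projection of `W₁ ⊔ W₂` onto `W₂`. -/
noncomputable def proj₂ (hdisj : W₁ ⊓ W₂ = ⊥) (hcomm : ∀ a ∈ W₁, ∀ b ∈ W₂, a * b = b * a) :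
    ↥(W₁ ⊔ W₂) →* ↥W₂ :=
  (MonoidHom.snd _ _).comp (supEquiv W₁ W₂ hdisj hcomm).symm.toMonoidHom

variable (hdisj : W₁ ⊓ W₂ = ⊥) (hcomm : ∀ a ∈ W₁, ∀ b ∈ W₂, a * b = b * a)

theorem proj_mul (w : ↥(W₁ ⊔ W₂)) :
    ((proj₁ W₁ W₂ hdisj hcomm w : ↥W₁) : G) * ((proj₂ W₁ W₂ hdisj hcomm w : ↥W₂) : G) = (w : G) := by
  have h := (supEquiv W₁ W₂ hdisj hcomm).apply_symm_apply w
  exact congrArg Subtype.val h

theorem symm_apply_of_mem_right (w : ↥(W₁ ⊔ W₂)) (hw : (w : G) ∈ W₂) :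
    (supEquiv W₁ W₂ hdisj hcomm).symm w = (1, ⟨w, hw⟩) := by
  rw [MulEquiv.symm_apply_eq]
  apply Subtype.ext
  show (w : G) = ((1 : ↥W₁) : G) * (w : G)
  simp

theorem symm_apply_of_mem_left (w : ↥(W₁ ⊔ W₂)) (hw : (w : G) ∈ W₁) :
    (supEquiv W₁ W₂ hdisj hcomm).symm w = (⟨w, hw⟩, 1) := by
  rw [MulEquiv.symm_apply_eq]
  apply Subtype.ext
  show (w : G) = (w : G) * ((1 : ↥W₂) : G)
  simp

theorem proj₁_of_mem_right (w : ↥(W₁ ⊔ W₂)) (hw : (w : G) ∈ W₂) :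
    proj₁ W₁ W₂ hdisj hcomm w = 1 := by
  show ((supEquiv W₁ W₂ hdisj hcomm).symm w).1 = 1
  rw [symm_apply_of_mem_right W₁ W₂ hdisj hcomm w hw]

theorem proj₂_of_mem_left (w : ↥(W₁ ⊔ W₂)) (hw : (w : G) ∈ W₁) :
    proj₂ W₁ W₂ hdisj hcomm w = 1 := by
  show ((supEquiv W₁ W₂ hdisj hcomm).symm w).2 = 1
  rw [symm_apply_of_mem_left W₁ W₂ hdisj hcomm w hw]

theorem proj₁_of_mem_left (w : ↥(W₁ ⊔ W₂)) (hw : (w : G) ∈ W₁) :
    proj₁ W₁ W₂ hdisj hcomm w = ⟨w, hw⟩ := by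
  show ((supEquiv W₁ W₂ hdisj hcomm).symm w).1 = _
  rw [symm_apply_of_mem_left W₁ W₂ hdisj hcomm w hw]

theorem proj₂_of_mem_right (w : ↥(W₁ ⊔ W₂)) (hw : (w : G) ∈ W₂) :
    proj₂ W₁ W₂ hdisj hcomm w = ⟨w, hw⟩ := by
  show ((supEquiv W₁ W₂ hdisj hcomm).symm w).2 = _
  rw [symm_apply_of_mem_right W₁ W₂ hdisj hcomm w hw]

/-- Every linear character of `W₁ ⊔ W₂` factors as `φ * ψ` with `φ` trivial on `W₂` and `ψ` trivial
on `W₁`. -/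
theorem exists_factor (hdisj : W₁ ⊓ W₂ = ⊥) (hcomm : ∀ a ∈ W₁, ∀ b ∈ W₂, a * b = b * a)
    (ω : ↥(W₁ ⊔ W₂) →* ℂˣ) :
    ∃ φ ψ : ↥(W₁ ⊔ W₂) →* ℂˣ, (∀ w : ↥(W₁ ⊔ W₂), (w : G) ∈ W₂ → φ w = 1) ∧
      (∀ w : ↥(W₁ ⊔ W₂), (w : G) ∈ W₁ → ψ w = 1) ∧ ω = φ * ψ := by
  refine ⟨(ω.comp (Subgroup.inclusion le_sup_left)).comp (proj₁ W₁ W₂ hdisj hcomm),
    (ω.comp (Subgroup.inclusion le_sup_right)).comp (proj₂ W₁ W₂ hdisj hcomm), ?_, ?_, ?_⟩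
  · intro w hw
    rw [MonoidHom.comp_apply, proj₁_of_mem_right W₁ W₂ hdisj hcomm w hw, map_one]
  · intro w hw
    rw [MonoidHom.comp_apply, proj₂_of_mem_left W₁ W₂ hdisj hcomm w hw, map_one]
  · ext w
    rw [MonoidHom.mul_apply, MonoidHom.comp_apply, MonoidHom.comp_apply, MonoidHom.comp_apply,
      MonoidHom.comp_apply, ← map_mul]
    congr 2
    apply Subtype.ext
    rw [Subgroup.coe_mul, Subgroup.coe_inclusion, Subgroup.coe_inclusion]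
    exact (proj_mul W₁ W₂ hdisj hcomm w).symm

/-- There are at least `|W₁|` linear characters of `W₁ ⊔ W₂` trivial on `W₂`. -/
theorem card_le_card_trivial_on_right [Finite G] (hdisj : W₁ ⊓ W₂ = ⊥)
    (hcomm : ∀ a ∈ W₁, ∀ b ∈ W₂, a * b = b * a) (hc₁ : ∀ a b : ↥W₁, a * b = b * a) :
    Nat.card W₁ ≤
      Nat.card {φ : ↥(W₁ ⊔ W₂) →* ℂˣ // ∀ w : ↥(W₁ ⊔ W₂), (w : G) ∈ W₂ → φ w = 1} := by
  let _ : CommGroup ↥W₁ := { (inferInstance : Group ↥W₁) with mul_comm := hc₁ }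
  have hcard : Nat.card (↥W₁ →* ℂˣ) = Nat.card ↥W₁ :=
    CommGroup.card_monoidHom_of_hasEnoughRootsOfUnity (↥W₁) ℂ
  rw [← hcard]
  apply Nat.card_le_card_of_injective
    (fun α : ↥W₁ →* ℂˣ =>
      (⟨α.comp (proj₁ W₁ W₂ hdisj hcomm), fun w hw => by
        rw [MonoidHom.comp_apply, proj₁_of_mem_right W₁ W₂ hdisj hcomm w hw, map_one]⟩ :
        {φ : ↥(W₁ ⊔ W₂) →* ℂˣ // ∀ w : ↥(W₁ ⊔ W₂), (w : G) ∈ W₂ → φ w = 1}))
  intro α β h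
  have h' : α.comp (proj₁ W₁ W₂ hdisj hcomm) = β.comp (proj₁ W₁ W₂ hdisj hcomm) :=
    congrArg Subtype.val h
  ext a
  have h2 := DFunLike.congr_fun h' (Subgroup.inclusion le_sup_left a)
  rw [MonoidHom.comp_apply, MonoidHom.comp_apply,
    proj₁_of_mem_left W₁ W₂ hdisj hcomm (Subgroup.inclusion le_sup_left a) a.2] at h2
  exact congrArg _ h2

/-- There are at least `|W₂|` linear characters of `W₁ ⊔ W₂` trivial on `W₁`. -/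
theorem card_le_card_trivial_on_left [Finite G] (hdisj : W₁ ⊓ W₂ = ⊥)
    (hcomm : ∀ a ∈ W₁, ∀ b ∈ W₂, a * b = b * a) (hc₂ : ∀ a b : ↥W₂, a * b = b * a) :
    Nat.card W₂ ≤
      Nat.card {ψ : ↥(W₁ ⊔ W₂) →* ℂˣ // ∀ w : ↥(W₁ ⊔ W₂), (w : G) ∈ W₁ → ψ w = 1} := by
  let _ : CommGroup ↥W₂ := { (inferInstance : Group ↥W₂) with mul_comm := hc₂ }
  have hcard : Nat.card (↥W₂ →* ℂˣ) = Nat.card ↥W₂ :=
    CommGroup.card_monoidHom_of_hasEnoughRootsOfUnity (↥W₂) ℂ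
  rw [← hcard]
  apply Nat.card_le_card_of_injective
    (fun α : ↥W₂ →* ℂˣ =>
      (⟨α.comp (proj₂ W₁ W₂ hdisj hcomm), fun w hw => by
        rw [MonoidHom.comp_apply, proj₂_of_mem_left W₁ W₂ hdisj hcomm w hw, map_one]⟩ :
        {ψ : ↥(W₁ ⊔ W₂) →* ℂˣ // ∀ w : ↥(W₁ ⊔ W₂), (w : G) ∈ W₁ → ψ w = 1}))
  intro α β h
  have h' : α.comp (proj₂ W₁ W₂ hdisj hcomm) = β.comp (proj₂ W₁ W₂ hdisj hcomm) :=
    congrArg Subtype.val h
  ext a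
  have h2 := DFunLike.congr_fun h' (Subgroup.inclusion le_sup_right a)
  rw [MonoidHom.comp_apply, MonoidHom.comp_apply,
    proj₂_of_mem_right W₁ W₂ hdisj hcomm (Subgroup.inclusion le_sup_right a) a.2] at h2
  exact congrArg _ h2

end DualSplit

end Cfsg.Agent.Lib.Helper26
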