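import Mathlib
import Cfsg.Agent.Lib.Helper26.DualSplit
import Cfsg.Agent.Lib.Helper26.TIInd

/-!
# Prime action hypothesis (Peterfalvi, Hypothesis 4.2) — group theory (helper26)

`PAHyp K W₁ W₂`: `L = K ⋊ W₁`, `W₁ ≠ 1` a cyclic Hall subgroup, `1 ≠ W₂ ≤ K` cyclic with
`C_K(x) = W₂` for all `x ∈ W₁#`.

Main results: `W₁` and `W₂` commute, `W = W₁ ⊔ W₂` is abelian of order `|W₁||W₂|`,
the set `W ∖ W₂` is a TI-subset of `L` with normaliser `W` (`PAHyp.ti`), no element of it lies in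
`K`, and its elements have centraliser `W`.
-/

namespace Cfsg.Agent.Lib.Helper26

/-- Peterfalvi's Hypothesis (4.2). -/
structure PAHyp {L : Type*} [Group L] (K W₁ W₂ : Subgroup L) : Prop where
  normal : K.Normal
  disj : K ⊓ W₁ = ⊥
  sup : K ⊔ W₁ = ⊤
  ne₁ : W₁ ≠ ⊥
  cyc₁ : IsCyclic W₁
  hall : Nat.Coprime (Nat.card W₁) W₁.index
  ne₂ : W₂ ≠ ⊥
  cyc₂ : IsCyclic W₂
  le₂ : W₂ ≤ K
  cent : ∀ x ∈ W₁, x ≠ 1 → K ⊓ Subgroup.centralizer ({x} : Set L) = W₂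

namespace PAHyp

variable {L : Type*} [Group L] {K W₁ W₂ : Subgroup L}

theorem comm (h : PAHyp K W₁ W₂) : ∀ a ∈ W₁, ∀ b ∈ W₂, a * b = b * a := by
  intro a ha b hb
  by_cases ha1 : a = 1
  · subst ha1; simp
  · have hb' : b ∈ K ⊓ Subgroup.centralizer ({a} : Set L) := by rw [h.cent a ha ha1]; exact hb
    exact Subgroup.mem_centralizer_iff.mp (Subgroup.mem_inf.mp hb').2 a (Set.mem_singleton a)

theorem disj12 (h : PAHyp K W₁ W₂) : W₁ ⊓ W₂ = ⊥ := by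
  rw [eq_bot_iff]
  intro x hx
  have : x ∈ K ⊓ W₁ := ⟨h.le₂ hx.2, hx.1⟩
  rwa [h.disj] at this

theorem comm₁ (h : PAHyp K W₁ W₂) : ∀ a ∈ W₁, ∀ b ∈ W₁, a * b = b * a := by
  intro a ha b hb
  haveI := h.cyc₁
  have := (IsCyclic.commGroup (α := W₁)).mul_comm ⟨a, ha⟩ ⟨b, hb⟩
  exact congrArg Subtype.val this

theorem comm₂ (h : PAHyp K W₁ W₂) : ∀ a ∈ W₂, ∀ b ∈ W₂, a * b = b * a := by
  intro a ha b hb
  haveI := h.cyc₂
  have := (IsCyclic.commGroup (α := W₂)).mul_comm ⟨a, ha⟩ ⟨b, hb⟩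
  exact congrArg Subtype.val this

theorem decomp (h : PAHyp K W₁ W₂) (g : L) : ∃ k ∈ K, ∃ y ∈ W₁, g = k * y := by
  haveI := h.normal
  have hg : g ∈ ((K ⊔ W₁ : Subgroup L) : Set L) := by rw [h.sup]; trivial
  rw [Subgroup.normal_mul] at hg
  obtain ⟨k, hk, y, hy, rfl⟩ := Set.mem_mul.mp hg
  exact ⟨k, hk, y, hy, rfl⟩

theorem isComplement' (h : PAHyp K W₁ W₂) : Subgroup.IsComplement' K W₁ := by
  haveI := h.normal
  apply Subgroup.isComplement'_of_disjoint_and_mul_eq_univ (disjoint_iff.mpr h.disj)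
  rw [← Subgroup.normal_mul, h.sup]
  rfl

theorem coprime_card (h : PAHyp K W₁ W₂) : Nat.Coprime (Nat.card W₁) (Nat.card K) := by
  have := h.hall
  rwa [h.isComplement'.index_eq_card] at this

theorem coprime_card₁₂ [Finite L] (h : PAHyp K W₁ W₂) :
    Nat.Coprime (Nat.card W₁) (Nat.card W₂) :=
  Nat.Coprime.coprime_dvd_right (Subgroup.card_dvd_of_le h.le₂) h.coprime_card

/-- Elements of `W₁ ⊔ W₂` decompose. -/
theorem mem_sup (h : PAHyp K W₁ W₂) {t : L} (ht : t ∈ W₁ ⊔ W₂) :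
    ∃ a ∈ W₁, ∃ b ∈ W₂, t = a * b :=
  mem_sup_of_commute W₁ W₂ h.comm ht

theorem comm_sup (h : PAHyp K W₁ W₂) : ∀ s ∈ W₁ ⊔ W₂, ∀ t ∈ W₁ ⊔ W₂, s * t = t * s := by
  intro s hs t ht
  obtain ⟨a, ha, b, hb, rfl⟩ := h.mem_sup hs
  obtain ⟨a', ha', b', hb', rfl⟩ := h.mem_sup ht
  have e1 := h.comm a ha b' hb'
  have e2 := h.comm a' ha' b hb
  have e3 := h.comm₁ a ha a' ha'
  have e4 := h.comm₂ b hb b' hb'
  calc a * b * (a' * b') = a * (b * a') * b' := by group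
    _ = a * (a' * b) * b' := by rw [e2]
    _ = (a * a') * (b * b') := by group
    _ = (a' * a) * (b' * b) := by rw [e3, e4]
    _ = a' * (a * b') * b := by group
    _ = a' * (b' * a) * b := by rw [e1]
    _ = a' * b' * (a * b) := by group

/-- An element of `W ∖ W₂` is not in `K`. -/
theorem not_mem_K (h : PAHyp K W₁ W₂) {a : L} (ha : a ∈ W₁ ⊔ W₂) (ha2 : a ∉ W₂) : a ∉ K := by
  intro haK
  obtain ⟨x, hx, c, hc, rfl⟩ := h.mem_sup ha
  have hxK : x ∈ K := by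
    have := K.mul_mem haK (K.inv_mem (h.le₂ hc))
    simpa using this
  have hx1 : x ∈ K ⊓ W₁ := ⟨hxK, hx⟩
  rw [h.disj, Subgroup.mem_bot] at hx1
  subst hx1
  apply ha2
  simpa using hc

/-- The key TI property: an element of `L` conjugating an element of `W ∖ W₂` into `W` lies in `W`. -/
theorem ti [Finite L] (h : PAHyp K W₁ W₂) (g : L) {a : L} (ha : a ∈ W₁ ⊔ W₂) (ha2 : a ∉ W₂)
    (hga : g * a * g⁻¹ ∈ W₁ ⊔ W₂) : g ∈ W₁ ⊔ W₂ := by
  obtain ⟨x, hx, c, hc, rfl⟩ := h.mem_sup ha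
  obtain ⟨x', hx', c', hc', hb⟩ := h.mem_sup hga
  have hx1 : x ≠ 1 := by
    rintro rfl
    apply ha2
    simpa using hc
  obtain ⟨n₂, hn₂⟩ : ∃ n, n = Nat.card W₂ := ⟨_, rfl⟩
  -- powers
  have hcn : c ^ n₂ = 1 := by rw [hn₂]; exact pow_card_sub_eq_one W₂ hc
  have hcn' : c' ^ n₂ = 1 := by rw [hn₂]; exact pow_card_sub_eq_one W₂ hc'
  have hpow1 : (x * c) ^ n₂ = x ^ n₂ := by
    rw [(show Commute x c from h.comm x hx c hc).mul_pow, hcn, mul_one]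
  have hpow2 : (x' * c') ^ n₂ = x' ^ n₂ := by
    rw [(show Commute x' c' from h.comm x' hx' c' hc').mul_pow, hcn', mul_one]
  have hconj : g * x ^ n₂ * g⁻¹ = x' ^ n₂ := by
    rw [← hpow1, ← conj_pow, hb, hpow2]
  have hx0 : x ^ n₂ ≠ 1 := by
    intro h0
    apply hx1
    have h1 : orderOf x ∣ n₂ := orderOf_dvd_of_pow_eq_one h0
    have h2 : orderOf x ∣ Nat.card W₁ := by
      have := orderOf_dvd_natCard (⟨x, hx⟩ : W₁)
      rwa [Subgroup.orderOf_mk] at this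
    have h3 : orderOf x ∣ 1 := by
      have hc := h.coprime_card₁₂
      rw [← hn₂] at hc
      rw [← Nat.Coprime.gcd_eq_one hc]
      exact Nat.dvd_gcd h2 h1
    exact orderOf_eq_one_iff.mp (Nat.dvd_one.mp h3)
  have hx0W : x ^ n₂ ∈ W₁ := W₁.pow_mem hx n₂
  have hx0W' : x' ^ n₂ ∈ W₁ := W₁.pow_mem hx' n₂
  have hcent := h.cent _ hx0W hx0
  obtain ⟨X, hX⟩ : ∃ X, X = x ^ n₂ := ⟨_, rfl⟩
  obtain ⟨X', hX'⟩ : ∃ X', X' = x' ^ n₂ := ⟨_, rfl⟩
  rw [← hX] at hconj hx0W hcent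
  rw [← hX'] at hconj hx0W'
  obtain ⟨k, hk, y, hy, rfl⟩ := h.decomp g
  have hyx : y * X * y⁻¹ = X := by
    rw [h.comm₁ y hy _ hx0W, mul_inv_cancel_right]
  have hk1 : k * X * k⁻¹ = X' := by
    rw [← hconj]
    calc k * X * k⁻¹ = k * (y * X * y⁻¹) * k⁻¹ := by rw [hyx]
      _ = k * y * X * (k * y)⁻¹ := by group
  -- the commutator lies in K ⊓ W₁
  have hmem : X' * X⁻¹ ∈ K ⊓ W₁ := by
    refine ⟨?_, W₁.mul_mem hx0W' (W₁.inv_mem hx0W)⟩
    rw [← hk1]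
    have h1 : X * k⁻¹ * X⁻¹ ∈ K := h.normal.conj_mem _ (K.inv_mem hk) _
    have h2 := K.mul_mem hk h1
    have e : k * (X * k⁻¹ * X⁻¹) = k * X * k⁻¹ * X⁻¹ := by group
    rwa [e] at h2
  rw [h.disj, Subgroup.mem_bot] at hmem
  have hk2 : k * X * k⁻¹ = X := by
    rw [hk1]
    exact mul_inv_eq_one.mp hmem
  have hkc : k ∈ K ⊓ Subgroup.centralizer ({X} : Set L) := by
    refine ⟨hk, Subgroup.mem_centralizer_iff.mpr ?_⟩
    intro z hz
    rw [Set.mem_singleton_iff] at hz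
    subst hz
    calc z * k = (k * z * k⁻¹) * k := by rw [hk2]
      _ = k * z := by group
  rw [hcent] at hkc
  exact Subgroup.mul_mem _ (Subgroup.mem_sup_right hkc) (Subgroup.mem_sup_left hy)

/-- The centraliser of an element of `W ∖ W₂` is `W`. -/
theorem centralizer_eq [Finite L] (h : PAHyp K W₁ W₂) {a : L} (ha : a ∈ W₁ ⊔ W₂) (ha2 : a ∉ W₂) :
    Subgroup.centralizer ({a} : Set L) = W₁ ⊔ W₂ := by
  apply le_antisymm
  · intro g hg
    apply h.ti g ha ha2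
    have := Subgroup.mem_centralizer_iff.mp hg a (Set.mem_singleton a)
    have e : g * a * g⁻¹ = a := by rw [← this]; group
    rw [e]; exact ha
  · intro g hg
    rw [Subgroup.mem_centralizer_iff]
    intro z hz
    rw [Set.mem_singleton_iff] at hz
    subst hz
    exact h.comm_sup z ha g hg

theorem card_sup [Finite L] (h : PAHyp K W₁ W₂) :
    Nat.card ↥(W₁ ⊔ W₂) = Nat.card W₁ * Nat.card W₂ := by
  rw [← Nat.card_prod]
  exact (Nat.card_congr (supEquiv W₁ W₂ h.disj12 h.comm).toEquiv).symm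

/-- `W₁` has a non-identity element. -/
theorem exists_ne_one (h : PAHyp K W₁ W₂) : ∃ x ∈ W₁, x ≠ 1 := by
  by_contra hcon
  push_neg at hcon
  apply h.ne₁
  rw [eq_bot_iff]
  intro x hx
  rw [Subgroup.mem_bot]
  exact hcon x hx

/-- A non-identity element of `W₁` is not in `W₂`. -/
theorem not_mem_W₂ (h : PAHyp K W₁ W₂) {x : L} (hx : x ∈ W₁) (hx1 : x ≠ 1) : x ∉ W₂ := by
  intro hx2
  have : x ∈ W₁ ⊓ W₂ := ⟨hx, hx2⟩
  rw [h.disj12, Subgroup.mem_bot] at this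
  exact hx1 this

end PAHyp

end Cfsg.Agent.Lib.Helper26
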