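import Mathlib
import Cfsg.Prelude.Def_Characters
import Cfsg.Agent.Lib.Helper26.PrimeAct
import Cfsg.Agent.Lib.Helper26.BrauerSuzuki
import Cfsg.Agent.Lib.Helper26.LinCharOrtho
import Cfsg.Agent.Lib.Helper26.CharInt
import Cfsg.Agent.Lib.Helper24.LinBridge
import Cfsg.Agent.Lib.Helper4.CharOrtho
import Cfsg.Agent.Lib.Helper4.Artin

/-!
# Prime action hypothesis (Peterfalvi §4) — characters (helper26)

* `exceptional_coherent_diff`: variant of `exceptional_coherent` where only differences vanish off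
  the TI set.
* `isIrrCharacter_linFun`: linear characters are irreducible characters.
* `PAHyp.exists_mu_aux`, `PAHyp.exists_mu`: Peterfalvi (4.5): the characters `μ_ω` of `L`.
-/

namespace Cfsg.Agent.Lib.Helper26
open Cfsg
open scoped ComplexConjugate

theorem isIrrCharacter_linFun {W : Type*} [Group W] (ω : W →* ℂˣ) :
    IsIrrCharacter W (linFun ω) :=
  ⟨1, Cfsg.Agent.Lib.Helper24.linRepH ω,
    Cfsg.Agent.Lib.Helper4.isIrreducible_of_finrank_eq_one _ (by simp),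
    funext (Cfsg.Agent.Lib.Helper24.linRepH_character ω)⟩

theorem linFun_injective {W : Type*} [Group W] :
    Function.Injective (linFun : (W →* ℂˣ) → (W → ℂ)) := by
  intro a b hab
  ext w
  exact congrFun hab w

theorem eq_one_of_mul_eq_left {W : Type*} [Group W] (η φ : W →* ℂˣ) (h : η * φ = η) : φ = 1 := by
  apply MonoidHom.ext
  intro w
  have h3 := DFunLike.congr_fun h w
  rw [MonoidHom.mul_apply] at h3
  have h4 : φ w = 1 := mul_left_cancel (h3.trans (mul_one _).symm)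
  rw [h4]
  rfl

theorem isClassFunction_of_comm {W : Type*} [Group W] (hc : ∀ a b : W, a * b = b * a)
    (f : W → ℂ) : IsClassFunction W f := by
  intro g k
  rw [hc k g, mul_inv_cancel_right]

theorem exceptional_coherent_diff {G : Type*} [Group G] [Fintype G] (N : Subgroup G) [Fintype N]
    (T : Set G) (hTI : ∀ g : G, g ∉ N → ∀ t ∈ T, g * t * g⁻¹ ∈ T → t = 1)
    {ι : Type*} (c : ι → (N → ℂ)) (hc : ∀ i, IsIrrCharacter N (c i))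
    (hinj : Function.Injective c) (hvan2 : ∀ i j, ∀ x : N, (x : G) ∉ T → c i x = c j x)
    (hdeg : ∀ i j, c i 1 = c j 1) (i₀ i₁ : ι) (h01 : i₁ ≠ i₀) :
    ∃ (ε : ℂ) (θ : ι → (G → ℂ)), (ε = 1 ∨ ε = -1) ∧ (∀ i, IsIrrCharacter G (θ i)) ∧
      Function.Injective θ ∧ ∀ i j, indFun N (c i - c j) = ε • (θ i - θ j) := by
  classical
  have hcf : ∀ i j, IsClassFunction N (c i - c j) := by
    intro i j g h
    simp only [Pi.sub_apply]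
    rw [isClassFunction_of_isIrrCharacter (hc i) g h,
      isClassFunction_of_isIrrCharacter (hc j) g h]
  have hvan2' : ∀ i j, ∀ x : N, (x : G) ∉ T → (c i - c j) x = 0 := by
    intro i j x hx
    simp only [Pi.sub_apply, hvan2 i j x hx, sub_self]
  have hone : ∀ i j, (c i - c j) 1 = 0 := by
    intro i j
    simp only [Pi.sub_apply, hdeg i j, sub_self]
  have hgen : ∀ i j, IsGeneralizedCharacter G (indFun N (c i - c j)) := fun i j =>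
    isGeneralizedCharacter_indFun N ⟨c i, c j, isCharacter_of_isIrrCharacter (hc i),
      isCharacter_of_isIrrCharacter (hc j), rfl⟩
  have hinner : ∀ j k, classInner (indFun N (c i₀ - c j)) (indFun N (c i₀ - c k))
      = classInner (c i₀ - c j) (c i₀ - c k) := fun j k =>
    classInner_indFun_indFun_ti T N hTI _ _ (hcf i₀ j) (hvan2' i₀ j) (hvan2' i₀ k) (hone i₀ j)
  have hcc : ∀ i j, classInner (c i) (c j) = if i = j then 1 else 0 := by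
    intro i j
    rw [classInner_irr (hc i) (hc j)]
    by_cases h : i = j
    · rw [if_pos h, if_pos (congrArg c h)]
    · rw [if_neg h, if_neg (fun h' => h (hinj h'))]
  have hval : ∀ j k, j ≠ i₀ → k ≠ i₀ →
      classInner (c i₀ - c j) (c i₀ - c k) = if j = k then 2 else 1 := by
    intro j k hj hk
    rw [classInner_sub_left, classInner_sub_right, classInner_sub_right, hcc, hcc, hcc, hcc,
      if_pos rfl, if_neg (Ne.symm hk), if_neg hj]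
    by_cases h : j = k
    · rw [if_pos h, if_pos h]; norm_num
    · rw [if_neg h, if_neg h]; norm_num
  have hone' : ∀ i j, indFun N (c i - c j) 1 = 0 := by
    intro i j
    rw [indFun_one, hone i j, mul_zero, mul_zero]
  have hzero : indFun N (0 : N → ℂ) = 0 := by
    have := indFun_smul N 0 (0 : N → ℂ)
    simpa using this
  have hex : ∀ l, ∃ a b : G → ℂ, l ≠ i₀ →
      (IsIrrCharacter G a ∧ IsIrrCharacter G b ∧ a ≠ b ∧ indFun N (c i₀ - c l) = a - b) := by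
    intro l
    by_cases hl : l = i₀
    · exact ⟨0, 0, fun h => absurd hl h⟩
    · have hn : classInner (indFun N (c i₀ - c l)) (indFun N (c i₀ - c l)) = 2 := by
        rw [hinner, hval l l hl hl, if_pos rfl]
      obtain ⟨a, b, ha, hb, hab, he⟩ := genChar_norm_two (hgen i₀ l) hn (hone' i₀ l)
      exact ⟨a, b, fun _ => ⟨ha, hb, hab, he⟩⟩
  choose a b hab using hex
  obtain ⟨ε, hε, θ, hθ, hθinj, hβ⟩ := exceptional_aux i₀ (fun l => indFun N (c i₀ - c l)) a b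
    (by simp only [sub_self]; exact hzero)
    (fun l hl => (hab l hl).1) (fun l hl => (hab l hl).2.1) (fun l hl => (hab l hl).2.2.1)
    (fun l hl => (hab l hl).2.2.2)
    (fun j k hj hk hjk => by
      show classInner (indFun N (c i₀ - c j)) (indFun N (c i₀ - c k)) = 1
      rw [hinner, hval j k hj hk, if_neg hjk])
    ⟨i₁, h01⟩
  have hβ' : ∀ l, indFun N (c i₀ - c l) = ε • (θ i₀ - θ l) := hβ
  refine ⟨ε, θ, hε, hθ, hθinj, ?_⟩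
  intro i j
  have h1 : c i - c j = (c i₀ - c j) - (c i₀ - c i) := by abel
  rw [h1, indFun_sub, hβ' j, hβ' i, ← smul_sub]
  congr 1
  abel

section
variable {L : Type*} [Group L] {K W₁ W₂ : Subgroup L}

theorem PAHyp.commW (h : PAHyp K W₁ W₂) : ∀ a b : ↥(W₁ ⊔ W₂), a * b = b * a :=
  fun a b => Subtype.ext (h.comm_sup a a.2 b b.2)

/-- restriction of a linear character of `W₁ ⊔ W₂` to `W₂` -/
noncomputable def resW₂ (W₁ W₂ : Subgroup L) (ω : ↥(W₁ ⊔ W₂) →* ℂˣ) : ↥W₂ →* ℂˣ :=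
  ω.comp (Subgroup.inclusion le_sup_right)

theorem resW₂_eq_iff (ω ω' : ↥(W₁ ⊔ W₂) →* ℂˣ) :
    resW₂ W₁ W₂ ω = resW₂ W₁ W₂ ω' ↔ ∀ w : ↥(W₁ ⊔ W₂), (w : L) ∈ W₂ → ω w = ω' w := by
  constructor
  · intro h w hw
    have := DFunLike.congr_fun h ⟨(w : L), hw⟩
    have e : (Subgroup.inclusion (le_sup_right : W₂ ≤ W₁ ⊔ W₂)) ⟨(w : L), hw⟩ = w :=
      Subtype.ext rfl
    simpa [resW₂, e] using this
  · intro h
    ext c
    have := h (Subgroup.inclusion (le_sup_right : W₂ ≤ W₁ ⊔ W₂) c) c.2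
    simpa [resW₂] using congrArg Units.val this

theorem resW₂_mul_of_trivial (ω φ : ↥(W₁ ⊔ W₂) →* ℂˣ)
    (hφ : ∀ w : ↥(W₁ ⊔ W₂), (w : L) ∈ W₂ → φ w = 1) : resW₂ W₁ W₂ (ω * φ) = resW₂ W₁ W₂ ω := by
  rw [resW₂_eq_iff]
  intro w hw
  rw [MonoidHom.mul_apply, hφ w hw, mul_one]

theorem PAHyp.exists_char [Finite L] (h : PAHyp K W₁ W₂) (a : ↥(W₁ ⊔ W₂)) (ha : (a : L) ∉ W₂) :
    ∃ φ : ↥(W₁ ⊔ W₂) →* ℂˣ, (∀ w : ↥(W₁ ⊔ W₂), (w : L) ∈ W₂ → φ w = 1) ∧ φ a ≠ 1 := by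
  have hp : proj₁ W₁ W₂ h.disj12 h.comm a ≠ 1 := by
    intro hp1
    apply ha
    have := proj_mul W₁ W₂ h.disj12 h.comm a
    rw [hp1, Subgroup.coe_one, one_mul] at this
    rw [← this]
    exact (proj₂ W₁ W₂ h.disj12 h.comm a).2
  letI : CommGroup ↥W₁ := { (inferInstance : Group ↥W₁) with
    mul_comm := fun x y => Subtype.ext (h.comm₁ x x.2 y y.2) }
  have : NeZero ((Monoid.exponent ↥W₁ : ℕ) : ℂ) :=
    ⟨Nat.cast_ne_zero.mpr Monoid.exponent_ne_zero_of_finite⟩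
  obtain ⟨ψ, hψ⟩ := CommGroup.exists_apply_ne_one_of_hasEnoughRootsOfUnity ↥W₁ ℂ hp
  refine ⟨ψ.comp (proj₁ W₁ W₂ h.disj12 h.comm), ?_, hψ⟩
  intro w hw
  rw [MonoidHom.comp_apply, proj₁_of_mem_right W₁ W₂ h.disj12 h.comm w hw, map_one]

end

section
variable {L : Type*} [Group L] [Fintype L] {K W₁ W₂ : Subgroup L}

/-- The TI set `W ∖ W₂`. -/
def tiSetW (W₁ W₂ : Subgroup L) : Set L := {g | g ∈ W₁ ⊔ W₂ ∧ g ∉ W₂}

theorem PAHyp.tiSet_ti (h : PAHyp K W₁ W₂) : ∀ g : L, g ∉ W₁ ⊔ W₂ → ∀ t ∈ tiSetW W₁ W₂,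
    g * t * g⁻¹ ∈ tiSetW W₁ W₂ → t = 1 :=
  fun g hg _ ht hgt => absurd (h.ti g ht.1 ht.2 hgt.1) hg

theorem mem_W₂_of_not_mem_tiSetW (x : ↥(W₁ ⊔ W₂)) (hx : (x : L) ∉ tiSetW W₁ W₂) :
    (x : L) ∈ W₂ := by
  by_contra h2
  exact hx ⟨x.2, h2⟩

/-- A nontrivial linear character of `W` trivial on `W₂`. -/
theorem PAHyp.exists_char₀ (h : PAHyp K W₁ W₂) :
    ∃ φ : ↥(W₁ ⊔ W₂) →* ℂˣ, (∀ w : ↥(W₁ ⊔ W₂), (w : L) ∈ W₂ → φ w = 1) ∧ φ ≠ 1 := by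
  obtain ⟨x, hx, hx1⟩ := h.exists_ne_one
  obtain ⟨φ, hφ, hφa⟩ := h.exists_char ⟨x, Subgroup.mem_sup_left hx⟩ (h.not_mem_W₂ hx hx1)
  refine ⟨φ, hφ, ?_⟩
  rintro rfl
  exact hφa rfl

theorem PAHyp.fiber_coherent (h : PAHyp K W₁ W₂) [Fintype ↥(W₁ ⊔ W₂)] (ρ₂ : ↥W₂ →* ℂˣ) :
    ∃ (ε : ℂ) (θ : {ω : ↥(W₁ ⊔ W₂) →* ℂˣ // resW₂ W₁ W₂ ω = ρ₂} → (L → ℂ)),
      (ε = 1 ∨ ε = -1) ∧ (∀ i, IsIrrCharacter L (θ i)) ∧ Function.Injective θ ∧
      ∀ i j, indFun (W₁ ⊔ W₂) (linFun i.1 - linFun j.1) = ε • (θ i - θ j) := by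
  classical
  by_cases hne : Nonempty {ω : ↥(W₁ ⊔ W₂) →* ℂˣ // resW₂ W₁ W₂ ω = ρ₂}
  · obtain ⟨i₀⟩ := hne
    obtain ⟨φ, hφ, hφ1⟩ := h.exists_char₀
    have hi₁ : resW₂ W₁ W₂ (i₀.1 * φ) = ρ₂ := (resW₂_mul_of_trivial _ _ hφ).trans i₀.2
    have h01 : (⟨i₀.1 * φ, hi₁⟩ : {ω : ↥(W₁ ⊔ W₂) →* ℂˣ // resW₂ W₁ W₂ ω = ρ₂}) ≠ i₀ := by
      intro heq
      have h1 : i₀.1 * φ = i₀.1 := congrArg Subtype.val heq
      apply hφ1
      exact eq_one_of_mul_eq_left _ _ h1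
    exact exceptional_coherent_diff (W₁ ⊔ W₂) (tiSetW W₁ W₂) h.tiSet_ti
      (fun i : {ω : ↥(W₁ ⊔ W₂) →* ℂˣ // resW₂ W₁ W₂ ω = ρ₂} => linFun i.1)
      (fun i => isIrrCharacter_linFun i.1)
      (fun i j hij => Subtype.ext (linFun_injective hij))
      (fun i j x hx => by
        have hx2 := mem_W₂_of_not_mem_tiSetW x hx
        have := (resW₂_eq_iff i.1 j.1).mp (i.2.trans j.2.symm) x hx2
        simp only [linFun_apply, this])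
      (fun i j => by simp only [linFun_apply, map_one, Units.val_one])
      i₀ ⟨i₀.1 * φ, hi₁⟩ h01
  · exact ⟨1, fun i => (hne ⟨i⟩).elim, Or.inl rfl, fun i => (hne ⟨i⟩).elim,
      fun i => (hne ⟨i⟩).elim, fun i => (hne ⟨i⟩).elim⟩

theorem PAHyp.exists_mu_aux (h : PAHyp K W₁ W₂) :
    ∃ (μ : (↥(W₁ ⊔ W₂) →* ℂˣ) → (L → ℂ)) (δ : (↥(W₁ ⊔ W₂) →* ℂˣ) → ℂ),
      Function.Injective μ ∧ (∀ ω, IsIrrCharacter L (μ ω)) ∧ (∀ ω, δ ω = 1 ∨ δ ω = -1) ∧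
      (∀ ω ω' : ↥(W₁ ⊔ W₂) →* ℂˣ, (∀ w : ↥(W₁ ⊔ W₂), (w : L) ∈ W₂ → ω w = ω' w) →
        δ ω = δ ω' ∧
        indFun (W₁ ⊔ W₂) (fun w => (ω w : ℂ) - (ω' w : ℂ)) = δ ω • (μ ω - μ ω')) := by
  classical
  haveI : Fintype ↥(W₁ ⊔ W₂) := Fintype.ofFinite _
  choose ε θ hε hθirr hθinj hθind using h.fiber_coherent
  have hμeq : ∀ (ω : ↥(W₁ ⊔ W₂) →* ℂˣ) (ρ₂ : ↥W₂ →* ℂˣ) (hr : resW₂ W₁ W₂ ω = ρ₂),
      θ ρ₂ ⟨ω, hr⟩ = θ (resW₂ W₁ W₂ ω) ⟨ω, rfl⟩ := by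
    intro ω ρ₂ hr
    subst hr
    rfl
  have hind : ∀ ω ω' : ↥(W₁ ⊔ W₂) →* ℂˣ, resW₂ W₁ W₂ ω = resW₂ W₁ W₂ ω' →
      indFun (W₁ ⊔ W₂) (linFun ω - linFun ω') = ε (resW₂ W₁ W₂ ω) •
        (θ (resW₂ W₁ W₂ ω) ⟨ω, rfl⟩ - θ (resW₂ W₁ W₂ ω') ⟨ω', rfl⟩) := by
    intro ω ω' hr
    have := hθind (resW₂ W₁ W₂ ω) ⟨ω, rfl⟩ ⟨ω', hr.symm⟩
    rw [hμeq ω' _ hr.symm] at this
    exact this
  have hinj_same : ∀ ω ω' : ↥(W₁ ⊔ W₂) →* ℂˣ, resW₂ W₁ W₂ ω = resW₂ W₁ W₂ ω' →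
      θ (resW₂ W₁ W₂ ω) ⟨ω, rfl⟩ = θ (resW₂ W₁ W₂ ω') ⟨ω', rfl⟩ → ω = ω' := by
    intro ω ω' hr heq
    have h1 : θ (resW₂ W₁ W₂ ω) ⟨ω, rfl⟩ = θ (resW₂ W₁ W₂ ω) ⟨ω', hr.symm⟩ :=
      heq.trans (hμeq ω' _ hr.symm).symm
    exact congrArg Subtype.val (hθinj _ h1)
  have hεne : ∀ ρ₂, ε ρ₂ ≠ 0 := by
    intro ρ₂
    rcases hε ρ₂ with h1 | h1 <;> rw [h1] <;> norm_num
  refine ⟨fun ω => θ (resW₂ W₁ W₂ ω) ⟨ω, rfl⟩, fun ω => ε (resW₂ W₁ W₂ ω), ?_,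
    fun ω => hθirr _ _, fun ω => hε _, ?_⟩
  · intro ω ω' heq0
    have heq : θ (resW₂ W₁ W₂ ω) ⟨ω, rfl⟩ = θ (resW₂ W₁ W₂ ω') ⟨ω', rfl⟩ := heq0
    by_contra hne
    by_cases hr : resW₂ W₁ W₂ ω = resW₂ W₁ W₂ ω'
    · exact hne (hinj_same ω ω' hr heq)
    · obtain ⟨φ, hφ, hφ1⟩ := h.exists_char₀
      have r1 : resW₂ W₁ W₂ (ω * φ) = resW₂ W₁ W₂ ω := resW₂_mul_of_trivial _ _ hφ
      have r1' : resW₂ W₁ W₂ (ω' * φ) = resW₂ W₁ W₂ ω' := resW₂_mul_of_trivial _ _ hφ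
      have e1 := hind ω (ω * φ) r1.symm
      have e2 := hind ω' (ω' * φ) r1'.symm
      have hmulne : ∀ η : ↥(W₁ ⊔ W₂) →* ℂˣ, η ≠ η * φ := by
        intro η heq'
        apply hφ1
        exact eq_one_of_mul_eq_left _ _ heq'.symm
      have hvan : ∀ η : ↥(W₁ ⊔ W₂) →* ℂˣ, ∀ x : ↥(W₁ ⊔ W₂), (x : L) ∉ tiSetW W₁ W₂ →
          (linFun η - linFun (η * φ)) x = 0 := by
        intro η x hx
        have hx2 := mem_W₂_of_not_mem_tiSetW x hx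
        simp only [Pi.sub_apply, linFun_apply, MonoidHom.mul_apply, hφ x hx2, mul_one, sub_self]
      have hin : classInner (indFun (W₁ ⊔ W₂) (linFun ω - linFun (ω * φ)))
          (indFun (W₁ ⊔ W₂) (linFun ω' - linFun (ω' * φ))) =
          classInner (linFun ω - linFun (ω * φ)) (linFun ω' - linFun (ω' * φ)) :=
        classInner_indFun_indFun_ti (tiSetW W₁ W₂) (W₁ ⊔ W₂) h.tiSet_ti _ _
          (isClassFunction_of_comm h.commW _) (hvan ω) (hvan ω')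
          (by simp only [Pi.sub_apply, linFun_apply, map_one, Units.val_one, sub_self])
      have hzero : classInner (linFun ω - linFun (ω * φ)) (linFun ω' - linFun (ω' * φ)) = 0 := by
        have n1 : ω ≠ ω' := hne
        have n2 : ω ≠ ω' * φ := fun hh => hr (by rw [hh, r1'])
        have n3 : ω * φ ≠ ω' := fun hh => hr (by rw [← hh, r1])
        have n4 : ω * φ ≠ ω' * φ := fun hh => hr (by rw [← r1, hh, r1'])
        rw [classInner_sub_left, classInner_sub_right, classInner_sub_right,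
          classInner_linFun, classInner_linFun, classInner_linFun, classInner_linFun,
          if_neg n1, if_neg n2, if_neg n3, if_neg n4]
        ring
      rw [e1, e2, classInner_smul_left, classInner_smul_right, hzero] at hin
      have hcr : classInner (θ (resW₂ W₁ W₂ ω) ⟨ω, rfl⟩ - θ (resW₂ W₁ W₂ (ω * φ)) ⟨ω * φ, rfl⟩)
          (θ (resW₂ W₁ W₂ ω') ⟨ω', rfl⟩ - θ (resW₂ W₁ W₂ (ω' * φ)) ⟨ω' * φ, rfl⟩) = 0 := by
        rcases mul_eq_zero.mp hin with h1 | h1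
        · exact absurd h1 (hεne _)
        · rcases mul_eq_zero.mp h1 with h2 | h2
          · exact absurd ((map_eq_zero _).mp h2) (hεne _)
          · exact h2
      have hc := cross_zero (hθirr _ _) (hθirr _ _) (hθirr _ _) (hθirr _ _)
        (fun hh => hmulne ω (hinj_same ω (ω * φ) r1.symm hh))
        (fun hh => hmulne ω' (hinj_same ω' (ω' * φ) r1'.symm hh)) hcr
      have h11 := hc.1
      rw [heq, classInner_irr (hθirr _ _) (hθirr _ _), if_pos rfl] at h11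
      exact one_ne_zero h11
  · intro ω ω' hag
    have hr := (resW₂_eq_iff ω ω').mpr hag
    refine ⟨by show ε (resW₂ W₁ W₂ ω) = ε (resW₂ W₁ W₂ ω'); rw [hr], ?_⟩
    exact hind ω ω' hr

end

theorem normSq_linChar {W : Type*} [Group W] [Finite W] (ω : W →* ℂˣ) (w : W) :
    Complex.normSq ((ω w : ℂˣ) : ℂ) = 1 := by
  have h1 : (ω w) ^ Nat.card W = 1 := by
    rw [← map_pow, pow_card_eq_one', map_one]
  have h2 : ((ω w : ℂˣ) : ℂ) ^ Nat.card W = 1 := by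
    rw [← Units.val_pow_eq_pow_val, h1, Units.val_one]
  have h3 := Complex.norm_eq_one_of_pow_eq_one h2 Nat.card_pos.ne'
  rw [Complex.normSq_eq_norm_sq, h3, one_pow]

section
variable {L : Type*} [Group L] [Fintype L] {K W₁ W₂ : Subgroup L}

/-- Values of the `μ ω` on `W ∖ W₂` (Peterfalvi (4.5), via the second orthogonality relation). -/
theorem PAHyp.mu_values (h : PAHyp K W₁ W₂)
    (μ : (↥(W₁ ⊔ W₂) →* ℂˣ) → (L → ℂ)) (δ : (↥(W₁ ⊔ W₂) →* ℂˣ) → ℂ)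
    (hinj : Function.Injective μ) (hirr : ∀ ω, IsIrrCharacter L (μ ω))
    (hδ : ∀ ω, δ ω = 1 ∨ δ ω = -1)
    (hcoh : ∀ ω ω' : ↥(W₁ ⊔ W₂) →* ℂˣ, (∀ w : ↥(W₁ ⊔ W₂), (w : L) ∈ W₂ → ω w = ω' w) →
        δ ω = δ ω' ∧
        indFun (W₁ ⊔ W₂) (fun w => (ω w : ℂ) - (ω' w : ℂ)) = δ ω • (μ ω - μ ω'))
    (w : ↥(W₁ ⊔ W₂)) (hw : (w : L) ∉ W₂) :
    (∀ ω, μ ω w = δ ω * (ω w : ℂ)) ∧
      ∀ θ : L → ℂ, IsIrrCharacter L θ → (∀ ω, θ ≠ μ ω) → θ w = 0 := by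
  classical
  haveI : Fintype ↥(W₁ ⊔ W₂) := Fintype.ofFinite _
  haveI : Finite (↥(W₁ ⊔ W₂) →* ℂˣ) := Cfsg.Agent.Lib.Helper4.finite_monoidHom_units' h.commW
  haveI : Fintype (↥(W₁ ⊔ W₂) →* ℂˣ) := Fintype.ofFinite _
  haveI : Fintype (IrrCharacter L) := Fintype.ofFinite _
  have hδsq : ∀ ω, δ ω * δ ω = 1 := by
    intro ω
    rcases hδ ω with h1 | h1 <;> rw [h1] <;> norm_num
  have hw1 : w ≠ 1 := by
    rintro rfl
    exact hw W₂.one_mem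
  have hwT : (w : L) ∈ tiSetW W₁ W₂ := ⟨w.2, hw⟩
  -- D1
  have hval : ∀ ω ω' : ↥(W₁ ⊔ W₂) →* ℂˣ, (∀ x : ↥(W₁ ⊔ W₂), (x : L) ∈ W₂ → ω x = ω' x) →
      δ ω * (μ ω w - μ ω' w) = (ω w : ℂ) - (ω' w : ℂ) := by
    intro ω ω' hag
    have h1 := (hcoh ω ω' hag).2
    have h2 := indFun_eq_on_ti (tiSetW W₁ W₂) (W₁ ⊔ W₂) h.tiSet_ti
      (fun x => (ω x : ℂ) - (ω' x : ℂ)) (isClassFunction_of_comm h.commW _)
      (fun x hx => by
        have hx2 := mem_W₂_of_not_mem_tiSetW x hx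
        show (ω x : ℂ) - (ω' x : ℂ) = 0
        rw [hag x hx2, sub_self]) w hwT hw1
    rw [h1] at h2
    simpa using h2
  -- D2
  obtain ⟨f, hfdef⟩ : ∃ f : (↥(W₁ ⊔ W₂) →* ℂˣ) → ℂ, ∀ ω, f ω = μ ω w - δ ω * (ω w : ℂ) :=
    ⟨_, fun _ => rfl⟩
  have hf : ∀ ω ω' : ↥(W₁ ⊔ W₂) →* ℂˣ, (∀ x : ↥(W₁ ⊔ W₂), (x : L) ∈ W₂ → ω x = ω' x) →
      f ω = f ω' := by
    intro ω ω' hag
    have h1 := hval ω ω' hag
    have h2 := (hcoh ω ω' hag).1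
    have h3 : μ ω w - μ ω' w = δ ω * ((ω w : ℂ) - (ω' w : ℂ)) := by
      rw [← h1, ← mul_assoc, hδsq, one_mul]
    rw [hfdef, hfdef, ← h2]
    linear_combination h3
  have hμf : ∀ ω, μ ω w = δ ω * (ω w : ℂ) + f ω := by
    intro ω; rw [hfdef]; ring
  -- D3
  obtain ⟨φ, hφ, hφw⟩ := h.exists_char w hw
  have hagφ : ∀ ω : ↥(W₁ ⊔ W₂) →* ℂˣ, ∀ x : ↥(W₁ ⊔ W₂), (x : L) ∈ W₂ → (ω * φ) x = ω x := by
    intro ω x hx
    rw [MonoidHom.mul_apply, hφ x hx, mul_one]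
  obtain ⟨A, hAdef⟩ : ∃ A : (↥(W₁ ⊔ W₂) →* ℂˣ) → ℂ,
      ∀ ω, A ω = (δ ω * (ω w : ℂ)) * conj (f ω) := ⟨_, fun _ => rfl⟩
  have hAshift : ∀ ω, A (ω * φ) = (φ w : ℂ) * A ω := by
    intro ω
    rw [hAdef, hAdef, hf (ω * φ) ω (hagφ ω), (hcoh (ω * φ) ω (hagφ ω)).1, MonoidHom.mul_apply,
      Units.val_mul]
    ring
  have hS : ∑ ω : ↥(W₁ ⊔ W₂) →* ℂˣ, A ω = 0 := by
    have h1 := Equiv.sum_comp (Equiv.mulRight φ) A
    simp only [Equiv.coe_mulRight, hAshift] at h1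
    rw [← Finset.mul_sum] at h1
    have h2 : ((φ w : ℂ) - 1) * ∑ ω : ↥(W₁ ⊔ W₂) →* ℂˣ, A ω = 0 := by
      rw [sub_mul, one_mul, h1, sub_self]
    rcases mul_eq_zero.mp h2 with h3 | h3
    · exfalso
      apply hφw
      apply Units.ext
      rw [sub_eq_zero] at h3
      simpa using h3
    · exact h3
  -- D4
  have hnorm : ∀ ω, Complex.normSq (μ ω w) = 1 + Complex.normSq (f ω) + 2 * (A ω).re := by
    intro ω
    rw [hμf, Complex.normSq_add, hAdef, Complex.normSq_mul, normSq_linChar]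
    have : Complex.normSq (δ ω) = 1 := by
      rcases hδ ω with h1 | h1 <;> rw [h1] <;> simp
    rw [this, mul_one]
  -- D5
  have hcol := Cfsg.Agent.Lib.Helper4.column_orthogonality (w : L) (w : L)
  rw [if_pos (IsConj.refl _), h.centralizer_eq w.2 hw] at hcol
  have hcolR : ∑ χ : IrrCharacter L, Complex.normSq ((χ : L → ℂ) w) =
      (Nat.card ↥(W₁ ⊔ W₂) : ℝ) := by
    apply Complex.ofReal_injective
    rw [Complex.ofReal_sum]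
    simp only [← Complex.mul_conj]
    rw [hcol]
    simp
  have hcardW : Nat.card (↥(W₁ ⊔ W₂) →* ℂˣ) = Nat.card ↥(W₁ ⊔ W₂) := by
    letI : CommGroup ↥(W₁ ⊔ W₂) := { (inferInstance : Group ↥(W₁ ⊔ W₂)) with
      mul_comm := h.commW }
    have : NeZero ((Monoid.exponent ↥(W₁ ⊔ W₂) : ℕ) : ℂ) :=
      ⟨Nat.cast_ne_zero.mpr Monoid.exponent_ne_zero_of_finite⟩
    exact CommGroup.card_monoidHom_of_hasEnoughRootsOfUnity ↥(W₁ ⊔ W₂) ℂ
  obtain ⟨m, hmdef⟩ : ∃ m : (↥(W₁ ⊔ W₂) →* ℂˣ) → IrrCharacter L, ∀ ω, m ω = ⟨μ ω, hirr ω⟩ :=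
    ⟨_, fun _ => rfl⟩
  have hminj : Function.Injective m := by
    intro a b hab
    rw [hmdef, hmdef] at hab
    exact hinj (congrArg Subtype.val hab)
  have hsplit := Finset.sum_sdiff (Finset.subset_univ (Finset.univ.image m))
    (f := fun χ : IrrCharacter L => Complex.normSq ((χ : L → ℂ) w))
  rw [hcolR, Finset.sum_image (fun a _ b _ hab => hminj hab)] at hsplit
  have hsum1 : ∑ ω : ↥(W₁ ⊔ W₂) →* ℂˣ, Complex.normSq (((m ω : IrrCharacter L) : L → ℂ) w) =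
      (Nat.card ↥(W₁ ⊔ W₂) : ℝ) + ∑ ω : ↥(W₁ ⊔ W₂) →* ℂˣ, Complex.normSq (f ω) := by
    have : ∀ ω, Complex.normSq (((m ω : IrrCharacter L) : L → ℂ) w) =
        1 + Complex.normSq (f ω) + 2 * (A ω).re := by
      intro ω; rw [hmdef]; exact hnorm ω
    simp only [this]
    rw [Finset.sum_add_distrib, Finset.sum_add_distrib, ← Finset.mul_sum, ← Complex.re_sum, hS,
      Finset.sum_const, Finset.card_univ, ← Nat.card_eq_fintype_card, hcardW]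
    simp
  rw [hsum1] at hsplit
  have hnn1 : 0 ≤ ∑ ω : ↥(W₁ ⊔ W₂) →* ℂˣ, Complex.normSq (f ω) :=
    Finset.sum_nonneg (fun _ _ => Complex.normSq_nonneg _)
  have hnn2 : 0 ≤ ∑ χ ∈ Finset.univ \ Finset.univ.image m,
      Complex.normSq ((χ : L → ℂ) w) :=
    Finset.sum_nonneg (fun _ _ => Complex.normSq_nonneg _)
  have hz1 : ∑ ω : ↥(W₁ ⊔ W₂) →* ℂˣ, Complex.normSq (f ω) = 0 := by linarith
  have hz2 : ∑ χ ∈ Finset.univ \ Finset.univ.image m,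
      Complex.normSq ((χ : L → ℂ) w) = 0 := by linarith
  constructor
  · intro ω
    have := (Finset.sum_eq_zero_iff_of_nonneg (fun _ _ => Complex.normSq_nonneg _)).mp hz1 ω
      (Finset.mem_univ _)
    rw [hμf, Complex.normSq_eq_zero.mp this, add_zero]
  · intro θ hθ hne
    have hmem : (⟨θ, hθ⟩ : IrrCharacter L) ∈ Finset.univ \ Finset.univ.image m := by
      rw [Finset.mem_sdiff]
      refine ⟨Finset.mem_univ _, ?_⟩
      intro hm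
      obtain ⟨ω, -, hω⟩ := Finset.mem_image.mp hm
      rw [hmdef] at hω
      exact hne ω (congrArg Subtype.val hω).symm
    have := (Finset.sum_eq_zero_iff_of_nonneg (fun _ _ => Complex.normSq_nonneg _)).mp hz2 _ hmem
    exact Complex.normSq_eq_zero.mp this

end

section
variable {L : Type*} [Group L] [Fintype L] {K W₁ W₂ : Subgroup L}

/-- `μ(1) ≡ δ (mod |W₁|)`. -/
theorem PAHyp.mu_degree (h : PAHyp K W₁ W₂)
    (χ : L → ℂ) (hχ : IsIrrCharacter L χ) (d : ℂ) (hd : d = 1 ∨ d = -1)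
    (ω : ↥(W₁ ⊔ W₂) →* ℂˣ)
    (hval : ∀ w : ↥(W₁ ⊔ W₂), (w : L) ∉ W₂ → χ w = d * (ω w : ℂ)) :
    ∃ n : ℤ, χ 1 - d = n * (Nat.card W₁ : ℂ) := by
  classical
  haveI : Fintype ↥W₁ := Fintype.ofFinite _
  obtain ⟨ω₁, hω₁⟩ : ∃ ω₁ : ↥W₁ →* ℂˣ, ω₁ = ω.comp (Subgroup.inclusion le_sup_left) :=
    ⟨_, rfl⟩
  have hω₁app : ∀ x : ↥W₁, ω₁ x = ω ⟨(x : L), Subgroup.mem_sup_left x.2⟩ := by
    intro x; rw [hω₁]; rfl
  have hchar1 : IsCharacter W₁ (fun _ => (1 : ℂ)) :=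
    isCharacter_of_isIrrCharacter Cfsg.Agent.Lib.Helper4.isIrrCharacter_one
  have hψ : IsCharacter L (indFun W₁ (fun _ => (1 : ℂ))) := isCharacter_indFun W₁ hchar1
  obtain ⟨n₀, hn₀⟩ := classInner_isCharacter_nat (isCharacter_of_isIrrCharacter hχ) hψ
  rw [classInner_indFun_right W₁ χ (isClassFunction_of_isIrrCharacter hχ)] at hn₀
  have hterm : ∀ x : ↥W₁, χ x * conj (1 : ℂ) =
      d * ((ω₁ x : ℂˣ) : ℂ) + (if x = 1 then χ 1 - d else 0) := by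
    intro x
    by_cases hx : x = 1
    · subst hx
      rw [if_pos rfl, map_one, map_one, Units.val_one, Subgroup.coe_one]
      ring
    · have hxL : (x : L) ≠ 1 := fun hh => hx (Subtype.ext hh)
      have := hval ⟨(x : L), Subgroup.mem_sup_left x.2⟩ (h.not_mem_W₂ x.2 hxL)
      rw [if_neg hx, add_zero, map_one, mul_one, hω₁app]
      exact this
  obtain ⟨t, ht⟩ : ∃ t : ℂ, t = if ω₁ = 1 then 1 else 0 := ⟨_, rfl⟩
  have hc : (Nat.card W₁ : ℂ) ≠ 0 := Nat.cast_ne_zero.mpr Nat.card_pos.ne'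
  have hsumω : ∑ x : ↥W₁, ((ω₁ x : ℂˣ) : ℂ) = (Nat.card W₁ : ℂ) * t := by
    have := classInner_linFun ω₁ (1 : ↥W₁ →* ℂˣ)
    unfold classInner at this
    simp only [linFun_apply, MonoidHom.one_apply, Units.val_one, map_one, mul_one] at this
    rw [ht, ← this, ← mul_assoc, mul_inv_cancel₀ hc, one_mul]
  simp only [hterm] at hn₀
  rw [Finset.sum_add_distrib, ← Finset.mul_sum, hsumω, Finset.sum_ite_eq' Finset.univ (1 : ↥W₁),
    if_pos (Finset.mem_univ _)] at hn₀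
  have key : χ 1 - d = (Nat.card W₁ : ℂ) * ((n₀ : ℂ) - d * t) := by
    have h2 : (Nat.card W₁ : ℂ) * _ = (Nat.card W₁ : ℂ) * _ :=
      congrArg (fun z => (Nat.card W₁ : ℂ) * z) hn₀
    rw [← mul_assoc, mul_inv_cancel₀ hc, one_mul] at h2
    linear_combination h2
  by_cases hω1 : ω₁ = 1
  · rw [if_pos hω1] at ht
    rcases hd with h1 | h1
    · refine ⟨(n₀ : ℤ) - 1, ?_⟩
      rw [key, ht, h1]; push_cast; ring
    · refine ⟨(n₀ : ℤ) + 1, ?_⟩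
      rw [key, ht, h1]; push_cast; ring
  · rw [if_neg hω1] at ht
    refine ⟨(n₀ : ℤ), ?_⟩
    rw [key, ht]; push_cast; ring

/-- Peterfalvi (4.5). -/
theorem PAHyp.exists_mu (h : PAHyp K W₁ W₂) :
    ∃ (μ : (↥(W₁ ⊔ W₂) →* ℂˣ) → (L → ℂ)) (δ : (↥(W₁ ⊔ W₂) →* ℂˣ) → ℂ),
      Function.Injective μ ∧ (∀ ω, IsIrrCharacter L (μ ω)) ∧ (∀ ω, δ ω = 1 ∨ δ ω = -1) ∧
      (∀ ω ω' : ↥(W₁ ⊔ W₂) →* ℂˣ, (∀ w : ↥(W₁ ⊔ W₂), (w : L) ∈ W₂ → ω w = ω' w) →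
        δ ω = δ ω' ∧
        indFun (W₁ ⊔ W₂) (fun w => (ω w : ℂ) - (ω' w : ℂ)) = δ ω • (μ ω - μ ω')) ∧
      (∀ ω, ∀ w : ↥(W₁ ⊔ W₂), (w : L) ∉ W₂ → μ ω w = δ ω * (ω w : ℂ)) ∧
      (∀ θ : L → ℂ, IsIrrCharacter L θ → (∀ ω, θ ≠ μ ω) →
        ∀ w : ↥(W₁ ⊔ W₂), (w : L) ∉ W₂ → θ w = 0) ∧
      (∀ ω, ∃ n : ℤ, μ ω 1 - δ ω = n * (Nat.card W₁ : ℂ)) := by
  obtain ⟨μ, δ, hinj, hirr, hδ, hcoh⟩ := h.exists_mu_aux
  refine ⟨μ, δ, hinj, hirr, hδ, hcoh, ?_, ?_, ?_⟩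
  · intro ω w hw
    exact (h.mu_values μ δ hinj hirr hδ hcoh w hw).1 ω
  · intro θ hθ hne w hw
    exact (h.mu_values μ δ hinj hirr hδ hcoh w hw).2 θ hθ hne
  · intro ω
    exact h.mu_degree (μ ω) (hirr ω) (δ ω) (hδ ω) ω
      (fun w hw => (h.mu_values μ δ hinj hirr hδ hcoh w hw).1 ω)

end

end Cfsg.Agent.Lib.Helper26
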