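import Mathlib
import Cfsg.Prelude.Def_Characters
import Cfsg.Prelude.Def_OddOrderChar
import Cfsg.Agent.Lib.Helper26.CohExt
import Cfsg.Agent.Lib.Helper26.IndNormal
import Cfsg.Agent.Lib.Helper26.Clifford
import Cfsg.Agent.Lib.Helper26.PrimeActChar
import Cfsg.Agent.Lib.Helper4.Deflate
import Cfsg.Agent.Lib.Helper4.ResInd
import Cfsg.Agent.Lib.Helper4.Decomp
import Cfsg.Agent.Lib.Helper4.FaithfulIrr
import Cfsg.Agent.Lib.Helper4.RepEigen
import Cfsg.Agent.Lib.Helper28.DualRep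

/-!
# Coherence descent (Peterfalvi §6) — helper26

* `isCoherent_of_subset`: a subset of a coherent set is coherent.
* `parseval_span`: Parseval identity for a vector in the span of an orthogonal family.
* `degree_sq_le`: `χ(1)² ≤ [K:C]² [C:D]` when `D` acts centrally modulo the kernel.
* `exists_linear_nontrivial`: a solvable group has a nontrivial linear character trivial on a
  proper normal subgroup.
* `sum_sq_div_norm_inducedIrrAbove`: `Σ_{φ ∈ S(A)} φ(1)²/‖φ‖² = [L:K]([K:A] − 1)`.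
-/

set_option autoImplicit false

namespace Cfsg.Agent.Lib.Helper26
open Cfsg
open scoped ComplexConjugate

section Mono
variable {L : Type*} [Group L] [Fintype L] {G : Type*} [Group G] [Fintype G]

theorem isCoherent_of_subset {T T' : Set (L → ℂ)} {A : Set L} {τ : (L → ℂ) → (G → ℂ)}
    (hsub : T' ⊆ T) (hT : IsCoherent T A τ) (hne : ∃ α ∈ zspanOn T' A, α ≠ 0) :
    IsCoherent T' A τ := by
  obtain ⟨_, τ₁, ⟨h1, h2, h3, h4⟩, hag⟩ := hT
  have hz : zspan T' ⊆ zspan T := zspan_mono hsub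
  refine ⟨hne, τ₁, ⟨fun α hα β hβ => h1 α (hz hα) β (hz hβ), fun α hα n => h2 α (hz hα) n,
    fun α hα β hβ => h3 α (hz hα) β (hz hβ), fun α hα => h4 α (hz hα)⟩, ?_⟩
  intro α hα
  exact hag α ⟨hz hα.1, hα.2⟩

end Mono

section Parseval
variable {G : Type*} [Group G] [Fintype G]

theorem parseval_span [DecidableEq (G → ℂ)] (s : Finset (G → ℂ)) (n c : (G → ℂ) → ℝ) (y : ℝ)
    (hn : ∀ v ∈ s, n v ≠ 0)
    (hv : ∀ v ∈ s, ∀ w ∈ s, classInner v w = if v = w then (n v : ℂ) else 0)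
    (Y : G → ℂ) (hYs : Y ∈ Submodule.span ℂ (↑s : Set (G → ℂ)))
    (hY : classInner Y Y = (y : ℂ)) (hc : ∀ v ∈ s, classInner Y v = (c v : ℂ)) :
    ∑ v ∈ s, (c v) ^ 2 / n v = y := by
  obtain ⟨P, hP⟩ : ∃ P, P = ∑ v ∈ s, ((c v / n v : ℝ) : ℂ) • v := ⟨_, rfl⟩
  have hPv : ∀ v ∈ s, classInner P v = (c v : ℂ) := by
    intro v hv'
    rw [hP, classInner_sum_left]
    have h2 : ∀ w ∈ s, classInner (((c w / n w : ℝ) : ℂ) • w) v =
        if v = w then (c v : ℂ) else 0 := by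
      intro w hw
      rw [classInner_smul_left, hv w hw v hv']
      by_cases h : v = w
      · subst h
        rw [if_pos rfl, if_pos rfl]
        have h3 : (n v : ℂ) ≠ 0 := by exact_mod_cast hn v hw
        push_cast
        field_simp
      · rw [if_neg h, if_neg (Ne.symm h), mul_zero]
    rw [Finset.sum_congr rfl h2, Finset.sum_ite_eq s v, if_pos hv']
  have hD : ∀ z ∈ Submodule.span ℂ (↑s : Set (G → ℂ)), classInner (Y - P) z = 0 := by
    intro z hz
    induction hz using Submodule.span_induction with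
    | mem x hx =>
      rw [classInner_sub_left, hc x (Finset.mem_coe.mp hx), hPv x (Finset.mem_coe.mp hx), sub_self]
    | zero => exact classInner_zero_right _
    | add x y _ _ ihx ihy => rw [classInner_add_right, ihx, ihy, add_zero]
    | smul k x _ ih => rw [classInner_smul_right, ih, mul_zero]
  have hYD : classInner Y (Y - P) = 0 := by
    rw [← classInner_conj_symm, hD Y hYs, map_zero]
  have hYP : classInner Y P = ((∑ v ∈ s, (c v) ^ 2 / n v : ℝ) : ℂ) := by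
    rw [hP, classInner_sum_right, Complex.ofReal_sum]
    apply Finset.sum_congr rfl
    intro i hi
    rw [classInner_smul_right, hc i hi, Complex.conj_ofReal]
    push_cast
    ring
  have e : classInner Y Y = classInner Y P + classInner Y (Y - P) := by
    rw [← classInner_add_right]
    congr 1
    abel
  rw [hY, hYP, hYD, add_zero] at e
  exact (Complex.ofReal_injective e).symm

end Parseval

section DegBound
variable {K : Type*} [Group K] [Fintype K]
variable {V : Type*} [AddCommGroup V] [Module ℂ V] [FiniteDimensional ℂ V]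

/-- If `D ≤ C` and `ρ(D)` commutes with `ρ(C)` for an irreducible `ρ`, then
`(deg ρ)² ≤ [K:C]² [C:D]`. -/
theorem degree_sq_le (ρ : Representation ℂ K V) (hρ : ρ.IsIrreducible) (C D : Subgroup K)
    (hDC : D ≤ C) (hcomm : ∀ x ∈ D, ∀ y ∈ C, ρ x * ρ y = ρ y * ρ x) :
    (Module.finrank ℂ V) ^ 2 ≤ C.index ^ 2 * D.relIndex C := by
  classical
  have hV : Module.finrank ℂ V ≠ 0 := by
    have := Cfsg.Agent.Lib.Helper4.nontrivial_of_irreducible ρ hρ
    exact (Module.finrank_pos (R := ℂ) (M := V)).ne'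
  obtain ⟨ρC, hρC⟩ : ∃ ρC : Representation ℂ ↥C V, ρC = ρ.comp C.subtype := ⟨_, rfl⟩
  have hρCapp : ∀ c : ↥C, ρC c = ρ (c : K) := fun c => by rw [hρC]; rfl
  obtain ⟨m, τ, hτ, hne⟩ := Cfsg.Agent.Lib.Helper4.exists_irreducible_injective ρC hV
  have hchar : ρC.character = ρ.character ∘ C.subtype := by
    funext c
    rw [hρC]
    rfl
  have hle : Module.finrank ℂ V ≤ C.index * m :=
    Cfsg.Agent.Lib.Helper4.degree_le_index_mul ρ hρ C τ (by rw [← hchar]; exact hne)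
  obtain ⟨f, hf⟩ := Cfsg.Agent.Lib.Helper4.exists_injective_of_classInner_ne_zero τ ρC hτ hne
  have hscal : ∀ d : ↥C, (d : K) ∈ D → ∃ ω : ℂ, τ d = ω • LinearMap.id := by
    intro d hd
    apply Cfsg.Agent.Lib.Helper4.exists_scalar_of_commute τ hτ (τ d)
    intro g v
    apply hf
    rw [f.isIntertwining, f.isIntertwining, f.isIntertwining, f.isIntertwining,
      hρCapp, hρCapp]
    have h := hcomm (d : K) hd (g : K) g.2
    exact LinearMap.congr_fun h (f v)
  have hnorm : ∀ d : ↥C, (d : K) ∈ D → Complex.normSq (τ.character d) = (m : ℝ) ^ 2 := by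
    intro d hd
    have h1 : ‖τ.character d‖ = (Module.finrank ℂ (Fin m → ℂ) : ℝ) :=
      (Cfsg.Agent.Lib.Helper4.norm_character_eq_finrank_iff τ d).mpr (hscal d hd)
    rw [Module.finrank_fin_fun] at h1
    rw [Complex.normSq_eq_norm_sq, h1]
  have hirr : IsIrrCharacter ↥C τ.character := ⟨m, τ, hτ, rfl⟩
  have h1 : classInner τ.character τ.character = 1 := by
    rw [classInner_irr hirr hirr, if_pos rfl]
  have hsum : ∑ c : ↥C, Complex.normSq (τ.character c) = (Nat.card ↥C : ℝ) := by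
    unfold classInner at h1
    have hne' : (Nat.card ↥C : ℂ) ≠ 0 := by
      have : Nat.card ↥C ≠ 0 := Nat.card_pos.ne'
      exact_mod_cast this
    have h2 : (Nat.card ↥C : ℂ) = ∑ c : ↥C, τ.character c * conj (τ.character c) :=
      (inv_mul_eq_one₀ hne').mp h1
    have h3 : ((∑ c : ↥C, Complex.normSq (τ.character c) : ℝ) : ℂ) = ((Nat.card ↥C : ℝ) : ℂ) := by
      push_cast
      rw [h2]
      apply Finset.sum_congr rfl
      intro c _
      rw [Complex.mul_conj]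
    exact Complex.ofReal_injective h3
  obtain ⟨D', hD'⟩ : ∃ D' : Finset ↥C, D' = Finset.univ.filter (fun c : ↥C => (c : K) ∈ D) :=
    ⟨_, rfl⟩
  have hcardD' : D'.card = Nat.card ↥(D.subgroupOf C) := by
    rw [Nat.card_eq_fintype_card]
    symm
    apply Fintype.card_of_subtype
    intro c
    rw [hD', Finset.mem_filter, Subgroup.mem_subgroupOf]
    simp
  have hge : (D'.card : ℝ) * (m : ℝ) ^ 2 ≤ (Nat.card ↥C : ℝ) := by
    rw [← hsum]
    calc (D'.card : ℝ) * (m : ℝ) ^ 2 = ∑ c ∈ D', Complex.normSq (τ.character c) := by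
          rw [Finset.sum_congr rfl (fun c hc => hnorm c (by
            rw [hD'] at hc; exact (Finset.mem_filter.mp hc).2)), Finset.sum_const, nsmul_eq_mul]
      _ ≤ ∑ c : ↥C, Complex.normSq (τ.character c) :=
          Finset.sum_le_sum_of_subset_of_nonneg (Finset.subset_univ _)
            (fun _ _ _ => Complex.normSq_nonneg _)
  have hnat : D'.card * m ^ 2 ≤ Nat.card ↥C := by exact_mod_cast hge
  have hidx : Nat.card ↥C = D'.card * D.relIndex C := by
    rw [hcardD']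
    exact (Subgroup.card_mul_index (D.subgroupOf C)).symm
  have hpos : 0 < D'.card := by
    rw [hcardD']
    exact Nat.card_pos
  have hm : m ^ 2 ≤ D.relIndex C := by
    rw [hidx] at hnat
    exact Nat.le_of_mul_le_mul_left hnat hpos
  calc (Module.finrank ℂ V) ^ 2 ≤ (C.index * m) ^ 2 := Nat.pow_le_pow_left hle 2
    _ = C.index ^ 2 * m ^ 2 := by ring
    _ ≤ C.index ^ 2 * D.relIndex C := Nat.mul_le_mul_left _ hm

end DegBound

section Linear

theorem exists_linear_nontrivial {K : Type*} [Group K] [Finite K] (hsolv : Group.IsSolvable K)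
    (N : Subgroup K) [N.Normal] (hN : N ≠ ⊤) :
    ∃ ω : K →* ℂˣ, ω ≠ 1 ∧ ∀ n ∈ N, ω n = 1 := by
  classical
  haveI := hsolv
  haveI : Nontrivial (K ⧸ N) := by
    obtain ⟨k, hk⟩ : ∃ k : K, k ∉ N := by
      by_contra h
      push_neg at h
      exact hN (eq_top_iff.mpr (fun x _ => h x))
    exact ⟨⟨(k : K ⧸ N), 1, fun h => hk ((QuotientGroup.eq_one_iff k).mp h)⟩⟩
  have hlt : commutator (K ⧸ N) < ⊤ := IsSolvable.commutator_lt_top_of_nontrivial (K ⧸ N)
  obtain ⟨q, hq⟩ : ∃ q : K ⧸ N, q ∉ commutator (K ⧸ N) := by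
    by_contra h
    push_neg at h
    exact hlt.ne (eq_top_iff.mpr (fun x _ => h x))
  have ha : (Abelianization.of q : Abelianization (K ⧸ N)) ≠ 1 := by
    intro h
    apply hq
    rw [← Abelianization.ker_of]
    exact h
  haveI : NeZero ((Monoid.exponent (Abelianization (K ⧸ N)) : ℕ) : ℂ) :=
    ⟨Nat.cast_ne_zero.mpr Monoid.exponent_ne_zero_of_finite⟩
  obtain ⟨φ, hφ⟩ :=
    CommGroup.exists_apply_ne_one_of_hasEnoughRootsOfUnity (Abelianization (K ⧸ N)) ℂ ha
  refine ⟨φ.comp (Abelianization.of.comp (QuotientGroup.mk' N)), ?_, ?_⟩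
  · intro h
    obtain ⟨k, rfl⟩ := QuotientGroup.mk_surjective q
    apply hφ
    have h2 := DFunLike.congr_fun h k
    exact h2
  · intro n hn
    have h1 : (QuotientGroup.mk' N) n = 1 := (QuotientGroup.eq_one_iff n).mpr hn
    show φ (Abelianization.of ((QuotientGroup.mk' N) n)) = 1
    rw [h1, map_one, map_one]

end Linear

section SumSq

open scoped Classical in
theorem sum_sq_degree_ker_ne_one {K : Type*} [Group K] [Fintype K] (N : Subgroup K) [N.Normal]
    [Fintype (IrrCharacter K)] :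
    ∑ χ ∈ Finset.univ.filter (fun χ : IrrCharacter K =>
      (χ : K → ℂ) ≠ (fun _ => 1) ∧ ∀ n ∈ N, (χ : K → ℂ) n = (χ : K → ℂ) 1),
      (χ : K → ℂ) 1 ^ 2 = (N.index : ℂ) - 1 := by
  have h := Cfsg.Agent.Lib.Helper4.sum_sq_degree_ker N
  obtain ⟨triv, htriv⟩ : ∃ t : IrrCharacter K, (t : K → ℂ) = fun _ => 1 :=
    ⟨⟨fun _ => 1, Cfsg.Agent.Lib.Helper4.isIrrCharacter_one⟩, rfl⟩
  have hmem : triv ∈ Finset.univ.filter (fun χ : IrrCharacter K =>
      ∀ n ∈ N, (χ : K → ℂ) n = (χ : K → ℂ) 1) := by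
    rw [Finset.mem_filter]
    refine ⟨Finset.mem_univ _, fun n _ => ?_⟩
    rw [htriv]
  rw [← Finset.add_sum_erase _ _ hmem] at h
  have h1 : (triv : K → ℂ) 1 ^ 2 = 1 := by rw [htriv]; norm_num
  rw [h1] at h
  have h2 : (Finset.univ.filter (fun χ : IrrCharacter K =>
      ∀ n ∈ N, (χ : K → ℂ) n = (χ : K → ℂ) 1)).erase triv =
      Finset.univ.filter (fun χ : IrrCharacter K =>
      (χ : K → ℂ) ≠ (fun _ => 1) ∧ ∀ n ∈ N, (χ : K → ℂ) n = (χ : K → ℂ) 1) := by
    ext χ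
    rw [Finset.mem_erase, Finset.mem_filter, Finset.mem_filter]
    constructor
    · rintro ⟨hne, _, hk⟩
      refine ⟨Finset.mem_univ _, fun h => hne (Subtype.ext (h.trans htriv.symm)), hk⟩
    · rintro ⟨_, hne, hk⟩
      refine ⟨fun h => hne (by rw [h, htriv]), Finset.mem_univ _, hk⟩
  rw [h2] at h
  rw [← h]
  ring

variable {L : Type*} [Group L] [Fintype L]

theorem indFun_one_eq_index (K : Subgroup L) (θ : ↥K → ℂ) :
    indFun K θ 1 = (K.index : ℂ) * θ 1 := by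
  have hcK : (Nat.card ↥K : ℂ) ≠ 0 := by
    have : Nat.card ↥K ≠ 0 := Nat.card_pos.ne'
    exact_mod_cast this
  rw [indFun_one, ← Nat.card_eq_fintype_card, ← Subgroup.card_mul_index K]
  push_cast
  field_simp

theorem conjFun_indFun (H : Subgroup L) (θ : ↥H → ℂ) :
    conjFun (indFun H θ) = indFun H (conjFun θ) := by
  funext g
  unfold conjFun indFun
  simp only [map_mul, map_inv₀, map_natCast, map_sum]
  congr 1
  apply Finset.sum_congr rfl
  intro x _
  by_cases hx : x⁻¹ * g * x ∈ H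
  · rw [extendByZero_apply_mem H _ _ hx, extendByZero_apply_mem H _ _ hx]
  · rw [extendByZero_apply_not_mem H _ _ hx, extendByZero_apply_not_mem H _ _ hx, map_zero]

theorem inducedIrrAbove_subset_bot (K A : Subgroup L) :
    inducedIrrAbove K A ⊆ inducedIrrAbove K ⊥ := by
  rintro φ ⟨θ, h1, h2, _, rfl⟩
  refine ⟨θ, h1, h2, fun a ha => ?_, rfl⟩
  rw [Subgroup.mem_bot] at ha
  have : a = 1 := OneMemClass.coe_eq_one.mp ha
  rw [this]

theorem conjFun_mem_inducedIrrAbove (K A : Subgroup L) {φ : L → ℂ}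
    (hφ : φ ∈ inducedIrrAbove K A) : conjFun φ ∈ inducedIrrAbove K A := by
  obtain ⟨θ, h1, h2, h3, rfl⟩ := hφ
  refine ⟨conjFun θ, Cfsg.Agent.Lib.Helper28.isIrrCharacter_conj h1, ?_, ?_, conjFun_indFun K θ⟩
  · intro h
    apply h2
    funext k
    have h5 : (starRingEnd ℂ) (θ k) = 1 := congrFun h k
    have h6 := congrArg (starRingEnd ℂ) h5
    rw [Complex.conj_conj, map_one] at h6
    exact h6
  · intro a ha
    show (starRingEnd ℂ) (θ a) = (starRingEnd ℂ) (θ 1)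
    rw [h3 a ha]

theorem linFun_mem_inducedIrrAbove (K N : Subgroup L) (ω : ↥K →* ℂˣ) (h1 : ω ≠ 1)
    (hker : ∀ a ∈ N.subgroupOf K, ω a = 1) : indFun K (linFun ω) ∈ inducedIrrAbove K N := by
  refine ⟨linFun ω, isIrrCharacter_linFun ω, ?_, ?_, rfl⟩
  · intro h
    apply h1
    apply MonoidHom.ext
    intro k
    have h2 : ((ω k : ℂˣ) : ℂ) = 1 := congrFun h k
    exact Units.val_eq_one.mp h2
  · intro a ha
    show ((ω a : ℂˣ) : ℂ) = ((ω 1 : ℂˣ) : ℂ)
    rw [hker a (Subgroup.mem_subgroupOf.mpr ha), map_one]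

theorem exists_linear_inducedIrrAbove (K N : Subgroup L) [N.Normal]
    (hsolv : Group.IsSolvable ↥K) (hNK : N < K) :
    ∃ ω : ↥K →* ℂˣ, indFun K (linFun ω) ∈ inducedIrrAbove K N := by
  have htop : N.subgroupOf K ≠ ⊤ := by
    intro h
    exact hNK.not_ge (Subgroup.subgroupOf_eq_top.mp h)
  obtain ⟨ω, h1, h2⟩ := exists_linear_nontrivial hsolv (N.subgroupOf K) htop
  exact ⟨ω, linFun_mem_inducedIrrAbove K N ω h1 h2⟩

theorem linFun_one_apply {W : Type*} [Group W] (ω : W →* ℂˣ) : linFun ω 1 = 1 := by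
  show ((ω 1 : ℂˣ) : ℂ) = 1
  rw [map_one, Units.val_one]

/-- Degree bound: an irreducible character of `K` with `B` in its kernel, where `D/B` is central in
`C/B`, satisfies `θ(1)² ≤ [K:C]² [C:D]`. -/
theorem irr_degree_sq_le_of_central_section (K B C D : Subgroup L) (hDC : D ≤ C) (hCK : C ≤ K)
    (hcent : ∀ x ∈ D, ∀ y ∈ C, x * y * x⁻¹ * y⁻¹ ∈ B) (θ : ↥K → ℂ) (hθ : IsIrrCharacter ↥K θ)
    (hker : ∀ a : ↥K, (a : L) ∈ B → θ a = θ 1) :
    ∃ m : ℕ, θ 1 = (m : ℂ) ∧ m ^ 2 ≤ (C.relIndex K) ^ 2 * D.relIndex C := by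
  classical
  obtain ⟨m, ρ, hρ, rfl⟩ := hθ
  refine ⟨m, by rw [Representation.char_one, Module.finrank_fin_fun], ?_⟩
  have h := degree_sq_le ρ hρ (C.subgroupOf K) (D.subgroupOf K)
    (fun x hx => Subgroup.mem_subgroupOf.mpr (hDC (Subgroup.mem_subgroupOf.mp hx))) ?_
  · rw [Module.finrank_fin_fun, Subgroup.relIndex_subgroupOf hCK] at h
    exact h
  · intro x hx y hy
    have hb : ((x * y * x⁻¹ * y⁻¹ : ↥K) : L) ∈ B := by
      have := hcent (x : L) (Subgroup.mem_subgroupOf.mp hx) (y : L) (Subgroup.mem_subgroupOf.mp hy)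
      simpa using this
    have h1 : ρ (x * y * x⁻¹ * y⁻¹) = LinearMap.id :=
      (Cfsg.Agent.Lib.Helper4.character_eq_finrank_iff ρ _).mp
        ((hker _ hb).trans (Representation.char_one ρ))
    have h2 : ρ x * ρ y = ρ (x * y * x⁻¹ * y⁻¹) * (ρ y * ρ x) := by
      rw [← map_mul, ← map_mul, ← map_mul]
      congr 1
      group
    rw [h2, h1, ← Module.End.one_eq_id, one_mul]

end SumSq

section SumFormula
variable {L : Type*} [Group L] [Fintype L]

theorem classInner_indFun_indFun_conjFunN (K : Subgroup L) [hK : K.Normal] [Fintype ↥K]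
    (τ σ : ↥K → ℂ) :
    classInner (indFun K τ) (indFun K σ) =
      (Nat.card ↥K : ℂ)⁻¹ * ∑ x : L, classInner τ (conjFunN K σ x) :=
  classInner_indFun_indFun_normal K τ σ

/-- `Σ_{φ ∈ S(A)} φ(1)²/‖φ‖² = [L:K]([K:A] − 1)`. -/
theorem sum_sq_div_norm_inducedIrrAbove (K A : Subgroup L) [hK : K.Normal] [hA : A.Normal]
    (SAf : Finset (L → ℂ)) (hSAf : (↑SAf : Set (L → ℂ)) = inducedIrrAbove K A)
    (horth : ∀ χ ∈ SAf, ∀ φ ∈ SAf, χ ≠ φ → classInner χ φ = 0)
    (d n : (L → ℂ) → ℕ) (hd : ∀ φ ∈ SAf, φ 1 = (d φ : ℂ))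
    (hn : ∀ φ ∈ SAf, classInner φ φ = (n φ : ℂ)) (hn0 : ∀ φ ∈ SAf, n φ ≠ 0) :
    ∑ φ ∈ SAf, ((d φ : ℝ) ^ 2 / (n φ : ℝ)) = (K.index : ℝ) * ((A.relIndex K : ℝ) - 1) := by
  classical
  haveI : Fintype (IrrCharacter ↥K) := Fintype.ofFinite _
  obtain ⟨Θ, hΘ⟩ : ∃ Θ : Finset (IrrCharacter ↥K), Θ = Finset.univ.filter
      (fun χ : IrrCharacter ↥K => (χ : ↥K → ℂ) ≠ (fun _ => 1) ∧
        ∀ a ∈ A.subgroupOf K, (χ : ↥K → ℂ) a = (χ : ↥K → ℂ) 1) := ⟨_, rfl⟩
  have hmemΘ : ∀ χ : IrrCharacter ↥K, χ ∈ Θ ↔ ((χ : ↥K → ℂ) ≠ (fun _ => 1) ∧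
      ∀ a : ↥K, (a : L) ∈ A → (χ : ↥K → ℂ) a = (χ : ↥K → ℂ) 1) := by
    intro χ
    rw [hΘ, Finset.mem_filter]
    constructor
    · rintro ⟨_, h1, h2⟩
      exact ⟨h1, fun a ha => h2 a (Subgroup.mem_subgroupOf.mpr ha)⟩
    · rintro ⟨h1, h2⟩
      exact ⟨Finset.mem_univ _, h1, fun a ha => h2 a (Subgroup.mem_subgroupOf.mp ha)⟩
  have hsq : ∑ χ ∈ Θ, (χ : ↥K → ℂ) 1 ^ 2 = (A.relIndex K : ℂ) - 1 := by
    rw [hΘ]
    exact sum_sq_degree_ker_ne_one (A.subgroupOf K)
  have hdegreal : ∀ χ : IrrCharacter ↥K,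
      (starRingEnd ℂ) ((χ : ↥K → ℂ) 1) = (χ : ↥K → ℂ) 1 := by
    intro χ
    obtain ⟨j, _, hj⟩ := irr_degree χ.2
    rw [hj, Complex.conj_natCast]
  obtain ⟨Ψ, hΨ⟩ : ∃ Ψ : L → ℂ,
      Ψ = ∑ χ ∈ Θ, ((χ : ↥K → ℂ) 1) • indFun K (χ : ↥K → ℂ) := ⟨_, rfl⟩
  have hii : ∀ θ : ↥K → ℂ, IsIrrCharacter ↥K θ → θ ≠ (fun _ => 1) →
      (∀ a : ↥K, (a : L) ∈ A → θ a = θ 1) → classInner Ψ (indFun K θ) = indFun K θ 1 := by
    intro θ hθ hθ1 hθk
    have hx : ∀ x : L, ∑ χ ∈ Θ, ((χ : ↥K → ℂ) 1) *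
        classInner (χ : ↥K → ℂ) (conjFunN K θ x) = θ 1 := by
      intro x
      have hirrx : IsIrrCharacter ↥K (conjFunN K θ x) := isIrrCharacter_conjFunN K hθ x
      have hval : ∀ k : ↥K, conjFunN K θ x k = θ ⟨x * k * x⁻¹, hK.conj_mem k k.2 x⟩ :=
        fun k => rfl
      have hval1 : conjFunN K θ x 1 = θ 1 := by
        rw [hval]
        congr 1
        apply Subtype.ext
        simp
      have hmem : (⟨conjFunN K θ x, hirrx⟩ : IrrCharacter ↥K) ∈ Θ := by
        rw [hmemΘ]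
        refine ⟨?_, ?_⟩
        · intro h
          apply hθ1
          funext k
          have hk' : x⁻¹ * (k : L) * x ∈ K := by
            have := hK.conj_mem k k.2 x⁻¹
            simpa using this
          have h2 : conjFunN K θ x ⟨x⁻¹ * k * x, hk'⟩ = 1 := congrFun h ⟨x⁻¹ * k * x, hk'⟩
          rw [hval] at h2
          have h3 : (⟨x * ((⟨x⁻¹ * (k : L) * x, hk'⟩ : ↥K) : L) * x⁻¹,
              hK.conj_mem _ hk' x⟩ : ↥K) = k := Subtype.ext (by simp [mul_assoc])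
          rw [h3] at h2
          exact h2
        · intro a ha
          show conjFunN K θ x a = conjFunN K θ x 1
          rw [hval1, hval]
          exact hθk _ (hA.conj_mem a ha x)
      rw [Finset.sum_eq_single (⟨conjFunN K θ x, hirrx⟩ : IrrCharacter ↥K)]
      · show conjFunN K θ x 1 * classInner (conjFunN K θ x) (conjFunN K θ x) = θ 1
        rw [classInner_irr hirrx hirrx, if_pos rfl, mul_one, hval1]
      · intro χ _ hne
        rw [classInner_irr χ.2 hirrx, if_neg, mul_zero]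
        intro h
        exact hne (Subtype.ext h)
      · intro h
        exact absurd hmem h
    rw [hΨ, classInner_sum_left]
    have hterm : ∀ χ ∈ Θ,
        classInner (((χ : ↥K → ℂ) 1) • indFun K (χ : ↥K → ℂ)) (indFun K θ) =
        (Nat.card ↥K : ℂ)⁻¹ * ∑ x : L, ((χ : ↥K → ℂ) 1) *
          classInner (χ : ↥K → ℂ) (conjFunN K θ x) := by
      intro χ _
      rw [classInner_smul_left, classInner_indFun_indFun_conjFunN, Finset.mul_sum, Finset.mul_sum,
        Finset.mul_sum]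
      apply Finset.sum_congr rfl
      intro x _
      ring
    rw [Finset.sum_congr rfl hterm, ← Finset.mul_sum, Finset.sum_comm,
      Finset.sum_congr rfl (fun x _ => hx x), Finset.sum_const, Finset.card_univ, nsmul_eq_mul,
      indFun_one]
  have hΨΨ : classInner Ψ Ψ = (K.index : ℂ) * ((A.relIndex K : ℂ) - 1) := by
    have h0 : classInner Ψ Ψ =
        classInner Ψ (∑ χ ∈ Θ, ((χ : ↥K → ℂ) 1) • indFun K (χ : ↥K → ℂ)) := by
      rw [← hΨ]
    rw [h0, classInner_sum_right]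
    have hterm : ∀ χ ∈ Θ, classInner Ψ (((χ : ↥K → ℂ) 1) • indFun K (χ : ↥K → ℂ)) =
        (K.index : ℂ) * (χ : ↥K → ℂ) 1 ^ 2 := by
      intro χ hχ
      have hχ' := (hmemΘ χ).mp hχ
      rw [classInner_smul_right, hii _ χ.2 hχ'.1 hχ'.2, hdegreal, indFun_one_eq_index]
      ring
    rw [Finset.sum_congr rfl hterm, ← Finset.mul_sum, hsq]
  have hΨspan : Ψ ∈ Submodule.span ℂ (↑SAf : Set (L → ℂ)) := by
    rw [hΨ]
    apply Submodule.sum_mem
    intro χ hχ
    apply Submodule.smul_mem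
    apply Submodule.subset_span
    rw [hSAf]
    have hχ' := (hmemΘ χ).mp hχ
    exact ⟨(χ : ↥K → ℂ), χ.2, hχ'.1, hχ'.2, rfl⟩
  refine parseval_span SAf (fun φ => (n φ : ℝ)) (fun φ => (d φ : ℝ)) _ ?_ ?_ Ψ hΨspan ?_ ?_
  · intro v hv
    exact Nat.cast_ne_zero.mpr (hn0 v hv)
  · intro v hv w hw
    by_cases h : v = w
    · subst h
      rw [if_pos rfl, hn v hv]
      simp
    · rw [if_neg h]
      exact horth v hv w hw h
  · rw [hΨΨ, Complex.ofReal_mul, Complex.ofReal_sub, Complex.ofReal_natCast,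
      Complex.ofReal_natCast, Complex.ofReal_one]
  · intro v hv
    obtain ⟨θ, h1, h2, h3, rfl⟩ : v ∈ inducedIrrAbove K A := by
      rw [← hSAf]
      exact Finset.mem_coe.mpr hv
    rw [hii θ h1 h2 h3, hd _ hv]
    simp

end SumFormula

end Cfsg.Agent.Lib.Helper26
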