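import Mathlib
import Cfsg.Prelude.Def_Characters
import Cfsg.Prelude.Def_OddOrderChar

/-!
# Descending chain for coherence descent through a nilpotent section (helper26)

* `descentChain H₁ H M`: `D₀ = H₁`, `D_{i+1} = ⁅D_i, H⁆ ⊔ M`.
* `descentChain_eq`: if `H/M` is nilpotent then `D_n = M` for some `n`.
* `arith_descent`: the numeric inequality needed to apply Peterfalvi (6.3) along the chain.
-/

set_option autoImplicit false

namespace Cfsg.Agent.Lib.Helper26
open scoped commutatorElement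

section Chain
variable {L : Type*} [Group L]

/-- `D₀ = H₁`, `D_{i+1} = ⁅D_i, H⁆ ⊔ M`. -/
def descentChain (H₁ H M : Subgroup L) : ℕ → Subgroup L
  | 0 => H₁
  | (i + 1) => ⁅descentChain H₁ H M i, H⁆ ⊔ M

theorem descentChain_zero (H₁ H M : Subgroup L) : descentChain H₁ H M 0 = H₁ := rfl

theorem descentChain_succ (H₁ H M : Subgroup L) (i : ℕ) :
    descentChain H₁ H M (i + 1) = ⁅descentChain H₁ H M i, H⁆ ⊔ M := rfl

theorem descentChain_normal (H₁ H M : Subgroup L) [h₁ : H₁.Normal] [H.Normal] [M.Normal] (i : ℕ) :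
    (descentChain H₁ H M i).Normal := by
  induction i with
  | zero => exact h₁
  | succ i ih =>
    haveI := ih
    rw [descentChain_succ]
    infer_instance

theorem le_descentChain (H₁ H M : Subgroup L) (hMH₁ : M ≤ H₁) (i : ℕ) :
    M ≤ descentChain H₁ H M i := by
  cases i with
  | zero => exact hMH₁
  | succ i => rw [descentChain_succ]; exact le_sup_right

theorem descentChain_succ_le (H₁ H M : Subgroup L) [H₁.Normal] [H.Normal] [M.Normal]
    (hMH₁ : M ≤ H₁) (i : ℕ) : descentChain H₁ H M (i + 1) ≤ descentChain H₁ H M i := by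
  haveI := descentChain_normal H₁ H M i
  rw [descentChain_succ]
  exact sup_le (Subgroup.commutator_le_left _ _) (le_descentChain H₁ H M hMH₁ i)

theorem descentChain_le (H₁ H M : Subgroup L) [H₁.Normal] [H.Normal] [M.Normal]
    (hMH₁ : M ≤ H₁) (i : ℕ) : descentChain H₁ H M i ≤ H₁ := by
  induction i with
  | zero => exact le_rfl
  | succ i ih => exact (descentChain_succ_le H₁ H M hMH₁ i).trans ih

theorem descentChain_comm_mem (H₁ H M : Subgroup L) (i : ℕ) (x : L)
    (hx : x ∈ descentChain H₁ H M i) (y : L) (hy : y ∈ H) :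
    x * y * x⁻¹ * y⁻¹ ∈ descentChain H₁ H M (i + 1) := by
  rw [descentChain_succ]
  apply Subgroup.mem_sup_left
  have := Subgroup.commutator_mem_commutator hx hy
  rwa [commutatorElement_def] at this

theorem descentChain_le_lcs (H₁ H M : Subgroup L) (hMH : M ≤ H) (hH₁H : H₁ ≤ H)
    [(M.subgroupOf H).Normal] (i : ℕ) :
    descentChain H₁ H M i ≤
      (((⊤ : Subgroup (↥H ⧸ M.subgroupOf H)).lowerCentralSeries i).comap
        (QuotientGroup.mk' (M.subgroupOf H))).map H.subtype := by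
  induction i with
  | zero =>
    intro x hx
    apply Subgroup.mem_map.mpr
    refine ⟨⟨x, hH₁H hx⟩, Subgroup.mem_comap.mpr ?_, rfl⟩
    exact Subgroup.mem_top _
  | succ i ih =>
    rw [descentChain_succ]
    apply sup_le
    · rw [Subgroup.commutator_le]
      intro g₁ hg₁ g₂ hg₂
      obtain ⟨y₁, hy₁, rfl⟩ := Subgroup.mem_map.mp (ih hg₁)
      have hy₁' := Subgroup.mem_comap.mp hy₁
      apply Subgroup.mem_map.mpr
      refine ⟨⁅y₁, (⟨g₂, hg₂⟩ : ↥H)⁆, Subgroup.mem_comap.mpr ?_, ?_⟩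
      · rw [map_commutatorElement, Subgroup.lowerCentralSeries_succ]
        exact Subgroup.commutator_mem_commutator hy₁' (Subgroup.mem_top _)
      · rw [map_commutatorElement]
        rfl
    · intro x hx
      apply Subgroup.mem_map.mpr
      refine ⟨⟨x, hMH hx⟩, Subgroup.mem_comap.mpr ?_, rfl⟩
      have h1 : (QuotientGroup.mk' (M.subgroupOf H)) ⟨x, hMH hx⟩ = 1 :=
        (QuotientGroup.eq_one_iff _).mpr (Subgroup.mem_subgroupOf.mpr hx)
      rw [h1]
      exact Subgroup.one_mem _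

theorem descentChain_eq (H₁ H M : Subgroup L) (hMH₁ : M ≤ H₁) (hH₁H : H₁ ≤ H)
    [(M.subgroupOf H).Normal] (hnil : Group.IsNilpotent (↥H ⧸ M.subgroupOf H)) :
    ∃ n, descentChain H₁ H M n = M := by
  obtain ⟨n, hn⟩ := Subgroup.nilpotent_iff_lowerCentralSeries.mp hnil
  refine ⟨n, le_antisymm ?_ (le_descentChain H₁ H M hMH₁ n)⟩
  intro x hx
  obtain ⟨y, hy, rfl⟩ := Subgroup.mem_map.mp (descentChain_le_lcs H₁ H M (hMH₁.trans hH₁H) hH₁H n hx)
  rw [Subgroup.mem_comap, hn, Subgroup.mem_bot] at hy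
  exact Subgroup.mem_subgroupOf.mp ((QuotientGroup.eq_one_iff y).mp hy)

end Chain

theorem arith_descent (l k e : ℕ) (hk : 0 < k) (he : 4 * l ^ 2 + 2 ≤ e) :
    4 * (k * l) ^ 2 * e < (e * k - 1) ^ 2 := by
  have hek : 0 < e * k := Nat.mul_pos (by omega) hk
  obtain ⟨N', hN'⟩ : ∃ N', e * k = N' + 1 := ⟨e * k - 1, by omega⟩
  rw [hN', Nat.add_sub_cancel]
  have hZ : (N' : ℤ) = e * k - 1 := by
    have := congrArg (Nat.cast : ℕ → ℤ) hN'
    push_cast at this
    linarith
  have hk' : (1 : ℤ) ≤ k := by exact_mod_cast hk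
  have he' : (4 * (l : ℤ) ^ 2 + 2) ≤ e := by exact_mod_cast he
  have goalZ : (4 * ((k : ℤ) * l) ^ 2 * e) < (N' : ℤ) ^ 2 := by
    rw [hZ]
    have e0 : (0 : ℤ) ≤ e := by positivity
    have k0 : (0 : ℤ) ≤ k := by positivity
    have t0 : (0 : ℤ) ≤ (e : ℤ) - 4 * (l : ℤ) ^ 2 - 2 := by linarith
    have p1 : (0 : ℤ) ≤ (k : ℤ) ^ 2 * e * ((e : ℤ) - 4 * (l : ℤ) ^ 2 - 2) :=
      mul_nonneg (by positivity) t0
    have p2 : (0 : ℤ) ≤ 2 * (k : ℤ) * e * ((k : ℤ) - 1) :=
      mul_nonneg (by positivity) (by linarith)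
    nlinarith [p1, p2]
  exact_mod_cast goalZ

end Cfsg.Agent.Lib.Helper26
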