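import Cfsg.Agent.Lib.Helper26.Coherence
import Cfsg.Agent.Lib.Helper26.CharKernel
import Cfsg.Prelude.Def_OddOrderChar

/-!
# Coherence systems with constant degree (helper26)

* `isCharacter_one_ne_zero`: a nonzero character has nonzero degree.
* `classInner_sum_sum_orthonormal`: inner product of the sums of an orthonormal finset and a subset.
* `isLinearIsometryOn_of_gens`: an everywhere additive map that is isometric on generators is a
  linear isometry on the integer span.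
* `finite_of_orthogonal`: a set of pairwise orthogonal functions of nonzero norm is finite.
* `coherent_of_base`: extension of an isometry from the degree-zero lattice of an orthogonal set of
  constant degree, given the image `X` of one base member.
* `cs_pair`: in a coherence system, `τ (χ - ψ)` decomposes along `R χ ∪ R ψ` with coefficients `0/1`.
* `cs_exists_base`: the base image needed by `coherent_of_base`.
-/

namespace Cfsg.Agent.Lib.Helper26
open Cfsg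
open scoped ComplexConjugate

theorem isCharacter_one_ne_zero {G : Type*} [Group G] {χ : G → ℂ} (h : IsCharacter G χ)
    (hne : χ ≠ 0) : χ 1 ≠ 0 := by
  obtain ⟨n, ρ, rfl⟩ := h
  intro h1
  apply hne
  have hn : n = 0 := by
    have h2 : ρ.character 1 = (n : ℂ) := by simp [Representation.char_one]
    rw [h2] at h1
    exact_mod_cast h1
  subst hn
  funext g
  have h3 : ρ g = 0 := LinearMap.ext fun v => Subsingleton.elim _ _
  simp [Representation.character, h3]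

section Ortho
variable {G : Type*} [Group G] [Fintype G]

theorem classInner_sum_sum_orthonormal [DecidableEq (G → ℂ)] (s t : Finset (G → ℂ)) (hts : t ⊆ s)
    (he : ∀ i ∈ s, ∀ j ∈ s, classInner i j = if i = j then 1 else 0) :
    classInner (∑ i ∈ s, i) (∑ j ∈ t, j) = (t.card : ℂ) := by
  rw [classInner_sum_right]
  have h1 : ∀ j ∈ t, classInner (∑ i ∈ s, i) j = 1 := by
    intro j hj
    rw [classInner_sum_left]
    have h2 : ∑ i ∈ s, classInner i j = ∑ i ∈ s, if i = j then (1 : ℂ) else 0 :=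
      Finset.sum_congr rfl (fun i hi => he i hi j (hts hj))
    rw [h2, Finset.sum_ite_eq' s j, if_pos (hts hj)]
  rw [Finset.sum_congr rfl h1]
  simp

end Ortho

section Base
variable {L : Type*} [Group L] [Fintype L] {G : Type*} [Group G] [Fintype G]

theorem isLinearIsometryOn_of_gens (Z : Set (L → ℂ)) (T : (L → ℂ) → (G → ℂ))
    (hTadd : ∀ a b, T (a + b) = T a + T b) (hTsmul : ∀ (n : ℤ) a, T (n • a) = n • T a)
    (hgen : ∀ ξ ∈ Z, IsGeneralizedCharacter G (T ξ))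
    (hortho : ∀ ξ ∈ Z, ∀ ξ' ∈ Z, classInner (T ξ) (T ξ') = classInner ξ ξ') :
    IsLinearIsometryOn (zspan Z) T := by
  have hT0 : T 0 = 0 := by
    have h := hTsmul 0 0
    simpa using h
  refine ⟨fun a _ b _ => hTadd a b, fun a _ n => hTsmul n a, ?_, ?_⟩
  · intro a ha
    induction ha using Submodule.span_induction with
    | mem x hx =>
      intro b hb
      induction hb using Submodule.span_induction with
      | mem y hy => exact hortho x hx y hy
      | zero => rw [hT0, classInner_zero_right, classInner_zero_right]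
      | add y z hy hz ihy ihz =>
        rw [hTadd, classInner_add_right, classInner_add_right, ihy, ihz]
      | smul n y hy ih =>
        rw [hTsmul, classInner_zsmul_right, classInner_zsmul_right, ih]
    | zero =>
      intro b hb
      rw [hT0, classInner_zero_left, classInner_zero_left]
    | add x y hx hy ihx ihy =>
      intro b hb
      rw [hTadd, classInner_add_left, classInner_add_left, ihx b hb, ihy b hb]
    | smul n x hx ih =>
      intro b hb
      rw [hTsmul, classInner_zsmul_left, classInner_zsmul_left, ih b hb]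
  · intro a ha
    induction ha using Submodule.span_induction with
    | mem x hx => exact hgen x hx
    | zero => rw [hT0]; exact isGeneralizedCharacter_zero
    | add x y _ _ ihx ihy => rw [hTadd]; exact isGeneralizedCharacter_add ihx ihy
    | smul n x _ ih => rw [hTsmul]; exact isGeneralizedCharacter_zsmul ih n

theorem finite_of_orthogonal (S : Set (L → ℂ))
    (horth : ∀ χ ∈ S, ∀ φ ∈ S, χ ≠ φ → classInner χ φ = 0)
    (hnz : ∀ χ ∈ S, classInner χ χ ≠ 0) : S.Finite := by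
  have hli : LinearIndependent ℂ ((↑) : S → (L → ℂ)) := by
    rw [linearIndependent_iff']
    intro s g hg i hi
    have h1 : classInner (∑ j ∈ s, g j • (j : L → ℂ)) (i : L → ℂ) = 0 := by
      rw [hg, classInner_zero_left]
    rw [classInner_sum_left, Finset.sum_eq_single i] at h1
    · rw [classInner_smul_left] at h1
      exact (mul_eq_zero.mp h1).resolve_right (hnz i i.2)
    · intro j _ hji
      rw [classInner_smul_left, horth j j.2 i i.2 (fun h => hji (Subtype.ext h)), mul_zero]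
    · intro h; exact absurd hi h
  exact hli.set_finite_of_isNoetherian

omit [Fintype L] in
theorem add_mem_zspanOn_one {S : Set (L → ℂ)} {a b : L → ℂ}
    (ha : a ∈ zspanOn S ({1}ᶜ : Set L)) (hb : b ∈ zspanOn S ({1}ᶜ : Set L)) :
    a + b ∈ zspanOn S ({1}ᶜ : Set L) := by
  rw [mem_zspanOn_compl_one] at ha hb ⊢
  refine ⟨add_mem_zspan ha.1 hb.1, ?_⟩
  show a 1 + b 1 = 0
  rw [ha.2, hb.2, add_zero]

omit [Fintype L] in
theorem zsmul_mem_zspanOn_one {S : Set (L → ℂ)} {a : L → ℂ} (n : ℤ)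
    (ha : a ∈ zspanOn S ({1}ᶜ : Set L)) : n • a ∈ zspanOn S ({1}ᶜ : Set L) := by
  rw [mem_zspanOn_compl_one] at ha ⊢
  refine ⟨zsmul_mem_zspan n ha.1, ?_⟩
  show n • a 1 = 0
  rw [ha.2, smul_zero]

theorem coherent_of_base (S : Set (L → ℂ)) (τ : (L → ℂ) → (G → ℂ))
    (horth : ∀ χ ∈ S, ∀ φ ∈ S, χ ≠ φ → classInner χ φ = 0)
    (hnz : ∀ χ ∈ S, classInner χ χ ≠ 0)
    (hiso : IsLinearIsometryOn (zspanOn S ({1}ᶜ : Set L)) τ)
    (hdeg : ∀ φ ∈ S, ∀ ψ ∈ S, φ 1 = ψ 1)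
    (χ₀ : L → ℂ) (hχ₀ : χ₀ ∈ S) (h1 : χ₀ 1 ≠ 0)
    (X : G → ℂ) (hX : IsGeneralizedCharacter G X) (hXX : classInner X X = classInner χ₀ χ₀)
    (hK : ∀ χ ∈ S, classInner (τ (χ₀ - χ)) X = classInner χ₀ χ₀ - classInner χ χ₀) :
    ∃ τ₁ : (L → ℂ) → (G → ℂ), IsLinearIsometryOn (zspan S) τ₁ ∧
      ∀ α ∈ zspanOn S ({1}ᶜ : Set L), τ₁ α = τ α := by
  classical
  have hfin := finite_of_orthogonal S horth hnz
  obtain ⟨hadd, hsmul, hinner, hgen⟩ := hiso
  have hdiff : ∀ χ ∈ S, ∀ ψ ∈ S, χ - ψ ∈ zspanOn S ({1}ᶜ : Set L) := by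
    intro χ hχ ψ hψ
    rw [mem_zspanOn_compl_one]
    refine ⟨Submodule.sub_mem _ (Submodule.subset_span hχ) (Submodule.subset_span hψ), ?_⟩
    show χ 1 - ψ 1 = 0
    rw [hdeg χ hχ ψ hψ, sub_self]
  have h0mem : (0 : L → ℂ) ∈ zspanOn S ({1}ᶜ : Set L) := by
    rw [mem_zspanOn_compl_one]; exact ⟨zero_mem_zspan S, rfl⟩
  have hτ0 : τ 0 = 0 := by
    have h := hsmul 0 h0mem 0
    simpa using h
  obtain ⟨T, hT⟩ : ∃ T : (L → ℂ) → (G → ℂ), T = fun χ => X - τ (χ₀ - χ) := ⟨_, rfl⟩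
  have hTgen : ∀ χ ∈ S, IsGeneralizedCharacter G (T χ) := by
    intro χ hχ
    rw [hT]
    exact isGeneralizedCharacter_sub hX (hgen _ (hdiff χ₀ hχ₀ χ hχ))
  have hTinner : ∀ χ ∈ S, ∀ ψ ∈ S, classInner (T χ) (T ψ) = classInner χ ψ := by
    intro χ hχ ψ hψ
    rw [hT]
    show classInner (X - τ (χ₀ - χ)) (X - τ (χ₀ - ψ)) = classInner χ ψ
    have e1 : classInner X (τ (χ₀ - ψ)) = classInner χ₀ χ₀ - classInner χ₀ ψ := by
      rw [← classInner_conj_symm, hK ψ hψ, map_sub, classInner_conj_symm, classInner_conj_symm]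
    rw [classInner_sub_left, classInner_sub_right, classInner_sub_right, hXX, e1, hK χ hχ,
      hinner _ (hdiff χ₀ hχ₀ χ hχ) _ (hdiff χ₀ hχ₀ ψ hψ), classInner_sub_left,
      classInner_sub_right, classInner_sub_right]
    ring
  obtain ⟨τ₁, hτ₁⟩ : ∃ τ₁ : (L → ℂ) → (G → ℂ),
      τ₁ = fun θ => ∑ χ ∈ hfin.toFinset, (classInner θ χ / classInner χ χ) • T χ := ⟨_, rfl⟩
  have hτ₁add : ∀ a b, τ₁ (a + b) = τ₁ a + τ₁ b := by
    intro a b
    rw [hτ₁]
    show ∑ χ ∈ hfin.toFinset, (classInner (a + b) χ / classInner χ χ) • T χ =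
      ∑ χ ∈ hfin.toFinset, (classInner a χ / classInner χ χ) • T χ +
      ∑ χ ∈ hfin.toFinset, (classInner b χ / classInner χ χ) • T χ
    rw [← Finset.sum_add_distrib]
    apply Finset.sum_congr rfl
    intro χ _
    rw [classInner_add_left, add_div, add_smul]
  have hτ₁smul : ∀ (n : ℤ) a, τ₁ (n • a) = n • τ₁ a := by
    intro n a
    rw [hτ₁]
    show ∑ χ ∈ hfin.toFinset, (classInner (n • a) χ / classInner χ χ) • T χ =
      n • ∑ χ ∈ hfin.toFinset, (classInner a χ / classInner χ χ) • T χ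
    rw [Finset.smul_sum]
    apply Finset.sum_congr rfl
    intro χ _
    rw [classInner_zsmul_left, mul_div_assoc, mul_smul, Int.cast_smul_eq_zsmul]
  have hτ₁S : ∀ χ ∈ S, τ₁ χ = T χ := by
    intro χ hχ
    rw [hτ₁]
    show ∑ φ ∈ hfin.toFinset, (classInner χ φ / classInner φ φ) • T φ = T χ
    rw [Finset.sum_eq_single χ]
    · rw [div_self (hnz χ hχ), one_smul]
    · intro φ hφ hne
      rw [horth χ hχ φ (hfin.mem_toFinset.mp hφ) (Ne.symm hne), zero_div, zero_smul]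
    · intro h; exact absurd (hfin.mem_toFinset.mpr hχ) h
  have hlin : IsLinearIsometryOn (zspan S) τ₁ :=
    isLinearIsometryOn_of_gens S τ₁ hτ₁add hτ₁smul
      (fun χ hχ => by rw [hτ₁S χ hχ]; exact hTgen χ hχ)
      (fun χ hχ ψ hψ => by rw [hτ₁S χ hχ, hτ₁S ψ hψ]; exact hTinner χ hχ ψ hψ)
  refine ⟨τ₁, hlin, ?_⟩
  have hτ₁0 : τ₁ 0 = 0 := by
    have h := hτ₁smul 0 0
    simpa using h
  have key : ∀ α ∈ zspan S, ∃ m : ℤ, (α - m • χ₀) ∈ zspanOn S ({1}ᶜ : Set L) ∧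
      τ (α - m • χ₀) = τ₁ α - m • X := by
    intro α hα
    induction hα using Submodule.span_induction with
    | mem χ hχ =>
      refine ⟨1, ?_, ?_⟩
      · rw [one_smul]; exact hdiff χ hχ χ₀ hχ₀
      · rw [one_smul, one_smul, hτ₁S χ hχ, hT]
        show τ (χ - χ₀) = X - τ (χ₀ - χ) - X
        have e : χ - χ₀ = (-1 : ℤ) • (χ₀ - χ) := by module
        rw [e, hsmul _ (hdiff χ₀ hχ₀ χ hχ)]
        module
    | zero =>
      refine ⟨0, ?_, ?_⟩
      · rw [zero_smul, sub_zero]; exact h0mem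
      · rw [zero_smul, sub_zero, zero_smul, sub_zero, hτ0, hτ₁0]
    | add a b _ _ iha ihb =>
      obtain ⟨m₁, hm₁, e₁⟩ := iha
      obtain ⟨m₂, hm₂, e₂⟩ := ihb
      have e : a + b - (m₁ + m₂) • χ₀ = (a - m₁ • χ₀) + (b - m₂ • χ₀) := by module
      refine ⟨m₁ + m₂, ?_, ?_⟩
      · rw [e]; exact add_mem_zspanOn_one hm₁ hm₂
      · rw [e, hadd _ hm₁ _ hm₂, e₁, e₂, hτ₁add]; module
    | smul n a _ iha =>
      obtain ⟨m₁, hm₁, e₁⟩ := iha
      have e : n • a - (n * m₁) • χ₀ = n • (a - m₁ • χ₀) := by module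
      refine ⟨n * m₁, ?_, ?_⟩
      · rw [e]; exact zsmul_mem_zspanOn_one n hm₁
      · rw [e, hsmul _ hm₁, e₁, hτ₁smul]; module
  intro α hα
  have hα' := mem_zspanOn_compl_one.mp hα
  obtain ⟨m, hm, e⟩ := key α hα'.1
  have hm' := (mem_zspanOn_compl_one.mp hm).2
  have hm0 : m = 0 := by
    have h2 : α 1 - (m : ℂ) * χ₀ 1 = 0 := by
      have h3 : (α - m • χ₀) 1 = α 1 - (m : ℂ) * χ₀ 1 := by
        simp [Pi.sub_apply, zsmul_eq_mul]
      rw [← h3]; exact hm'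
    rw [hα'.2, zero_sub, neg_eq_zero] at h2
    have h4 := (mul_eq_zero.mp h2).resolve_right h1
    exact_mod_cast h4
  rw [hm0, zero_smul, sub_zero, zero_smul, sub_zero] at e
  exact e.symm

end Base

section CS
variable {L : Type*} [Group L] [Fintype L] {G : Type*} [Group G] [Fintype G]
  {S : Set (L → ℂ)} {τ : (L → ℂ) → (G → ℂ)} {R : (L → ℂ) → Finset (G → ℂ)}

theorem cs_ne_zero (hS : IsCoherenceSystem S τ R) {χ : L → ℂ} (hχ : χ ∈ S) : χ ≠ 0 := by
  intro h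
  apply hS.conj_ne χ hχ
  rw [h]; funext x; simp [conjFun]

theorem cs_norm (hS : IsCoherenceSystem S τ R) {χ : L → ℂ} (hχ : χ ∈ S) :
    ∃ n : ℕ, 0 < n ∧ classInner χ χ = n := by
  obtain ⟨n, hn, hn0⟩ :=
    genChar_norm_nat (isGeneralizedCharacter_of_isCharacter (hS.isCharacter χ hχ))
  exact ⟨n, Nat.pos_of_ne_zero (fun h => cs_ne_zero hS hχ (hn0 h)), hn⟩

theorem cs_norm_ne_zero (hS : IsCoherenceSystem S τ R) {χ : L → ℂ} (hχ : χ ∈ S) :
    classInner χ χ ≠ 0 := by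
  obtain ⟨n, hn, e⟩ := cs_norm hS hχ
  rw [e]; exact_mod_cast hn.ne'

theorem cs_diff_mem (hdeg : ∀ φ ∈ S, ∀ ψ ∈ S, φ 1 = ψ 1) {χ ψ : L → ℂ} (hχ : χ ∈ S) (hψ : ψ ∈ S) :
    χ - ψ ∈ zspanOn S ({1}ᶜ : Set L) := by
  rw [mem_zspanOn_compl_one]
  refine ⟨Submodule.sub_mem _ (Submodule.subset_span hχ) (Submodule.subset_span hψ), ?_⟩
  show χ 1 - ψ 1 = 0
  rw [hdeg χ hχ ψ hψ, sub_self]

theorem cs_map_zero (hS : IsCoherenceSystem S τ R) : τ 0 = 0 := by
  have h0mem : (0 : L → ℂ) ∈ zspanOn S ({1}ᶜ : Set L) := by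
    rw [mem_zspanOn_compl_one]; exact ⟨zero_mem_zspan S, rfl⟩
  have h := hS.isometry.2.1 0 h0mem 0
  simpa using h

theorem cs_pair (hS : IsCoherenceSystem S τ R) (hdeg : ∀ φ ∈ S, ∀ ψ ∈ S, φ 1 = ψ 1)
    {χ ψ : L → ℂ} (hχ : χ ∈ S) (hψ : ψ ∈ S) (h1 : ψ ≠ χ) (h2 : ψ ≠ conjFun χ) :
    (∀ α ∈ R χ, classInner (τ (χ - ψ)) α = 0 ∨ classInner (τ (χ - ψ)) α = 1) ∧
    (∑ α ∈ R χ, classInner (τ (χ - ψ)) α = classInner χ χ) ∧
    (∀ γ : G → ℂ, (∀ α ∈ R χ, classInner α γ = 0) → (∀ α ∈ R ψ, classInner α γ = 0) →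
      classInner (τ (χ - ψ)) γ = 0) := by
  classical
  have hχc := hS.conj_mem χ hχ
  have hψc := hS.conj_mem ψ hψ
  have h3 : χ ≠ conjFun ψ := by
    intro h; apply h2; rw [h, conjFun_conjFun]
  have o1 : classInner χ ψ = 0 := hS.orthogonal χ hχ ψ hψ (Ne.symm h1)
  have o2 : classInner ψ χ = 0 := hS.orthogonal ψ hψ χ hχ h1
  have o3 : classInner χ (conjFun χ) = 0 :=
    hS.orthogonal χ hχ _ hχc (Ne.symm (hS.conj_ne χ hχ))
  have o4 : classInner ψ (conjFun χ) = 0 := hS.orthogonal ψ hψ _ hχc h2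
  have o5 : classInner ψ (conjFun ψ) = 0 :=
    hS.orthogonal ψ hψ _ hψc (Ne.symm (hS.conj_ne ψ hψ))
  have o6 : classInner χ (conjFun ψ) = 0 := hS.orthogonal χ hχ _ hψc h3
  obtain ⟨nχ, hnχ0, hnχ⟩ := cs_norm hS hχ
  obtain ⟨nψ, hnψ0, hnψ⟩ := cs_norm hS hψ
  obtain ⟨hadd, hsmul, hinner, hgen⟩ := hS.isometry
  have m1 := cs_diff_mem hdeg hχ hψ
  have m2 := cs_diff_mem hdeg hχ hχc
  have m3 := cs_diff_mem hdeg hψ hψc
  obtain ⟨β, hβ⟩ : ∃ β, β = τ (χ - ψ) := ⟨_, rfl⟩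
  rw [← hβ]
  have hβgen : IsGeneralizedCharacter G β := by rw [hβ]; exact hgen _ m1
  have hββ : classInner β β = (nχ : ℂ) + nψ := by
    rw [hβ, hinner _ m1 _ m1, classInner_sub_left, classInner_sub_right, classInner_sub_right,
      o1, o2, hnχ, hnψ]
    ring
  have hβχ : classInner β (∑ α ∈ R χ, α) = (nχ : ℂ) := by
    rw [← hS.sum_eq χ hχ, hβ, hinner _ m1 _ m2, classInner_sub_left, classInner_sub_right,
      classInner_sub_right, o3, o2, o4, hnχ]
    ring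
  have hβψ : classInner β (∑ α ∈ R ψ, α) = -(nψ : ℂ) := by
    rw [← hS.sum_eq ψ hψ, hβ, hinner _ m1 _ m3, classInner_sub_left, classInner_sub_right,
      classInner_sub_right, o1, o6, o5, hnψ]
    ring
  have cross : ∀ i ∈ R χ, ∀ j ∈ R ψ, classInner i j = 0 := hS.disjoint ψ hψ χ hχ o1 o6
  have cross' : ∀ i ∈ R ψ, ∀ j ∈ R χ, classInner i j = 0 := hS.disjoint χ hχ ψ hψ o2 o4
  have hdisj : Disjoint (R χ) (R ψ) := by
    rw [Finset.disjoint_left]
    intro a ha hb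
    have e1 := hS.orthonormal χ hχ a ha a ha
    rw [if_pos rfl, cross a ha a hb] at e1
    exact zero_ne_one e1
  obtain ⟨s, hs⟩ : ∃ s, s = R χ ∪ R ψ := ⟨_, rfl⟩
  have he : ∀ i ∈ s, ∀ j ∈ s, classInner i j = if i = j then 1 else 0 := by
    intro i hi j hj
    rw [hs, Finset.mem_union] at hi hj
    rcases hi with hi | hi <;> rcases hj with hj | hj
    · exact hS.orthonormal χ hχ i hi j hj
    · rw [cross i hi j hj, if_neg]
      rintro rfl
      exact Finset.disjoint_left.mp hdisj hi hj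
    · rw [cross' i hi j hj, if_neg]
      rintro rfl
      exact Finset.disjoint_left.mp hdisj hj hi
    · exact hS.orthonormal ψ hψ i hi j hj
  have hsgen : ∀ i ∈ s, IsGeneralizedCharacter G i := by
    intro i hi
    rw [hs, Finset.mem_union] at hi
    rcases hi with hi | hi
    · exact hS.virtual χ hχ i hi
    · exact hS.virtual ψ hψ i hi
  have hex : ∀ i : G → ℂ, ∃ k : ℤ, i ∈ s → classInner β i = k := by
    intro i
    by_cases hi : i ∈ s
    · obtain ⟨k, hk⟩ := classInner_generalized_int hβgen (hsgen i hi)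
      exact ⟨k, fun _ => hk⟩
    · exact ⟨0, fun h => absurd h hi⟩
  choose b hb using hex
  obtain ⟨hB1, -⟩ := norm_sub_proj s (fun i => i) he β b hb
  obtain ⟨D, hD⟩ : ∃ D, D = β - ∑ i ∈ s, b i • i := ⟨_, rfl⟩
  have hB1' : classInner D D = classInner β β - ∑ i ∈ s, ((b i : ℂ)) ^ 2 := by
    rw [hD]; exact hB1
  have hDgen : IsGeneralizedCharacter G D := by
    rw [hD]
    exact isGeneralizedCharacter_sub hβgen (isGeneralizedCharacter_sum s _
      (fun i hi => isGeneralizedCharacter_zsmul (hsgen i hi) (b i)))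
  obtain ⟨N, hN, hN0⟩ := genChar_norm_nat hDgen
  have hsumχ : ∑ i ∈ R χ, b i = (nχ : ℤ) := by
    have h : ((∑ i ∈ R χ, b i : ℤ) : ℂ) = ((nχ : ℤ) : ℂ) := by
      rw [Int.cast_sum, Int.cast_natCast, ← hβχ, classInner_sum_right]
      apply Finset.sum_congr rfl
      intro i hi
      rw [hb i (by rw [hs]; exact Finset.mem_union_left _ hi)]
    exact_mod_cast h
  have hsumψ : ∑ i ∈ R ψ, b i = -(nψ : ℤ) := by
    have h : ((∑ i ∈ R ψ, b i : ℤ) : ℂ) = ((-(nψ : ℤ) : ℤ) : ℂ) := by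
      rw [Int.cast_sum, Int.cast_neg, Int.cast_natCast, ← hβψ, classInner_sum_right]
      apply Finset.sum_congr rfl
      intro i hi
      rw [hb i (by rw [hs]; exact Finset.mem_union_right _ hi)]
    exact_mod_cast h
  have hsq : (N : ℤ) + ∑ i ∈ R χ, (b i) ^ 2 + ∑ i ∈ R ψ, (b i) ^ 2 = nχ + nψ := by
    have h : (((N : ℤ) + ∑ i ∈ R χ, (b i) ^ 2 + ∑ i ∈ R ψ, (b i) ^ 2 : ℤ) : ℂ) =
        (((nχ : ℤ) + (nψ : ℤ) : ℤ) : ℂ) := by
      have h' := hB1'
      rw [hN, hββ, hs, Finset.sum_union hdisj] at h'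
      push_cast
      linear_combination h'
    exact_mod_cast h
  have hge1 : ∀ i ∈ R χ, 0 ≤ (b i) ^ 2 - b i := fun i _ => sub_nonneg.mpr (Int.le_self_sq (b i))
  have hge2 : ∀ i ∈ R ψ, 0 ≤ (b i) ^ 2 + b i := by
    intro i _
    have h := Int.le_self_sq (-(b i))
    rw [neg_sq] at h
    linarith
  have hz : (N : ℤ) + ∑ i ∈ R χ, ((b i) ^ 2 - b i) + ∑ i ∈ R ψ, ((b i) ^ 2 + b i) = 0 := by
    rw [Finset.sum_sub_distrib, Finset.sum_add_distrib, hsumχ, hsumψ]
    linarith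
  have hs1 := Finset.sum_nonneg hge1
  have hs2 := Finset.sum_nonneg hge2
  have hNn : (0 : ℤ) ≤ (N : ℤ) := Int.natCast_nonneg N
  have hN0' : N = 0 := by
    have : (N : ℤ) = 0 := by linarith
    exact_mod_cast this
  have hz1 : ∑ i ∈ R χ, ((b i) ^ 2 - b i) = 0 := by linarith
  have hb01 : ∀ i ∈ R χ, b i = 0 ∨ b i = 1 := by
    intro i hi
    have h := (Finset.sum_eq_zero_iff_of_nonneg hge1).mp hz1 i hi
    have h' : b i * (b i - 1) = 0 := by linear_combination h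
    rcases mul_eq_zero.mp h' with h | h
    · left; exact h
    · right; linarith
  have hD0 : D = 0 := hN0 hN0'
  have hβeq : β = ∑ i ∈ s, b i • i := by
    rw [hD] at hD0; exact sub_eq_zero.mp hD0
  refine ⟨?_, ?_, ?_⟩
  · intro α hα
    rw [hb α (by rw [hs]; exact Finset.mem_union_left _ hα)]
    rcases hb01 α hα with h | h
    · left; rw [h]; simp
    · right; rw [h]; simp
  · rw [hnχ, ← hβχ]
    exact (classInner_sum_right (R χ) β (fun α => α)).symm
  · intro γ hγ1 hγ2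
    rw [hβeq, classInner_sum_left]
    apply Finset.sum_eq_zero
    intro i hi
    rw [classInner_zsmul_left]
    rw [hs, Finset.mem_union] at hi
    rcases hi with hi | hi
    · rw [hγ1 i hi, mul_zero]
    · rw [hγ2 i hi, mul_zero]

theorem cs_card_R (hS : IsCoherenceSystem S τ R) (hdeg : ∀ φ ∈ S, ∀ ψ ∈ S, φ 1 = ψ 1)
    {χ : L → ℂ} (hχ : χ ∈ S) : ((R χ).card : ℂ) = 2 * classInner χ χ := by
  classical
  have hχc := hS.conj_mem χ hχ
  obtain ⟨n, -, hn⟩ := cs_norm hS hχ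
  have o3 : classInner χ (conjFun χ) = 0 :=
    hS.orthogonal χ hχ _ hχc (Ne.symm (hS.conj_ne χ hχ))
  have o3' : classInner (conjFun χ) χ = 0 := hS.orthogonal _ hχc χ hχ (hS.conj_ne χ hχ)
  have m2 := cs_diff_mem hdeg hχ hχc
  rw [← classInner_sum_sum_orthonormal (R χ) (R χ) subset_rfl (hS.orthonormal χ hχ),
    ← hS.sum_eq χ hχ, hS.isometry.2.2.1 _ m2 _ m2, classInner_sub_left, classInner_sub_right,
    classInner_sub_right, o3, o3', classInner_conjFun_conjFun, hn, Complex.conj_natCast]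
  ring

theorem cs_exists_base (hS : IsCoherenceSystem S τ R) (hdeg : ∀ φ ∈ S, ∀ ψ ∈ S, φ 1 = ψ 1)
    {χ₀ : L → ℂ} (hχ₀ : χ₀ ∈ S) :
    ∃ X : G → ℂ, IsGeneralizedCharacter G X ∧ classInner X X = classInner χ₀ χ₀ ∧
      ∀ χ ∈ S, classInner (τ (χ₀ - χ)) X = classInner χ₀ χ₀ - classInner χ χ₀ := by
  classical
  obtain ⟨n₀, hn₀pos, hn₀⟩ := cs_norm hS hχ₀
  have hχ₀c := hS.conj_mem χ₀ hχ₀
  obtain ⟨hadd, hsmul, hinner, hgen⟩ := hS.isometry
  have hτ0 : τ 0 = 0 := cs_map_zero hS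
  have step1 : ∃ A₀ ⊆ R χ₀, A₀.card = n₀ ∧ ∀ χ ∈ S, χ ≠ χ₀ → χ ≠ conjFun χ₀ →
      ∀ α ∈ A₀, classInner (τ (χ₀ - χ)) α = 1 := by
    by_cases h : ∃ ψ₀ ∈ S, ψ₀ ≠ χ₀ ∧ ψ₀ ≠ conjFun χ₀
    · obtain ⟨ψ₀, hψ₀, hne1, hne2⟩ := h
      obtain ⟨P1, P2, P3⟩ := cs_pair hS hdeg hχ₀ hψ₀ hne1 hne2
      refine ⟨(R χ₀).filter (fun α => classInner (τ (χ₀ - ψ₀)) α = 1),
        Finset.filter_subset _ _, ?_, ?_⟩
      · have e : ∑ α ∈ R χ₀, classInner (τ (χ₀ - ψ₀)) α =
            ∑ α ∈ R χ₀, if classInner (τ (χ₀ - ψ₀)) α = 1 then (1 : ℂ) else 0 := by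
          apply Finset.sum_congr rfl
          intro α hα
          rcases P1 α hα with h0 | h1
          · rw [h0, if_neg zero_ne_one]
          · rw [h1, if_pos rfl]
        rw [e, Finset.sum_boole, hn₀] at P2
        exact_mod_cast P2
      · intro χ hχ hc1 hc2 α hα
        rw [Finset.mem_filter] at hα
        have e : χ₀ - χ = (χ₀ - ψ₀) + (ψ₀ - χ) := by abel
        rw [e, hadd _ (cs_diff_mem hdeg hχ₀ hψ₀) _ (cs_diff_mem hdeg hψ₀ hχ), classInner_add_left,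
          hα.2]
        have d1 : ∀ i ∈ R ψ₀, classInner i α = 0 := fun i hi =>
          hS.disjoint χ₀ hχ₀ ψ₀ hψ₀ (hS.orthogonal ψ₀ hψ₀ χ₀ hχ₀ hne1)
            (hS.orthogonal ψ₀ hψ₀ _ hχ₀c hne2) i hi α hα.1
        have d2 : ∀ i ∈ R χ, classInner i α = 0 := fun i hi =>
          hS.disjoint χ₀ hχ₀ χ hχ (hS.orthogonal χ hχ χ₀ hχ₀ hc1)
            (hS.orthogonal χ hχ _ hχ₀c hc2) i hi α hα.1
        have hz : classInner (τ (ψ₀ - χ)) α = 0 := by
          by_cases c1 : χ = ψ₀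
          · rw [c1, sub_self, hτ0, classInner_zero_left]
          by_cases c2 : χ = conjFun ψ₀
          · rw [c2, hS.sum_eq ψ₀ hψ₀, classInner_sum_left]
            exact Finset.sum_eq_zero d1
          · exact (cs_pair hS hdeg hψ₀ hχ c1 c2).2.2 α d1 d2
        rw [hz, add_zero]
    · have hcard : n₀ ≤ (R χ₀).card := by
        have h2 := cs_card_R hS hdeg hχ₀
        rw [hn₀] at h2
        have h3 : (R χ₀).card = 2 * n₀ := by exact_mod_cast h2
        omega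
      obtain ⟨A₀, hA₀, hcA⟩ := Finset.exists_subset_card_eq hcard
      refine ⟨A₀, hA₀, hcA, ?_⟩
      intro χ hχ hc1 hc2
      exact absurd ⟨χ, hχ, hc1, hc2⟩ h
  obtain ⟨A₀, hA₀sub, hA₀card, hA₀⟩ := step1
  refine ⟨∑ α ∈ A₀, α, isGeneralizedCharacter_sum A₀ _
    (fun i hi => hS.virtual χ₀ hχ₀ i (hA₀sub hi)), ?_, ?_⟩
  · rw [classInner_sum_sum_orthonormal A₀ A₀ subset_rfl
      (fun i hi j hj => hS.orthonormal χ₀ hχ₀ i (hA₀sub hi) j (hA₀sub hj)), hA₀card, hn₀]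
  · intro χ hχ
    by_cases c1 : χ = χ₀
    · rw [c1, sub_self, hτ0, classInner_zero_left, sub_self]
    by_cases c2 : χ = conjFun χ₀
    · rw [c2, hS.sum_eq χ₀ hχ₀, classInner_sum_sum_orthonormal (R χ₀) A₀ hA₀sub
        (hS.orthonormal χ₀ hχ₀), hA₀card, hn₀,
        hS.orthogonal _ hχ₀c χ₀ hχ₀ (hS.conj_ne χ₀ hχ₀), sub_zero]
    · rw [classInner_sum_right, Finset.sum_congr rfl (hA₀ χ hχ c1 c2),
        hS.orthogonal χ hχ χ₀ hχ₀ c1, sub_zero, hn₀]
      simp [hA₀card]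

end CS

end Cfsg.Agent.Lib.Helper26
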