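import Mathlib
import Cfsg.Prelude.Def_Characters
import Cfsg.Prelude.Def_OddOrderChar
import Cfsg.Agent.Lib.Helper26.CohDescent
import Cfsg.Agent.Lib.Helper4.Monomial
import Cfsg.Agent.S1517

/-!
# Coherence above the commutator subgroup (helper26)

* `cs_mono`: a conjugation-closed nonempty subset of a coherence system is a coherence system.
* `irr_degree_one_of_commutator`: an irreducible character trivial on commutators is linear.
* `coherent_above_commutator`: `S(H₁)` is coherent when `[K,K] ≤ H₁ < K`.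
-/

set_option autoImplicit false

namespace Cfsg.Agent.Lib.Helper26
open Cfsg
open scoped commutatorElement

section
variable {L : Type*} [Group L] [Fintype L] {G : Type*} [Group G] [Fintype G]

theorem cs_mono {S S' : Set (L → ℂ)} {τ : (L → ℂ) → (G → ℂ)} {R : (L → ℂ) → Finset (G → ℂ)}
    (hS : IsCoherenceSystem S τ R) (hsub : S' ⊆ S) (hne : S'.Nonempty)
    (hconj : ∀ χ ∈ S', conjFun χ ∈ S') : IsCoherenceSystem S' τ R := by
  have hz : zspanOn S' {1}ᶜ ⊆ zspanOn S {1}ᶜ := fun α hα => ⟨zspan_mono hsub hα.1, hα.2⟩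
  obtain ⟨i1, i2, i3, i4⟩ := hS.isometry
  exact
    { nonempty := hne
      isCharacter := fun χ hχ => hS.isCharacter χ (hsub hχ)
      conj_mem := hconj
      conj_ne := fun χ hχ => hS.conj_ne χ (hsub hχ)
      isometry := ⟨fun α hα β hβ => i1 α (hz hα) β (hz hβ), fun α hα n => i2 α (hz hα) n,
        fun α hα β hβ => i3 α (hz hα) β (hz hβ), fun α hα => i4 α (hz hα)⟩
      map_one := fun α hα => hS.map_one α (hz hα)
      orthogonal := fun χ hχ φ hφ h => hS.orthogonal χ (hsub hχ) φ (hsub hφ) h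
      orthonormal := fun χ hχ => hS.orthonormal χ (hsub hχ)
      virtual := fun χ hχ => hS.virtual χ (hsub hχ)
      sum_eq := fun χ hχ => hS.sum_eq χ (hsub hχ)
      disjoint := fun χ hχ φ hφ => hS.disjoint χ (hsub hχ) φ (hsub hφ) }

theorem irr_degree_one_of_commutator {K : Type*} [Group K] [Fintype K] (θ : K → ℂ)
    (hθ : IsIrrCharacter K θ) (h : ∀ x y : K, θ (x * y * x⁻¹ * y⁻¹) = θ 1) : θ 1 = 1 := by
  obtain ⟨n, ρ, hρ, rfl⟩ := hθ
  have h1 : ∀ x y : K, ρ (x * y * x⁻¹ * y⁻¹) = LinearMap.id := by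
    intro x y
    rw [← Cfsg.Agent.Lib.Helper4.character_eq_finrank_iff, h x y, Representation.char_one]
  have hcomm : ∀ x y : K, ρ x * ρ y = ρ y * ρ x := by
    intro x y
    calc ρ x * ρ y = ρ (x * y) := (map_mul ρ x y).symm
      _ = ρ ((x * y * x⁻¹ * y⁻¹) * (y * x)) := by
        congr 1
        group
      _ = ρ (x * y * x⁻¹ * y⁻¹) * ρ (y * x) := map_mul ρ _ _
      _ = ρ (y * x) := by rw [h1 x y, ← Module.End.one_eq_id, one_mul]
      _ = ρ y * ρ x := map_mul ρ y x
  have h3 := Cfsg.Agent.Lib.Helper4.finrank_eq_one_of_commute ρ hρ hcomm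
  rw [Representation.char_one, h3]
  simp

theorem coherent_above_commutator (K : Subgroup L) [hK : K.Normal]
    (hsolv : Group.IsSolvable K)
    (τ : (L → ℂ) → (G → ℂ)) (R : (L → ℂ) → Finset (G → ℂ))
    (hS : IsCoherenceSystem (inducedIrrAbove K ⊥) τ R)
    (H₁ : Subgroup L) [H₁.Normal] (hcomm : ⁅K, K⁆ ≤ H₁) (hH₁K : H₁ < K) :
    IsCoherent (inducedIrrAbove K H₁) {1}ᶜ τ := by
  classical
  obtain ⟨ω, hω⟩ := exists_linear_inducedIrrAbove K H₁ hsolv hH₁K
  have hS' : IsCoherenceSystem (inducedIrrAbove K H₁) τ R :=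
    cs_mono hS (inducedIrrAbove_subset_bot K H₁) ⟨_, hω⟩
      (fun χ hχ => conjFun_mem_inducedIrrAbove K H₁ hχ)
  have hdeg : ∀ φ ∈ inducedIrrAbove K H₁, φ 1 = (K.index : ℂ) := by
    rintro φ ⟨θ, hθ, _, hker, rfl⟩
    rw [indFun_one_eq_index]
    have h1 : θ 1 = 1 := by
      apply irr_degree_one_of_commutator θ hθ
      intro x y
      apply hker
      apply hcomm
      have h2 : ((x * y * x⁻¹ * y⁻¹ : ↥K) : L) = ⁅(x : L), (y : L)⁆ := by
        rw [commutatorElement_def]
        rfl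
      rw [h2]
      exact Subgroup.commutator_mem_commutator x.2 y.2
    rw [h1, mul_one]
  apply Cfsg.Agent.S1517.result _ τ R hS'
  intro φ hφ ψ hψ
  rw [hdeg φ hφ, hdeg ψ hψ]

end

end Cfsg.Agent.Lib.Helper26
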