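import Mathlib

/-!
# Counting in Frobenius-type quotients (helper26)

* `dvd_card_of_dvd_orbits`: if every orbit has size divisible by `e`, so has the set.
* `frob_index_dvd`: if `L/H₁` is Frobenius-like with abelian kernel `K/H₁`, then `[L:K]` divides
  `[N:H₁] - 1` for every normal `N` with `H₁ ≤ N ≤ K`.
* `frob_bound_of_between`: a normal subgroup strictly between forces `[K:H₁] > 4[L:K]²+1` for odd
  order.
-/

set_option autoImplicit false

namespace Cfsg.Agent.Lib.Helper26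
open scoped commutatorElement

section
variable {L : Type*} [Group L] [Finite L]

theorem dvd_card_of_dvd_orbits {X : Type*} [Finite X] [MulAction L X] (e : ℕ)
    (h : ∀ x : X, e ∣ Nat.card (MulAction.orbit L x)) : e ∣ Nat.card X := by
  classical
  have : Fintype (MulAction.orbitRel.Quotient L X) := Fintype.ofFinite _
  rw [Nat.card_congr (MulAction.selfEquivSigmaOrbits' L X), Nat.card_sigma]
  apply Finset.dvd_sum
  intro ω _
  induction ω using Quotient.inductionOn' with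
  | h x =>
    show e ∣ Nat.card (MulAction.orbitRel.Quotient.orbit
      (Quotient.mk'' x : MulAction.orbitRel.Quotient L X))
    rw [MulAction.orbitRel.Quotient.orbit_mk]
    exact h x

theorem frob_index_dvd (K H₁ N : Subgroup L) [K.Normal] [H₁.Normal] [N.Normal]
    (hNK : N ≤ K) (hcomm : ⁅K, K⁆ ≤ H₁)
    (hfrob : ∀ k ∈ K, k ∉ H₁ → ∀ x : L, x * k * x⁻¹ * k⁻¹ ∈ H₁ → x ∈ K) :
    K.index ∣ H₁.relIndex N - 1 := by
  classical
  obtain ⟨π, hπ⟩ : ∃ π : L →* L ⧸ H₁, π = QuotientGroup.mk' H₁ := ⟨_, rfl⟩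
  have hπ1 : ∀ x : L, π x = 1 ↔ x ∈ H₁ := by
    intro x
    rw [hπ]
    exact QuotientGroup.eq_one_iff x
  obtain ⟨A, hA⟩ : ∃ A : Subgroup (L ⧸ H₁), A = N.map π := ⟨_, rfl⟩
  have hAn : A.Normal := by
    rw [hA]
    apply Subgroup.Normal.map inferInstance π
    rw [hπ]
    exact QuotientGroup.mk'_surjective H₁
  obtain ⟨X, hX⟩ : ∃ X : Set (L ⧸ H₁), X = (A : Set (L ⧸ H₁)) \ {1} := ⟨_, rfl⟩
  have hXmem : ∀ q : L ⧸ H₁, q ∈ X ↔ q ∈ A ∧ q ≠ 1 := by
    intro q
    rw [hX]
    rfl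
  letI act : MulAction L ↥X :=
    { smul := fun x q => ⟨π x * q.1 * (π x)⁻¹, by
        rw [hXmem]
        have hq := (hXmem q.1).mp q.2
        refine ⟨hAn.conj_mem q.1 hq.1 (π x), ?_⟩
        intro h
        exact hq.2 (conj_eq_one_iff.mp h)⟩
      one_smul := by
        intro q
        apply Subtype.ext
        show π 1 * q.1 * (π 1)⁻¹ = q.1
        rw [map_one, one_mul, inv_one, mul_one]
      mul_smul := by
        intro x y q
        apply Subtype.ext
        show π (x * y) * q.1 * (π (x * y))⁻¹ = π x * (π y * q.1 * (π y)⁻¹) * (π x)⁻¹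
        rw [map_mul, mul_inv_rev]
        group }
  have hsmul : ∀ (x : L) (q : ↥X), ((x • q : ↥X) : L ⧸ H₁) = π x * q.1 * (π x)⁻¹ :=
    fun x q => rfl
  have hcard : Nat.card ↥X = H₁.relIndex N - 1 := by
    have h1 : (1 : L ⧸ H₁) ∈ (A : Set (L ⧸ H₁)) := A.one_mem
    rw [Nat.card_coe_set_eq, hX, Set.ncard_diff_singleton_of_mem h1]
    congr 1
    have h2 := Subgroup.relIndex_ker π (K := N)
    rw [hπ, QuotientGroup.ker_mk', ← hπ, ← hA] at h2
    rw [h2]
    exact (Nat.card_coe_set_eq (A : Set (L ⧸ H₁))).symm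
  rw [← hcard]
  apply dvd_card_of_dvd_orbits (L := L)
  intro q
  have hq := (hXmem q.1).mp q.2
  have hstab : MulAction.stabilizer L q = K := by
    have hqA : q.1 ∈ N.map π := by
      rw [← hA]
      exact hq.1
    obtain ⟨n, hnN, hnq⟩ := Subgroup.mem_map.mp hqA
    have hnH : n ∉ H₁ := by
      intro h
      apply hq.2
      rw [← hnq]
      exact (hπ1 n).mpr h
    ext x
    rw [MulAction.mem_stabilizer_iff]
    constructor
    · intro hx
      have h1 : π x * q.1 * (π x)⁻¹ = q.1 := congrArg Subtype.val hx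
      apply hfrob n (hNK hnN) hnH x
      rw [← hnq] at h1
      apply (hπ1 _).mp
      rw [map_mul, map_mul, map_mul, map_inv, map_inv, h1, mul_inv_cancel]
    · intro hx
      apply Subtype.ext
      rw [hsmul, ← hnq]
      have h2 : x * n * x⁻¹ * n⁻¹ ∈ H₁ := by
        apply hcomm
        have h3 : x * n * x⁻¹ * n⁻¹ = ⁅x, n⁆ := (commutatorElement_def x n).symm
        rw [h3]
        exact Subgroup.commutator_mem_commutator hx (hNK hnN)
      have h3 : π (x * n * x⁻¹ * n⁻¹) = 1 := (hπ1 _).mpr h2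
      rw [map_mul, map_mul, map_mul, map_inv, map_inv] at h3
      exact mul_inv_eq_one.mp h3
  have h1 := MulAction.index_stabilizer L q
  rw [hstab] at h1
  have h2 : Nat.card ↥(MulAction.orbit L q) = K.index := by
    rw [Nat.card_coe_set_eq, ← h1]
  exact dvd_of_eq h2.symm

end

theorem two_mul_add_one_le_of_dvd {e a n : ℕ} (hn : Odd n) (he : e ∣ n) (ha : a ∣ n)
    (ha1 : 1 < a) (hd : e ∣ a - 1) : 2 * e + 1 ≤ a := by
  have heo : Odd e := Odd.of_dvd_nat hn he
  have hao : Odd a := Odd.of_dvd_nat hn ha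
  obtain ⟨t, ht⟩ := hd
  have ht0 : t ≠ 0 := by
    rintro rfl
    omega
  have hte : Even (e * t) := by
    rw [← ht]
    exact Nat.Odd.sub_odd hao odd_one
  have hteven : Even t := by
    rcases Nat.even_mul.mp hte with h | h
    · exact absurd h (Nat.not_even_iff_odd.mpr heo)
    · exact h
  obtain ⟨s, hs⟩ := hteven
  have hs1 : 1 ≤ s := by omega
  have h2 : 2 * e ≤ e * t := by
    rw [hs]
    nlinarith
  omega

theorem dvd_pred_of_dvd_pred_mul {e a b : ℕ} (ha : 1 ≤ a) (hb : 1 ≤ b) (h1 : e ∣ a - 1)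
    (h2 : e ∣ a * b - 1) : e ∣ b - 1 := by
  obtain ⟨a', rfl⟩ : ∃ a', a = a' + 1 := ⟨a - 1, by omega⟩
  obtain ⟨b', rfl⟩ : ∃ b', b = b' + 1 := ⟨b - 1, by omega⟩
  simp only [Nat.add_sub_cancel] at h1 ⊢
  have h3 : (a' + 1) * (b' + 1) - 1 = b' * (a' + 1) + a' := by
    have h4 : (a' + 1) * (b' + 1) = b' * (a' + 1) + a' + 1 := by ring
    omega
  rw [h3] at h2
  have h4 : e ∣ b' * (a' + 1) := (Nat.dvd_add_iff_left h1).mpr h2
  have hcop : Nat.Coprime e (a' + 1) := by
    have hg : Nat.gcd e (a' + 1) ∣ 1 := by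
      have g1 : Nat.gcd e (a' + 1) ∣ a' + 1 := Nat.gcd_dvd_right _ _
      have g2 : Nat.gcd e (a' + 1) ∣ a' := (Nat.gcd_dvd_left _ _).trans h1
      exact (Nat.dvd_add_iff_right g2).mpr g1
    exact Nat.eq_one_of_dvd_one hg
  exact hcop.dvd_of_dvd_mul_right h4

section
variable {L : Type*} [Group L] [Finite L]

theorem frob_bound_of_between (K H₁ N : Subgroup L) [K.Normal] [H₁.Normal] [N.Normal]
    (hodd : Odd (Nat.card L)) (hH₁N : H₁ < N) (hNK : N < K) (hcomm : ⁅K, K⁆ ≤ H₁)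
    (hfrob : ∀ k ∈ K, k ∉ H₁ → ∀ x : L, x * k * x⁻¹ * k⁻¹ ∈ H₁ → x ∈ K) :
    4 * K.index ^ 2 + 1 < H₁.relIndex K := by
  have h1 := frob_index_dvd K H₁ N hNK.le hcomm hfrob
  have h2 := frob_index_dvd K H₁ K le_rfl hcomm hfrob
  have hab : H₁.relIndex K = H₁.relIndex N * N.relIndex K :=
    (Subgroup.relIndex_mul_relIndex H₁ N K hH₁N.le hNK.le).symm
  have ha0 : H₁.relIndex N ≠ 0 := Subgroup.index_ne_zero_of_finite
  have hb0 : N.relIndex K ≠ 0 := Subgroup.index_ne_zero_of_finite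
  have ha1 : H₁.relIndex N ≠ 1 := by
    intro h
    exact hH₁N.not_ge (Subgroup.relIndex_eq_one.mp h)
  have hb1 : N.relIndex K ≠ 1 := by
    intro h
    exact hNK.not_ge (Subgroup.relIndex_eq_one.mp h)
  rw [hab] at h2
  have h3 : K.index ∣ N.relIndex K - 1 :=
    dvd_pred_of_dvd_pred_mul (by omega) (by omega) h1 h2
  have hed : K.index ∣ Nat.card L := Subgroup.index_dvd_card K
  have had : H₁.relIndex N ∣ Nat.card L :=
    (Subgroup.relIndex_dvd_card H₁ N).trans (Subgroup.card_subgroup_dvd_card N)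
  have hbd : N.relIndex K ∣ Nat.card L :=
    (Subgroup.relIndex_dvd_card N K).trans (Subgroup.card_subgroup_dvd_card K)
  have hA := two_mul_add_one_le_of_dvd hodd hed had (by omega) h1
  have hB := two_mul_add_one_le_of_dvd hodd hed hbd (by omega) h3
  have he0 : K.index ≠ 0 := Subgroup.index_ne_zero_of_finite
  rw [hab]
  have he1 : 1 ≤ K.index := Nat.one_le_iff_ne_zero.mpr he0
  nlinarith [Nat.mul_le_mul hA hB]

end

end Cfsg.Agent.Lib.Helper26
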