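import Mathlib
import Cfsg.Agent.Lib.Helper17.LowerCentral

/-!
# Nilpotent quotients and their abelianizations (helper26)

* `exists_surjective_hom_sylow`: a finite nilpotent group projects onto each Sylow subgroup.
* `prime_eq_of_dvd_card_of_pow_mem_commutator`: a finite nilpotent group whose abelianization is a
  `p`-group is a `p`-group.
* `comap_commutator_quotient`, `index_commutator_quotient`: the commutator subgroup of `K/M`.
* `exists_between_of_index`, `exists_between_of_not_prime_power`: intermediate normal subgroups.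
* `commutator_le_of_relIndex_prime`.
-/

set_option autoImplicit false

namespace Cfsg.Agent.Lib.Helper26
open scoped commutatorElement

theorem exists_surjective_hom_sylow {H : Type*} [Group H] [Finite H] [hn : Group.IsNilpotent H]
    (q : ℕ) [Fact q.Prime] (hq : q ∣ Nat.card H) (Q : Sylow q H) :
    ∃ f : H →* ↥(Q : Subgroup H), Function.Surjective f := by
  classical
  obtain ⟨e⟩ := ((Group.isNilpotent_of_finite_tfae (G := H)).out 0 4).mp hn
  have hqm : q ∈ (Nat.card H).primeFactors :=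
    Nat.mem_primeFactors.mpr ⟨Fact.out, hq, Nat.card_pos.ne'⟩
  let f1 : (∀ p : (Nat.card H).primeFactors, ∀ P : Sylow p H, ↥(P : Subgroup H)) →*
      (∀ P : Sylow q H, ↥(P : Subgroup H)) :=
    Pi.evalMonoidHom (fun p : (Nat.card H).primeFactors => ∀ P : Sylow p H, ↥(P : Subgroup H))
      ⟨q, hqm⟩
  let f2 : (∀ P : Sylow q H, ↥(P : Subgroup H)) →* ↥(Q : Subgroup H) :=
    Pi.evalMonoidHom (fun P : Sylow q H => ↥(P : Subgroup H)) Q
  refine ⟨f2.comp (f1.comp e.symm.toMonoidHom), ?_⟩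
  intro y
  refine ⟨e (Pi.mulSingle (⟨q, hqm⟩ : (Nat.card H).primeFactors)
    (Pi.mulSingle (M := fun P : Sylow q H => ↥(P : Subgroup H)) Q y)), ?_⟩
  show f2 (f1 (e.symm (e _))) = y
  rw [MulEquiv.symm_apply_apply]
  show (Pi.mulSingle (⟨q, hqm⟩ : (Nat.card H).primeFactors)
    (Pi.mulSingle (M := fun P : Sylow q H => ↥(P : Subgroup H)) Q y) :
      ∀ p : (Nat.card H).primeFactors, ∀ P : Sylow p H, ↥(P : Subgroup H)) ⟨q, hqm⟩ Q = y
  rw [Pi.mulSingle_eq_same, Pi.mulSingle_eq_same]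

theorem prime_eq_of_dvd_card_of_pow_mem_commutator {H : Type*} [Group H] [Finite H]
    [hn : Group.IsNilpotent H] {p a : ℕ} (hp : p.Prime)
    (hpow : ∀ x : H, x ^ (p ^ a) ∈ commutator H)
    {q : ℕ} (hq : q.Prime) (hqd : q ∣ Nat.card H) : q = p := by
  by_contra hne
  haveI : Fact q.Prime := ⟨hq⟩
  obtain ⟨Q, -⟩ : ∃ Q : Sylow q H, Q = default := ⟨_, rfl⟩
  obtain ⟨f, hf⟩ := exists_surjective_hom_sylow q hqd Q
  have hQne : (Q : Subgroup H) ≠ ⊥ := Q.ne_bot_of_dvd_card hqd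
  haveI : Nontrivial ↥(Q : Subgroup H) := (Subgroup.nontrivial_iff_ne_bot _).mpr hQne
  have hcardQ : Nat.card ↥(Q : Subgroup H) = q ^ (Nat.card H).factorization q :=
    Q.card_eq_multiplicity
  have hcop : Nat.gcd (p ^ a) (Nat.card ↥(Q : Subgroup H)) = 1 := by
    rw [hcardQ]
    exact Nat.Coprime.pow _ _ ((Nat.coprime_primes hp hq).mpr (fun h => hne h.symm))
  have hall : ∀ y : ↥(Q : Subgroup H), y ∈ commutator ↥(Q : Subgroup H) := by
    intro y
    obtain ⟨x, rfl⟩ := hf y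
    have h1 : f (x ^ (p ^ a)) ∈ commutator ↥(Q : Subgroup H) := by
      have h2 : (commutator H).map f ≤ commutator ↥(Q : Subgroup H) := by
        rw [commutator_def, commutator_def, Subgroup.map_commutator]
        exact Subgroup.commutator_mono le_top le_top
      exact h2 (Subgroup.mem_map_of_mem f (hpow x))
    rw [map_pow] at h1
    have hy1 : (QuotientGroup.mk (f x) :
        ↥(Q : Subgroup H) ⧸ commutator ↥(Q : Subgroup H)) ^ (p ^ a) = 1 := by
      rw [← QuotientGroup.mk_pow]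
      exact (QuotientGroup.eq_one_iff _).mpr h1
    have hy2 : (QuotientGroup.mk (f x) :
        ↥(Q : Subgroup H) ⧸ commutator ↥(Q : Subgroup H)) ^ (Nat.card ↥(Q : Subgroup H)) = 1 := by
      rw [← QuotientGroup.mk_pow, pow_card_eq_one']
      rfl
    have hd : orderOf (QuotientGroup.mk (f x) :
        ↥(Q : Subgroup H) ⧸ commutator ↥(Q : Subgroup H)) ∣ 1 := by
      have h3 := Nat.dvd_gcd (orderOf_dvd_of_pow_eq_one hy1) (orderOf_dvd_of_pow_eq_one hy2)
      rwa [hcop] at h3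
    have h3 : (QuotientGroup.mk (f x) :
        ↥(Q : Subgroup H) ⧸ commutator ↥(Q : Subgroup H)) = 1 :=
      orderOf_eq_one_iff.mp (Nat.dvd_one.mp hd)
    exact (QuotientGroup.eq_one_iff _).mp h3
  have htop : commutator ↥(Q : Subgroup H) = ⊤ := by
    rw [eq_top_iff]
    intro y _
    exact hall y
  have hlt := IsSolvable.commutator_lt_top_of_nontrivial ↥(Q : Subgroup H)
  exact hlt.ne htop

section
variable {L : Type*} [Group L]

theorem comap_commutator_quotient (K M : Subgroup L) [K.Normal] (hMK : M ≤ K)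
    [(M.subgroupOf K).Normal] :
    (commutator (↥K ⧸ M.subgroupOf K)).comap (QuotientGroup.mk' (M.subgroupOf K)) =
      (⁅K, K⁆ ⊔ M).subgroupOf K := by
  have h1 : commutator (↥K ⧸ M.subgroupOf K) =
      (commutator ↥K).map (QuotientGroup.mk' (M.subgroupOf K)) := by
    rw [commutator_def, commutator_def, Subgroup.map_commutator,
      Subgroup.map_top_of_surjective _ (QuotientGroup.mk'_surjective _)]
  rw [h1, Subgroup.comap_map_eq, QuotientGroup.ker_mk']
  have hKK : ⁅K, K⁆ ≤ K := Subgroup.commutator_le_left K K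
  rw [Subgroup.subgroupOf_sup hKK hMK]
  congr 1
  have h2 := Subgroup.map_subtype_commutator K
  rw [← h2]
  exact (Subgroup.comap_map_eq_self_of_injective K.subtype_injective _).symm

theorem index_commutator_quotient (K M : Subgroup L) [K.Normal] (hMK : M ≤ K)
    [(M.subgroupOf K).Normal] :
    (commutator (↥K ⧸ M.subgroupOf K)).index = (⁅K, K⁆ ⊔ M).relIndex K := by
  rw [← Subgroup.index_comap_of_surjective (commutator (↥K ⧸ M.subgroupOf K))
    (QuotientGroup.mk'_surjective (M.subgroupOf K)), comap_commutator_quotient K M hMK]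
  rfl

theorem commutator_le_of_relIndex_prime [Finite L] (K M : Subgroup L) [K.Normal] (hMK : M ≤ K)
    [(M.subgroupOf K).Normal]
    (hnil : Group.IsNilpotent (↥K ⧸ M.subgroupOf K)) {p : ℕ} (hp : p.Prime)
    (hidx : (⁅K, K⁆ ⊔ M).relIndex K = p) : ⁅K, K⁆ ≤ M := by
  haveI := hnil
  haveI : Fact p.Prime := ⟨hp⟩
  have hcard : Nat.card ((↥K ⧸ M.subgroupOf K) ⧸ commutator (↥K ⧸ M.subgroupOf K)) = p := by
    rw [← Subgroup.index_eq_card, index_commutator_quotient K M hMK, hidx]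
  haveI : IsCyclic ((↥K ⧸ M.subgroupOf K) ⧸ commutator (↥K ⧸ M.subgroupOf K)) :=
    isCyclic_of_prime_card hcard
  have h1 := Cfsg.Agent.Lib.Helper17.commutator_eq_bot_of_isCyclic_quotient
    (G := ↥K ⧸ M.subgroupOf K)
  have h2 := comap_commutator_quotient K M hMK
  rw [h1, MonoidHom.comap_bot, QuotientGroup.ker_mk'] at h2
  have hKK : ⁅K, K⁆ ≤ K := Subgroup.commutator_le_left K K
  have hle : ⁅K, K⁆ ⊔ M ≤ K := sup_le hKK hMK
  have h3 : ⁅K, K⁆ ⊔ M ≤ M := by
    intro x hx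
    have hxK : x ∈ K := hle hx
    have h4 : (⟨x, hxK⟩ : ↥K) ∈ (⁅K, K⁆ ⊔ M).subgroupOf K := Subgroup.mem_subgroupOf.mpr hx
    rw [← h2] at h4
    exact Subgroup.mem_subgroupOf.mp h4
  exact le_sup_left.trans h3

theorem exists_between_of_index [Finite L] (K H₁ : Subgroup L) [hKn : K.Normal] [hHn : H₁.Normal]
    (hH₁K : H₁ ≤ K) (hcomm : ⁅K, K⁆ ≤ H₁) {p q : ℕ} (hp : p.Prime) (hq : q.Prime) (hpq : p ≠ q)
    (hpd : p ∣ H₁.relIndex K) (hqd : q ∣ H₁.relIndex K) :
    ∃ N : Subgroup L, N.Normal ∧ H₁ < N ∧ N < K := by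
  classical
  have hn0 : H₁.relIndex K ≠ 0 := Subgroup.index_ne_zero_of_finite
  obtain ⟨a, m, hpm, hnm⟩ := Nat.exists_eq_pow_mul_and_not_dvd hn0 p hp.ne_one
  have hqm : q ∣ m := by
    rw [hnm] at hqd
    rcases (Nat.Prime.dvd_mul hq).mp hqd with h | h
    · exfalso
      have h2 := hq.dvd_of_dvd_pow h
      exact hpq ((Nat.prime_dvd_prime_iff_eq hq hp).mp h2).symm
    · exact h
  obtain ⟨π, hπ⟩ : ∃ π : L →* L ⧸ H₁, π = QuotientGroup.mk' H₁ := ⟨_, rfl⟩
  have hπ1 : ∀ x : L, π x = 1 ↔ x ∈ H₁ := by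
    intro x
    rw [hπ]
    exact QuotientGroup.eq_one_iff x
  have hcommπ : ∀ x ∈ K, ∀ y ∈ K, Commute (π x) (π y) := by
    intro x hx y hy
    have h1 : π (x * y * x⁻¹ * y⁻¹) = 1 := by
      apply (hπ1 _).mpr
      apply hcomm
      rw [← commutatorElement_def]
      exact Subgroup.commutator_mem_commutator hx hy
    rw [map_mul, map_mul, map_mul, map_inv, map_inv] at h1
    show π x * π y = π y * π x
    apply commutatorElement_eq_one_iff_mul_comm.mp
    rw [commutatorElement_def]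
    exact h1
  let N : Subgroup L :=
    { carrier := {x | x ∈ K ∧ x ^ m ∈ H₁}
      one_mem' := ⟨K.one_mem, by rw [one_pow]; exact H₁.one_mem⟩
      mul_mem' := by
        rintro x y ⟨hx, hxm⟩ ⟨hy, hym⟩
        refine ⟨K.mul_mem hx hy, ?_⟩
        apply (hπ1 _).mp
        rw [map_pow, map_mul, (hcommπ x hx y hy).mul_pow, ← map_pow, ← map_pow,
          (hπ1 _).mpr hxm, (hπ1 _).mpr hym, one_mul]
      inv_mem' := by
        rintro x ⟨hx, hxm⟩
        refine ⟨K.inv_mem hx, ?_⟩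
        rw [inv_pow]
        exact H₁.inv_mem hxm }
  have hNmem : ∀ x, x ∈ N ↔ x ∈ K ∧ x ^ m ∈ H₁ := fun x => Iff.rfl
  have hNn : N.Normal := by
    refine ⟨fun x hx g => ?_⟩
    rw [hNmem] at hx ⊢
    refine ⟨hKn.conj_mem x hx.1 g, ?_⟩
    rw [conj_pow]
    exact hHn.conj_mem _ hx.2 g
  have hH₁N : H₁ ≤ N := fun x hx => (hNmem x).mpr ⟨hH₁K hx, H₁.pow_mem hx m⟩
  have hNK : N ≤ K := fun x hx => ((hNmem x).mp hx).1
  have hcardA : Nat.card (↥K ⧸ H₁.subgroupOf K) = H₁.relIndex K :=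
    (Subgroup.index_eq_card (H₁.subgroupOf K)).symm
  haveI : Fact p.Prime := ⟨hp⟩
  haveI : Fact q.Prime := ⟨hq⟩
  obtain ⟨zbar, hz⟩ := exists_prime_orderOf_dvd_card' (G := ↥K ⧸ H₁.subgroupOf K) p
    (by rw [hcardA]; exact hpd)
  obtain ⟨ybar, hy⟩ := exists_prime_orderOf_dvd_card' (G := ↥K ⧸ H₁.subgroupOf K) q
    (by rw [hcardA]; exact hqd)
  obtain ⟨z, rfl⟩ := QuotientGroup.mk_surjective zbar
  obtain ⟨y, rfl⟩ := QuotientGroup.mk_surjective ybar
  have hmem_iff : ∀ (w : ↥K) (j : ℕ),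
      (QuotientGroup.mk w : ↥K ⧸ H₁.subgroupOf K) ^ j = 1 ↔ (w : L) ^ j ∈ H₁ := by
    intro w j
    rw [← QuotientGroup.mk_pow, QuotientGroup.eq_one_iff, Subgroup.mem_subgroupOf]
    rfl
  refine ⟨N, hNn, lt_of_le_of_ne hH₁N ?_, lt_of_le_of_ne hNK ?_⟩
  · intro hEq
    have hyq : (y : L) ^ q ∈ H₁ := by
      rw [← hmem_iff, ← hy]
      exact pow_orderOf_eq_one _
    have hyN : (y : L) ∈ N := by
      rw [hNmem]
      refine ⟨y.2, ?_⟩
      obtain ⟨c, hc⟩ := hqm
      rw [hc, pow_mul]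
      exact H₁.pow_mem hyq c
    rw [← hEq] at hyN
    have h1 : (QuotientGroup.mk y : ↥K ⧸ H₁.subgroupOf K) ^ 1 = 1 := by
      rw [hmem_iff, pow_one]
      exact hyN
    have h2 := orderOf_dvd_of_pow_eq_one h1
    rw [hy] at h2
    exact hq.one_lt.ne' (Nat.dvd_one.mp h2)
  · intro hEq
    have hzN : (z : L) ∈ N := by
      rw [hEq]
      exact z.2
    rw [hNmem] at hzN
    have h1 : (QuotientGroup.mk z : ↥K ⧸ H₁.subgroupOf K) ^ m = 1 := (hmem_iff z m).mpr hzN.2
    have h2 := orderOf_dvd_of_pow_eq_one h1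
    rw [hz] at h2
    exact hpm h2

theorem exists_between_of_not_prime_power [Finite L] (K M : Subgroup L) [K.Normal] [M.Normal]
    (hMK : M ≤ K) [(M.subgroupOf K).Normal]
    (hnil : Group.IsNilpotent (↥K ⧸ M.subgroupOf K))
    (hlt : ⁅K, K⁆ ⊔ M < K)
    (hnpp : ¬ ∃ p m : ℕ, p.Prime ∧ M.relIndex K = p ^ m) :
    ∃ N : Subgroup L, N.Normal ∧ ⁅K, K⁆ ⊔ M < N ∧ N < K := by
  classical
  haveI := hnil
  have hn0 : (⁅K, K⁆ ⊔ M).relIndex K ≠ 0 := Subgroup.index_ne_zero_of_finite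
  have hn1 : (⁅K, K⁆ ⊔ M).relIndex K ≠ 1 := by
    intro h
    exact hlt.not_ge (Subgroup.relIndex_eq_one.mp h)
  obtain ⟨p, hp, hpd⟩ := Nat.exists_prime_and_dvd hn1
  have hex : ∃ q : ℕ, q.Prime ∧ q ∣ (⁅K, K⁆ ⊔ M).relIndex K ∧ p ≠ q := by
    by_contra hcon
    push_neg at hcon
    have hpow : (⁅K, K⁆ ⊔ M).relIndex K =
        p ^ ((⁅K, K⁆ ⊔ M).relIndex K).primeFactorsList.length :=
      Nat.eq_prime_pow_of_unique_prime_dvd hn0 (fun {d} hd hdd => (hcon d hd hdd).symm)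
    obtain ⟨a, ha⟩ : ∃ a : ℕ, (⁅K, K⁆ ⊔ M).relIndex K = p ^ a := ⟨_, hpow⟩
    have hpowmem : ∀ x : ↥K ⧸ M.subgroupOf K, x ^ (p ^ a) ∈ commutator (↥K ⧸ M.subgroupOf K) := by
      intro x
      have h1 := Subgroup.pow_index_mem (commutator (↥K ⧸ M.subgroupOf K)) x
      rw [index_commutator_quotient K M hMK, ha] at h1
      exact h1
    apply hnpp
    refine ⟨p, (Nat.card (↥K ⧸ M.subgroupOf K)).primeFactorsList.length, hp, ?_⟩
    have hcard : M.relIndex K = Nat.card (↥K ⧸ M.subgroupOf K) :=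
      Subgroup.index_eq_card (M.subgroupOf K)
    rw [hcard]
    apply Nat.eq_prime_pow_of_unique_prime_dvd Nat.card_pos.ne'
    intro d hd hdd
    exact prime_eq_of_dvd_card_of_pow_mem_commutator hp hpowmem hd hdd
  obtain ⟨q, hq, hqd, hpq⟩ := hex
  have hKK : ⁅K, K⁆ ≤ K := Subgroup.commutator_le_left K K
  exact exists_between_of_index K (⁅K, K⁆ ⊔ M) (sup_le hKK hMK) le_sup_left hp hq hpq hpd hqd

end

end Cfsg.Agent.Lib.Helper26
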