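import Cfsg.Agent.Lib.Helper26.ZSpan

/-!
# Tools for coherence arguments (helper26)

* `genChar_norm_nat`: the norm of a generalized character is a natural number, zero only for `0`.
* `norm_sub_proj`: Bessel-type identity for an orthonormal family with integer coefficients.
* `exists_glue`: a family of generalized characters `F ξ` orthonormal along a set `Z` of irreducible
  characters extends to an everywhere additive map that is a linear isometry on `zspan Z`.
-/

namespace Cfsg.Agent.Lib.Helper26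
open Cfsg
open scoped ComplexConjugate

section
variable {G : Type*} [Group G] [Fintype G]

theorem genChar_norm_nat {X : G → ℂ} (hX : IsGeneralizedCharacter G X) :
    ∃ n : ℕ, classInner X X = (n : ℂ) ∧ (n = 0 → X = 0) := by
  classical
  haveI : Fintype (IrrCharacter G) := Fintype.ofFinite _
  obtain ⟨c, hc⟩ := exists_int_coeff hX
  have hn := genChar_norm hX c hc
  have h0 : 0 ≤ ∑ μ : IrrCharacter G, (c μ) ^ 2 := Finset.sum_nonneg (fun μ _ => sq_nonneg _)
  refine ⟨(∑ μ : IrrCharacter G, (c μ) ^ 2).toNat, ?_, ?_⟩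
  · rw [hn]
    have : ((∑ μ : IrrCharacter G, (c μ) ^ 2 : ℤ) : ℂ) =
        (((∑ μ : IrrCharacter G, (c μ) ^ 2).toNat : ℤ) : ℂ) := by
      rw [Int.toNat_of_nonneg h0]
    rw [this, Int.cast_natCast]
  · intro h
    have hs : ∑ μ : IrrCharacter G, (c μ) ^ 2 = 0 := by omega
    have hz : ∀ μ, c μ = 0 := by
      intro μ
      have := (Finset.sum_eq_zero_iff_of_nonneg (fun μ _ => sq_nonneg (c μ))).mp hs μ
        (Finset.mem_univ _)
      exact pow_eq_zero_iff (two_ne_zero) |>.mp this
    rw [genChar_expansion hX c hc]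
    simp [hz]

theorem norm_sub_proj {ι : Type*} [DecidableEq ι] (s : Finset ι) (e : ι → G → ℂ)
    (he : ∀ i ∈ s, ∀ j ∈ s, classInner (e i) (e j) = if i = j then 1 else 0)
    (Δ : G → ℂ) (b : ι → ℤ) (hb : ∀ i ∈ s, classInner Δ (e i) = b i) :
    classInner (Δ - ∑ i ∈ s, b i • e i) (Δ - ∑ i ∈ s, b i • e i) =
        classInner Δ Δ - ∑ i ∈ s, ((b i : ℂ)) ^ 2 ∧
      ∀ j ∈ s, classInner (Δ - ∑ i ∈ s, b i • e i) (e j) = 0 := by
  have h2 : ∀ j ∈ s, classInner (Δ - ∑ i ∈ s, b i • e i) (e j) = 0 := by
    intro j hj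
    rw [classInner_sub_left, classInner_sum_left, hb j hj]
    have : ∑ i ∈ s, classInner (b i • e i) (e j) = ∑ i ∈ s, if i = j then (b i : ℂ) else 0 := by
      apply Finset.sum_congr rfl
      intro i hi
      rw [classInner_zsmul_left, he i hi j hj]
      split_ifs <;> simp
    rw [this, Finset.sum_ite_eq' s j, if_pos hj, sub_self]
  refine ⟨?_, h2⟩
  have h3 : classInner (Δ - ∑ i ∈ s, b i • e i) (∑ i ∈ s, b i • e i) = 0 := by
    rw [classInner_sum_right]
    apply Finset.sum_eq_zero
    intro i hi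
    rw [classInner_zsmul_right, h2 i hi, mul_zero]
  rw [classInner_sub_right, h3, sub_zero, classInner_sub_left, classInner_sum_left]
  congr 1
  apply Finset.sum_congr rfl
  intro i hi
  rw [classInner_zsmul_left, ← classInner_conj_symm, hb i hi, map_intCast]
  ring

end

section Glue
variable {L : Type*} [Group L] [Fintype L] {G : Type*} [Group G] [Fintype G]

theorem exists_glue (Z : Set (L → ℂ)) (hZ : ∀ ξ ∈ Z, IsIrrCharacter L ξ)
    (F : (L → ℂ) → (G → ℂ)) (hFgen : ∀ ξ ∈ Z, IsGeneralizedCharacter G (F ξ))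
    (hFortho : ∀ ξ ∈ Z, ∀ ξ' ∈ Z, classInner (F ξ) (F ξ') = classInner ξ ξ') :
    ∃ T : (L → ℂ) → (G → ℂ), (∀ a b, T (a + b) = T a + T b) ∧
      (∀ (n : ℤ) a, T (n • a) = n • T a) ∧ (∀ ξ, IsIrrCharacter L ξ → T ξ = F ξ) ∧
      IsLinearIsometryOn (zspan Z) T := by
  classical
  haveI : Fintype (IrrCharacter L) := Fintype.ofFinite _
  obtain ⟨T, hT⟩ : ∃ T : (L → ℂ) → (G → ℂ),
      T = fun θ => ∑ ξ : IrrCharacter L, classInner θ (ξ : L → ℂ) • F ξ := ⟨_, rfl⟩
  have hTadd : ∀ a b, T (a + b) = T a + T b := by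
    intro a b
    rw [hT]
    show ∑ ξ : IrrCharacter L, classInner (a + b) (ξ : L → ℂ) • F ξ =
      ∑ ξ : IrrCharacter L, classInner a (ξ : L → ℂ) • F ξ +
      ∑ ξ : IrrCharacter L, classInner b (ξ : L → ℂ) • F ξ
    rw [← Finset.sum_add_distrib]
    apply Finset.sum_congr rfl
    intro ξ _
    rw [classInner_add_left, add_smul]
  have hTsmul : ∀ (n : ℤ) a, T (n • a) = n • T a := by
    intro n a
    rw [hT]
    show ∑ ξ : IrrCharacter L, classInner (n • a) (ξ : L → ℂ) • F ξ =
      n • ∑ ξ : IrrCharacter L, classInner a (ξ : L → ℂ) • F ξ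
    rw [Finset.smul_sum]
    apply Finset.sum_congr rfl
    intro ξ _
    rw [classInner_zsmul_left, mul_smul, Int.cast_smul_eq_zsmul]
  have hT0 : T 0 = 0 := by
    have h := hTsmul 0 0
    simpa using h
  have hTirr : ∀ ξ₀ : L → ℂ, IsIrrCharacter L ξ₀ → T ξ₀ = F ξ₀ := by
    intro ξ₀ h
    rw [hT]
    show ∑ ξ : IrrCharacter L, classInner ξ₀ (ξ : L → ℂ) • F ξ = F ξ₀
    rw [Finset.sum_eq_single (⟨ξ₀, h⟩ : IrrCharacter L)]
    · rw [classInner_irr h h, if_pos rfl, one_smul]
    · intro ξ _ hne
      rw [classInner_irr h ξ.2, if_neg, zero_smul]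
      intro heq; exact hne (Subtype.ext heq.symm)
    · intro h'; exact absurd (Finset.mem_univ _) h'
  refine ⟨T, hTadd, hTsmul, hTirr, fun a _ b _ => hTadd a b, fun a _ n => hTsmul n a, ?_, ?_⟩
  · intro a ha
    induction ha using Submodule.span_induction with
    | mem x hx =>
      intro b hb
      induction hb using Submodule.span_induction with
      | mem y hy =>
        rw [hTirr x (hZ x hx), hTirr y (hZ y hy)]
        exact hFortho x hx y hy
      | zero => rw [hT0, classInner_zero_right, classInner_zero_right]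
      | add y z hy hz ihy ihz =>
        rw [hTadd, classInner_add_right, classInner_add_right, ihy, ihz]
      | smul n y hy ih =>
        rw [hTsmul, classInner_zsmul_right, classInner_zsmul_right, ih]
    | zero =>
      intro b hb
      rw [hT0, classInner_zero_left, classInner_zero_left]
    | add x y hx hy ihx ihy =>
      intro b hb
      rw [hTadd, classInner_add_left, classInner_add_left, ihx b hb, ihy b hb]
    | smul n x hx ih =>
      intro b hb
      rw [hTsmul, classInner_zsmul_left, classInner_zsmul_left, ih b hb]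
  · intro a ha
    induction ha using Submodule.span_induction with
    | mem x hx =>
      rw [hTirr x (hZ x hx)]
      exact hFgen x hx
    | zero => rw [hT0]; exact isGeneralizedCharacter_zero
    | add x y _ _ ihx ihy => rw [hTadd]; exact isGeneralizedCharacter_add ihx ihy
    | smul n x _ ih => rw [hTsmul]; exact isGeneralizedCharacter_zsmul ih n

end Glue

end Cfsg.Agent.Lib.Helper26
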