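import Mathlib

/-!
# Commutator map with a fixed-point-free element is onto (helper26)

`comm_surj`: if `M ⊴ G` is finite and `r` centralizes no non-identity element of `M`, every element of
`M` has the form `y r y⁻¹ r⁻¹` with `y ∈ M`.
-/

namespace Cfsg.Agent.Lib.Helper26

theorem comm_surj {G : Type*} [Group G] [Finite G] (M : Subgroup G) [hM : M.Normal] (r : G)
    (hfix : ∀ y ∈ M, r * y = y * r → y = 1) : ∀ m ∈ M, ∃ y ∈ M, y * r * y⁻¹ * r⁻¹ = m := by
  have hmem : ∀ y : M, (y : G) * r * (y : G)⁻¹ * r⁻¹ ∈ M := by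
    intro y
    have h1 : r * (y : G)⁻¹ * r⁻¹ ∈ M := hM.conj_mem _ (M.inv_mem y.2) r
    have : (y : G) * r * (y : G)⁻¹ * r⁻¹ = (y : G) * (r * (y : G)⁻¹ * r⁻¹) := by group
    rw [this]; exact M.mul_mem y.2 h1
  let f : M → M := fun y => ⟨(y : G) * r * (y : G)⁻¹ * r⁻¹, hmem y⟩
  have hinj : Function.Injective f := by
    intro y z hyz
    have h1 : (y : G) * r * (y : G)⁻¹ * r⁻¹ = (z : G) * r * (z : G)⁻¹ * r⁻¹ :=
      congrArg Subtype.val hyz
    have h2 : (y : G) * r * (y : G)⁻¹ = (z : G) * r * (z : G)⁻¹ := mul_right_cancel h1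
    have h3 : r * ((z : G)⁻¹ * y) = ((z : G)⁻¹ * y) * r := by
      calc r * ((z : G)⁻¹ * y) = (z : G)⁻¹ * ((z : G) * r * (z : G)⁻¹) * y := by group
        _ = (z : G)⁻¹ * ((y : G) * r * (y : G)⁻¹) * y := by rw [h2]
        _ = ((z : G)⁻¹ * y) * r := by group
    have h4 := hfix _ (M.mul_mem (M.inv_mem z.2) y.2) h3
    apply Subtype.ext
    exact (inv_mul_eq_one.mp h4).symm
  have hsurj := Finite.injective_iff_surjective.mp hinj
  intro m hm
  obtain ⟨y, hy⟩ := hsurj ⟨m, hm⟩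
  exact ⟨y, y.2, congrArg Subtype.val hy⟩

end Cfsg.Agent.Lib.Helper26
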