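import Mathlib
import Cfsg.Agent.Lib.Helper28.SLn
import Cfsg.Agent.Lib.Helper24.TransvConj

/-!
# The action of `SL_n(F)` on the non-zero vectors and on pairs of them (helper26)
-/

set_option autoImplicit false

namespace Cfsg.Agent.Lib.Helper26.SLW
open Matrix

section field
variable {n : ℕ} {F : Type*} [Field F]

local notation "SLn" => Matrix.SpecialLinearGroup (Fin n) F

theorem tv_smul_apply {i j : Fin n} (hij : i ≠ j) (b : F) (v : Fin n → F) (l : Fin n) :
    ((Matrix.SpecialLinearGroup.transvection hij b : SLn) • v) l =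
      v l + if l = i then b * v j else 0 :=
  Cfsg.Agent.Lib.Helper28.transvection_mulVec_apply hij b v l

/-- make the coordinate `i₀` equal to one, using only the columns in `J` -/
theorem exists_coord_one {i₀ k₀ : Fin n} (hik : i₀ ≠ k₀) (J : Fin n → Prop) (hi : J i₀)
    (hk : J k₀) (w : Fin n → F) (hw : ∃ j, J j ∧ w j ≠ 0) :
    ∃ g : SLn, (∀ s, ¬ J s → g • (Pi.single s 1 : Fin n → F) = Pi.single s 1) ∧
      (g • w) i₀ = 1 := by
  classical
  have fixS : ∀ (i j : Fin n) (hij : i ≠ j) (c : F) (s : Fin n), J j → ¬ J s →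
      (Matrix.SpecialLinearGroup.transvection hij c : SLn) • (Pi.single s 1 : Fin n → F) =
        Pi.single s 1 := by
    intro i j hij c s hj hs
    funext l
    rw [tv_smul_apply]
    have hsj : j ≠ s := fun h => hs (h ▸ hj)
    rw [Pi.single_eq_of_ne hsj, mul_zero]
    simp
  have step : ∀ (w : Fin n → F) (j : Fin n), J j → j ≠ i₀ → w j ≠ 0 →
      ∃ g : SLn, (∀ s, ¬ J s → g • (Pi.single s 1 : Fin n → F) = Pi.single s 1) ∧
        (g • w) i₀ = 1 := by
    intro w j hj hji hwj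
    refine ⟨Matrix.SpecialLinearGroup.transvection hji.symm ((1 - w i₀) / w j), ?_, ?_⟩
    · intro s hs
      exact fixS _ _ _ _ s hj hs
    · rw [tv_smul_apply, if_pos rfl]
      field_simp
      ring
  by_cases hex : ∃ j, J j ∧ j ≠ i₀ ∧ w j ≠ 0
  · obtain ⟨j, hj, hji, hwj⟩ := hex
    exact step w j hj hji hwj
  · have hwi : w i₀ ≠ 0 := by
      obtain ⟨j, hj, hwj⟩ := hw
      by_cases hji : j = i₀
      · rw [← hji]
        exact hwj
      · exact absurd ⟨j, hj, hji, hwj⟩ hex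
    have hwk : w k₀ = 0 := by
      by_contra h
      exact hex ⟨k₀, hk, hik.symm, h⟩
    have h1 : ((Matrix.SpecialLinearGroup.transvection hik.symm 1 : SLn) • w) k₀ ≠ 0 := by
      rw [tv_smul_apply, if_pos rfl, hwk, zero_add, one_mul]
      exact hwi
    obtain ⟨g₂, hg₂, hg₂'⟩ := step _ k₀ hk hik.symm h1
    refine ⟨g₂ * Matrix.SpecialLinearGroup.transvection hik.symm 1, ?_, ?_⟩
    · intro s hs
      rw [mul_smul, fixS _ _ _ _ s hi hs, hg₂ s hs]
    · rw [mul_smul]
      exact hg₂'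

/-- a vector with coordinate `i₀` equal to one is moved to `e_{i₀}`, fixing the other `e_s` -/
theorem exists_to_single {i₀ : Fin n} (w : Fin n → F) (hw : w i₀ = 1) :
    ∃ g : SLn, (∀ s, s ≠ i₀ → g • (Pi.single s 1 : Fin n → F) = Pi.single s 1) ∧
      g • w = Pi.single i₀ 1 := by
  classical
  have hdet : (1 + vecMulVec (-(w - Pi.single i₀ 1)) (Pi.single i₀ 1) :
      Matrix (Fin n) (Fin n) F).det = 1 := by
    rw [Cfsg.Agent.Lib.Helper24.det_one_add_vecMulVec, single_one_dotProduct]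
    simp [hw]
  obtain ⟨g₀, hg₀⟩ : ∃ g₀ : SLn, (g₀ : Matrix (Fin n) (Fin n) F) =
      1 + vecMulVec (-(w - Pi.single i₀ 1)) (Pi.single i₀ 1) := ⟨⟨_, hdet⟩, rfl⟩
  have hact : ∀ (x : Fin n → F) (l : Fin n),
      (g₀ • x) l = x l - (w l - (Pi.single i₀ 1 : Fin n → F) l) * x i₀ := by
    intro x l
    show ((g₀ : Matrix (Fin n) (Fin n) F) *ᵥ x) l = _
    rw [hg₀, Matrix.add_mulVec, Matrix.one_mulVec, Pi.add_apply, vecMulVec_mulVec,
      single_one_dotProduct, Pi.smul_apply, MulOpposite.smul_eq_mul_unop, MulOpposite.unop_op,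
      Pi.neg_apply, Pi.sub_apply]
    ring
  refine ⟨g₀, ?_, ?_⟩
  · intro s hs
    funext l
    rw [hact, Pi.single_eq_of_ne hs.symm, mul_zero, sub_zero]
  · funext l
    rw [hact, hw, mul_one]
    ring

/-- moving a vector to a basis vector, fixing the basis vectors outside `J` -/
theorem exists_move {i₀ k₀ : Fin n} (hik : i₀ ≠ k₀) (J : Fin n → Prop) (hi : J i₀)
    (hk : J k₀) (w : Fin n → F) (hw : ∃ j, J j ∧ w j ≠ 0) :
    ∃ g : SLn, (∀ s, ¬ J s → g • (Pi.single s 1 : Fin n → F) = Pi.single s 1) ∧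
      g • w = Pi.single i₀ 1 := by
  obtain ⟨g₁, h₁, h₁'⟩ := exists_coord_one hik J hi hk w hw
  obtain ⟨g₂, h₂, h₂'⟩ := exists_to_single (g₁ • w) h₁'
  refine ⟨g₂ * g₁, ?_, ?_⟩
  · intro s hs
    rw [mul_smul, h₁ s hs, h₂ s (fun h => hs (h ▸ hi))]
  · rw [mul_smul]
    exact h₂'

/-- transitivity on the non-zero vectors -/
theorem exists_smul_eq_single {a b : Fin n} (hab : a ≠ b) (v : Fin n → F) (hv : v ≠ 0) :
    ∃ g : SLn, g • v = Pi.single a 1 := by
  obtain ⟨j, hj⟩ := Function.ne_iff.1 hv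
  obtain ⟨g, -, hg⟩ := exists_move hab (fun _ => True) trivial trivial v ⟨j, trivial, hj⟩
  exact ⟨g, hg⟩

/-- the stabilizer of `e_a` is transitive on the vectors outside the line of `e_a` -/
theorem exists_smul_eq_single_fix {a b c : Fin n} (hab : a ≠ b) (hac : a ≠ c) (hbc : b ≠ c)
    (w : Fin n → F) (hw : ∃ j, j ≠ a ∧ w j ≠ 0) :
    ∃ g : SLn, g • (Pi.single a 1 : Fin n → F) = Pi.single a 1 ∧ g • w = Pi.single b 1 := by
  obtain ⟨g, h1, h2⟩ := exists_move hbc (fun j => j ≠ a) hab.symm hac.symm w hw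
  exact ⟨g, h1 a (fun h => h rfl), h2⟩

end field

end Cfsg.Agent.Lib.Helper26.SLW
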