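import Mathlib
import Cfsg.Agent.Lib.Helper26.SLnTrans

/-!
# Cross-characteristic lower bound for `SL_n(q)` (helper26)

A representation of `SL_{m+1}(q)` in characteristic prime to `q`, nontrivial on the
elementary abelian group of lower unitriangular matrices with last row `a`, has degree at
least `q^m - 1`: the simultaneous eigen-projections for all nonzero characters are nonzero.
-/

set_option autoImplicit false

namespace Cfsg.Agent.Lib.Helper26.CrossChar
open Matrix

section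
variable {F : Type*} [Field F] {m : ℕ}


/-- lower unitriangular element with last row `a`. -/
def S (a : Fin m → F) : (Matrix.SpecialLinearGroup (Fin m ⊕ Fin 1) F) :=
  ⟨Matrix.fromBlocks 1 0 (Matrix.replicateRow (Fin 1) a) 1, by
    rw [Matrix.det_fromBlocks_zero₁₂]; simp⟩

/-- block diagonal embedding. -/
def Dg (g : Matrix.SpecialLinearGroup (Fin m) F) : (Matrix.SpecialLinearGroup (Fin m ⊕ Fin 1) F) :=
  ⟨Matrix.fromBlocks (g : Matrix (Fin m) (Fin m) F) 0 0 1, by
    rw [Matrix.det_fromBlocks_zero₁₂]; simp⟩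

theorem S_mul (a b : Fin m → F) : S a * S b = S (a + b) := by
  apply Subtype.ext
  rw [Matrix.SpecialLinearGroup.coe_mul]
  show Matrix.fromBlocks 1 0 (Matrix.replicateRow (Fin 1) a) 1 *
    Matrix.fromBlocks 1 0 (Matrix.replicateRow (Fin 1) b) 1 =
    Matrix.fromBlocks 1 0 (Matrix.replicateRow (Fin 1) (a + b)) 1
  rw [Matrix.fromBlocks_multiply]
  simp [Matrix.replicateRow_add]

theorem S_zero : S (0 : Fin m → F) = 1 := by
  apply Subtype.ext
  show Matrix.fromBlocks 1 0 (Matrix.replicateRow (Fin 1) (0 : Fin m → F)) 1 = 1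
  simp [Matrix.fromBlocks_one]

theorem Dg_mul (g h : Matrix.SpecialLinearGroup (Fin m) F) : Dg g * Dg h = Dg (g * h) := by
  apply Subtype.ext
  rw [Matrix.SpecialLinearGroup.coe_mul]
  show Matrix.fromBlocks (g : Matrix (Fin m) (Fin m) F) 0 0 1 *
    Matrix.fromBlocks (h : Matrix (Fin m) (Fin m) F) 0 0 1 =
    Matrix.fromBlocks ((g * h : Matrix.SpecialLinearGroup (Fin m) F) : Matrix (Fin m) (Fin m) F) 0 0 1
  rw [Matrix.fromBlocks_multiply]
  simp

theorem Dg_one : Dg (1 : Matrix.SpecialLinearGroup (Fin m) F) = 1 := by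
  apply Subtype.ext
  show Matrix.fromBlocks ((1 : Matrix.SpecialLinearGroup (Fin m) F) : Matrix (Fin m) (Fin m) F) 0 0 1 = 1
  simp [Matrix.fromBlocks_one]

theorem Dg_S (g : Matrix.SpecialLinearGroup (Fin m) F) (a : Fin m → F) :
    Dg g * S (a ᵥ* (g : Matrix (Fin m) (Fin m) F)) = S a * Dg g := by
  apply Subtype.ext
  rw [Matrix.SpecialLinearGroup.coe_mul, Matrix.SpecialLinearGroup.coe_mul]
  show Matrix.fromBlocks (g : Matrix (Fin m) (Fin m) F) 0 0 1 *
      Matrix.fromBlocks 1 0 (Matrix.replicateRow (Fin 1) (a ᵥ* (g : Matrix (Fin m) (Fin m) F))) 1 =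
    Matrix.fromBlocks 1 0 (Matrix.replicateRow (Fin 1) a) 1 *
      Matrix.fromBlocks (g : Matrix (Fin m) (Fin m) F) 0 0 1
  rw [Matrix.fromBlocks_multiply, Matrix.fromBlocks_multiply]
  simp [Matrix.replicateRow_vecMul]

variable [Fintype F] [DecidableEq F]
variable {K' : Type*} [Field K'] {d : ℕ} (ψ : AddChar F K')
  (M : (Matrix.SpecialLinearGroup (Fin m ⊕ Fin 1) F) →* Matrix (Fin d) (Fin d) K')

theorem sum_char (hψ : ψ.IsPrimitive) (z : Fin m → F) :
    ∑ a : Fin m → F, ψ (a ⬝ᵥ z) = if z = 0 then (Fintype.card F : K') ^ m else 0 := by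
  split_ifs with hz
  · subst hz
    simp [Finset.card_univ, Fintype.card_pi]
  · let χ : AddChar (Fin m → F) K' :=
      { toFun := fun a => ψ (a ⬝ᵥ z)
        map_zero_eq_one' := by simp
        map_add_eq_mul' := fun a b => by simp [add_dotProduct, AddChar.map_add_eq_mul] }
    have hχ : χ ≠ 1 := by
      obtain ⟨j, hj⟩ := Function.ne_iff.1 hz
      obtain ⟨t, ht⟩ := AddChar.ne_one_iff.1 (hψ hj)
      refine AddChar.ne_one_iff.2 ⟨Pi.single j t, ?_⟩
      show ψ (Pi.single j t ⬝ᵥ z) ≠ 1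
      rw [single_dotProduct, mul_comm]
      simpa using ht
    exact AddChar.sum_eq_zero_of_ne_one hχ

/-- the (unnormalised) eigen-projection for the character `a ↦ ψ (a ⬝ᵥ x)`. -/
noncomputable def E (x : Fin m → F) : Matrix (Fin d) (Fin d) K' :=
  ∑ a : Fin m → F, ψ (-(a ⬝ᵥ x)) • M (S a)

theorem S_mul_E (b x : Fin m → F) :
    M (S b) * E ψ M x = ψ (b ⬝ᵥ x) • E ψ M x := by
  unfold E
  rw [Finset.mul_sum, Finset.smul_sum]
  refine Fintype.sum_equiv (Equiv.addLeft b) _ _ (fun a => ?_)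
  rw [Matrix.mul_smul, ← map_mul, S_mul, smul_smul, ← AddChar.map_add_eq_mul]
  simp only [Equiv.coe_addLeft]
  congr 2
  rw [add_dotProduct]; ring

theorem E_mul_E (hψ : ψ.IsPrimitive) (x y : Fin m → F) :
    E ψ M y * E ψ M x = (if x = y then (Fintype.card F : K') ^ m else 0) • E ψ M x := by
  have h1 : E ψ M y * E ψ M x = ∑ b : Fin m → F, ψ (b ⬝ᵥ (x - y)) • E ψ M x := by
    conv_lhs => rw [E, Finset.sum_mul]
    refine Finset.sum_congr rfl (fun b _ => ?_)
    rw [Matrix.smul_mul, S_mul_E, smul_smul, ← AddChar.map_add_eq_mul]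
    congr 2
    rw [dotProduct_sub]; ring
  rw [h1, ← Finset.sum_smul, sum_char ψ hψ]
  simp only [sub_eq_zero]

theorem sum_E (hψ : ψ.IsPrimitive) :
    ∑ x : Fin m → F, E ψ M x = ((Fintype.card F : K') ^ m) • (1 : Matrix (Fin d) (Fin d) K') := by
  unfold E
  rw [Finset.sum_comm]
  have : ∀ a : Fin m → F, ∑ x : Fin m → F, ψ (-(a ⬝ᵥ x)) • M (S a) =
      (if a = 0 then (Fintype.card F : K') ^ m else 0) • M (S a) := by
    intro a
    rw [← Finset.sum_smul]
    congr 1
    have := sum_char (m := m) ψ hψ (-a)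
    simp only [neg_eq_zero] at this
    rw [← this]
    refine Finset.sum_congr rfl (fun x _ => ?_)
    rw [dotProduct_neg, dotProduct_comm]
  simp_rw [this, ite_smul, zero_smul]
  rw [Finset.sum_ite_eq' Finset.univ (0 : Fin m → F)]
  simp [S_zero]

theorem Dg_mul_E (g : Matrix.SpecialLinearGroup (Fin m) F) (x : Fin m → F) :
    M (Dg g) * E ψ M x = E ψ M (g • x) * M (Dg g) := by
  unfold E
  rw [Finset.mul_sum, Finset.sum_mul]
  let e : (Fin m → F) ≃ (Fin m → F) :=
    { toFun := fun a => a ᵥ* (g : Matrix (Fin m) (Fin m) F)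
      invFun := fun a => a ᵥ* ((g⁻¹ : Matrix.SpecialLinearGroup (Fin m) F) : Matrix (Fin m) (Fin m) F)
      left_inv := fun a => by
        simp only [Matrix.vecMul_vecMul, ← Matrix.SpecialLinearGroup.coe_mul, mul_inv_cancel,
          Matrix.SpecialLinearGroup.coe_one, Matrix.vecMul_one]
      right_inv := fun a => by
        simp only [Matrix.vecMul_vecMul, ← Matrix.SpecialLinearGroup.coe_mul, inv_mul_cancel,
          Matrix.SpecialLinearGroup.coe_one, Matrix.vecMul_one] }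
  refine (Fintype.sum_equiv e _ _ (fun a => ?_)).symm
  show ψ (-(a ⬝ᵥ g • x)) • M (S a) * M (Dg g) =
    M (Dg g) * ψ (-(a ᵥ* (g : Matrix (Fin m) (Fin m) F) ⬝ᵥ x)) • M (S (a ᵥ* (g : Matrix (Fin m) (Fin m) F)))
  rw [Matrix.smul_mul, Matrix.mul_smul, ← map_mul, ← map_mul, Dg_S,
    Matrix.SpecialLinearGroup.smul_def, Matrix.smul_eq_mulVec, Matrix.dotProduct_mulVec]

theorem E_ne_zero_of_smul (g : Matrix.SpecialLinearGroup (Fin m) F) (x : Fin m → F)
    (hx : E ψ M x ≠ 0) : E ψ M (g • x) ≠ 0 := by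
  intro h0
  apply hx
  have h1 := Dg_mul_E ψ M g x
  rw [h0, zero_mul] at h1
  have h2 : M (Dg g⁻¹) * (M (Dg g) * E ψ M x) = E ψ M x := by
    rw [← mul_assoc, ← map_mul, Dg_mul, inv_mul_cancel, Dg_one, map_one, one_mul]
  rw [← h2, h1, mul_zero]

/-- The core bound. -/
theorem card_le (hm : 2 ≤ m) (hψ : ψ.IsPrimitive) (hq : (Fintype.card F : K') ≠ 0)
    (hM : ∃ b : Fin m → F, M (S b) ≠ 1) : Fintype.card F ^ m - 1 ≤ d := by
  classical
  have hqm : ((Fintype.card F : K') ^ m) ≠ 0 := pow_ne_zero _ hq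
  -- some nonzero x₀ with E x₀ ≠ 0
  have h1 : ∃ x₀ : Fin m → F, x₀ ≠ 0 ∧ E ψ M x₀ ≠ 0 := by
    by_contra hcon
    push_neg at hcon
    have hE0 : E ψ M (0 : Fin m → F) = ((Fintype.card F : K') ^ m) • (1 : Matrix (Fin d) (Fin d) K') := by
      rw [← sum_E ψ M hψ]
      symm
      apply Finset.sum_eq_single_of_mem (0 : Fin m → F) (Finset.mem_univ _)
      intro x _ hx
      exact hcon x hx
    obtain ⟨b, hb⟩ := hM
    apply hb
    have h2 := S_mul_E ψ M b 0
    rw [hE0] at h2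
    simp only [dotProduct_zero, AddChar.map_zero_eq_one, one_smul, Matrix.mul_smul, mul_one] at h2
    have h3 := smul_right_injective (Matrix (Fin d) (Fin d) K') hqm h2
    exact h3
  obtain ⟨x₀, hx₀, hEx₀⟩ := h1
  -- all nonzero x
  have h0 : (⟨0, by omega⟩ : Fin m) ≠ ⟨1, by omega⟩ := by
    intro h; simp [Fin.ext_iff] at h
  have h2 : ∀ x : Fin m → F, x ≠ 0 → E ψ M x ≠ 0 := by
    intro x hx
    obtain ⟨g₁, hg₁⟩ := Cfsg.Agent.Lib.Helper26.SLW.exists_smul_eq_single h0 x₀ hx₀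
    obtain ⟨g₂, hg₂⟩ := Cfsg.Agent.Lib.Helper26.SLW.exists_smul_eq_single h0 x hx
    have : x = (g₂⁻¹ * g₁) • x₀ := by
      rw [mul_smul, hg₁, ← hg₂, inv_smul_smul]
    rw [this]
    exact E_ne_zero_of_smul ψ M _ x₀ hEx₀
  -- choose nonzero columns
  have h3 : ∀ x : {x : Fin m → F // x ≠ 0}, ∃ j : Fin d, (fun i => E ψ M x.1 i j) ≠ 0 := by
    intro x
    by_contra hcon
    push_neg at hcon
    apply h2 x.1 x.2
    ext i j
    exact congrFun (hcon j) i
  choose jx hjx using h3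
  let w : {x : Fin m → F // x ≠ 0} → (Fin d → K') := fun x => fun i => E ψ M x.1 i (jx x)
  have hw : ∀ x y : {x : Fin m → F // x ≠ 0},
      E ψ M y.1 *ᵥ w x = (if x = y then (Fintype.card F : K') ^ m else 0) • w x := by
    intro x y
    have h4 := E_mul_E ψ M hψ x.1 y.1
    ext i
    have h5 := congrFun (congrFun h4 i) (jx x)
    simp only [Matrix.mul_apply, Matrix.smul_apply] at h5
    simp only [Matrix.mulVec, dotProduct, Pi.smul_apply, w]
    rw [h5]
    by_cases hxy : x = y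
    · simp [hxy]
    · have : x.1 ≠ y.1 := fun h => hxy (Subtype.ext h)
      simp [hxy, this]
  have hli : LinearIndependent K' w := by
    rw [Fintype.linearIndependent_iff]
    intro c hc y
    have h6 : E ψ M y.1 *ᵥ (∑ x, c x • w x) = 0 := by rw [hc, Matrix.mulVec_zero]
    rw [Matrix.mulVec_sum] at h6
    simp_rw [Matrix.mulVec_smul, hw] at h6
    rw [Finset.sum_eq_single_of_mem y (Finset.mem_univ _)] at h6
    · simp only [if_true] at h6
      rw [smul_smul] at h6
      rcases smul_eq_zero.1 h6 with h7 | h7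
      · exact (mul_eq_zero.1 h7).resolve_right hqm
      · exact absurd h7 (hjx y)
    · intro x _ hxy
      simp [hxy]
  have h8 := hli.fintype_card_le_finrank
  rw [Module.finrank_fin_fun] at h8
  have h9 : Fintype.card {x : Fin m → F // x ≠ 0} = Fintype.card F ^ m - 1 := by
    rw [Fintype.card_subtype_compl, Fintype.card_subtype_eq]
    simp [Fintype.card_pi]
  rw [h9] at h8
  exact h8

end

end Cfsg.Agent.Lib.Helper26.CrossChar
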