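import Mathlib
import Cfsg.Agent.Lib.Helper26.CrossChar

/-!
# Eigen-projections for an elementary abelian subgroup `a ↦ S a`, generic version (helper26)
-/

set_option autoImplicit false

namespace Cfsg.Agent.Lib.Helper26.CrossCharG
open Matrix

section
variable {F : Type*} [Field F] [Fintype F] [DecidableEq F] {N : ℕ}
variable {G : Type*} [Monoid G] (S : (Fin N → F) → G)
variable {K' : Type*} [Field K'] {d : ℕ} (ψ : AddChar F K') (M : G →* Matrix (Fin d) (Fin d) K')

/-- the (unnormalised) eigen-projection for the character `a ↦ ψ (a ⬝ᵥ x)`. -/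
noncomputable def E (x : Fin N → F) : Matrix (Fin d) (Fin d) K' :=
  ∑ a : Fin N → F, ψ (-(a ⬝ᵥ x)) • M (S a)

theorem S_mul_E (hmul : ∀ a b, S a * S b = S (a + b)) (b x : Fin N → F) :
    M (S b) * E S ψ M x = ψ (b ⬝ᵥ x) • E S ψ M x := by
  unfold E
  rw [Finset.mul_sum, Finset.smul_sum]
  refine Fintype.sum_equiv (Equiv.addLeft b) _ _ (fun a => ?_)
  rw [Matrix.mul_smul, ← map_mul, hmul, smul_smul, ← AddChar.map_add_eq_mul]
  simp only [Equiv.coe_addLeft]
  congr 2
  rw [add_dotProduct]; ring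

theorem E_mul_E (hmul : ∀ a b, S a * S b = S (a + b)) (hψ : ψ.IsPrimitive) (x y : Fin N → F) :
    E S ψ M y * E S ψ M x = (if x = y then (Fintype.card F : K') ^ N else 0) • E S ψ M x := by
  have h1 : E S ψ M y * E S ψ M x = ∑ b : Fin N → F, ψ (b ⬝ᵥ (x - y)) • E S ψ M x := by
    conv_lhs => rw [E, Finset.sum_mul]
    refine Finset.sum_congr rfl (fun b _ => ?_)
    rw [Matrix.smul_mul, S_mul_E S ψ M hmul, smul_smul, ← AddChar.map_add_eq_mul]
    congr 2
    rw [dotProduct_sub]; ring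
  rw [h1, ← Finset.sum_smul, CrossChar.sum_char ψ hψ]
  simp only [sub_eq_zero]

theorem sum_E (hzero : S 0 = 1) (hψ : ψ.IsPrimitive) :
    ∑ x : Fin N → F, E S ψ M x = ((Fintype.card F : K') ^ N) • (1 : Matrix (Fin d) (Fin d) K') := by
  unfold E
  rw [Finset.sum_comm]
  have : ∀ a : Fin N → F, ∑ x : Fin N → F, ψ (-(a ⬝ᵥ x)) • M (S a) =
      (if a = 0 then (Fintype.card F : K') ^ N else 0) • M (S a) := by
    intro a
    rw [← Finset.sum_smul]
    congr 1
    have := CrossChar.sum_char (m := N) ψ hψ (-a)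
    simp only [neg_eq_zero] at this
    rw [← this]
    refine Finset.sum_congr rfl (fun x _ => ?_)
    rw [dotProduct_neg, dotProduct_comm]
  simp_rw [this, ite_smul, zero_smul]
  rw [Finset.sum_ite_eq' Finset.univ (0 : Fin N → F)]
  simp [hzero]

theorem transport (X Y : G) (hYX : Y * X = 1) (φ : (Fin N → F) ≃ (Fin N → F))
    (θ : (Fin N → F) → (Fin N → F)) (hpair : ∀ a x, φ a ⬝ᵥ x = a ⬝ᵥ θ x)
    (hconj : ∀ a, X * S (φ a) = S a * X) (x : Fin N → F) (hx : E S ψ M x ≠ 0) :
    E S ψ M (θ x) ≠ 0 := by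
  have key : M X * E S ψ M x = E S ψ M (θ x) * M X := by
    unfold E
    rw [Finset.mul_sum, Finset.sum_mul]
    refine (Fintype.sum_equiv φ _ _ (fun a => ?_)).symm
    show ψ (-(a ⬝ᵥ θ x)) • M (S a) * M X = M X * ψ (-(φ a ⬝ᵥ x)) • M (S (φ a))
    rw [Matrix.smul_mul, Matrix.mul_smul, ← map_mul, ← map_mul, hconj, hpair]
  intro h0
  apply hx
  rw [h0, zero_mul] at key
  have h2 : M Y * (M X * E S ψ M x) = E S ψ M x := by
    rw [← mul_assoc, ← map_mul, hYX, map_one, one_mul]
  rw [← h2, key, mul_zero]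

theorem exists_ne_zero (hmul : ∀ a b, S a * S b = S (a + b)) (hzero : S 0 = 1)
    (hψ : ψ.IsPrimitive) (hq : (Fintype.card F : K') ≠ 0) (b : Fin N → F) (hb : M (S b) ≠ 1) :
    ∃ x : Fin N → F, b ⬝ᵥ x ≠ 0 ∧ E S ψ M x ≠ 0 := by
  have hqm : ((Fintype.card F : K') ^ N) ≠ 0 := pow_ne_zero _ hq
  by_contra hcon
  push_neg at hcon
  apply hb
  have h1 : M (S b) * ∑ x : Fin N → F, E S ψ M x = ∑ x : Fin N → F, E S ψ M x := by
    rw [Finset.mul_sum]
    refine Finset.sum_congr rfl (fun x _ => ?_)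
    rw [S_mul_E S ψ M hmul]
    by_cases hbx : b ⬝ᵥ x = 0
    · rw [hbx, AddChar.map_zero_eq_one, one_smul]
    · rw [hcon x hbx, smul_zero]
  rw [sum_E S ψ M hzero hψ, Matrix.mul_smul, mul_one] at h1
  exact smul_right_injective (Matrix (Fin d) (Fin d) K') hqm h1

theorem card_le (hmul : ∀ a b, S a * S b = S (a + b)) (hψ : ψ.IsPrimitive)
    (hq : (Fintype.card F : K') ≠ 0) (I : Finset (Fin N → F))
    (hI : ∀ x ∈ I, E S ψ M x ≠ 0) : I.card ≤ d := by
  classical
  have hqm : ((Fintype.card F : K') ^ N) ≠ 0 := pow_ne_zero _ hq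
  have h3 : ∀ x : {x : Fin N → F // x ∈ I}, ∃ j : Fin d, (fun i => E S ψ M x.1 i j) ≠ 0 := by
    intro x
    by_contra hcon
    push_neg at hcon
    apply hI x.1 x.2
    ext i j
    exact congrFun (hcon j) i
  choose jx hjx using h3
  let w : {x : Fin N → F // x ∈ I} → (Fin d → K') := fun x => fun i => E S ψ M x.1 i (jx x)
  have hw : ∀ x y : {x : Fin N → F // x ∈ I},
      E S ψ M y.1 *ᵥ w x = (if x = y then (Fintype.card F : K') ^ N else 0) • w x := by
    intro x y
    have h4 := E_mul_E S ψ M hmul hψ x.1 y.1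
    ext i
    have h5 := congrFun (congrFun h4 i) (jx x)
    simp only [Matrix.mul_apply, Matrix.smul_apply] at h5
    simp only [Matrix.mulVec, dotProduct, Pi.smul_apply, w]
    rw [h5]
    by_cases hxy : x = y
    · simp [hxy]
    · have : x.1 ≠ y.1 := fun h => hxy (Subtype.ext h)
      simp [hxy, this]
  have hli : LinearIndependent K' w := by
    rw [Fintype.linearIndependent_iff]
    intro c hc y
    have h6 : E S ψ M y.1 *ᵥ (∑ x, c x • w x) = 0 := by rw [hc, Matrix.mulVec_zero]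
    rw [Matrix.mulVec_sum] at h6
    simp_rw [Matrix.mulVec_smul, hw] at h6
    rw [Finset.sum_eq_single_of_mem y (Finset.mem_univ _)] at h6
    · simp only [if_true] at h6
      rw [smul_smul] at h6
      rcases smul_eq_zero.1 h6 with h7 | h7
      · exact (mul_eq_zero.1 h7).resolve_right hqm
      · exact absurd h7 (hjx y)
    · intro x _ hxy
      simp [hxy]
  have h8 := hli.fintype_card_le_finrank
  rw [Module.finrank_fin_fun, Fintype.card_coe] at h8
  exact h8

end

end Cfsg.Agent.Lib.Helper26.CrossCharG
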