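import Mathlib
import Cfsg.Prelude.Def_Characters
import Cfsg.Agent.Lib.Helper26.CharBasic
import Cfsg.Agent.Lib.Helper26.IndChar
import Cfsg.Agent.Lib.Helper26.TIInd

/-!
# Mackey's inner product formula for a subgroup with two double cosets (helper26)

`classInner_indFun_indFun_two_cosets`: if `G = H ∪ H w H` then for class functions `λ, μ` of `H`
`⟨Ind λ, Ind μ⟩ = ⟨λ, μ⟩_H + (|G| - |H|)/|H|² · Σ_{h ∈ H} λ(h) conj(μ°(w⁻¹ h w))`.
-/

set_option autoImplicit false

namespace Cfsg.Agent.Lib.Helper26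
open Cfsg
open scoped ComplexConjugate

section
variable {G : Type*} [Group G] (H : Subgroup G)

/-- the extension by zero of a class function of `H` is invariant under conjugation by `H` -/
theorem extendByZero_conj_mem {mu : H → ℂ} (hmu : IsClassFunction H mu) (b : G) (hb : b ∈ H)
    (y : G) : extendByZero H mu (b⁻¹ * y * b) = extendByZero H mu y := by
  by_cases hy : y ∈ H
  · have hmem : b⁻¹ * y * b ∈ H := H.mul_mem (H.mul_mem (H.inv_mem hb) hy) hb
    rw [extendByZero_apply_mem H mu _ hmem, extendByZero_apply_mem H mu _ hy]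
    have h1 := hmu ⟨y, hy⟩ (⟨b, hb⟩⁻¹ : H)
    rw [← h1]
    congr 1
    apply Subtype.ext
    simp
  · have hmem : b⁻¹ * y * b ∉ H := by
      intro h
      apply hy
      have h2 : y = b * (b⁻¹ * y * b) * b⁻¹ := by group
      rw [h2]
      exact H.mul_mem (H.mul_mem hb h) (H.inv_mem hb)
    rw [extendByZero_apply_not_mem H mu _ hmem, extendByZero_apply_not_mem H mu _ hy]

end

section
variable {G : Type*} [Group G] [Fintype G] (H : Subgroup G) [Fintype H]

/-- the Mackey summand attached to `x` -/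
noncomputable def mackeyTerm (lam mu : H → ℂ) (x : G) : ℂ :=
  ∑ h : H, lam h * conj (extendByZero H mu (x⁻¹ * (h : G) * x))

theorem mackeyTerm_mul_right {lam mu : H → ℂ} (hmu : IsClassFunction H mu) (x b : G) (hb : b ∈ H) :
    mackeyTerm H lam mu (x * b) = mackeyTerm H lam mu x := by
  unfold mackeyTerm
  apply Finset.sum_congr rfl
  intro h _
  have h1 : (x * b)⁻¹ * (h : G) * (x * b) = b⁻¹ * (x⁻¹ * (h : G) * x) * b := by group
  rw [h1, extendByZero_conj_mem H hmu b hb]

theorem mackeyTerm_mul_left {lam mu : H → ℂ} (hlam : IsClassFunction H lam) (a x : G) (ha : a ∈ H) :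
    mackeyTerm H lam mu (a * x) = mackeyTerm H lam mu x := by
  unfold mackeyTerm
  apply Fintype.sum_equiv (MulAut.conj (⟨a, ha⟩⁻¹ : H)).toEquiv
  intro h
  have h1 : lam ((MulAut.conj (⟨a, ha⟩⁻¹ : H)).toEquiv h) = lam h := by
    show lam ((⟨a, ha⟩⁻¹ : H) * h * (⟨a, ha⟩⁻¹ : H)⁻¹) = lam h
    exact hlam h _
  rw [h1]
  congr 2
  congr 1
  show (a * x)⁻¹ * (h : G) * (a * x) =
    x⁻¹ * (((⟨a, ha⟩⁻¹ : H) * h * (⟨a, ha⟩⁻¹ : H)⁻¹ : H) : G) * x
  simp only [Subgroup.coe_mul, Subgroup.coe_inv, inv_inv]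
  group

theorem mackeyTerm_one (lam mu : H → ℂ) :
    mackeyTerm H lam mu 1 = (Nat.card H : ℂ) * classInner lam mu := by
  unfold mackeyTerm classInner
  have hne : (Nat.card H : ℂ) ≠ 0 := Nat.cast_ne_zero.2 Nat.card_pos.ne'
  rw [← mul_assoc, mul_inv_cancel₀ hne, one_mul]
  apply Finset.sum_congr rfl
  intro h _
  rw [inv_one, one_mul, mul_one, extendByZero_apply_coe]

/-- Mackey's formula for the inner product of two induced class functions, when `G = H ∪ HwH`. -/
theorem classInner_indFun_indFun_two_cosets (w : G)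
    (hw : ∀ x : G, x ∉ H → ∃ a ∈ H, ∃ b ∈ H, x = a * w * b)
    (lam mu : H → ℂ) (hlam : IsClassFunction H lam) (hmu : IsClassFunction H mu) :
    classInner (indFun H lam) (indFun H mu) = classInner lam mu +
      ((Nat.card G : ℂ) - (Nat.card H : ℂ)) / (Nat.card H : ℂ) ^ 2 * mackeyTerm H lam mu w := by
  classical
  have hne : (Nat.card H : ℂ) ≠ 0 := Nat.cast_ne_zero.2 Nat.card_pos.ne'
  rw [classInner_indFun_left' H lam _ (isClassFunction_indFun H mu)]
  -- expand
  have hterm : ∀ x : G, mackeyTerm H lam mu x =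
      if x ∈ H then mackeyTerm H lam mu 1 else mackeyTerm H lam mu w := by
    intro x
    by_cases hx : x ∈ H
    · rw [if_pos hx]
      have h1 := mackeyTerm_mul_left H (mu := mu) hlam x 1 hx
      rwa [mul_one] at h1
    · rw [if_neg hx]
      obtain ⟨a, ha, b, hb, rfl⟩ := hw x hx
      rw [mackeyTerm_mul_right H hmu _ b hb, mackeyTerm_mul_left H hlam a w ha]
  have hexp : classInner lam (indFun H mu ∘ H.subtype) =
      ((Nat.card H : ℂ)⁻¹) ^ 2 * ∑ x : G, mackeyTerm H lam mu x := by
    unfold classInner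
    have h1 : ∀ h : H, lam h * conj ((indFun H mu ∘ H.subtype) h) =
        (Nat.card H : ℂ)⁻¹ * ∑ x : G, lam h * conj (extendByZero H mu (x⁻¹ * (h : G) * x)) := by
      intro h
      show lam h * conj (indFun H mu (h : G)) = _
      unfold indFun
      rw [map_mul, map_inv₀, map_natCast, map_sum, Finset.mul_sum, Finset.mul_sum, Finset.mul_sum]
      apply Finset.sum_congr rfl
      intro x _
      ring
    rw [Finset.sum_congr rfl (fun h _ => h1 h), ← Finset.mul_sum, Finset.sum_comm, ← mul_assoc,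
      ← pow_two]
    rfl
  rw [hexp, Finset.sum_congr rfl (fun x _ => hterm x), Finset.sum_ite, Finset.sum_const,
    Finset.sum_const, mackeyTerm_one]
  have hc1 : (Finset.univ.filter (fun x : G => x ∈ H)).card = Nat.card H := by
    rw [Nat.card_eq_fintype_card, Fintype.card_subtype]
  have hc2 : (Finset.univ.filter (fun x : G => ¬ x ∈ H)).card = Nat.card G - Nat.card H := by
    have h3 := Finset.card_filter_add_card_filter_not (s := (Finset.univ : Finset G))
      (fun x : G => x ∈ H)
    rw [hc1, Finset.card_univ, ← Nat.card_eq_fintype_card] at h3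
    omega
  rw [hc1, hc2, nsmul_eq_mul, nsmul_eq_mul]
  have hle : Nat.card H ≤ Nat.card G := Subgroup.card_le_card_group H
  rw [Nat.cast_sub hle]
  field_simp

end

end Cfsg.Agent.Lib.Helper26
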