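import Mathlib
import Cfsg.Prelude.Def_Characters
import Cfsg.Prelude.Def_ParabolicCharacters
import Cfsg.Agent.Lib.Helper26.MackeyTwo
import Cfsg.Agent.Lib.Helper26.LinCharOrtho
import Cfsg.Agent.Lib.Helper26.PrimeActChar
import Cfsg.Agent.Lib.Helper26.CharInt
import Cfsg.Agent.Lib.Helper26.IndIrr
import Cfsg.Agent.Lib.Helper12.GL2

/-!
# Principal series of `GL₂(q)` (helper26)

The characters induced from the linear characters `b ↦ α(b₁₁) β(b₂₂)` of the upper triangular
subgroup, and their inner products (Mackey).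
-/

set_option autoImplicit false

namespace Cfsg.Agent.Lib.Helper26.PS
open Cfsg Cfsg.Agent.Lib.Helper26 Cfsg.Agent.Lib.Helper12.GL2
open scoped ComplexConjugate

local notation "GL2" => Matrix.GeneralLinearGroup (Fin 2)

section basic
variable {F : Type*} [Field F]

theorem mem_upper_iff (g : GL2 F) : g ∈ Cfsg.upperTriangularGL 2 F ↔ g 1 0 = 0 := by
  constructor
  · intro h
    exact h (show (id (0 : Fin 2)) < id 1 by decide)
  · intro h i j hij
    fin_cases i <;> fin_cases j
    · exact absurd hij (by decide)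
    · exact absurd hij (by decide)
    · exact h
    · exact absurd hij (by decide)

/-- sums over units versus sums over the field -/
theorem sum_units_eq [Fintype F] [DecidableEq F] (g : F → ℂ) (h0 : g 0 = 0) :
    ∑ a : Fˣ, g a = ∑ a : F, g a := by
  calc ∑ a : Fˣ, g a = ∑ a : {a : F // a ≠ 0}, g a :=
        Fintype.sum_equiv unitsEquivNeZero _ _ (fun a => rfl)
    _ = ∑ a ∈ Finset.univ.filter (fun a : F => a ≠ 0), g a :=
        (Finset.sum_subtype (Finset.univ.filter (fun a : F => a ≠ 0)) (by simp) g).symm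
    _ = ∑ a, g a := Finset.sum_filter_of_ne (fun a _ ha => by rintro rfl; exact ha h0)

/-- orthogonality of multiplicative characters, as a sum over units -/
theorem mulChar_ortho [Fintype F] [DecidableEq F] (α β : MulChar F ℂ) :
    ∑ a : Fˣ, α a * conj (β a) = if α = β then (Fintype.card Fˣ : ℂ) else 0 := by
  have h1 : ∀ a : Fˣ, α a * conj (β a) = (α * β⁻¹) (a : F) := by
    intro a
    rw [MulChar.mul_apply, ← MulChar.star_apply']
    rfl
  rw [Finset.sum_congr rfl (fun a _ => h1 a),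
    sum_units_eq (fun a => (α * β⁻¹) a) (MulChar.map_zero _)]
  by_cases h : α = β
  · rw [if_pos h, h, mul_inv_cancel]
    exact MulChar.sum_one_eq_card_units
  · rw [if_neg h]
    apply MulChar.sum_eq_zero_of_ne_one
    intro h2
    exact h (mul_inv_eq_one.1 h2)

/-- the diagonal entries as monoid homomorphisms on the upper triangular subgroup -/
noncomputable def diagHom (i : Fin 2) : ↥(Cfsg.upperTriangularGL 2 F) →* F where
  toFun b := (b : GL2 F) i i
  map_one' := by
    show ((1 : GL2 F)) i i = 1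
    rw [one_apply', if_pos rfl]
  map_mul' := by
    intro g h
    have hg := (mem_upper_iff _).1 g.2
    have hh := (mem_upper_iff _).1 h.2
    fin_cases i
    · show ((g : GL2 F) * (h : GL2 F)) 0 0 = (g : GL2 F) 0 0 * (h : GL2 F) 0 0
      rw [mul_apply', hh, mul_zero, add_zero]
    · show ((g : GL2 F) * (h : GL2 F)) 1 1 = (g : GL2 F) 1 1 * (h : GL2 F) 1 1
      rw [mul_apply', hg, zero_mul, zero_add]

/-- the linear character `b ↦ α(b₁₁) β(b₂₂)` as a monoid homomorphism -/
noncomputable def psHom (α β : MulChar F ℂ) : ↥(Cfsg.upperTriangularGL 2 F) →* ℂ :=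
  (α.toMonoidHom.comp (diagHom 0)) * (β.toMonoidHom.comp (diagHom 1))

/-- the linear character `b ↦ α(b₁₁) β(b₂₂)` as a function -/
noncomputable def psFun (α β : MulChar F ℂ) : ↥(Cfsg.upperTriangularGL 2 F) → ℂ :=
  fun b => α (((b : GL2 F) : Matrix (Fin 2) (Fin 2) F) 0 0) *
    β (((b : GL2 F) : Matrix (Fin 2) (Fin 2) F) 1 1)

theorem psFun_eq_psHom (α β : MulChar F ℂ) (b : ↥(Cfsg.upperTriangularGL 2 F)) :
    psFun α β b = psHom α β b := rfl

theorem psFun_eq_linFun (α β : MulChar F ℂ) :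
    psFun α β = linFun (psHom α β).toHomUnits := by
  funext b
  rw [psFun_eq_psHom, linFun_apply, MonoidHom.coe_toHomUnits]

theorem isIrrCharacter_psFun (α β : MulChar F ℂ) :
    IsIrrCharacter ↥(Cfsg.upperTriangularGL 2 F) (psFun α β) := by
  rw [psFun_eq_linFun]
  exact isIrrCharacter_linFun _

theorem isClassFunction_psFun (α β : MulChar F ℂ) :
    IsClassFunction ↥(Cfsg.upperTriangularGL 2 F) (psFun α β) :=
  isClassFunction_of_isIrrCharacter (isIrrCharacter_psFun α β)

/-- the Weyl element -/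
noncomputable def wEl : GL2 F := mk 0 1 1 0 (by norm_num)

theorem wEl_mul_wEl : (wEl : GL2 F) * wEl = 1 := by
  apply ext4 <;> simp [mul_apply', wEl, one_apply']

theorem wEl_inv : (wEl : GL2 F)⁻¹ = wEl := inv_eq_of_mul_eq_one_right wEl_mul_wEl

theorem bruhat (x : GL2 F) (hx : x ∉ Cfsg.upperTriangularGL 2 F) :
    ∃ a ∈ Cfsg.upperTriangularGL 2 F, ∃ b ∈ Cfsg.upperTriangularGL 2 F, x = a * wEl * b := by
  rw [mem_upper_iff] at hx
  have hdet := det_ne_zero x
  rw [det_eq] at hdet
  have he : x 1 0 * (x 0 1 - x 0 0 * x 1 1 / x 1 0) - x 1 1 * 0 ≠ 0 := by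
    rw [mul_zero, sub_zero]
    intro h
    apply hdet
    field_simp at h
    linear_combination -h
  refine ⟨um (x 0 0 / x 1 0), (mem_upper_iff _).2 rfl,
    mk (x 1 0) (x 1 1) 0 (x 0 1 - x 0 0 * x 1 1 / x 1 0) he, (mem_upper_iff _).2 rfl, ?_⟩
  apply ext4
  · simp only [mul_apply', um, wEl, mk_00, mk_01, mk_10, mk_11]
    field_simp
    ring
  · simp only [mul_apply', um, wEl, mk_00, mk_01, mk_10, mk_11]
    field_simp
    ring
  · simp only [mul_apply', um, wEl, mk_00, mk_01, mk_10, mk_11]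
    ring
  · simp only [mul_apply', um, wEl, mk_00, mk_01, mk_10, mk_11]
    ring

/-- parametrization of the upper triangular subgroup -/
noncomputable def equivUpper : (Fˣ × Fˣ × F) ≃ ↥(Cfsg.upperTriangularGL 2 F) where
  toFun x := ⟨mk x.1 x.2.2 0 x.2.1 (by simp), (mem_upper_iff _).2 rfl⟩
  invFun g := (Units.mk0 _ (diag_ne_zero_of_mem_B (g := (g : GL2 F)) ((mem_upper_iff _).1 g.2)).1,
    Units.mk0 _ (diag_ne_zero_of_mem_B (g := (g : GL2 F)) ((mem_upper_iff _).1 g.2)).2,
    (g : GL2 F) 0 1)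
  left_inv x := by
    obtain ⟨a, d, b⟩ := x
    simp
  right_inv g := by
    apply Subtype.ext
    apply ext4 <;> simp
    exact ((mem_upper_iff _).1 g.2).symm

end basic

section finite
variable {F : Type*} [Field F] [Fintype F] [DecidableEq F]

noncomputable local instance instFintypeUpperAux : Fintype ↥(Cfsg.upperTriangularGL 2 F) :=
  Fintype.ofFinite _

theorem sum_sum_mul {ι κ : Type*} [Fintype ι] [Fintype κ] (f : ι → ℂ) (g : κ → ℂ) :
    ∑ i, ∑ j, f i * g j = (∑ i, f i) * ∑ j, g j := by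
  rw [Finset.sum_mul]
  apply Finset.sum_congr rfl
  intro i _
  rw [Finset.mul_sum]

theorem sum_upper (f : ↥(Cfsg.upperTriangularGL 2 F) → ℂ) :
    ∑ h : ↥(Cfsg.upperTriangularGL 2 F), f h =
      ∑ a : Fˣ, ∑ d : Fˣ, ∑ b : F, f (equivUpper (a, d, b)) := by
  rw [← Equiv.sum_comp equivUpper f, Fintype.sum_prod_type]
  apply Finset.sum_congr rfl
  intro a _
  rw [Fintype.sum_prod_type]

theorem equivUpper_coe (a d : Fˣ) (b : F) :
    ((equivUpper (a, d, b) : ↥(Cfsg.upperTriangularGL 2 F)) : GL2 F) =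
      mk (a : F) b 0 (d : F) (by simp) := rfl

theorem psFun_equivUpper (α β : MulChar F ℂ) (a d : Fˣ) (b : F) :
    psFun α β (equivUpper (a, d, b)) = α (a : F) * β (d : F) := rfl

theorem psFun_one (α β : MulChar F ℂ) : psFun α β 1 = 1 := by
  rw [psFun_eq_psHom, map_one]

theorem card_upper : Nat.card ↥(Cfsg.upperTriangularGL 2 F) =
    (Fintype.card Fˣ) ^ 2 * Fintype.card F := by
  rw [← Nat.card_congr (equivUpper (F := F)), Nat.card_prod, Nat.card_prod,
    Nat.card_eq_fintype_card, Nat.card_eq_fintype_card]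
  ring

theorem card_F_eq : Fintype.card F = Fintype.card Fˣ + 1 := by
  have h1 := Fintype.card_units F
  have h2 : 0 < Fintype.card F := Fintype.card_pos
  omega

theorem card_GL2' : Nat.card (GL2 F) =
    (Fintype.card Fˣ) ^ 2 * (Fintype.card Fˣ + 1) * (Fintype.card Fˣ + 2) := by
  rw [card_GL2, card_F_eq (F := F)]
  generalize Fintype.card Fˣ = u
  have h1 : (u + 1) ^ 2 - 1 = u * (u + 2) := by
    apply Nat.sub_eq_of_eq_add
    ring
  have h2 : (u + 1) ^ 2 - (u + 1) = u * (u + 1) := by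
    apply Nat.sub_eq_of_eq_add
    ring
  rw [h1, h2]
  ring

theorem classInner_psFun (α β α' β' : MulChar F ℂ) :
    classInner (psFun α β) (psFun α' β') = if α = α' ∧ β = β' then 1 else 0 := by
  unfold classInner
  rw [sum_upper (fun h => psFun α β h * conj (psFun α' β' h))]
  have h1 : ∀ a d : Fˣ, ∑ b : F, psFun α β (equivUpper (a, d, b)) *
      conj (psFun α' β' (equivUpper (a, d, b)))
      = ((Fintype.card F : ℂ) * (α a * conj (α' a))) * (β d * conj (β' d)) := by
    intro a d
    simp only [psFun_equivUpper, map_mul]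
    rw [Finset.sum_const, Finset.card_univ, nsmul_eq_mul]
    ring
  rw [Finset.sum_congr rfl (fun a _ => Finset.sum_congr rfl (fun d _ => h1 a d)),
    sum_sum_mul, ← Finset.mul_sum, mulChar_ortho, mulChar_ortho, card_upper]
  have hq : (Fintype.card F : ℂ) ≠ 0 := Nat.cast_ne_zero.2 Fintype.card_ne_zero
  have hu : (Fintype.card Fˣ : ℂ) ≠ 0 := Nat.cast_ne_zero.2 Fintype.card_ne_zero
  by_cases h1 : α = α'
  · by_cases h2 : β = β'
    · rw [if_pos h1, if_pos h2, if_pos ⟨h1, h2⟩]
      push_cast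
      field_simp
    · have h3 : ¬ (α = α' ∧ β = β') := fun h => h2 h.2
      rw [if_neg h2, if_neg h3]
      simp only [mul_zero, zero_mul]
  · have h3 : ¬ (α = α' ∧ β = β') := fun h => h1 h.1
    rw [if_neg h1, if_neg h3]
    simp only [mul_zero, zero_mul]

theorem conj_wEl (a d : Fˣ) (b : F) :
    (wEl : GL2 F)⁻¹ * ((equivUpper (a, d, b) : ↥(Cfsg.upperTriangularGL 2 F)) : GL2 F) * wEl =
      mk (d : F) 0 b (a : F) (by simp) := by
  rw [wEl_inv, equivUpper_coe]
  apply ext4 <;> simp [mul_apply', wEl]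

theorem mackeyTerm_wEl (α β α' β' : MulChar F ℂ) :
    mackeyTerm (Cfsg.upperTriangularGL 2 F) (psFun α β) (psFun α' β') wEl =
      (∑ a : Fˣ, α a * conj (β' a)) * (∑ d : Fˣ, β d * conj (α' d)) := by
  unfold mackeyTerm
  rw [sum_upper (fun h => psFun α β h * conj (extendByZero (Cfsg.upperTriangularGL 2 F)
    (psFun α' β') ((wEl : GL2 F)⁻¹ * (h : GL2 F) * wEl)))]
  have h1 : ∀ a d : Fˣ, ∀ b : F, extendByZero (Cfsg.upperTriangularGL 2 F) (psFun α' β')
      ((wEl : GL2 F)⁻¹ * ((equivUpper (a, d, b) : ↥(Cfsg.upperTriangularGL 2 F)) : GL2 F) * wEl) =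
      if b = 0 then α' d * β' a else 0 := by
    intro a d b
    rw [conj_wEl]
    by_cases hb : b = 0
    · subst hb
      rw [if_pos rfl]
      show extendByZero (Cfsg.upperTriangularGL 2 F) (psFun α' β')
        ((equivUpper (d, a, 0) : ↥(Cfsg.upperTriangularGL 2 F)) : GL2 F) = _
      rw [extendByZero_apply_coe]
      rfl
    · rw [if_neg hb]
      apply extendByZero_apply_not_mem
      rw [mem_upper_iff]
      exact hb
  have h3 : ∀ a d : Fˣ, ∑ b : F, psFun α β (equivUpper (a, d, b)) *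
      conj (extendByZero (Cfsg.upperTriangularGL 2 F) (psFun α' β')
        ((wEl : GL2 F)⁻¹ * ((equivUpper (a, d, b) : ↥(Cfsg.upperTriangularGL 2 F)) : GL2 F) * wEl)) =
      (α a * conj (β' a)) * (β d * conj (α' d)) := by
    intro a d
    rw [Finset.sum_eq_single (0 : F)]
    · rw [h1, if_pos rfl, psFun_equivUpper, map_mul]
      ring
    · intro b _ hb
      rw [h1, if_neg hb, map_zero, mul_zero]
    · intro h
      exact absurd (Finset.mem_univ _) h
  rw [Finset.sum_congr rfl (fun a _ => Finset.sum_congr rfl (fun d _ => h3 a d)), sum_sum_mul]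

/-- Mackey: the inner product of two principal series characters of `GL₂(q)`. -/
theorem classInner_ps (α β α' β' : MulChar F ℂ) :
    classInner (indFun (Cfsg.upperTriangularGL 2 F) (psFun α β))
      (indFun (Cfsg.upperTriangularGL 2 F) (psFun α' β')) =
      (if α = α' ∧ β = β' then 1 else 0) + (if α = β' ∧ β = α' then 1 else 0) := by
  rw [classInner_indFun_indFun_two_cosets (Cfsg.upperTriangularGL 2 F) wEl bruhat _ _
    (isClassFunction_psFun α β) (isClassFunction_psFun α' β'), classInner_psFun, mackeyTerm_wEl,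
    mulChar_ortho, mulChar_ortho, card_upper, card_GL2', card_F_eq (F := F)]
  congr 1
  have hu : (Fintype.card Fˣ : ℂ) ≠ 0 := Nat.cast_ne_zero.2 Fintype.card_ne_zero
  have hq : ((Fintype.card Fˣ : ℂ) + 1) ≠ 0 := by
    have h := Nat.cast_ne_zero (R := ℂ).2 (Nat.succ_ne_zero (Fintype.card Fˣ))
    rwa [Nat.cast_succ] at h
  by_cases h1 : α = β'
  · by_cases h2 : β = α'
    · rw [if_pos h1, if_pos h2, if_pos ⟨h1, h2⟩]
      push_cast
      field_simp
      ring
    · have h3 : ¬ (α = β' ∧ β = α') := fun h => h2 h.2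
      rw [if_neg h2, if_neg h3]
      simp only [mul_zero, zero_mul]
  · have h3 : ¬ (α = β' ∧ β = α') := fun h => h1 h.1
    rw [if_neg h1, if_neg h3]
    simp only [mul_zero, zero_mul]

theorem indFun_one_re_pos {G : Type*} [Group G] [Fintype G] (H : Subgroup G) (ψ : H → ℂ)
    (h1 : ψ 1 = 1) : 0 < (indFun H ψ 1).re := by
  rw [indFun_one, h1, mul_one]
  have h2 : ((Nat.card H : ℂ)⁻¹ * (Fintype.card G : ℂ)) =
      (((Nat.card H : ℝ)⁻¹ * (Fintype.card G : ℝ) : ℝ) : ℂ) := by
    push_cast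
    ring
  rw [h2, Complex.ofReal_re]
  have h3 : 0 < (Nat.card H : ℝ) := Nat.cast_pos.2 Nat.card_pos
  have h4 : 0 < (Fintype.card G : ℝ) := Nat.cast_pos.2 Fintype.card_pos
  positivity

/-- the principal series character `Ind(α, β)`, `α ≠ β`, is irreducible -/
theorem ps_irr (α β : MulChar F ℂ) (hαβ : α ≠ β) :
    IsIrrCharacter (GL2 F) (indFun (Cfsg.upperTriangularGL 2 F) (psFun α β)) := by
  have hchar : IsCharacter (GL2 F) (indFun (Cfsg.upperTriangularGL 2 F) (psFun α β)) :=
    isCharacter_indFun _ (isCharacter_of_isIrrCharacter (isIrrCharacter_psFun α β))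
  apply isIrrCharacter_of_norm_one (isGeneralizedCharacter_of_isCharacter hchar)
  · rw [classInner_ps, if_pos ⟨rfl, rfl⟩, if_neg (fun h => hαβ h.1), add_zero]
  · exact indFun_one_re_pos _ _ (psFun_one α β)

theorem ps_eq_iff (α β α' β' : MulChar F ℂ) :
    indFun (Cfsg.upperTriangularGL 2 F) (psFun α β) =
      indFun (Cfsg.upperTriangularGL 2 F) (psFun α' β') ↔
      (α = α' ∧ β = β') ∨ (α = β' ∧ β = α') := by
  constructor
  · intro h
    have h1 := classInner_ps α β α' β'
    rw [← h, classInner_ps, if_pos ⟨rfl, rfl⟩] at h1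
    by_contra hcon
    obtain ⟨hc1, hc2⟩ := not_or.1 hcon
    rw [if_neg hc1, if_neg hc2] at h1
    split_ifs at h1 <;> norm_num at h1
  · rintro (⟨h1, h2⟩ | ⟨h1, h2⟩)
    · rw [h1, h2]
    · rw [← h1, ← h2]
      by_cases hab : α = β
      · rw [hab]
      · apply eq_of_classInner_ne_zero (ps_irr α β hab) (ps_irr β α (Ne.symm hab))
        rw [classInner_ps, if_neg (fun h => hab h.1), if_pos ⟨rfl, rfl⟩]
        norm_num

end finite

end Cfsg.Agent.Lib.Helper26.PS
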