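import Mathlib
import Cfsg.Prelude.Def_Characters
import Cfsg.Prelude.Def_ParabolicCharacters
import Cfsg.Agent.Lib.Helper26.PrincipalGL2

/-!
# Values of the principal series characters of `GL₂(q)` (helper26)

`Ind(α,β)(g) = ψ°(g) + Σ_t ψ°((u_t w)⁻¹ g (u_t w))` and the resulting explicit values.
-/

set_option autoImplicit false

namespace Cfsg.Agent.Lib.Helper26.PS
open Cfsg Cfsg.Agent.Lib.Helper26 Cfsg.Agent.Lib.Helper12.GL2
open scoped ComplexConjugate

local notation "GL2" => Matrix.GeneralLinearGroup (Fin 2)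

section basic
variable {F : Type*} [Field F]

theorem um_inv (t : F) : (um t)⁻¹ = um (-t) := by
  apply inv_eq_of_mul_eq_one_right
  rw [← um_add, add_neg_cancel, um_zero]

theorem bruhat' (x : GL2 F) (hx : x ∉ Cfsg.upperTriangularGL 2 F) :
    ∃ t : F, ∃ b ∈ Cfsg.upperTriangularGL 2 F, x = um t * wEl * b := by
  rw [mem_upper_iff] at hx
  have hdet := det_ne_zero x
  rw [det_eq] at hdet
  have he : x 1 0 * (x 0 1 - x 0 0 * x 1 1 / x 1 0) - x 1 1 * 0 ≠ 0 := by
    rw [mul_zero, sub_zero]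
    intro h
    apply hdet
    field_simp at h
    linear_combination -h
  refine ⟨x 0 0 / x 1 0,
    mk (x 1 0) (x 1 1) 0 (x 0 1 - x 0 0 * x 1 1 / x 1 0) he, (mem_upper_iff _).2 rfl, ?_⟩
  apply ext4
  · simp only [mul_apply', um, wEl, mk_00, mk_01, mk_10, mk_11]
    field_simp
    ring
  · simp only [mul_apply', um, wEl, mk_00, mk_01, mk_10, mk_11]
    field_simp
    ring
  · simp only [mul_apply', um, wEl, mk_00, mk_01, mk_10, mk_11]
    ring
  · simp only [mul_apply', um, wEl, mk_00, mk_01, mk_10, mk_11]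
    ring

theorem phi_00 (t : F) (b : GL2 F) (hb : b 1 0 = 0) :
    ((um t * wEl * b : GL2 F)) 0 0 = t * b 0 0 := by
  simp only [mul_apply', um, wEl, mk_00, mk_01, mk_10, mk_11, hb]
  ring

theorem phi_01 (t : F) (b : GL2 F) :
    ((um t * wEl * b : GL2 F)) 0 1 = t * b 0 1 + b 1 1 := by
  simp only [mul_apply', um, wEl, mk_00, mk_01, mk_10, mk_11]
  ring

theorem phi_10 (t : F) (b : GL2 F) (hb : b 1 0 = 0) :
    ((um t * wEl * b : GL2 F)) 1 0 = b 0 0 := by
  simp only [mul_apply', um, wEl, mk_00, mk_01, mk_10, mk_11, hb]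
  ring

theorem phi_11 (t : F) (b : GL2 F) :
    ((um t * wEl * b : GL2 F)) 1 1 = b 0 1 := by
  simp only [mul_apply', um, wEl, mk_00, mk_01, mk_10, mk_11]
  ring

theorem phi_not_mem (t : F) (b : ↥(Cfsg.upperTriangularGL 2 F)) :
    um t * wEl * (b : GL2 F) ∉ Cfsg.upperTriangularGL 2 F := by
  have hb := (mem_upper_iff _).1 b.2
  rw [mem_upper_iff, phi_10 t _ hb]
  exact (diag_ne_zero_of_mem_B (g := (b : GL2 F)) hb).1

theorem phi_injective : Function.Injective
    (fun p : F × ↥(Cfsg.upperTriangularGL 2 F) => um p.1 * wEl * (p.2 : GL2 F)) := by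
  rintro ⟨t, b⟩ ⟨t', b'⟩ h
  simp only at h
  have hb := (mem_upper_iff _).1 b.2
  have hb' := (mem_upper_iff _).1 b'.2
  have e00 := congrArg (fun z : GL2 F => z 0 0) h
  have e01 := congrArg (fun z : GL2 F => z 0 1) h
  have e10 := congrArg (fun z : GL2 F => z 1 0) h
  have e11 := congrArg (fun z : GL2 F => z 1 1) h
  simp only [phi_00 _ _ hb, phi_00 _ _ hb', phi_10 _ _ hb, phi_10 _ _ hb', phi_11,
    phi_01] at e00 e01 e10 e11
  have ht : t = t' := by
    rw [← e10] at e00
    exact mul_right_cancel₀ (diag_ne_zero_of_mem_B (g := (b : GL2 F)) hb).1 e00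
  have h11 : (b : GL2 F) 1 1 = (b' : GL2 F) 1 1 := by
    rw [← ht, ← e11] at e01
    exact add_left_cancel e01
  have hbb : b = b' := by
    apply Subtype.ext
    apply ext4 e10 e11
    · rw [hb, hb']
    · exact h11
  rw [ht, hbb]

/-- an eigenvector from a conjugate in the upper triangular subgroup -/
theorem eig_of_conj_mem (g y : GL2 F) (h : ((y⁻¹ * g * y : GL2 F)) 1 0 = 0) :
    ∃ (c : F) (v : Fin 2 → F), v ≠ 0 ∧ (g : Matrix (Fin 2) (Fin 2) F).mulVec v = c • v := by
  obtain ⟨c, hc⟩ : ∃ c : F, ((y⁻¹ * g * y : GL2 F)) 0 0 = c := ⟨_, rfl⟩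
  refine ⟨c, ![y 0 0, y 1 0], ?_, ?_⟩
  · intro hv
    have h0 : y 0 0 = 0 := by simpa using congrFun hv 0
    have h1 : y 1 0 = 0 := by simpa using congrFun hv 1
    have := det_ne_zero y
    rw [det_eq, h0, h1] at this
    simp at this
  · have hy : y * (y⁻¹ * g * y) = g * y := by group
    have key : ∀ i : Fin 2, g i 0 * y 0 0 + g i 1 * y 1 0 = y i 0 * c := by
      intro i
      have hi : ((y * (y⁻¹ * g * y) : GL2 F)) i 0 = ((g * y : GL2 F)) i 0 := by rw [hy]
      rw [mul_apply' y (y⁻¹ * g * y), mul_apply' g y, h, mul_zero, add_zero, hc] at hi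
      exact hi.symm
    have k0 := key 0
    have k1 := key 1
    funext i
    fin_cases i
    · simp [Matrix.mulVec, dotProduct, Fin.sum_univ_two]
      linear_combination k0
    · simp [Matrix.mulVec, dotProduct, Fin.sum_univ_two]
      linear_combination k1

theorem conj_umw_10 (t : F) (g : GL2 F) :
    (((um t * wEl)⁻¹ * g * (um t * wEl) : GL2 F)) 1 0 =
      (g 0 0 - t * g 1 0) * t + g 0 1 - t * g 1 1 := by
  rw [mul_inv_rev, wEl_inv, um_inv]
  simp only [mul_apply', um, wEl, mk_00, mk_01, mk_10, mk_11]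
  ring

theorem conj_umw_00 (t : F) (g : GL2 F) :
    (((um t * wEl)⁻¹ * g * (um t * wEl) : GL2 F)) 0 0 = g 1 0 * t + g 1 1 := by
  rw [mul_inv_rev, wEl_inv, um_inv]
  simp only [mul_apply', um, wEl, mk_00, mk_01, mk_10, mk_11]
  ring

theorem conj_umw_11 (t : F) (g : GL2 F) :
    (((um t * wEl)⁻¹ * g * (um t * wEl) : GL2 F)) 1 1 = g 0 0 - t * g 1 0 := by
  rw [mul_inv_rev, wEl_inv, um_inv]
  simp only [mul_apply', um, wEl, mk_00, mk_01, mk_10, mk_11]
  ring

theorem ext_conj_of_upper [DecidableEq F] (α β : MulChar F ℂ) (g : GL2 F) (hg : g 1 0 = 0)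
    (t : F) :
    extendByZero (Cfsg.upperTriangularGL 2 F) (psFun α β)
      ((um t * wEl)⁻¹ * g * (um t * wEl)) =
      if (g 0 0 - g 1 1) * t + g 0 1 = 0 then α (g 1 1) * β (g 0 0) else 0 := by
  have h10 := conj_umw_10 t g
  have h00 := conj_umw_00 t g
  have h11 := conj_umw_11 t g
  rw [hg] at h10 h00 h11
  by_cases h : (g 0 0 - g 1 1) * t + g 0 1 = 0
  · rw [if_pos h]
    have hmem : (um t * wEl)⁻¹ * g * (um t * wEl) ∈ Cfsg.upperTriangularGL 2 F := by
      rw [mem_upper_iff, h10]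
      linear_combination h
    rw [extendByZero_apply_mem _ _ _ hmem]
    show α ((((um t * wEl)⁻¹ * g * (um t * wEl) : GL2 F)) 0 0) *
      β ((((um t * wEl)⁻¹ * g * (um t * wEl) : GL2 F)) 1 1) = _
    rw [h00, h11, zero_mul, zero_add, mul_zero, sub_zero]
  · rw [if_neg h]
    apply extendByZero_apply_not_mem
    rw [mem_upper_iff, h10]
    intro h2
    apply h
    linear_combination h2

end basic

section finite
variable {F : Type*} [Field F] [Fintype F] [DecidableEq F]

noncomputable local instance instFintypeUpperAux' : Fintype ↥(Cfsg.upperTriangularGL 2 F) :=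
  Fintype.ofFinite _

/-- the Bruhat decomposition as a sum formula -/
theorem sum_GL2 (f : GL2 F → ℂ) :
    ∑ y : GL2 F, f y = ∑ b : ↥(Cfsg.upperTriangularGL 2 F), f (b : GL2 F) +
      ∑ t : F, ∑ b : ↥(Cfsg.upperTriangularGL 2 F), f (um t * wEl * (b : GL2 F)) := by
  classical
  rw [← Finset.sum_filter_add_sum_filter_not Finset.univ
    (fun y : GL2 F => y ∈ Cfsg.upperTriangularGL 2 F) f]
  congr 1
  · exact Finset.sum_subtype (Finset.univ.filter
      (fun y : GL2 F => y ∈ Cfsg.upperTriangularGL 2 F)) (by simp) f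
  · have himg : Finset.univ.filter (fun y : GL2 F => ¬ y ∈ Cfsg.upperTriangularGL 2 F) =
        Finset.univ.image (fun p : F × ↥(Cfsg.upperTriangularGL 2 F) =>
          um p.1 * wEl * (p.2 : GL2 F)) := by
      ext y
      simp only [Finset.mem_filter, Finset.mem_univ, true_and, Finset.mem_image]
      constructor
      · intro hy
        obtain ⟨t, b, hb, rfl⟩ := bruhat' y hy
        exact ⟨(t, ⟨b, hb⟩), rfl⟩
      · rintro ⟨p, rfl⟩
        exact phi_not_mem p.1 p.2
    rw [himg, Finset.sum_image (fun p _ q _ h => phi_injective h), Fintype.sum_prod_type]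

theorem indFun_gl_apply (ψ : ↥(Cfsg.upperTriangularGL 2 F) → ℂ)
    (hψ : IsClassFunction ↥(Cfsg.upperTriangularGL 2 F) ψ) (g : GL2 F) :
    indFun (Cfsg.upperTriangularGL 2 F) ψ g =
      extendByZero (Cfsg.upperTriangularGL 2 F) ψ g +
      ∑ t : F, extendByZero (Cfsg.upperTriangularGL 2 F) ψ
        ((um t * wEl)⁻¹ * g * (um t * wEl)) := by
  unfold indFun
  rw [sum_GL2]
  have h1 : ∀ b : ↥(Cfsg.upperTriangularGL 2 F),
      extendByZero (Cfsg.upperTriangularGL 2 F) ψ ((b : GL2 F)⁻¹ * g * b) =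
      extendByZero (Cfsg.upperTriangularGL 2 F) ψ g :=
    fun b => extendByZero_conj_mem _ hψ b b.2 g
  have h2 : ∀ (t : F) (b : ↥(Cfsg.upperTriangularGL 2 F)),
      extendByZero (Cfsg.upperTriangularGL 2 F) ψ
        ((um t * wEl * (b : GL2 F))⁻¹ * g * (um t * wEl * (b : GL2 F))) =
      extendByZero (Cfsg.upperTriangularGL 2 F) ψ ((um t * wEl)⁻¹ * g * (um t * wEl)) := by
    intro t b
    have h3 : (um t * wEl * (b : GL2 F))⁻¹ * g * (um t * wEl * (b : GL2 F)) =
        (b : GL2 F)⁻¹ * ((um t * wEl)⁻¹ * g * (um t * wEl)) * (b : GL2 F) := by group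
    rw [h3, extendByZero_conj_mem _ hψ b b.2]
  have hne : (Nat.card ↥(Cfsg.upperTriangularGL 2 F) : ℂ) ≠ 0 :=
    Nat.cast_ne_zero.2 Nat.card_pos.ne'
  simp only [h1, h2, Finset.sum_const, Finset.card_univ, nsmul_eq_mul]
  rw [← Finset.mul_sum, ← mul_add, ← Nat.card_eq_fintype_card, ← mul_assoc, inv_mul_cancel₀ hne,
    one_mul]

/-- the value of a principal series character at an upper triangular element -/
theorem ps_value_upper (α β : MulChar F ℂ) (g : GL2 F) (hg : g 1 0 = 0) :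
    indFun (Cfsg.upperTriangularGL 2 F) (psFun α β) g = α (g 0 0) * β (g 1 1) +
      ∑ t : F, if (g 0 0 - g 1 1) * t + g 0 1 = 0 then α (g 1 1) * β (g 0 0) else 0 := by
  rw [indFun_gl_apply _ (isClassFunction_psFun α β),
    extendByZero_apply_mem _ _ _ ((mem_upper_iff g).2 hg)]
  congr 1
  apply Finset.sum_congr rfl
  intro t _
  exact ext_conj_of_upper α β g hg t

theorem ps_value_um (α β : MulChar F ℂ) (s : F) (hs : s ≠ 0) :
    indFun (Cfsg.upperTriangularGL 2 F) (psFun α β) (um s) = 1 := by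
  rw [ps_value_upper α β (um s) rfl]
  have h1 : ∀ t : F, (if ((um s : GL2 F) 0 0 - (um s : GL2 F) 1 1) * t + (um s : GL2 F) 0 1 = 0
      then α ((um s : GL2 F) 1 1) * β ((um s : GL2 F) 0 0) else 0) = 0 := by
    intro t
    rw [if_neg]
    rw [um_00, um_11, um_01, sub_self, zero_mul, zero_add]
    exact hs
  rw [Finset.sum_congr rfl (fun t _ => h1 t), Finset.sum_const_zero, add_zero, um_00, um_11,
    map_one, map_one, mul_one]

theorem ps_value_diag (α β : MulChar F ℂ) (g : GL2 F) (h01 : g 0 1 = 0) (h10 : g 1 0 = 0)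
    (hne : g 0 0 ≠ g 1 1) :
    indFun (Cfsg.upperTriangularGL 2 F) (psFun α β) g =
      α (g 0 0) * β (g 1 1) + α (g 1 1) * β (g 0 0) := by
  rw [ps_value_upper α β g h10]
  congr 1
  rw [Finset.sum_eq_single (0 : F)]
  · rw [if_pos]
    rw [mul_zero, zero_add]
    exact h01
  · intro t _ ht
    rw [if_neg]
    rw [h01, add_zero]
    exact mul_ne_zero (sub_ne_zero.2 hne) ht
  · intro h
    exact absurd (Finset.mem_univ _) h

theorem ps_value_elliptic (ψ : ↥(Cfsg.upperTriangularGL 2 F) → ℂ) (g : GL2 F)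
    (hno : ∀ (c : F) (v : Fin 2 → F), v ≠ 0 →
      (g : Matrix (Fin 2) (Fin 2) F).mulVec v ≠ c • v) :
    indFun (Cfsg.upperTriangularGL 2 F) ψ g = 0 := by
  unfold indFun
  rw [Finset.sum_eq_zero, mul_zero]
  intro y _
  apply extendByZero_apply_not_mem
  rw [mem_upper_iff]
  intro h
  obtain ⟨c, v, hv, hcv⟩ := eig_of_conj_mem g y h
  exact hno c v hv hcv

end finite

end Cfsg.Agent.Lib.Helper26.PS
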