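import Mathlib
import Cfsg.Prelude.Def_Characters
import Cfsg.Agent.Lib.Helper26.CharInt
import Cfsg.Agent.Lib.Helper26.GenChar
import Cfsg.Agent.Lib.Helper4.CharOrtho

/-!
# A character of norm two (helper26)

A character `X` with `⟨X, X⟩ = 2` is the sum of two distinct irreducible characters.
-/

set_option autoImplicit false

namespace Cfsg.Agent.Lib.Helper26
open Cfsg
open scoped ComplexConjugate

section
variable {G : Type*} [Group G] [Fintype G]

/-- A character of norm `2` is the sum of two distinct irreducible characters. -/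
theorem char_norm_two {X : G → ℂ} (hX : IsCharacter G X) (hnorm : classInner X X = 2) :
    ∃ μ₁ μ₂ : G → ℂ, IsIrrCharacter G μ₁ ∧ IsIrrCharacter G μ₂ ∧ μ₁ ≠ μ₂ ∧ X = μ₁ + μ₂ := by
  classical
  have : Fintype (IrrCharacter G) := Fintype.ofFinite _
  have hXg := isGeneralizedCharacter_of_isCharacter hX
  have hnat : ∀ μ : IrrCharacter G, ∃ n : ℕ, classInner X (μ : G → ℂ) = (n : ℂ) := fun μ =>
    classInner_isCharacter_nat hX (isCharacter_of_isIrrCharacter μ.2)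
  choose cn hcn using hnat
  obtain ⟨c, hcdef⟩ : ∃ c : IrrCharacter G → ℤ, ∀ μ, c μ = (cn μ : ℤ) := ⟨fun μ => (cn μ : ℤ), fun _ => rfl⟩
  have hc : ∀ μ : IrrCharacter G, classInner X (μ : G → ℂ) = (c μ : ℂ) := by
    intro μ
    rw [hcn μ, hcdef μ]
    simp
  have hcnn : ∀ μ, 0 ≤ c μ := by
    intro μ
    rw [hcdef μ]
    exact Int.natCast_nonneg _
  have hP := genChar_norm hXg c hc
  rw [hnorm] at hP
  have hP' : ∑ μ : IrrCharacter G, (c μ) ^ 2 = 2 := by exact_mod_cast hP.symm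
  -- first nonzero coefficient
  have hex1 : ∃ μ₁, c μ₁ ≠ 0 := by
    by_contra hcon
    push Not at hcon
    have : ∑ μ : IrrCharacter G, (c μ) ^ 2 = 0 := by
      apply Finset.sum_eq_zero
      intro μ _
      rw [hcon μ]; rfl
    omega
  obtain ⟨μ₁, hμ₁⟩ := hex1
  have hsplit1 := Finset.add_sum_erase Finset.univ (fun μ => (c μ) ^ 2) (Finset.mem_univ μ₁)
  rw [hP'] at hsplit1
  have hrest_nonneg : 0 ≤ ∑ μ ∈ Finset.univ.erase μ₁, (c μ) ^ 2 :=
    Finset.sum_nonneg (fun μ _ => sq_nonneg (c μ))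
  have hc1sq : (c μ₁) ^ 2 = 1 := by
    have hpos : 1 ≤ (c μ₁) ^ 2 := by
      have : 0 < (c μ₁) ^ 2 := by positivity
      omega
    have hle : (c μ₁) ^ 2 ≤ 2 := by linarith
    have hne2 : (c μ₁) ^ 2 ≠ 2 := by
      intro h2
      have habs : |c μ₁| < 2 := by
        by_contra hge
        push Not at hge
        have : 4 ≤ (c μ₁) ^ 2 := by
          have := sq_le_sq' (by linarith [abs_nonneg (c μ₁)] : -|c μ₁| ≤ 2) hge
          rw [sq_abs] at this
          linarith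
        omega
      have hlt := abs_lt.1 habs
      have : c μ₁ = -1 ∨ c μ₁ = 0 ∨ c μ₁ = 1 := by omega
      rcases this with h | h | h <;> rw [h] at h2 <;> norm_num at h2
    omega
  have hrest1 : ∑ μ ∈ Finset.univ.erase μ₁, (c μ) ^ 2 = 1 := by linarith
  -- second nonzero coefficient
  have hex2 : ∃ μ₂ ∈ Finset.univ.erase μ₁, c μ₂ ≠ 0 := by
    by_contra hcon
    push Not at hcon
    have : ∑ μ ∈ Finset.univ.erase μ₁, (c μ) ^ 2 = 0 := by
      apply Finset.sum_eq_zero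
      intro μ hμ
      rw [hcon μ hμ]; rfl
    omega
  obtain ⟨μ₂, hμ₂mem, hμ₂⟩ := hex2
  have hne12 : μ₂ ≠ μ₁ := (Finset.mem_erase.1 hμ₂mem).1
  have hsplit2 := Finset.add_sum_erase (Finset.univ.erase μ₁) (fun μ => (c μ) ^ 2) hμ₂mem
  rw [hrest1] at hsplit2
  have hrest2_nonneg : 0 ≤ ∑ μ ∈ (Finset.univ.erase μ₁).erase μ₂, (c μ) ^ 2 :=
    Finset.sum_nonneg (fun μ _ => sq_nonneg (c μ))
  have hc2sq : (c μ₂) ^ 2 = 1 := by
    have hpos : 1 ≤ (c μ₂) ^ 2 := by
      have : 0 < (c μ₂) ^ 2 := by positivity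
      omega
    linarith
  have hrest2 : ∑ μ ∈ (Finset.univ.erase μ₁).erase μ₂, (c μ) ^ 2 = 0 := by linarith
  have hzero : ∀ μ ∈ (Finset.univ.erase μ₁).erase μ₂, c μ = 0 := by
    intro μ hμ
    have := (Finset.sum_eq_zero_iff_of_nonneg (fun μ _ => sq_nonneg (c μ))).1 hrest2 μ hμ
    exact pow_eq_zero_iff (by norm_num) |>.1 this
  -- the expansion collapses to two terms
  have hexp := genChar_expansion hXg c hc
  have hX2 : X = (c μ₁ : ℂ) • (μ₁ : G → ℂ) + (c μ₂ : ℂ) • (μ₂ : G → ℂ) := by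
    rw [hexp, ← Finset.add_sum_erase Finset.univ _ (Finset.mem_univ μ₁),
      ← Finset.add_sum_erase (Finset.univ.erase μ₁) _ hμ₂mem]
    have : ∑ μ ∈ (Finset.univ.erase μ₁).erase μ₂, (c μ : ℂ) • (μ : G → ℂ) = 0 := by
      apply Finset.sum_eq_zero
      intro μ hμ
      rw [hzero μ hμ]; simp
    rw [this, add_zero]
  have hsq : ∀ z : ℤ, 0 ≤ z → z ^ 2 = 1 → z = 1 := by
    intro z hz0 hz
    have hz' : (z - 1) * (z + 1) = 0 := by ring_nf; linarith
    rcases mul_eq_zero.1 hz' with h | h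
    · omega
    · omega
  have hc1 := hsq _ (hcnn μ₁) hc1sq
  have hc2 := hsq _ (hcnn μ₂) hc2sq
  have hval_ne : (μ₁ : G → ℂ) ≠ (μ₂ : G → ℂ) := fun h => hne12 (Subtype.ext h).symm
  refine ⟨μ₁, μ₂, μ₁.2, μ₂.2, hval_ne, ?_⟩
  rw [hX2, hc1, hc2]
  simp

end

end Cfsg.Agent.Lib.Helper26
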