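import Mathlib
import Cfsg.Prelude.Def_Characters
import Cfsg.Prelude.Def_ParabolicCharacters
import Cfsg.Agent.Lib.Helper26.PrincipalGL2
import Cfsg.Agent.Lib.Helper26.GL2Values
import Cfsg.Agent.Lib.Helper26.NormTwo

/-!
# Constituents of the principal series of `GL₂(q)` (helper26)

`Ind(α,α) = α∘det + St_α`; an irreducible character whose average over the unipotent subgroup is
non-zero is a constituent of some `Ind(α,β)`.
-/

set_option autoImplicit false

namespace Cfsg.Agent.Lib.Helper26.PS
open Cfsg Cfsg.Agent.Lib.Helper26 Cfsg.Agent.Lib.Helper12.GL2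
open scoped ComplexConjugate

local notation "GL2" => Matrix.GeneralLinearGroup (Fin 2)

section basic
variable {F : Type*} [Field F]

/-- the linear character `α ∘ det` as a monoid homomorphism -/
noncomputable def detHom (α : MulChar F ℂ) : GL2 F →* ℂ :=
  α.toMonoidHom.comp ((Units.coeHom F).comp Matrix.GeneralLinearGroup.det)

/-- the linear character `α ∘ det` -/
noncomputable def detFun (α : MulChar F ℂ) : GL2 F → ℂ :=
  fun g => α ((g : Matrix (Fin 2) (Fin 2) F).det)

theorem detFun_eq_detHom (α : MulChar F ℂ) (g : GL2 F) : detFun α g = detHom α g := rfl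

theorem detFun_eq_linFun (α : MulChar F ℂ) : detFun α = linFun (detHom α).toHomUnits := by
  funext g
  rw [detFun_eq_detHom, linFun_apply, MonoidHom.coe_toHomUnits]

theorem isIrrCharacter_detFun (α : MulChar F ℂ) : IsIrrCharacter (GL2 F) (detFun α) := by
  rw [detFun_eq_linFun]
  exact isIrrCharacter_linFun _

theorem detFun_one (α : MulChar F ℂ) : detFun α 1 = 1 := by
  rw [detFun_eq_detHom, map_one]

theorem detFun_um (α : MulChar F ℂ) (t : F) : detFun α (um t) = 1 := by
  unfold detFun
  rw [det_eq, um_00, um_11, um_01, um_10, mul_zero, sub_zero, mul_one, map_one]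

theorem detFun_restrict (α : MulChar F ℂ) :
    (detFun α) ∘ (Cfsg.upperTriangularGL 2 F).subtype = psFun α α := by
  funext b
  have hb := (mem_upper_iff _).1 b.2
  show α (((b : GL2 F) : Matrix (Fin 2) (Fin 2) F).det) = _
  rw [det_eq, hb, mul_zero, sub_zero, map_mul]
  rfl

theorem um_conj (t : F) (ht : t ≠ 0) :
    um t = mk t 0 0 1 (by simpa using ht) * um 1 * (mk t 0 0 1 (by simpa using ht))⁻¹ := by
  rw [eq_mul_inv_iff_mul_eq]
  apply ext4 <;> simp [mul_apply']

theorem class_um {χ : GL2 F → ℂ} (hχ : IsClassFunction (GL2 F) χ) (t : F) (ht : t ≠ 0) :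
    χ (um t) = χ (um 1) := by
  rw [um_conj t ht]
  exact hχ _ _

end basic

section finite
variable {F : Type*} [Field F] [Fintype F] [DecidableEq F]

noncomputable local instance instFintypeUpperAux'' : Fintype ↥(Cfsg.upperTriangularGL 2 F) :=
  Fintype.ofFinite _

noncomputable local instance instFintypeMulCharAux : Fintype (MulChar F ℂ) :=
  Fintype.ofFinite _

theorem sum_um {χ : GL2 F → ℂ} (hχ : IsClassFunction (GL2 F) χ) :
    ∑ t : F, χ (um t) = χ 1 + ((Fintype.card F : ℂ) - 1) * χ (um 1) := by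
  rw [← Finset.add_sum_erase Finset.univ _ (Finset.mem_univ (0 : F)), um_zero]
  congr 1
  rw [Finset.sum_congr rfl (fun t ht => class_um hχ t (Finset.ne_of_mem_erase ht)),
    Finset.sum_const, Finset.card_erase_of_mem (Finset.mem_univ _), Finset.card_univ,
    nsmul_eq_mul, Nat.cast_sub Fintype.card_pos, Nat.cast_one]

theorem classInner_ps_det (α : MulChar F ℂ) :
    classInner (indFun (Cfsg.upperTriangularGL 2 F) (psFun α α)) (detFun α) = 1 := by
  rw [classInner_indFun_left' _ _ _ (isClassFunction_of_isIrrCharacter (isIrrCharacter_detFun α)),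
    detFun_restrict, classInner_psFun, if_pos ⟨rfl, rfl⟩]

/-- the Steinberg-type constituent of `Ind(α, α)` -/
noncomputable def stFun (α : MulChar F ℂ) : GL2 F → ℂ :=
  indFun (Cfsg.upperTriangularGL 2 F) (psFun α α) - detFun α

theorem ps_diag_decomp (α : MulChar F ℂ) :
    IsIrrCharacter (GL2 F) (stFun α) ∧ stFun α ≠ detFun α := by
  have hchar : IsCharacter (GL2 F) (indFun (Cfsg.upperTriangularGL 2 F) (psFun α α)) :=
    isCharacter_indFun _ (isCharacter_of_isIrrCharacter (isIrrCharacter_psFun α α))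
  have hnorm : classInner (indFun (Cfsg.upperTriangularGL 2 F) (psFun α α))
      (indFun (Cfsg.upperTriangularGL 2 F) (psFun α α)) = 2 := by
    rw [classInner_ps, if_pos ⟨rfl, rfl⟩]
    norm_num
  obtain ⟨μ₁, μ₂, h₁, h₂, hne, hsum⟩ := char_norm_two hchar hnorm
  have hdet := isIrrCharacter_detFun α
  have h1 := classInner_ps_det α
  rw [hsum, classInner_add_left, classInner_irr h₁ hdet, classInner_irr h₂ hdet] at h1
  by_cases e1 : μ₁ = detFun α
  · have h2 : stFun α = μ₂ := by
      unfold stFun
      rw [hsum, e1]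
      simp
    rw [h2]
    exact ⟨h₂, fun h => hne (e1.trans h.symm)⟩
  · by_cases e2 : μ₂ = detFun α
    · have h2 : stFun α = μ₁ := by
        unfold stFun
        rw [hsum, e2]
        simp
      rw [h2]
      exact ⟨h₁, e1⟩
    · rw [if_neg e1, if_neg e2] at h1
      norm_num at h1

theorem eq_of_constituent_diag (α : MulChar F ℂ) {χ : GL2 F → ℂ}
    (hχ : IsIrrCharacter (GL2 F) χ)
    (h : classInner χ (indFun (Cfsg.upperTriangularGL 2 F) (psFun α α)) ≠ 0) :
    χ = detFun α ∨ χ = stFun α := by
  have hdecomp : indFun (Cfsg.upperTriangularGL 2 F) (psFun α α) = detFun α + stFun α := by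
    unfold stFun
    simp
  rw [hdecomp, classInner_add_right, classInner_irr hχ (isIrrCharacter_detFun α),
    classInner_irr hχ (ps_diag_decomp α).1] at h
  by_cases e1 : χ = detFun α
  · left; exact e1
  · by_cases e2 : χ = stFun α
    · right; exact e2
    · rw [if_neg e1, if_neg e2, add_zero] at h
      exact absurd rfl h

/-- dual orthogonality for multiplicative characters -/
theorem sum_mulChar_apply (x : Fˣ) :
    ∑ α : MulChar F ℂ, α (x : F) = if x = 1 then (Fintype.card Fˣ : ℂ) else 0 := by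
  split_ifs with hx
  · subst hx
    simp only [Units.val_one, map_one, Finset.sum_const, Finset.card_univ, nsmul_eq_mul, mul_one]
    have h := MulChar.card_eq_card_units_of_hasEnoughRootsOfUnity F ℂ
    rw [Nat.card_eq_fintype_card, Nat.card_eq_fintype_card] at h
    rw [h]
  · have hx' : (x : F) ≠ 1 := fun h => hx (Units.ext h)
    obtain ⟨χ, hχ⟩ := MulChar.exists_apply_ne_one_of_hasEnoughRootsOfUnity F ℂ hx'
    refine eq_zero_of_mul_eq_self_left hχ ?_
    simp only [Finset.mul_sum, ← MulChar.mul_apply]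
    exact Fintype.sum_bijective _ (Group.mulLeft_bijective χ) _ _ fun χ' ↦ rfl

theorem sum_psFun_equivUpper (a d : Fˣ) (t : F) :
    (∑ α : MulChar F ℂ, ∑ β : MulChar F ℂ, psFun α β) (equivUpper (a, d, t)) =
      (if a = 1 then (Fintype.card Fˣ : ℂ) else 0) *
        (if d = 1 then (Fintype.card Fˣ : ℂ) else 0) := by
  simp only [Finset.sum_apply, psFun_equivUpper]
  rw [← sum_mulChar_apply a, ← sum_mulChar_apply d, Finset.sum_mul_sum]

/-- the sum of the multiplicities in all `Ind(α,β)` is the average over the unipotent subgroup -/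
theorem sum_classInner_ps (χ : GL2 F → ℂ) (hχ : IsClassFunction (GL2 F) χ) :
    ∑ α : MulChar F ℂ, ∑ β : MulChar F ℂ,
      classInner χ (indFun (Cfsg.upperTriangularGL 2 F) (psFun α β)) =
      (Fintype.card F : ℂ)⁻¹ * ∑ t : F, χ (um t) := by
  have h1 : ∀ α β : MulChar F ℂ,
      classInner χ (indFun (Cfsg.upperTriangularGL 2 F) (psFun α β)) =
      classInner (χ ∘ (Cfsg.upperTriangularGL 2 F).subtype) (psFun α β) :=
    fun α β => classInner_indFun_right' _ χ hχ _
  simp only [h1]
  rw [Finset.sum_congr rfl (fun α _ => (classInner_sum_right Finset.univ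
    (χ ∘ (Cfsg.upperTriangularGL 2 F).subtype) (fun β => psFun α β)).symm),
    ← classInner_sum_right]
  unfold classInner
  rw [sum_upper (fun b => (χ ∘ (Cfsg.upperTriangularGL 2 F).subtype) b *
    conj ((∑ α : MulChar F ℂ, ∑ β : MulChar F ℂ, psFun α β) b))]
  simp only [sum_psFun_equivUpper]
  rw [Finset.sum_eq_single (1 : Fˣ)]
  · rw [Finset.sum_eq_single (1 : Fˣ)]
    · rw [if_pos rfl, card_upper]
      have hq : (Fintype.card F : ℂ) ≠ 0 := Nat.cast_ne_zero.2 Fintype.card_ne_zero
      have hu : (Fintype.card Fˣ : ℂ) ≠ 0 := Nat.cast_ne_zero.2 Fintype.card_ne_zero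
      have h2 : ∀ t : F, (χ ∘ (Cfsg.upperTriangularGL 2 F).subtype) (equivUpper (1, 1, t)) =
          χ (um t) := by
        intro t
        show χ ((equivUpper ((1 : Fˣ), (1 : Fˣ), t) : ↥(Cfsg.upperTriangularGL 2 F)) : GL2 F) = _
        congr 1
      simp only [h2, map_mul, map_natCast]
      rw [← Finset.sum_mul]
      push_cast
      field_simp
    · intro d _ hd
      apply Finset.sum_eq_zero
      intro t _
      rw [if_neg hd, mul_zero, map_zero, mul_zero]
    · intro h
      exact absurd (Finset.mem_univ _) h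
  · intro a _ ha
    apply Finset.sum_eq_zero
    intro d _
    apply Finset.sum_eq_zero
    intro t _
    rw [if_neg ha, zero_mul, map_zero, mul_zero]
  · intro h
    exact absurd (Finset.mem_univ _) h

theorem exists_ps_of_avg_ne_zero {χ : GL2 F → ℂ} (hχ : IsIrrCharacter (GL2 F) χ)
    (h : ∑ t : F, χ (um t) ≠ 0) :
    ∃ α β : MulChar F ℂ,
      classInner χ (indFun (Cfsg.upperTriangularGL 2 F) (psFun α β)) ≠ 0 := by
  by_contra hcon
  push_neg at hcon
  have h1 := sum_classInner_ps χ (isClassFunction_of_isIrrCharacter hχ)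
  simp only [hcon, Finset.sum_const_zero] at h1
  have hq : (Fintype.card F : ℂ) ≠ 0 := Nat.cast_ne_zero.2 Fintype.card_ne_zero
  rcases mul_eq_zero.1 h1.symm with h2 | h2
  · exact hq (inv_eq_zero.1 h2)
  · exact h h2

/-- an irreducible character with non-zero average over the unipotent subgroup is a principal
series character, a determinant character or a Steinberg-type character -/
theorem cases_of_avg_ne_zero {χ : GL2 F → ℂ} (hχ : IsIrrCharacter (GL2 F) χ)
    (h : ∑ t : F, χ (um t) ≠ 0) :
    (∃ α β : MulChar F ℂ, α ≠ β ∧ χ = indFun (Cfsg.upperTriangularGL 2 F) (psFun α β)) ∨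
      (∃ α : MulChar F ℂ, χ = detFun α) ∨ (∃ α : MulChar F ℂ, χ = stFun α) := by
  obtain ⟨α, β, hαβ⟩ := exists_ps_of_avg_ne_zero hχ h
  by_cases e : α = β
  · subst e
    rcases eq_of_constituent_diag α hχ hαβ with h1 | h1
    · exact Or.inr (Or.inl ⟨α, h1⟩)
    · exact Or.inr (Or.inr ⟨α, h1⟩)
  · left
    exact ⟨α, β, e, eq_of_classInner_ne_zero hχ (ps_irr α β e) hαβ⟩

/-- the degree of a principal series character -/
theorem ps_degree (α β : MulChar F ℂ) :
    indFun (Cfsg.upperTriangularGL 2 F) (psFun α β) 1 = (Fintype.card F : ℂ) + 1 := by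
  have hcS : (Fintype.card (GL2 F) : ℂ) =
      (((Fintype.card Fˣ) ^ 2 * (Fintype.card Fˣ + 1) * (Fintype.card Fˣ + 2) : ℕ) : ℂ) := by
    rw [← card_GL2', Nat.card_eq_fintype_card]
  have hu : (Fintype.card Fˣ : ℂ) ≠ 0 := Nat.cast_ne_zero.2 Fintype.card_ne_zero
  have hq : ((Fintype.card Fˣ : ℂ) + 1) ≠ 0 := by
    have h := Nat.cast_ne_zero (R := ℂ).2 (Nat.succ_ne_zero (Fintype.card Fˣ))
    rwa [Nat.cast_succ] at h
  rw [indFun_one, psFun_one, mul_one, hcS, card_upper, card_F_eq (F := F)]
  push_cast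
  field_simp
  ring

theorem stFun_one (α : MulChar F ℂ) : stFun α 1 = (Fintype.card F : ℂ) := by
  unfold stFun
  rw [Pi.sub_apply, ps_degree, detFun_one]
  ring

theorem stFun_um (α : MulChar F ℂ) (s : F) (hs : s ≠ 0) : stFun α (um s) = 0 := by
  unfold stFun
  rw [Pi.sub_apply, ps_value_um α α s hs, detFun_um, sub_self]

end finite

end Cfsg.Agent.Lib.Helper26.PS
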