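import Mathlib
import Cfsg.Prelude.Def_Characters
import Cfsg.Prelude.Def_ParabolicCharacters
import Cfsg.Agent.Lib.Helper26.PrincipalGL2
import Cfsg.Agent.Lib.Helper26.GL2Values
import Cfsg.Agent.Lib.Helper26.GL2Const
import Cfsg.Agent.Lib.Helper4.RepEigen
import Cfsg.Agent.Lib.Helper4.FaithfulIrr

/-!
# Irreducible characters of `GL₂(q)` with vanishing average over the unipotent subgroup (helper26)
-/

set_option autoImplicit false

namespace Cfsg.Agent.Lib.Helper26.PS
open Cfsg Cfsg.Agent.Lib.Helper26 Cfsg.Agent.Lib.Helper12.GL2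
open scoped ComplexConjugate

local notation "GL2" => Matrix.GeneralLinearGroup (Fin 2)

section general

/-- multiplying by a central element does not change the absolute value of an irreducible
character -/
theorem norm_char_center_mul {G : Type*} [Group G] [Finite G] {χ : G → ℂ}
    (hχ : IsIrrCharacter G χ) (z : G) (hz : z ∈ Subgroup.center G) (g : G) :
    ‖χ (z * g)‖ = ‖χ g‖ := by
  obtain ⟨n, ρ, hirr, rfl⟩ := hχ
  obtain ⟨ζ, hζ⟩ := Cfsg.Agent.Lib.Helper4.exists_scalar_of_mem_center ρ hirr z hz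
  have hnt := Cfsg.Agent.Lib.Helper4.nontrivial_of_irreducible ρ hirr
  rw [← Module.End.one_eq_id] at hζ
  have hpow : ζ ^ (Nat.card G) = 1 := by
    have h1 : ρ (z ^ Nat.card G) = 1 := by rw [pow_card_eq_one', map_one]
    rw [map_pow, hζ, smul_pow, one_pow] at h1
    obtain ⟨v, hv⟩ := exists_ne (0 : Fin n → ℂ)
    have h3 := LinearMap.congr_fun h1 v
    rw [LinearMap.smul_apply, Module.End.one_apply] at h3
    have h4 : (ζ ^ Nat.card G - 1) • v = 0 := by
      rw [sub_smul, one_smul, h3, sub_self]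
    rcases smul_eq_zero.1 h4 with h5 | h5
    · exact sub_eq_zero.1 h5
    · exact absurd h5 hv
  have hnorm : ‖ζ‖ = 1 := Complex.norm_eq_one_of_pow_eq_one hpow Nat.card_pos.ne'
  show ‖LinearMap.trace ℂ _ (ρ (z * g))‖ = ‖LinearMap.trace ℂ _ (ρ g)‖
  rw [map_mul, hζ, smul_mul_assoc, one_mul, map_smul, smul_eq_mul, norm_mul, hnorm, one_mul]

/-- the sum of the squared absolute values of an irreducible character -/
theorem sum_normSq_irr {G : Type*} [Group G] [Fintype G] {χ : G → ℂ}
    (hχ : IsIrrCharacter G χ) : ∑ g : G, Complex.normSq (χ g) = (Fintype.card G : ℝ) := by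
  have h1 := classInner_irr hχ hχ
  rw [if_pos rfl] at h1
  unfold classInner at h1
  have hne : (Nat.card G : ℂ) ≠ 0 := Nat.cast_ne_zero.2 Nat.card_pos.ne'
  have h2 : ∑ g : G, χ g * conj (χ g) = (Nat.card G : ℂ) := by
    field_simp at h1
    exact h1
  simp only [Complex.mul_conj] at h2
  rw [Nat.card_eq_fintype_card] at h2
  have h3 : ((∑ g : G, Complex.normSq (χ g) : ℝ) : ℂ) = ((Fintype.card G : ℝ) : ℂ) := by
    push_cast
    exact h2
  exact Complex.ofReal_injective h3

end general

section basic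
variable {F : Type*} [Field F]

/-- scalar matrices -/
noncomputable def zEl (x : Fˣ) : GL2 F := mk (x : F) 0 0 (x : F) (by simp)

theorem zEl_mem_center (x : Fˣ) : zEl x ∈ Subgroup.center (GL2 F) := by
  rw [Subgroup.mem_center_iff]
  intro g
  apply ext4 <;> simp [mul_apply', zEl] <;> ring

/-- the lower unitriangular element, a conjugate of `um 1` -/
noncomputable def loEl : GL2 F := wEl * um 1 * wEl⁻¹

theorem loEl_not_mem : (loEl : GL2 F) ∉ Cfsg.upperTriangularGL 2 F := by
  rw [mem_upper_iff]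
  unfold loEl
  rw [wEl_inv]
  simp [mul_apply', wEl]

theorem zu_mem (x : Fˣ) (t : F) : zEl x * um t ∈ Cfsg.upperTriangularGL 2 F := by
  rw [mem_upper_iff]
  simp [mul_apply', zEl]

theorem zu_injective : Function.Injective (fun p : Fˣ × F => (zEl p.1 * um p.2 : GL2 F)) := by
  rintro ⟨x, t⟩ ⟨x', t'⟩ h
  simp only at h
  have e00 := congrArg (fun z : GL2 F => z 0 0) h
  have e01 := congrArg (fun z : GL2 F => z 0 1) h
  simp [mul_apply', zEl] at e00 e01
  have hx : x = x' := Units.ext e00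
  subst hx
  have ht : t = t' := mul_left_cancel₀ (Units.ne_zero x) e01
  rw [ht]

end basic

section finite
variable {F : Type*} [Field F] [Fintype F] [DecidableEq F]

/-- if the average of an irreducible character over the unipotent subgroup vanishes, so do all its
averages over cosets of the unipotent subgroup -/
theorem sum_mul_um_eq_zero {χ : GL2 F → ℂ} (hχ : IsIrrCharacter (GL2 F) χ)
    (h : ∑ t : F, χ (um t) = 0) (g : GL2 F) : ∑ t : F, χ (g * um t) = 0 := by
  obtain ⟨n, ρ, -, rfl⟩ := hχ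
  obtain ⟨E, hE⟩ : ∃ E : Module.End ℂ (Fin n → ℂ), E = ∑ t : F, ρ (um t) := ⟨_, rfl⟩
  have hq : (Fintype.card F : ℂ) ≠ 0 := Nat.cast_ne_zero.2 Fintype.card_ne_zero
  have hEE : E * E = (Fintype.card F : ℂ) • E := by
    have h1 : ∀ s : F, ρ (um s) * E = E := by
      intro s
      rw [hE, Finset.mul_sum]
      simp only [← map_mul, ← um_add]
      exact Fintype.sum_equiv (Equiv.addLeft s) _ _ (fun t => rfl)
    nth_rewrite 1 [hE]
    rw [Finset.sum_mul, Finset.sum_congr rfl (fun s _ => h1 s), Finset.sum_const,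
      Finset.card_univ, ← Nat.cast_smul_eq_nsmul ℂ]
  have htr : LinearMap.trace ℂ _ E = 0 := by
    rw [hE, map_sum]
    exact h
  have hP : IsIdempotentElem ((Fintype.card F : ℂ)⁻¹ • E) := by
    unfold IsIdempotentElem
    rw [smul_mul_smul_comm, hEE, smul_smul, mul_assoc, inv_mul_cancel₀ hq, mul_one]
  have hP0 : (Fintype.card F : ℂ)⁻¹ • E = 0 := by
    apply LinearMap.IsIdempotentElem.eq_zero_of_trace_eq_zero hP
    rw [map_smul, htr, smul_zero]
  have hE0 : E = 0 := by
    rcases smul_eq_zero.1 hP0 with h1 | h1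
    · exact absurd (inv_eq_zero.1 h1) hq
    · exact h1
  have h2 : ∑ t : F, ρ.character (g * um t) = LinearMap.trace ℂ _ (ρ g * E) := by
    rw [hE, Finset.mul_sum, map_sum]
    apply Finset.sum_congr rfl
    intro t _
    rw [← map_mul]
    rfl
  rw [h2, hE0, mul_zero, map_zero]

/-- an irreducible character with vanishing unipotent average vanishes at the diagonal elements
with distinct entries -/
theorem value_split_zero {χ : GL2 F → ℂ} (hχ : IsIrrCharacter (GL2 F) χ)
    (h : ∑ t : F, χ (um t) = 0) (g : GL2 F) (h01 : g 0 1 = 0) (h10 : g 1 0 = 0)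
    (hne : g 0 0 ≠ g 1 1) : χ g = 0 := by
  have hcf := isClassFunction_of_isIrrCharacter hχ
  have hsub : g 1 1 - g 0 0 ≠ 0 := sub_ne_zero.2 (Ne.symm hne)
  have h1 : ∀ t : F, χ (g * um t) = χ g := by
    intro t
    have h2 : g * um t = um (g 0 0 * t / (g 1 1 - g 0 0)) * g *
        (um (g 0 0 * t / (g 1 1 - g 0 0)))⁻¹ := by
      rw [eq_mul_inv_iff_mul_eq]
      apply ext4
      · simp only [mul_apply', um_00, um_01, um_10, um_11, h01, h10]
        ring
      · simp only [mul_apply', um_00, um_01, um_10, um_11, h01, h10]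
        field_simp
        ring
      · simp only [mul_apply', um_00, um_01, um_10, um_11, h01, h10]
        ring
      · simp only [mul_apply', um_00, um_01, um_10, um_11, h01, h10]
        ring
    rw [h2]
    exact hcf _ _
  have h3 := sum_mul_um_eq_zero hχ h g
  rw [Finset.sum_congr rfl (fun t _ => h1 t), Finset.sum_const, Finset.card_univ,
    nsmul_eq_mul] at h3
  have hq : (Fintype.card F : ℂ) ≠ 0 := Nat.cast_ne_zero.2 Fintype.card_ne_zero
  rcases mul_eq_zero.1 h3 with h4 | h4
  · exact absurd h4 hq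
  · exact h4

/-- the norm inequality from the subgroup of scalar multiples of unipotent elements -/
theorem normSq_ineq {χ : GL2 F → ℂ} (hχ : IsIrrCharacter (GL2 F) χ) :
    (Fintype.card Fˣ : ℝ) * (Complex.normSq (χ 1) +
      (Fintype.card Fˣ : ℝ) * Complex.normSq (χ (um 1))) + Complex.normSq (χ (um 1)) ≤
      (Fintype.card (GL2 F) : ℝ) := by
  classical
  have hcf := isClassFunction_of_isIrrCharacter hχ
  rw [← sum_normSq_irr hχ]
  have hlo : χ (loEl : GL2 F) = χ (um 1) := hcf _ _
  have hdisj : Disjoint (Finset.univ.image (fun p : Fˣ × F => (zEl p.1 * um p.2 : GL2 F)))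
      {(loEl : GL2 F)} := by
    rw [Finset.disjoint_singleton_right]
    intro hmem
    obtain ⟨p, -, hp⟩ := Finset.mem_image.1 hmem
    apply loEl_not_mem (F := F)
    rw [← hp]
    exact zu_mem p.1 p.2
  have hle := Finset.sum_le_univ_sum_of_nonneg
    (s := (Finset.univ.image (fun p : Fˣ × F => (zEl p.1 * um p.2 : GL2 F))) ∪ {(loEl : GL2 F)})
    (f := fun g : GL2 F => Complex.normSq (χ g)) (fun g => Complex.normSq_nonneg _)
  rw [Finset.sum_union hdisj, Finset.sum_singleton,
    Finset.sum_image (fun p _ q _ h => zu_injective h), Fintype.sum_prod_type] at hle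
  refine le_trans (le_of_eq ?_) hle
  rw [hlo]
  congr 1
  have h1 : ∀ (x : Fˣ) (t : F), Complex.normSq (χ (zEl x * um t)) = Complex.normSq (χ (um t)) := by
    intro x t
    rw [Complex.normSq_eq_norm_sq, Complex.normSq_eq_norm_sq,
      norm_char_center_mul hχ _ (zEl_mem_center x)]
  have h2 : ∑ t : F, Complex.normSq (χ (um t)) = Complex.normSq (χ 1) +
      (Fintype.card Fˣ : ℝ) * Complex.normSq (χ (um 1)) := by
    rw [← Finset.add_sum_erase Finset.univ _ (Finset.mem_univ (0 : F)), um_zero]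
    congr 1
    rw [Finset.sum_congr rfl (fun t ht => by rw [class_um hcf t (Finset.ne_of_mem_erase ht)]),
      Finset.sum_const, Finset.card_erase_of_mem (Finset.mem_univ _), Finset.card_univ,
      nsmul_eq_mul, Fintype.card_units]
  simp only [h1, h2, Finset.sum_const, Finset.card_univ, nsmul_eq_mul]

/-- integrality: if the unipotent average vanishes, `q - 1` divides the degree -/
theorem dvd_of_avg_zero {χ : GL2 F → ℂ} (hχ : IsIrrCharacter (GL2 F) χ)
    (h : ∑ t : F, χ (um t) = 0) :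
    ∃ k : ℕ, χ 1 = ((k * Fintype.card Fˣ : ℕ) : ℂ) ∧ χ (um 1) = -(k : ℂ) := by
  have hcf := isClassFunction_of_isIrrCharacter hχ
  rw [sum_um hcf] at h
  have hu : (Fintype.card Fˣ : ℂ) ≠ 0 := Nat.cast_ne_zero.2 Fintype.card_ne_zero
  have hq1 : (Fintype.card F : ℂ) - 1 = (Fintype.card Fˣ : ℂ) := by
    rw [card_F_eq (F := F)]
    push_cast
    ring
  rw [hq1] at h
  obtain ⟨d, hdpos, hd⟩ := irr_degree hχ
  have hint : IsIntegral ℤ (χ (um 1)) := by
    obtain ⟨n, ρ, -, rfl⟩ := hχ
    exact Cfsg.Agent.Lib.Helper4.character_isIntegral ρ (um 1)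
  have hc : χ (um 1) = -((d : ℂ) / (Fintype.card Fˣ : ℂ)) := by
    rw [hd] at h
    field_simp
    linear_combination h
  have hint2 : IsIntegral ℤ (((d : ℚ) / (Fintype.card Fˣ : ℚ) : ℚ) : ℂ) := by
    have h1 : (((d : ℚ) / (Fintype.card Fˣ : ℚ) : ℚ) : ℂ) = -(χ (um 1)) := by
      rw [hc]
      push_cast
      ring
    rw [h1]
    exact hint.neg
  have hint3 : IsIntegral ℤ ((d : ℚ) / (Fintype.card Fˣ : ℚ)) :=
    (isIntegral_algebraMap_iff (algebraMap ℚ ℂ).injective).1 hint2
  obtain ⟨y, hy⟩ := IsIntegrallyClosed.isIntegral_iff.1 hint3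
  have huq : (Fintype.card Fˣ : ℚ) ≠ 0 := Nat.cast_ne_zero.2 Fintype.card_ne_zero
  have hy2 : (y : ℚ) * (Fintype.card Fˣ : ℚ) = (d : ℚ) := by
    have : (algebraMap ℤ ℚ) y = (y : ℚ) := rfl
    rw [this] at hy
    rw [hy]
    field_simp
  have hy3 : y * (Fintype.card Fˣ : ℤ) = (d : ℤ) := by exact_mod_cast hy2
  have hypos : 0 ≤ y := by
    by_contra hneg
    push Not at hneg
    have hupos : (0 : ℤ) < (Fintype.card Fˣ : ℤ) := by exact_mod_cast Fintype.card_pos
    have : y * (Fintype.card Fˣ : ℤ) < 0 := mul_neg_of_neg_of_pos hneg hupos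
    rw [hy3] at this
    have : (0 : ℤ) ≤ (d : ℤ) := Int.natCast_nonneg d
    omega
  obtain ⟨k, hk⟩ := Int.eq_ofNat_of_zero_le hypos
  subst hk
  have hdk : d = k * Fintype.card Fˣ := by exact_mod_cast hy3.symm
  refine ⟨k, ?_, ?_⟩
  · rw [hd, hdk]
  · rw [hc, hdk]
    push_cast
    field_simp

end finite

end Cfsg.Agent.Lib.Helper26.PS
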