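import Mathlib
import Cfsg.Agent.Lib.Helper12.GL2
import Cfsg.Agent.Lib.Helper26.GL2Cusp

/-!
# The conjugacy classes of `GL₂(q)` (helper26)

A non-scalar element is conjugate to the companion matrix of its characteristic polynomial, hence
`GL₂(q)` has `q² - 1` conjugacy classes.
-/

set_option autoImplicit false

namespace Cfsg.Agent.Lib.Helper26.PS
open Cfsg.Agent.Lib.Helper12.GL2

local notation "GL2" => Matrix.GeneralLinearGroup (Fin 2)

section basic
variable {F : Type*} [Field F]

/-- the trace in terms of entries -/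
def trEl (g : GL2 F) : F := g 0 0 + g 1 1

/-- the determinant as a unit -/
noncomputable def dU (g : GL2 F) : Fˣ := Matrix.GeneralLinearGroup.det g

theorem dU_coe (g : GL2 F) : ((dU g : Fˣ) : F) = g 0 0 * g 1 1 - g 0 1 * g 1 0 := by
  rw [← det_eq]
  rfl

theorem trEl_conj (h g : GL2 F) : trEl (h * g * h⁻¹) = trEl g := by
  have h1 := Matrix.trace_units_conj h (g : Matrix (Fin 2) (Fin 2) F)
  rw [Matrix.trace_fin_two, Matrix.trace_fin_two] at h1
  exact h1

theorem dU_conj (h g : GL2 F) : dU (h * g * h⁻¹) = dU g := by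
  unfold dU
  rw [map_mul, map_mul, map_inv, mul_comm, inv_mul_cancel_left]

/-- scalar matrices -/
def IsScalarEl (g : GL2 F) : Prop := g 0 1 = 0 ∧ g 1 0 = 0 ∧ g 0 0 = g 1 1

theorem scalar_ne_zero {g : GL2 F} (h : IsScalarEl g) : g 0 0 ≠ 0 := by
  have hdet := det_ne_zero g
  rw [det_eq, h.1, zero_mul, sub_zero] at hdet
  exact left_ne_zero_of_mul hdet

theorem scalar_eq_zEl {g : GL2 F} (h : IsScalarEl g) :
    g = zEl (Units.mk0 (g 0 0) (scalar_ne_zero h)) := by
  apply ext4
  · simp [zEl]
  · simp [zEl, h.1]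
  · simp [zEl, h.2.1]
  · simp [zEl, h.2.2]

theorem isScalarEl_zEl (x : Fˣ) : IsScalarEl (zEl x : GL2 F) := by
  refine ⟨?_, ?_, ?_⟩ <;> simp [zEl]

theorem scalar_conj {g : GL2 F} (h : IsScalarEl g) (c : GL2 F) : c * g * c⁻¹ = g := by
  have hz : g ∈ Subgroup.center (GL2 F) := by
    rw [scalar_eq_zEl h]
    exact zEl_mem_center _
  rw [Subgroup.mem_center_iff] at hz
  rw [hz c, mul_inv_cancel_right]

theorem not_scalar_conj {g : GL2 F} (h : ¬ IsScalarEl g) (c : GL2 F) :
    ¬ IsScalarEl (c * g * c⁻¹) := by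
  intro hs
  apply h
  have h1 := scalar_conj hs c⁻¹
  have h2 : c⁻¹ * (c * g * c⁻¹) * c⁻¹⁻¹ = g := by group
  rw [h2] at h1
  rw [h1]
  exact hs

/-- the companion matrix with trace `t` and determinant `d` -/
noncomputable def compEl (t : F) (d : Fˣ) : GL2 F := mk 0 (-(d : F)) 1 t (by simp)

theorem trEl_compEl (t : F) (d : Fˣ) : trEl (compEl t d) = t := by
  simp [trEl, compEl]

theorem dU_compEl (t : F) (d : Fˣ) : dU (compEl t d) = d := by
  apply Units.ext
  rw [dU_coe]
  simp [compEl]

theorem not_scalar_compEl (t : F) (d : Fˣ) : ¬ IsScalarEl (compEl t d) := by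
  intro h
  have h1 := h.2.1
  simp [compEl] at h1

/-- Cayley–Hamilton in the basis `v, g v` -/
theorem conj_companion_aux (g : GL2 F) (v0 v1 : F)
    (hdet : v0 * (g 1 0 * v0 + g 1 1 * v1) - (g 0 0 * v0 + g 0 1 * v1) * v1 ≠ 0) :
    IsConj g (compEl (trEl g) (dU g)) := by
  rw [isConj_iff]
  refine ⟨(mk v0 (g 0 0 * v0 + g 0 1 * v1) v1 (g 1 0 * v0 + g 1 1 * v1) hdet)⁻¹, ?_⟩
  rw [inv_inv, mul_assoc, inv_mul_eq_iff_eq_mul]
  apply ext4
  · simp only [mul_apply', compEl, trEl, dU_coe, mk_00, mk_01, mk_10, mk_11]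
    ring
  · simp only [mul_apply', compEl, trEl, dU_coe, mk_00, mk_01, mk_10, mk_11]
    ring
  · simp only [mul_apply', compEl, trEl, dU_coe, mk_00, mk_01, mk_10, mk_11]
    ring
  · simp only [mul_apply', compEl, trEl, dU_coe, mk_00, mk_01, mk_10, mk_11]
    ring

theorem conj_companion (g : GL2 F) (hns : ¬ IsScalarEl g) :
    IsConj g (compEl (trEl g) (dU g)) := by
  by_cases h10 : g 1 0 = 0
  · by_cases h01 : g 0 1 = 0
    · have hne : g 0 0 ≠ g 1 1 := fun h => hns ⟨h01, h10, h⟩
      apply conj_companion_aux g 1 1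
      rw [h10, h01]
      intro h
      apply hne
      linear_combination -h
    · apply conj_companion_aux g 0 1
      intro h
      apply h01
      linear_combination -h
  · apply conj_companion_aux g 1 0
    intro h
    apply h10
    linear_combination h

/-- the class invariant -/
noncomputable def clsInv (g : GL2 F) : Fˣ ⊕ (F × Fˣ) := by
  classical
  exact if h : IsScalarEl g then Sum.inl (Units.mk0 (g 0 0) (scalar_ne_zero h))
    else Sum.inr (trEl g, dU g)

theorem clsInv_of_scalar {g : GL2 F} (h : IsScalarEl g) :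
    clsInv g = Sum.inl (Units.mk0 (g 0 0) (scalar_ne_zero h)) := by
  unfold clsInv
  rw [dif_pos h]

theorem clsInv_of_not_scalar {g : GL2 F} (h : ¬ IsScalarEl g) :
    clsInv g = Sum.inr (trEl g, dU g) := by
  unfold clsInv
  rw [dif_neg h]

theorem clsInv_conj (g c : GL2 F) : clsInv (c * g * c⁻¹) = clsInv g := by
  by_cases h : IsScalarEl g
  · rw [scalar_conj h c]
  · rw [clsInv_of_not_scalar h, clsInv_of_not_scalar (not_scalar_conj h c), trEl_conj, dU_conj]

theorem isConj_of_clsInv_eq {g g' : GL2 F} (h : clsInv g = clsInv g') : IsConj g g' := by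
  by_cases hs : IsScalarEl g
  · by_cases hs' : IsScalarEl g'
    · rw [clsInv_of_scalar hs, clsInv_of_scalar hs'] at h
      have h1 : g 0 0 = g' 0 0 := by
        have := Sum.inl.inj h
        exact congrArg Units.val this
      have h2 : g = g' := by
        apply ext4 h1
        · rw [hs.1, hs'.1]
        · rw [hs.2.1, hs'.2.1]
        · rw [← hs.2.2, ← hs'.2.2, h1]
      rw [h2]
    · rw [clsInv_of_scalar hs, clsInv_of_not_scalar hs'] at h
      exact absurd h (by simp)
  · by_cases hs' : IsScalarEl g'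
    · rw [clsInv_of_not_scalar hs, clsInv_of_scalar hs'] at h
      exact absurd h (by simp)
    · rw [clsInv_of_not_scalar hs, clsInv_of_not_scalar hs'] at h
      have h1 := Sum.inr.inj h
      have ht : trEl g = trEl g' := congrArg Prod.fst h1
      have hd : dU g = dU g' := congrArg Prod.snd h1
      have c1 := conj_companion g hs
      have c2 := conj_companion g' hs'
      rw [ht, hd] at c1
      exact c1.trans c2.symm

/-- the class invariant on conjugacy classes -/
noncomputable def clsMap : ConjClasses (GL2 F) → Fˣ ⊕ (F × Fˣ) :=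
  Quotient.lift clsInv (by
    intro a b hab
    obtain ⟨c, hc⟩ := isConj_iff.1 hab
    rw [← hc, clsInv_conj])

theorem clsMap_mk (g : GL2 F) : clsMap (ConjClasses.mk g) = clsInv g := rfl

theorem clsMap_bijective : Function.Bijective (clsMap (F := F)) := by
  constructor
  · intro a b hab
    obtain ⟨g, rfl⟩ := ConjClasses.mk_surjective a
    obtain ⟨g', rfl⟩ := ConjClasses.mk_surjective b
    rw [clsMap_mk, clsMap_mk] at hab
    exact ConjClasses.mk_eq_mk_iff_isConj.2 (isConj_of_clsInv_eq hab)
  · intro y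
    rcases y with x | ⟨t, d⟩
    · refine ⟨ConjClasses.mk (zEl x), ?_⟩
      rw [clsMap_mk, clsInv_of_scalar (isScalarEl_zEl x)]
      congr 1
      apply Units.ext
      simp [zEl]
    · refine ⟨ConjClasses.mk (compEl t d), ?_⟩
      rw [clsMap_mk, clsInv_of_not_scalar (not_scalar_compEl t d), trEl_compEl, dU_compEl]

/-- `GL₂(q)` has `q² - 1` conjugacy classes -/
theorem card_conjClasses_GL2 [Fintype F] [DecidableEq F] :
    Nat.card (ConjClasses (GL2 F)) = Fintype.card Fˣ * (Fintype.card Fˣ + 2) := by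
  rw [Nat.card_congr (Equiv.ofBijective _ (clsMap_bijective (F := F))), Nat.card_sum, Nat.card_prod,
    Nat.card_eq_fintype_card, Nat.card_eq_fintype_card, card_F_eq (F := F)]
  ring

end basic

end Cfsg.Agent.Lib.Helper26.PS
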