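import Mathlib
import Cfsg.Prelude.Def_Characters
import Cfsg.Prelude.Def_ParabolicCharacters
import Cfsg.Agent.Lib.Helper26.GL2Cusp

/-!
# Irreducible characters of `GL₂(q)` by degree (helper26)

Every irreducible character is a principal series character (degree `q + 1`), a determinant
character (degree `1`), a Steinberg-type character (degree `q`), or has vanishing average over the
unipotent subgroup (degree `k (q - 1)`).  Consequences for the values.
-/

set_option autoImplicit false

namespace Cfsg.Agent.Lib.Helper26.PS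
open Cfsg Cfsg.Agent.Lib.Helper26 Cfsg.Agent.Lib.Helper12.GL2
open scoped ComplexConjugate

local notation "GL2" => Matrix.GeneralLinearGroup (Fin 2)

theorem cusp_arith (k u : ℕ) (hu : 1 ≤ u)
    (hb : k ^ 2 * (u ^ 3 + u ^ 2 + 1) ≤ u ^ 2 * (u + 1) * (u + 2)) :
    k * u ≠ u + 2 ∧ k * u ≠ u + 1 := by
  constructor
  · intro h
    have hu2 : u ≤ 2 := by
      by_contra hcon
      push Not at hcon
      rcases Nat.lt_or_ge k 2 with hk | hk
      · interval_cases k <;> omega
      · have : 2 * u ≤ k * u := Nat.mul_le_mul_right u hk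
        omega
    interval_cases u
    · have hk : k = 3 := by omega
      subst hk
      norm_num at hb
    · have hk : k = 2 := by omega
      subst hk
      norm_num at hb
  · intro h
    have hu1 : u ≤ 1 := by
      by_contra hcon
      push Not at hcon
      rcases Nat.lt_or_ge k 2 with hk | hk
      · interval_cases k <;> omega
      · have : 2 * u ≤ k * u := Nat.mul_le_mul_right u hk
        omega
    interval_cases u
    have hk : k = 2 := by omega
    subst hk
    norm_num at hb

section finite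
variable {F : Type*} [Field F] [Fintype F] [DecidableEq F]

theorem mulChar_norm_one (α : MulChar F ℂ) {z : F} (hz : z ≠ 0) : ‖α z‖ = 1 := by
  have h1 : (α z) ^ (Fintype.card F - 1) = 1 := by
    rw [← map_pow, FiniteField.pow_card_sub_one_eq_one z hz, map_one]
  have h2 : Fintype.card F - 1 ≠ 0 := by
    have := Fintype.one_lt_card (α := F)
    omega
  exact Complex.norm_eq_one_of_pow_eq_one h1 h2

theorem cusp_bound {χ : GL2 F → ℂ} (hχ : IsIrrCharacter (GL2 F) χ)
    (h : ∑ t : F, χ (um t) = 0) :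
    ∃ k : ℕ, χ 1 = ((k * Fintype.card Fˣ : ℕ) : ℂ) ∧ χ (um 1) = -(k : ℂ) ∧
      k ^ 2 * ((Fintype.card Fˣ) ^ 3 + (Fintype.card Fˣ) ^ 2 + 1) ≤
        (Fintype.card Fˣ) ^ 2 * (Fintype.card Fˣ + 1) * (Fintype.card Fˣ + 2) := by
  obtain ⟨k, hk1, hk2⟩ := dvd_of_avg_zero hχ h
  refine ⟨k, hk1, hk2, ?_⟩
  have h1 := normSq_ineq hχ
  have hG : (Fintype.card (GL2 F) : ℝ) =
      (((Fintype.card Fˣ) ^ 2 * (Fintype.card Fˣ + 1) * (Fintype.card Fˣ + 2) : ℕ) : ℝ) := by
    rw [← card_GL2', Nat.card_eq_fintype_card]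
  rw [hG, hk1, hk2, Complex.normSq_neg, Complex.normSq_natCast, Complex.normSq_natCast] at h1
  have h2 : ((k ^ 2 * ((Fintype.card Fˣ) ^ 3 + (Fintype.card Fˣ) ^ 2 + 1) : ℕ) : ℝ) ≤
      (((Fintype.card Fˣ) ^ 2 * (Fintype.card Fˣ + 1) * (Fintype.card Fˣ + 2) : ℕ) : ℝ) := by
    push_cast at h1 ⊢
    linarith [h1]
  exact_mod_cast h2

/-- the classification of the irreducible characters of `GL₂(q)` used below -/
theorem irr_data {χ : GL2 F → ℂ} (hχ : IsIrrCharacter (GL2 F) χ) :
    (χ 1 = (Fintype.card F : ℂ) + 1 ∧ χ (um 1) = 1 ∧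
      ∃ α β : MulChar F ℂ, α ≠ β ∧ χ = indFun (Cfsg.upperTriangularGL 2 F) (psFun α β)) ∨
    (χ 1 = 1 ∧ χ (um 1) = 1 ∧ ∃ α : MulChar F ℂ, χ = detFun α) ∨
    (χ 1 = (Fintype.card F : ℂ) ∧ χ (um 1) = 0 ∧ ∃ α : MulChar F ℂ, χ = stFun α) ∨
    (∑ t : F, χ (um t) = 0 ∧ ∃ k : ℕ, χ 1 = ((k * Fintype.card Fˣ : ℕ) : ℂ) ∧
      χ (um 1) = -(k : ℂ) ∧ k * Fintype.card Fˣ ≠ Fintype.card Fˣ + 2 ∧
      k * Fintype.card Fˣ ≠ Fintype.card Fˣ + 1) := by
  by_cases h : ∑ t : F, χ (um t) = 0
  · right; right; right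
    obtain ⟨k, hk1, hk2, hk3⟩ := cusp_bound hχ h
    have ha := cusp_arith k (Fintype.card Fˣ) Fintype.card_pos hk3
    exact ⟨h, k, hk1, hk2, ha.1, ha.2⟩
  · rcases cases_of_avg_ne_zero hχ h with ⟨α, β, hne, rfl⟩ | ⟨α, rfl⟩ | ⟨α, rfl⟩
    · left
      exact ⟨ps_degree α β, ps_value_um α β 1 one_ne_zero, α, β, hne, rfl⟩
    · right; left
      exact ⟨detFun_one α, detFun_um α 1, α, rfl⟩
    · right; right; left
      exact ⟨stFun_one α, stFun_um α 1 one_ne_zero, α, rfl⟩

/-- values at the transvection by degree -/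
theorem gl2_transvection (hq : 3 ≤ Fintype.card F) {χ : GL2 F → ℂ}
    (hχ : IsIrrCharacter (GL2 F) χ) :
    (χ 1 = 1 → χ (um 1) = 1) ∧ (χ 1 = (Fintype.card F : ℂ) + 1 → χ (um 1) = 1) ∧
    (χ 1 = (Fintype.card F : ℂ) - 1 → χ (um 1) = -1) ∧
    (χ 1 = (Fintype.card F : ℂ) → χ (um 1) = 0) := by
  have hqu := card_F_eq (F := F)
  rcases irr_data hχ with ⟨h1, hc, -⟩ | ⟨h1, hc, -⟩ | ⟨h1, hc, -⟩ | ⟨-, k, h1, hc, hn1, hn2⟩
  · refine ⟨fun _ => hc, fun _ => hc, fun h => ?_, fun h => ?_⟩
    · exfalso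
      rw [h1] at h
      have : (2 : ℂ) = 0 := by linear_combination h
      norm_num at this
    · exfalso
      rw [h1] at h
      have : (1 : ℂ) = 0 := by linear_combination h
      norm_num at this
  · refine ⟨fun _ => hc, fun _ => hc, fun h => ?_, fun h => ?_⟩
    · exfalso
      rw [h1] at h
      have h2 : ((Fintype.card F : ℕ) : ℂ) = ((2 : ℕ) : ℂ) := by
        push_cast
        linear_combination -h
      have h3 : Fintype.card F = 2 := by exact_mod_cast h2
      omega
    · exfalso
      rw [h1] at h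
      have h2 : ((Fintype.card F : ℕ) : ℂ) = ((1 : ℕ) : ℂ) := by
        push_cast
        exact h.symm
      have h3 : Fintype.card F = 1 := by exact_mod_cast h2
      omega
  · refine ⟨fun h => ?_, fun h => ?_, fun h => ?_, fun _ => hc⟩
    · exfalso
      rw [h1] at h
      have h2 : ((Fintype.card F : ℕ) : ℂ) = ((1 : ℕ) : ℂ) := by
        push_cast
        exact h
      have h3 : Fintype.card F = 1 := by exact_mod_cast h2
      omega
    · exfalso
      rw [h1] at h
      have : (1 : ℂ) = 0 := by linear_combination -h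
      norm_num at this
    · exfalso
      rw [h1] at h
      have : (1 : ℂ) = 0 := by linear_combination h
      norm_num at this
  · refine ⟨fun h => ?_, fun h => ?_, fun h => ?_, fun h => ?_⟩
    · exfalso
      rw [h1] at h
      have h3 : k * Fintype.card Fˣ = 1 := by exact_mod_cast h
      have h4 : Fintype.card Fˣ = 1 := Nat.eq_one_of_mul_eq_one_left h3
      omega
    · exfalso
      rw [h1] at h
      have h2 : ((k * Fintype.card Fˣ : ℕ) : ℂ) = ((Fintype.card F + 1 : ℕ) : ℂ) := by
        rw [h]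
        push_cast
        ring
      have h3 : k * Fintype.card Fˣ = Fintype.card F + 1 := by exact_mod_cast h2
      apply hn1
      omega
    · rw [h1] at h
      have h2 : ((k * Fintype.card Fˣ + 1 : ℕ) : ℂ) = ((Fintype.card F : ℕ) : ℂ) := by
        push_cast
        push_cast at h
        rw [h]
        ring
      have h3 : k * Fintype.card Fˣ + 1 = Fintype.card F := by exact_mod_cast h2
      have h4 : k * Fintype.card Fˣ = Fintype.card Fˣ := by omega
      have h5 : k = 1 := by
        have hpos : 0 < Fintype.card Fˣ := Fintype.card_pos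
        exact Nat.eq_of_mul_eq_mul_right hpos (by rw [h4, one_mul])
      rw [hc, h5]
      norm_num
    · exfalso
      rw [h1] at h
      have h3 : k * Fintype.card Fˣ = Fintype.card F := by exact_mod_cast h
      apply hn2
      omega

/-- vanishing of characters of degree `q - 1` and `q + 1` -/
theorem gl2_vanish {χ : GL2 F → ℂ} (hχ : IsIrrCharacter (GL2 F) χ) (g : GL2 F) :
    (χ 1 = (Fintype.card F : ℂ) - 1 → g 0 1 = 0 → g 1 0 = 0 → g 0 0 ≠ g 1 1 → χ g = 0) ∧
    (χ 1 = (Fintype.card F : ℂ) + 1 →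
      (∀ (c : F) (v : Fin 2 → F), v ≠ 0 → (g : Matrix (Fin 2) (Fin 2) F).mulVec v ≠ c • v) →
      χ g = 0) := by
  have hqu := card_F_eq (F := F)
  constructor
  · intro hdeg h01 h10 hne
    have hdet := det_ne_zero g
    rw [det_eq, h01, zero_mul, sub_zero] at hdet
    have hx : g 0 0 ≠ 0 := left_ne_zero_of_mul hdet
    have hy : g 1 1 ≠ 0 := right_ne_zero_of_mul hdet
    have h3 : 2 < Fintype.card F :=
      Fintype.two_lt_card_iff.2 ⟨0, g 0 0, g 1 1, hx.symm, hy.symm, hne⟩
    rcases irr_data hχ with ⟨h1, -, -⟩ | ⟨h1, -, -⟩ | ⟨h1, -, -⟩ | ⟨hsum, -⟩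
    · exfalso
      rw [h1] at hdeg
      have : (2 : ℂ) = 0 := by linear_combination hdeg
      norm_num at this
    · exfalso
      rw [h1] at hdeg
      have h2 : ((Fintype.card F : ℕ) : ℂ) = ((2 : ℕ) : ℂ) := by
        push_cast
        linear_combination -hdeg
      have h4 : Fintype.card F = 2 := by exact_mod_cast h2
      omega
    · exfalso
      rw [h1] at hdeg
      have : (1 : ℂ) = 0 := by linear_combination hdeg
      norm_num at this
    · exact value_split_zero hχ hsum g h01 h10 hne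
  · intro hdeg hno
    rcases irr_data hχ with ⟨-, -, α, β, -, rfl⟩ | ⟨h1, -, -⟩ | ⟨h1, -, -⟩ |
      ⟨-, k, h1, -, hn1, -⟩
    · exact ps_value_elliptic _ g hno
    · exfalso
      rw [h1] at hdeg
      have h2 : ((Fintype.card F : ℕ) : ℂ) = ((0 : ℕ) : ℂ) := by
        push_cast
        linear_combination -hdeg
      have h4 : Fintype.card F = 0 := by exact_mod_cast h2
      have := Fintype.card_pos (α := F)
      omega
    · exfalso
      rw [h1] at hdeg
      have : (1 : ℂ) = 0 := by linear_combination -hdeg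
      norm_num at this
    · exfalso
      rw [h1] at hdeg
      have h2 : ((k * Fintype.card Fˣ : ℕ) : ℂ) = ((Fintype.card F + 1 : ℕ) : ℂ) := by
        rw [hdeg]
        push_cast
        ring
      have h3 : k * Fintype.card Fˣ = Fintype.card F + 1 := by exact_mod_cast h2
      apply hn1
      omega

/-- absolute values of the characters of degree `q` -/
theorem gl2_steinberg_abs {χ : GL2 F → ℂ} (hχ : IsIrrCharacter (GL2 F) χ)
    (hdeg : χ 1 = (Fintype.card F : ℂ)) (g : GL2 F) :
    (g 0 1 = 0 → g 1 0 = 0 → g 0 0 ≠ g 1 1 → ‖χ g‖ = 1) ∧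
    ((∀ (c : F) (v : Fin 2 → F), v ≠ 0 → (g : Matrix (Fin 2) (Fin 2) F).mulVec v ≠ c • v) →
      ‖χ g‖ = 1) := by
  have hqu := card_F_eq (F := F)
  have hdet := det_ne_zero g
  rcases irr_data hχ with ⟨h1, -, -⟩ | ⟨h1, -, -⟩ | ⟨-, -, α, rfl⟩ | ⟨-, k, h1, -, -, hn2⟩
  · exfalso
    rw [h1] at hdeg
    have : (1 : ℂ) = 0 := by linear_combination hdeg
    norm_num at this
  · exfalso
    rw [h1] at hdeg
    have h2 : ((Fintype.card F : ℕ) : ℂ) = ((1 : ℕ) : ℂ) := by
      push_cast
      exact hdeg.symm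
    have h4 : Fintype.card F = 1 := by exact_mod_cast h2
    have := Fintype.one_lt_card (α := F)
    omega
  · constructor
    · intro h01 h10 hne
      have hdet' := hdet
      rw [det_eq, h01, zero_mul, sub_zero] at hdet'
      have hx : g 0 0 ≠ 0 := left_ne_zero_of_mul hdet'
      have hy : g 1 1 ≠ 0 := right_ne_zero_of_mul hdet'
      have hval : stFun α g = α (g 0 0) * α (g 1 1) := by
        unfold stFun detFun
        rw [Pi.sub_apply, ps_value_diag α α g h01 h10 hne, det_eq, h01, zero_mul, sub_zero,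
          map_mul]
        ring
      rw [hval, norm_mul, mulChar_norm_one α hx, mulChar_norm_one α hy, one_mul]
    · intro hno
      have hval : stFun α g = -α ((g : Matrix (Fin 2) (Fin 2) F).det) := by
        unfold stFun detFun
        rw [Pi.sub_apply, ps_value_elliptic _ g hno, zero_sub]
      rw [hval, norm_neg, mulChar_norm_one α hdet]
  · exfalso
    rw [h1] at hdeg
    have h3 : k * Fintype.card Fˣ = Fintype.card F := by exact_mod_cast hdeg
    apply hn2
    omega

end finite

end Cfsg.Agent.Lib.Helper26.PS
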