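import Mathlib
import Cfsg.Prelude.Def_Characters
import Cfsg.Prelude.Def_ParabolicCharacters
import Cfsg.Agent.Lib.Helper26.GL2Irr
import Cfsg.Agent.Lib.Helper26.GL2Classes
import Cfsg.Agent.Lib.Helper4.CharOrtho

/-!
# Counting the irreducible characters of `GL₂(q)` (helper26)

Using the class number `q² - 1`, the sum of the squares of the degrees and the orthogonality of
the columns of `1` and of a transvection, the irreducible characters with vanishing unipotent
average all have degree `q - 1`, and there are `q (q - 1) / 2` of them.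
-/

set_option autoImplicit false

namespace Cfsg.Agent.Lib.Helper26.PS
open Cfsg Cfsg.Agent.Lib.Helper26 Cfsg.Agent.Lib.Helper12.GL2
open scoped ComplexConjugate

local notation "GL2" => Matrix.GeneralLinearGroup (Fin 2)

section general

theorem sum_four {ι : Type*} [Fintype ι] (p₁ p₂ p₃ p₄ : ι → Prop) [DecidablePred p₁]
    [DecidablePred p₂] [DecidablePred p₃] [DecidablePred p₄]
    (hcover : ∀ i, p₁ i ∨ p₂ i ∨ p₃ i ∨ p₄ i)
    (h12 : ∀ i, p₁ i → ¬ p₂ i) (h13 : ∀ i, p₁ i → ¬ p₃ i) (h14 : ∀ i, p₁ i → ¬ p₄ i)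
    (h23 : ∀ i, p₂ i → ¬ p₃ i) (h24 : ∀ i, p₂ i → ¬ p₄ i) (h34 : ∀ i, p₃ i → ¬ p₄ i)
    (f : ι → ℂ) :
    ∑ i, f i = ∑ i ∈ Finset.univ.filter p₁, f i + ∑ i ∈ Finset.univ.filter p₂, f i +
      ∑ i ∈ Finset.univ.filter p₃, f i + ∑ i ∈ Finset.univ.filter p₄, f i := by
  simp only [Finset.sum_filter]
  rw [← Finset.sum_add_distrib, ← Finset.sum_add_distrib, ← Finset.sum_add_distrib]
  apply Finset.sum_congr rfl
  intro i _
  rcases hcover i with h | h | h | h
  · rw [if_pos h, if_neg (h12 i h), if_neg (h13 i h), if_neg (h14 i h)]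
    ring
  · rw [if_neg (fun h' => h12 i h' h), if_pos h, if_neg (h23 i h), if_neg (h24 i h)]
    ring
  · rw [if_neg (fun h' => h13 i h' h), if_neg (fun h' => h23 i h' h), if_pos h,
      if_neg (h34 i h)]
    ring
  · rw [if_neg (fun h' => h14 i h' h), if_neg (fun h' => h24 i h' h),
      if_neg (fun h' => h34 i h' h), if_pos h]
    ring

end general

section finite
variable {F : Type*} [Field F] [Fintype F] [DecidableEq F]

attribute [local instance] instFintypeMulCharAux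

noncomputable local instance instFintypeIrrAux : Fintype (IrrCharacter (GL2 F)) :=
  Fintype.ofFinite _

/-- determinant characters -/
def isD (χ : GL2 F → ℂ) : Prop := ∃ α : MulChar F ℂ, χ = detFun α
/-- Steinberg-type characters -/
def isS (χ : GL2 F → ℂ) : Prop := ∃ α : MulChar F ℂ, χ = stFun α
/-- irreducible principal series characters -/
def isP (χ : GL2 F → ℂ) : Prop :=
  ∃ α β : MulChar F ℂ, α ≠ β ∧ χ = indFun (Cfsg.upperTriangularGL 2 F) (psFun α β)
/-- characters with vanishing unipotent average -/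
def isC (χ : GL2 F → ℂ) : Prop := ∑ t : F, χ (um t) = 0

theorem card_ne_zero_C : (Fintype.card F : ℂ) ≠ 0 := Nat.cast_ne_zero.2 Fintype.card_ne_zero

theorem avg_of_isD {χ : GL2 F → ℂ} (h : isD χ) : ∑ t : F, χ (um t) = (Fintype.card F : ℂ) := by
  obtain ⟨α, rfl⟩ := h
  simp only [detFun_um, Finset.sum_const, Finset.card_univ, nsmul_eq_mul, mul_one]

theorem avg_of_isS {χ : GL2 F → ℂ} (h : isS χ) : ∑ t : F, χ (um t) = (Fintype.card F : ℂ) := by
  obtain ⟨α, rfl⟩ := h
  rw [Finset.sum_eq_single (0 : F), um_zero, stFun_one]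
  · intro t _ ht
    exact stFun_um α t ht
  · intro h
    exact absurd (Finset.mem_univ _) h

theorem avg_of_isP {χ : GL2 F → ℂ} (h : isP χ) :
    ∑ t : F, χ (um t) = 2 * (Fintype.card F : ℂ) := by
  obtain ⟨α, β, -, rfl⟩ := h
  rw [sum_um (isClassFunction_indFun _ _), ps_degree, ps_value_um α β 1 one_ne_zero]
  ring

theorem deg_of_isD {χ : GL2 F → ℂ} (h : isD χ) : χ 1 = 1 := by
  obtain ⟨α, rfl⟩ := h
  exact detFun_one α

theorem deg_of_isS {χ : GL2 F → ℂ} (h : isS χ) : χ 1 = (Fintype.card F : ℂ) := by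
  obtain ⟨α, rfl⟩ := h
  exact stFun_one α

theorem deg_of_isP {χ : GL2 F → ℂ} (h : isP χ) : χ 1 = (Fintype.card F : ℂ) + 1 := by
  obtain ⟨α, β, -, rfl⟩ := h
  exact ps_degree α β

theorem val_of_isD {χ : GL2 F → ℂ} (h : isD χ) : χ (um 1) = 1 := by
  obtain ⟨α, rfl⟩ := h
  exact detFun_um α 1

theorem val_of_isS {χ : GL2 F → ℂ} (h : isS χ) : χ (um 1) = 0 := by
  obtain ⟨α, rfl⟩ := h
  exact stFun_um α 1 one_ne_zero

theorem val_of_isP {χ : GL2 F → ℂ} (h : isP χ) : χ (um 1) = 1 := by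
  obtain ⟨α, β, -, rfl⟩ := h
  exact ps_value_um α β 1 one_ne_zero

theorem cover {χ : GL2 F → ℂ} (hχ : IsIrrCharacter (GL2 F) χ) :
    isD χ ∨ isS χ ∨ isP χ ∨ isC χ := by
  rcases irr_data hχ with ⟨-, -, α, β, hne, h⟩ | ⟨-, -, α, h⟩ | ⟨-, -, α, h⟩ | ⟨h, -⟩
  · exact Or.inr (Or.inr (Or.inl ⟨α, β, hne, h⟩))
  · exact Or.inl ⟨α, h⟩
  · exact Or.inr (Or.inl ⟨α, h⟩)
  · exact Or.inr (Or.inr (Or.inr h))

theorem not_isS_of_isD {χ : GL2 F → ℂ} (h : isD χ) : ¬ isS χ := by
  intro h2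
  have h3 := deg_of_isD h
  rw [deg_of_isS h2] at h3
  have h4 : Fintype.card F = 1 := by exact_mod_cast h3
  have := Fintype.one_lt_card (α := F)
  omega

theorem not_isP_of_isD {χ : GL2 F → ℂ} (h : isD χ) : ¬ isP χ := by
  intro h2
  have h3 := deg_of_isD h
  rw [deg_of_isP h2] at h3
  have h4 : Fintype.card F + 1 = 1 := by exact_mod_cast h3
  have := Fintype.card_pos (α := F)
  omega

theorem not_isP_of_isS {χ : GL2 F → ℂ} (h : isS χ) : ¬ isP χ := by
  intro h2
  have h3 := deg_of_isS h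
  rw [deg_of_isP h2] at h3
  have h4 : Fintype.card F + 1 = Fintype.card F := by exact_mod_cast h3
  omega

theorem not_isC_of_isD {χ : GL2 F → ℂ} (h : isD χ) : ¬ isC χ := by
  intro h2
  unfold isC at h2
  rw [avg_of_isD h] at h2
  exact card_ne_zero_C h2

theorem not_isC_of_isS {χ : GL2 F → ℂ} (h : isS χ) : ¬ isC χ := by
  intro h2
  unfold isC at h2
  rw [avg_of_isS h] at h2
  exact card_ne_zero_C h2

theorem not_isC_of_isP {χ : GL2 F → ℂ} (h : isP χ) : ¬ isC χ := by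
  intro h2
  unfold isC at h2
  rw [avg_of_isP h] at h2
  exact (mul_ne_zero two_ne_zero card_ne_zero_C) h2

theorem detFun_injective : Function.Injective (detFun (F := F)) := by
  intro α β h
  apply MulChar.ext
  intro x
  have h1 := congrFun h (mk (x : F) 0 0 1 (by simp))
  simpa [detFun, det_eq] using h1

theorem stFun_injective : Function.Injective (stFun (F := F)) := by
  intro α β h
  by_contra hne
  have h1 := classInner_ps α α β β
  rw [if_neg (fun h' : α = β ∧ α = β => hne h'.1)] at h1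
  have hda : indFun (Cfsg.upperTriangularGL 2 F) (psFun α α) = detFun α + stFun α := by
    unfold stFun
    simp
  have hdb : indFun (Cfsg.upperTriangularGL 2 F) (psFun β β) = detFun β + stFun β := by
    unfold stFun
    simp
  rw [hda, hdb, classInner_add_left, classInner_add_right, classInner_add_right] at h1
  have e1 := classInner_irr (isIrrCharacter_detFun α) (isIrrCharacter_detFun β)
  have e2 := classInner_irr (isIrrCharacter_detFun α) (ps_diag_decomp β).1
  have e3 := classInner_irr (ps_diag_decomp α).1 (isIrrCharacter_detFun β)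
  have e4 := classInner_irr (ps_diag_decomp α).1 (ps_diag_decomp β).1
  rw [if_pos h] at e4
  rw [e1, e2, e3, e4] at h1
  split_ifs at h1 <;> norm_num at h1

theorem card_mulChar : Fintype.card (MulChar F ℂ) = Fintype.card Fˣ := by
  have h := MulChar.card_eq_card_units_of_hasEnoughRootsOfUnity F ℂ
  rw [Nat.card_eq_fintype_card, Nat.card_eq_fintype_card] at h
  exact h

open scoped Classical in
theorem card_filter_isD :
    (Finset.univ.filter (fun χ : IrrCharacter (GL2 F) => isD (χ : GL2 F → ℂ))).card =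
      Fintype.card Fˣ := by
  have himg : Finset.univ.filter (fun χ : IrrCharacter (GL2 F) => isD (χ : GL2 F → ℂ)) =
      Finset.univ.image (fun α : MulChar F ℂ =>
        (⟨detFun α, isIrrCharacter_detFun α⟩ : IrrCharacter (GL2 F))) := by
    ext χ
    simp only [Finset.mem_filter, Finset.mem_univ, true_and, Finset.mem_image]
    constructor
    · rintro ⟨α, h⟩
      exact ⟨α, Subtype.ext h.symm⟩
    · rintro ⟨α, h⟩
      exact ⟨α, (congrArg Subtype.val h).symm⟩
  rw [himg, Finset.card_image_of_injective, Finset.card_univ, card_mulChar]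
  intro α β h
  exact detFun_injective (congrArg Subtype.val h)

open scoped Classical in
theorem card_filter_isS :
    (Finset.univ.filter (fun χ : IrrCharacter (GL2 F) => isS (χ : GL2 F → ℂ))).card =
      Fintype.card Fˣ := by
  have himg : Finset.univ.filter (fun χ : IrrCharacter (GL2 F) => isS (χ : GL2 F → ℂ)) =
      Finset.univ.image (fun α : MulChar F ℂ =>
        (⟨stFun α, (ps_diag_decomp α).1⟩ : IrrCharacter (GL2 F))) := by
    ext χ
    simp only [Finset.mem_filter, Finset.mem_univ, true_and, Finset.mem_image]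
    constructor
    · rintro ⟨α, h⟩
      exact ⟨α, Subtype.ext h.symm⟩
    · rintro ⟨α, h⟩
      exact ⟨α, (congrArg Subtype.val h).symm⟩
  rw [himg, Finset.card_image_of_injective, Finset.card_univ, card_mulChar]
  intro α β h
  exact stFun_injective (congrArg Subtype.val h)

open scoped Classical in
/-- the multiplicity `k` of a character with vanishing unipotent average -/
noncomputable def kOf (χ : IrrCharacter (GL2 F)) : ℕ :=
  if h : isC (χ : GL2 F → ℂ) then Classical.choose (dvd_of_avg_zero χ.2 h) else 0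

theorem kOf_spec (χ : IrrCharacter (GL2 F)) (h : isC (χ : GL2 F → ℂ)) :
    (χ : GL2 F → ℂ) 1 = ((kOf χ * Fintype.card Fˣ : ℕ) : ℂ) ∧
      (χ : GL2 F → ℂ) (um 1) = -(kOf χ : ℂ) := by
  unfold kOf
  rw [dif_pos h]
  exact Classical.choose_spec (dvd_of_avg_zero χ.2 h)

theorem kOf_pos (χ : IrrCharacter (GL2 F)) (h : isC (χ : GL2 F → ℂ)) : 1 ≤ kOf χ := by
  by_contra hcon
  have h0 : kOf χ = 0 := by omega
  have h1 := (kOf_spec χ h).1
  rw [h0, zero_mul] at h1
  obtain ⟨d, hd, hd1⟩ := irr_degree χ.2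
  rw [hd1] at h1
  have h2 : d = 0 := by exact_mod_cast h1
  omega

open scoped Classical in
/-- the counting identities -/
theorem count_identities :
    2 * (Finset.univ.filter (fun χ : IrrCharacter (GL2 F) => isP (χ : GL2 F → ℂ))).card =
      Fintype.card Fˣ * (Fintype.card Fˣ - 1) ∧
    2 * (Finset.univ.filter (fun χ : IrrCharacter (GL2 F) => isC (χ : GL2 F → ℂ))).card =
      Fintype.card Fˣ * (Fintype.card Fˣ + 1) ∧
    ∑ χ ∈ Finset.univ.filter (fun χ : IrrCharacter (GL2 F) => isC (χ : GL2 F → ℂ)),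
      (kOf χ) ^ 2 =
      (Finset.univ.filter (fun χ : IrrCharacter (GL2 F) => isC (χ : GL2 F → ℂ))).card := by
  obtain ⟨nP, hnP⟩ : ∃ n : ℕ, n = (Finset.univ.filter
    (fun χ : IrrCharacter (GL2 F) => isP (χ : GL2 F → ℂ))).card := ⟨_, rfl⟩
  obtain ⟨nC, hnC⟩ : ∃ n : ℕ, n = (Finset.univ.filter
    (fun χ : IrrCharacter (GL2 F) => isC (χ : GL2 F → ℂ))).card := ⟨_, rfl⟩
  obtain ⟨K, hK⟩ : ∃ n : ℕ, n = ∑ χ ∈ Finset.univ.filter
    (fun χ : IrrCharacter (GL2 F) => isC (χ : GL2 F → ℂ)), (kOf χ) ^ 2 := ⟨_, rfl⟩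
  obtain ⟨u, hu⟩ : ∃ n : ℕ, n = Fintype.card Fˣ := ⟨_, rfl⟩
  have hq : Fintype.card F = u + 1 := by rw [hu]; exact card_F_eq
  have hupos : 1 ≤ u := by rw [hu]; exact Fintype.card_pos
  rw [← hnP, ← hnC, ← hK, ← hu]
  -- the decomposition of sums
  have hsplit := fun f : IrrCharacter (GL2 F) → ℂ => sum_four
    (fun χ : IrrCharacter (GL2 F) => isD (χ : GL2 F → ℂ))
    (fun χ : IrrCharacter (GL2 F) => isS (χ : GL2 F → ℂ))
    (fun χ : IrrCharacter (GL2 F) => isP (χ : GL2 F → ℂ))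
    (fun χ : IrrCharacter (GL2 F) => isC (χ : GL2 F → ℂ))
    (fun χ => cover χ.2) (fun χ h => not_isS_of_isD h) (fun χ h => not_isP_of_isD h)
    (fun χ h => not_isC_of_isD h) (fun χ h => not_isP_of_isS h) (fun χ h => not_isC_of_isS h)
    (fun χ h => not_isC_of_isP h) f
  -- (1) the number of irreducible characters
  have e1 : ((u : ℂ) + u + nP + nC) = (u : ℂ) * (u + 2) := by
    have h1 := hsplit (fun _ => 1)
    simp only [Finset.sum_const, Finset.card_univ, nsmul_eq_mul, mul_one] at h1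
    rw [card_filter_isD, card_filter_isS, ← hnP, ← hnC, ← hu] at h1
    rw [← h1]
    have h2 : Fintype.card (IrrCharacter (GL2 F)) = u * (u + 2) := by
      rw [← Nat.card_eq_fintype_card, Cfsg.Agent.Lib.Helper4.card_irr_eq_card_conjClasses,
        card_conjClasses_GL2, ← hu]
    rw [h2]
    push_cast
    ring
  -- (2) the sum of the squares of the degrees
  have e2 : ((u : ℂ) + ((u : ℂ) + 1) ^ 2 * u + ((u : ℂ) + 2) ^ 2 * nP + (u : ℂ) ^ 2 * K) =
      (u : ℂ) ^ 2 * (u + 1) * (u + 2) := by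
    have h1 := hsplit (fun χ => (χ : GL2 F → ℂ) 1 ^ 2)
    rw [Cfsg.Agent.Lib.Helper4.sum_sq_degree, card_GL2', ← hu] at h1
    have hD : ∑ χ ∈ Finset.univ.filter (fun χ : IrrCharacter (GL2 F) => isD (χ : GL2 F → ℂ)),
        (χ : GL2 F → ℂ) 1 ^ 2 = (u : ℂ) := by
      rw [Finset.sum_congr rfl (fun χ hχ => by
        rw [deg_of_isD (Finset.mem_filter.1 hχ).2, one_pow]), Finset.sum_const,
        card_filter_isD, ← hu, nsmul_eq_mul, mul_one]
    have hS : ∑ χ ∈ Finset.univ.filter (fun χ : IrrCharacter (GL2 F) => isS (χ : GL2 F → ℂ)),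
        (χ : GL2 F → ℂ) 1 ^ 2 = ((u : ℂ) + 1) ^ 2 * u := by
      rw [Finset.sum_congr rfl (fun χ hχ => by
        rw [deg_of_isS (Finset.mem_filter.1 hχ).2]), Finset.sum_const,
        card_filter_isS, ← hu, nsmul_eq_mul, hq]
      push_cast
      ring
    have hP : ∑ χ ∈ Finset.univ.filter (fun χ : IrrCharacter (GL2 F) => isP (χ : GL2 F → ℂ)),
        (χ : GL2 F → ℂ) 1 ^ 2 = ((u : ℂ) + 2) ^ 2 * nP := by
      rw [Finset.sum_congr rfl (fun χ hχ => by
        rw [deg_of_isP (Finset.mem_filter.1 hχ).2]), Finset.sum_const, ← hnP, nsmul_eq_mul, hq]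
      push_cast
      ring
    have hC : ∑ χ ∈ Finset.univ.filter (fun χ : IrrCharacter (GL2 F) => isC (χ : GL2 F → ℂ)),
        (χ : GL2 F → ℂ) 1 ^ 2 = (u : ℂ) ^ 2 * K := by
      rw [Finset.sum_congr rfl (fun χ hχ => by
        rw [(kOf_spec χ (Finset.mem_filter.1 hχ).2).1, ← hu]), hK]
      push_cast
      rw [Finset.mul_sum]
      apply Finset.sum_congr rfl
      intro χ _
      ring
    rw [hD, hS, hP, hC] at h1
    rw [← h1]
    push_cast
    ring
  -- (3) orthogonality of the columns of `1` and `um 1`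
  have e3 : ((u : ℂ) + ((u : ℂ) + 2) * nP - (u : ℂ) * K) = 0 := by
    have h1 := hsplit (fun χ => (χ : GL2 F → ℂ) 1 * conj ((χ : GL2 F → ℂ) (um 1)))
    rw [Cfsg.Agent.Lib.Helper4.column_orthogonality, if_neg] at h1
    swap
    · rw [isConj_one_right]
      exact um_ne_one one_ne_zero
    have hD : ∑ χ ∈ Finset.univ.filter (fun χ : IrrCharacter (GL2 F) => isD (χ : GL2 F → ℂ)),
        (χ : GL2 F → ℂ) 1 * conj ((χ : GL2 F → ℂ) (um 1)) = (u : ℂ) := by
      rw [Finset.sum_congr rfl (fun χ hχ => by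
        rw [deg_of_isD (Finset.mem_filter.1 hχ).2, val_of_isD (Finset.mem_filter.1 hχ).2,
          map_one, mul_one]), Finset.sum_const, card_filter_isD, ← hu, nsmul_eq_mul, mul_one]
    have hS : ∑ χ ∈ Finset.univ.filter (fun χ : IrrCharacter (GL2 F) => isS (χ : GL2 F → ℂ)),
        (χ : GL2 F → ℂ) 1 * conj ((χ : GL2 F → ℂ) (um 1)) = 0 := by
      apply Finset.sum_eq_zero
      intro χ hχ
      rw [val_of_isS (Finset.mem_filter.1 hχ).2, map_zero, mul_zero]
    have hP : ∑ χ ∈ Finset.univ.filter (fun χ : IrrCharacter (GL2 F) => isP (χ : GL2 F → ℂ)),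
        (χ : GL2 F → ℂ) 1 * conj ((χ : GL2 F → ℂ) (um 1)) = ((u : ℂ) + 2) * nP := by
      rw [Finset.sum_congr rfl (fun χ hχ => by
        rw [deg_of_isP (Finset.mem_filter.1 hχ).2, val_of_isP (Finset.mem_filter.1 hχ).2,
          map_one, mul_one]), Finset.sum_const, ← hnP, nsmul_eq_mul, hq]
      push_cast
      ring
    have hC : ∑ χ ∈ Finset.univ.filter (fun χ : IrrCharacter (GL2 F) => isC (χ : GL2 F → ℂ)),
        (χ : GL2 F → ℂ) 1 * conj ((χ : GL2 F → ℂ) (um 1)) = -((u : ℂ) * K) := by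
      rw [Finset.sum_congr rfl (fun χ hχ => by
        rw [(kOf_spec χ (Finset.mem_filter.1 hχ).2).1, (kOf_spec χ (Finset.mem_filter.1 hχ).2).2,
          ← hu, map_neg, map_natCast]), hK]
      push_cast
      rw [Finset.mul_sum, ← Finset.sum_neg_distrib]
      apply Finset.sum_congr rfl
      intro χ _
      ring
    rw [hD, hS, hP, hC] at h1
    linear_combination -h1
  -- solve
  have hu1 : ((u : ℂ) + 1) ≠ 0 := by
    have h := Nat.cast_ne_zero (R := ℂ).2 (Nat.succ_ne_zero u)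
    rwa [Nat.cast_succ] at h
  have hu2 : ((u : ℂ) + 2) ≠ 0 := by
    have h := Nat.cast_ne_zero (R := ℂ).2 (Nat.succ_ne_zero (u + 1))
    rw [Nat.cast_succ, Nat.cast_succ] at h
    intro h'
    apply h
    linear_combination h'
  have hu0 : (u : ℂ) ≠ 0 := Nat.cast_ne_zero.2 (by omega)
  have rP : (2 : ℂ) * nP = (u : ℂ) * ((u : ℂ) - 1) := by
    have h1 : ((2 : ℂ) * nP - (u : ℂ) * ((u : ℂ) - 1)) * (((u : ℂ) + 1) * ((u : ℂ) + 2)) = 0 := by
      linear_combination e2 + (u : ℂ) * e3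
    rcases mul_eq_zero.1 h1 with h2 | h2
    · linear_combination h2
    · exact absurd h2 (mul_ne_zero hu1 hu2)
  have rK : (2 : ℂ) * K = (u : ℂ) * ((u : ℂ) + 1) := by
    have h1 : ((2 : ℂ) * K - (u : ℂ) * ((u : ℂ) + 1)) * (u : ℂ) = 0 := by
      linear_combination (-2 : ℂ) * e3 + ((u : ℂ) + 2) * rP
    rcases mul_eq_zero.1 h1 with h2 | h2
    · linear_combination h2
    · exact absurd h2 hu0
  have rC : (2 : ℂ) * nC = (u : ℂ) * ((u : ℂ) + 1) := by
    linear_combination (2 : ℂ) * e1 - rP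
  refine ⟨?_, ?_, ?_⟩
  · have h1 : ((2 * nP : ℕ) : ℂ) = ((u * (u - 1) : ℕ) : ℂ) := by
      rw [Nat.cast_mul, Nat.cast_mul, Nat.cast_sub hupos]
      push_cast
      exact rP
    exact_mod_cast h1
  · have h1 : ((2 * nC : ℕ) : ℂ) = ((u * (u + 1) : ℕ) : ℂ) := by
      push_cast
      exact rC
    exact_mod_cast h1
  · have h1 : ((2 * K : ℕ) : ℂ) = ((2 * nC : ℕ) : ℂ) := by
      push_cast
      rw [rK, rC]
    have h2 : 2 * K = 2 * nC := by exact_mod_cast h1
    omega

open scoped Classical in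
theorem kOf_eq_one (χ : IrrCharacter (GL2 F)) (h : isC (χ : GL2 F → ℂ)) : kOf χ = 1 := by
  have h3 := (count_identities (F := F)).2.2
  have h5 : ∀ i ∈ Finset.univ.filter (fun χ : IrrCharacter (GL2 F) => isC (χ : GL2 F → ℂ)),
      (fun _ : IrrCharacter (GL2 F) => (1 : ℕ)) i ≤ (fun χ => kOf χ ^ 2) i := by
    intro i hi
    have h6 := kOf_pos i (Finset.mem_filter.1 hi).2
    show 1 ≤ kOf i ^ 2
    exact Nat.one_le_pow _ _ h6
  have h6 := (Finset.sum_eq_sum_iff_of_le h5).1 (by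
    simp only [Finset.sum_const, smul_eq_mul, mul_one]
    exact h3.symm) χ (Finset.mem_filter.2 ⟨Finset.mem_univ _, h⟩)
  have h7 : kOf χ ^ 2 = 1 := h6.symm
  have h8 := kOf_pos χ h
  have h9 : kOf χ ≤ 1 := by
    by_contra hcon
    have h10 : 2 ≤ kOf χ := by omega
    have h11 : 2 * 2 ≤ kOf χ * kOf χ := Nat.mul_le_mul h10 h10
    rw [sq] at h7
    omega
  omega

theorem deg_of_isC (χ : IrrCharacter (GL2 F)) (h : isC (χ : GL2 F → ℂ)) :
    (χ : GL2 F → ℂ) 1 = (Fintype.card F : ℂ) - 1 := by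
  have h1 := (kOf_spec χ h).1
  rw [kOf_eq_one χ h, one_mul] at h1
  rw [h1, card_F_eq (F := F)]
  push_cast
  ring

theorem val_of_isC (χ : IrrCharacter (GL2 F)) (h : isC (χ : GL2 F → ℂ)) :
    (χ : GL2 F → ℂ) (um 1) = -1 := by
  have h1 := (kOf_spec χ h).2
  rw [kOf_eq_one χ h] at h1
  rw [h1]
  norm_num

/-- the degrees of the irreducible characters of `GL₂(q)` -/
theorem gl2_degrees {χ : GL2 F → ℂ} (hχ : IsIrrCharacter (GL2 F) χ) :
    χ 1 = 1 ∨ χ 1 = (Fintype.card F : ℂ) - 1 ∨ χ 1 = (Fintype.card F : ℂ) ∨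
      χ 1 = (Fintype.card F : ℂ) + 1 := by
  rcases cover hχ with h | h | h | h
  · exact Or.inl (deg_of_isD h)
  · exact Or.inr (Or.inr (Or.inl (deg_of_isS h)))
  · exact Or.inr (Or.inr (Or.inr (deg_of_isP h)))
  · exact Or.inr (Or.inl (deg_of_isC ⟨χ, hχ⟩ h))

theorem iff_of_cover {p₁ p₂ p₃ p₄ : Prop} {x d₁ d₂ d₃ d₄ : ℂ} (hc : p₁ ∨ p₂ ∨ p₃ ∨ p₄)
    (h1 : p₁ → x = d₁) (h2 : p₂ → x = d₂) (h3 : p₃ → x = d₃) (h4 : p₄ → x = d₄)
    (h12 : d₁ ≠ d₂) (h13 : d₁ ≠ d₃) (h14 : d₁ ≠ d₄) (h23 : d₂ ≠ d₃) (h24 : d₂ ≠ d₄)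
    (h34 : d₃ ≠ d₄) : (x = d₁ ↔ p₁) ∧ (x = d₂ ↔ p₂) ∧ (x = d₃ ↔ p₃) ∧ (x = d₄ ↔ p₄) := by
  refine ⟨⟨fun h => ?_, h1⟩, ⟨fun h => ?_, h2⟩, ⟨fun h => ?_, h3⟩, ⟨fun h => ?_, h4⟩⟩
  · rcases hc with h' | h' | h' | h'
    · exact h'
    · exact absurd (h.symm.trans (h2 h')) h12
    · exact absurd (h.symm.trans (h3 h')) h13
    · exact absurd (h.symm.trans (h4 h')) h14
  · rcases hc with h' | h' | h' | h'
    · exact absurd ((h1 h').symm.trans h) h12
    · exact h'
    · exact absurd (h.symm.trans (h3 h')) h23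
    · exact absurd (h.symm.trans (h4 h')) h24
  · rcases hc with h' | h' | h' | h'
    · exact absurd ((h1 h').symm.trans h) h13
    · exact absurd ((h2 h').symm.trans h) h23
    · exact h'
    · exact absurd (h.symm.trans (h4 h')) h34
  · rcases hc with h' | h' | h' | h'
    · exact absurd ((h1 h').symm.trans h) h14
    · exact absurd ((h2 h').symm.trans h) h24
    · exact absurd ((h3 h').symm.trans h) h34
    · exact h'

/-- for `q ≥ 3` the degree determines the type -/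
theorem deg_iff (hq : 3 ≤ Fintype.card F) (χ : IrrCharacter (GL2 F)) :
    ((χ : GL2 F → ℂ) 1 = 1 ↔ isD (χ : GL2 F → ℂ)) ∧
    ((χ : GL2 F → ℂ) 1 = (Fintype.card F : ℂ) ↔ isS (χ : GL2 F → ℂ)) ∧
    ((χ : GL2 F → ℂ) 1 = (Fintype.card F : ℂ) + 1 ↔ isP (χ : GL2 F → ℂ)) ∧
    ((χ : GL2 F → ℂ) 1 = (Fintype.card F : ℂ) - 1 ↔ isC (χ : GL2 F → ℂ)) := by
  have c1 : (1 : ℂ) = ((1 : ℕ) : ℂ) := by norm_num
  have c3 : (Fintype.card F : ℂ) + 1 = ((Fintype.card F + 1 : ℕ) : ℂ) := by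
    push_cast
    ring
  have c4 : (Fintype.card F : ℂ) - 1 = ((Fintype.card F - 1 : ℕ) : ℂ) := by
    rw [Nat.cast_sub (by omega)]
    norm_num
  apply iff_of_cover (cover χ.2) deg_of_isD deg_of_isS deg_of_isP (deg_of_isC χ)
  · rw [c1]
    exact (Nat.cast_injective (R := ℂ)).ne (by omega)
  · rw [c3, c1]
    exact (Nat.cast_injective (R := ℂ)).ne (by omega)
  · rw [c4, c1]
    exact (Nat.cast_injective (R := ℂ)).ne (by omega)
  · rw [c3]
    exact (Nat.cast_injective (R := ℂ)).ne (by omega)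
  · rw [c4]
    exact (Nat.cast_injective (R := ℂ)).ne (by omega)
  · rw [c3, c4]
    exact (Nat.cast_injective (R := ℂ)).ne (by omega)

open scoped Classical in
/-- the number of irreducible characters of `GL₂(q)` of each degree, `q ≥ 3` -/
theorem gl2_counts (hq : 3 ≤ Fintype.card F) :
    Nat.card {χ : IrrCharacter (GL2 F) // (χ : GL2 F → ℂ) 1 = 1} = Fintype.card F - 1 ∧
    Nat.card {χ : IrrCharacter (GL2 F) // (χ : GL2 F → ℂ) 1 = (Fintype.card F : ℂ)} =
      Fintype.card F - 1 ∧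
    Nat.card {χ : IrrCharacter (GL2 F) // (χ : GL2 F → ℂ) 1 = (Fintype.card F : ℂ) + 1} =
      (Fintype.card F - 1) * (Fintype.card F - 2) / 2 ∧
    Nat.card {χ : IrrCharacter (GL2 F) // (χ : GL2 F → ℂ) 1 = (Fintype.card F : ℂ) - 1} =
      Fintype.card F * (Fintype.card F - 1) / 2 := by
  have key : ∀ (d : ℂ) (p : (GL2 F → ℂ) → Prop),
      (∀ χ : IrrCharacter (GL2 F), (χ : GL2 F → ℂ) 1 = d ↔ p χ) →
      Nat.card {χ : IrrCharacter (GL2 F) // (χ : GL2 F → ℂ) 1 = d} =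
        (Finset.univ.filter (fun χ : IrrCharacter (GL2 F) => p (χ : GL2 F → ℂ))).card := by
    intro d p hp
    rw [Nat.card_congr (Equiv.subtypeEquivRight hp), Nat.card_eq_fintype_card,
      Fintype.card_subtype]
  have hu : Fintype.card F = Fintype.card Fˣ + 1 := card_F_eq
  have h1 : Fintype.card F - 1 = Fintype.card Fˣ := by omega
  have h2 : Fintype.card F - 2 = Fintype.card Fˣ - 1 := by omega
  obtain ⟨cP, cC, -⟩ := count_identities (F := F)
  refine ⟨?_, ?_, ?_, ?_⟩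
  · rw [key 1 isD (fun χ => (deg_iff hq χ).1), card_filter_isD, h1]
  · rw [key _ isS (fun χ => (deg_iff hq χ).2.1), card_filter_isS, h1]
  · rw [key _ isP (fun χ => (deg_iff hq χ).2.2.1), h1, h2, ← cP,
      Nat.mul_div_cancel_left _ (by norm_num : 0 < 2)]
  · rw [key _ isC (fun χ => (deg_iff hq χ).2.2.2), h1, hu,
      mul_comm (Fintype.card Fˣ + 1), ← cC, Nat.mul_div_cancel_left _ (by norm_num : 0 < 2)]

end finite

end Cfsg.Agent.Lib.Helper26.PS
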