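import Mathlib
import Cfsg.Prelude.Def_Characters
import Cfsg.Prelude.Def_ParabolicCharacters
import Cfsg.Agent.Lib.Helper26.PrincipalGL2
import Cfsg.Agent.Lib.Helper12.SL2b

/-!
# Principal series of `SL₂(q)` (helper26)

The characters induced from the linear characters `b ↦ α(b₁₁)` of the upper triangular
subgroup of `SL₂(q)`, and their inner products (Mackey).
-/

set_option autoImplicit false

namespace Cfsg.Agent.Lib.Helper26.PS2
open Cfsg Cfsg.Agent.Lib.Helper26 Cfsg.Agent.Lib.Helper12.SL2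
open scoped ComplexConjugate

local notation "SL2" => Matrix.SpecialLinearGroup (Fin 2)

/-- the upper triangular subgroup of `SL₂` -/
abbrev BS (F : Type*) [Field F] : Subgroup (SL2 F) :=
  (Cfsg.upperTriangularGL 2 F).comap Matrix.SpecialLinearGroup.toGL

section basic
variable {F : Type*} [Field F]

theorem mem_BS_iff (g : SL2 F) : g ∈ BS F ↔ g 1 0 = 0 := by
  show Matrix.SpecialLinearGroup.toGL g ∈ Cfsg.upperTriangularGL 2 F ↔ _
  rw [PS.mem_upper_iff]
  rfl

theorem diag_ne_zero {g : SL2 F} (hg : g 1 0 = 0) : g 0 0 ≠ 0 := by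
  have h := det_eq g
  rw [hg, mul_zero, sub_zero] at h
  intro h0
  rw [h0, zero_mul] at h
  exact zero_ne_one h

theorem diag_inv {g : SL2 F} (hg : g 1 0 = 0) : g 1 1 = (g 0 0)⁻¹ := by
  have h := det_eq g
  rw [hg, mul_zero, sub_zero] at h
  exact eq_inv_of_mul_eq_one_right h

/-- the upper left entry as a monoid homomorphism on the upper triangular subgroup -/
noncomputable def diagHomS : ↥(BS F) →* F where
  toFun b := (b : SL2 F) 0 0
  map_one' := by
    show ((1 : SL2 F)) 0 0 = 1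
    simp
  map_mul' := by
    intro g h
    have hh := (mem_BS_iff _).1 h.2
    show ((g : SL2 F) * (h : SL2 F)) 0 0 = (g : SL2 F) 0 0 * (h : SL2 F) 0 0
    rw [mul_apply', hh, mul_zero, add_zero]

/-- the linear character `b ↦ α(b₁₁)` as a monoid homomorphism -/
noncomputable def sHom (α : MulChar F ℂ) : ↥(BS F) →* ℂ :=
  α.toMonoidHom.comp diagHomS

/-- the linear character `b ↦ α(b₁₁)` as a function -/
noncomputable def sFun (α : MulChar F ℂ) : ↥(BS F) → ℂ :=
  fun b => α (((b : SL2 F) : Matrix (Fin 2) (Fin 2) F) 0 0)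

theorem sFun_eq_sHom (α : MulChar F ℂ) (b : ↥(BS F)) : sFun α b = sHom α b := rfl

theorem sFun_eq_linFun (α : MulChar F ℂ) : sFun α = linFun (sHom α).toHomUnits := by
  funext b
  rw [sFun_eq_sHom, linFun_apply, MonoidHom.coe_toHomUnits]

theorem isIrrCharacter_sFun (α : MulChar F ℂ) : IsIrrCharacter ↥(BS F) (sFun α) := by
  rw [sFun_eq_linFun]
  exact isIrrCharacter_linFun _

theorem isClassFunction_sFun (α : MulChar F ℂ) : IsClassFunction ↥(BS F) (sFun α) :=
  isClassFunction_of_isIrrCharacter (isIrrCharacter_sFun α)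

theorem sFun_one (α : MulChar F ℂ) : sFun α 1 = 1 := by
  rw [sFun_eq_sHom, map_one]

/-- the Weyl element -/
def wS : SL2 F := mk 0 1 (-1) 0 (by ring)

/-- the inverse of the Weyl element -/
def wSi : SL2 F := mk 0 (-1) 1 0 (by ring)

theorem wS_mul_wSi : (wS : SL2 F) * wSi = 1 := by
  apply ext4 <;> simp [mul_apply', wS, wSi]

theorem wS_inv : (wS : SL2 F)⁻¹ = wSi := inv_eq_of_mul_eq_one_right wS_mul_wSi

theorem bruhatS (x : SL2 F) (hx : x ∉ BS F) :
    ∃ a ∈ BS F, ∃ b ∈ BS F, x = a * wS * b := by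
  rw [mem_BS_iff] at hx
  have hdet := det_eq x
  have he : (-(x 1 0)) * (-(x 1 0))⁻¹ - (-(x 1 1)) * 0 = 1 := by
    rw [mul_zero, sub_zero]
    exact mul_inv_cancel₀ (neg_ne_zero.2 hx)
  refine ⟨up (x 0 0 / x 1 0), (mem_BS_iff _).2 rfl,
    mk (-(x 1 0)) (-(x 1 1)) 0 (-(x 1 0))⁻¹ he, (mem_BS_iff _).2 rfl, ?_⟩
  apply ext4
  · simp only [mul_apply', up, wS, mk_00, mk_01, mk_10, mk_11]
    field_simp
    ring
  · simp only [mul_apply', up, wS, mk_00, mk_01, mk_10, mk_11]
    field_simp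
    linear_combination (-(x 1 0)) * hdet
  · simp only [mul_apply', up, wS, mk_00, mk_01, mk_10, mk_11]
    ring
  · simp only [mul_apply', up, wS, mk_00, mk_01, mk_10, mk_11]
    ring

/-- parametrization of the upper triangular subgroup -/
noncomputable def equivUpperS : (Fˣ × F) ≃ ↥(BS F) where
  toFun x := ⟨mk (x.1 : F) x.2 0 ((x.1⁻¹ : Fˣ) : F) (by simp), (mem_BS_iff _).2 rfl⟩
  invFun g := (Units.mk0 _ (diag_ne_zero (g := (g : SL2 F)) ((mem_BS_iff _).1 g.2)),
    (g : SL2 F) 0 1)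
  left_inv x := by
    obtain ⟨a, b⟩ := x
    simp
  right_inv g := by
    apply Subtype.ext
    apply ext4
    · simp
    · simp
    · simp
      exact ((mem_BS_iff _).1 g.2).symm
    · simp
      exact (diag_inv ((mem_BS_iff _).1 g.2)).symm

end basic

section finite
variable {F : Type*} [Field F] [Fintype F] [DecidableEq F]

noncomputable local instance instFintypeBSAux : Fintype ↥(BS F) := Fintype.ofFinite _

theorem sum_upperS (f : ↥(BS F) → ℂ) :
    ∑ h : ↥(BS F), f h = ∑ a : Fˣ, ∑ b : F, f (equivUpperS (a, b)) := by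
  rw [← Equiv.sum_comp equivUpperS f, Fintype.sum_prod_type]

theorem equivUpperS_coe (a : Fˣ) (b : F) :
    ((equivUpperS (a, b) : ↥(BS F)) : SL2 F) =
      mk (a : F) b 0 ((a⁻¹ : Fˣ) : F) (by simp) := rfl

theorem sFun_equivUpperS (α : MulChar F ℂ) (a : Fˣ) (b : F) :
    sFun α (equivUpperS (a, b)) = α (a : F) := rfl

theorem card_BS : Nat.card ↥(BS F) = Fintype.card Fˣ * Fintype.card F := by
  rw [← Nat.card_congr (equivUpperS (F := F)), Nat.card_prod, Nat.card_eq_fintype_card,
    Nat.card_eq_fintype_card]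

theorem card_SL2' : Nat.card (SL2 F) =
    Fintype.card Fˣ * (Fintype.card Fˣ + 1) * (Fintype.card Fˣ + 2) := by
  rw [card_SL2, PS.card_F_eq (F := F)]
  generalize Fintype.card Fˣ = u
  have h1 : (u + 1) ^ 2 - 1 = u * (u + 2) := by
    apply Nat.sub_eq_of_eq_add
    ring
  rw [h1]
  ring

theorem classInner_sFun (α β : MulChar F ℂ) :
    classInner (sFun α) (sFun β) = if α = β then 1 else 0 := by
  unfold classInner
  rw [sum_upperS (fun h => sFun α h * conj (sFun β h))]
  have h1 : ∀ a : Fˣ, ∑ b : F, sFun α (equivUpperS (a, b)) * conj (sFun β (equivUpperS (a, b)))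
      = (Fintype.card F : ℂ) * (α a * conj (β a)) := by
    intro a
    simp only [sFun_equivUpperS]
    rw [Finset.sum_const, Finset.card_univ, nsmul_eq_mul]
  rw [Finset.sum_congr rfl (fun a _ => h1 a), ← Finset.mul_sum, PS.mulChar_ortho, card_BS]
  have hq : (Fintype.card F : ℂ) ≠ 0 := Nat.cast_ne_zero.2 Fintype.card_ne_zero
  have hu : (Fintype.card Fˣ : ℂ) ≠ 0 := Nat.cast_ne_zero.2 Fintype.card_ne_zero
  by_cases h : α = β
  · rw [if_pos h, if_pos h]
    push_cast
    field_simp
  · rw [if_neg h, if_neg h]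
    simp only [mul_zero]

theorem conj_wS (a : Fˣ) (b : F) :
    (wS : SL2 F)⁻¹ * ((equivUpperS (a, b) : ↥(BS F)) : SL2 F) * wS =
      mk ((a⁻¹ : Fˣ) : F) 0 (-b) (a : F) (by simp) := by
  rw [wS_inv, equivUpperS_coe]
  apply ext4 <;> simp [mul_apply', wS, wSi]

theorem mackeyTerm_wS (α β : MulChar F ℂ) :
    mackeyTerm (BS F) (sFun α) (sFun β) wS = ∑ a : Fˣ, α a * conj (β⁻¹ a) := by
  unfold mackeyTerm
  rw [sum_upperS (fun h => sFun α h * conj (extendByZero (BS F) (sFun β)
    ((wS : SL2 F)⁻¹ * (h : SL2 F) * wS)))]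
  have h1 : ∀ (a : Fˣ) (b : F), extendByZero (BS F) (sFun β)
      ((wS : SL2 F)⁻¹ * ((equivUpperS (a, b) : ↥(BS F)) : SL2 F) * wS) =
      if b = 0 then β⁻¹ a else 0 := by
    intro a b
    rw [conj_wS]
    by_cases hb : b = 0
    · subst hb
      rw [if_pos rfl]
      have h2 : mk ((a⁻¹ : Fˣ) : F) 0 (-0) (a : F) (by simp) =
          ((equivUpperS (a⁻¹, 0) : ↥(BS F)) : SL2 F) := by
        rw [equivUpperS_coe]
        apply ext4 <;> simp
      rw [h2, extendByZero_apply_coe, sFun_equivUpperS, MulChar.inv_apply',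
        Units.val_inv_eq_inv_val]
    · rw [if_neg hb]
      apply extendByZero_apply_not_mem
      rw [mem_BS_iff]
      show ¬ (-b = 0)
      exact neg_ne_zero.2 hb
  have h3 : ∀ a : Fˣ, ∑ b : F, sFun α (equivUpperS (a, b)) *
      conj (extendByZero (BS F) (sFun β)
        ((wS : SL2 F)⁻¹ * ((equivUpperS (a, b) : ↥(BS F)) : SL2 F) * wS)) =
      α a * conj (β⁻¹ a) := by
    intro a
    rw [Finset.sum_eq_single (0 : F)]
    · rw [h1, if_pos rfl, sFun_equivUpperS]
    · intro b _ hb
      rw [h1, if_neg hb, map_zero, mul_zero]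
    · intro h
      exact absurd (Finset.mem_univ _) h
  rw [Finset.sum_congr rfl (fun a _ => h3 a)]

/-- Mackey: the inner product of two principal series characters of `SL₂(q)`. -/
theorem classInner_sl (α β : MulChar F ℂ) [Decidable (α = β)] [Decidable (α = β⁻¹)] :
    classInner (indFun (BS F) (sFun α)) (indFun (BS F) (sFun β)) =
      (if α = β then 1 else 0) + (if α = β⁻¹ then 1 else 0) := by
  rw [classInner_indFun_indFun_two_cosets (BS F) wS bruhatS _ _
    (isClassFunction_sFun α) (isClassFunction_sFun β), classInner_sFun, mackeyTerm_wS,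
    PS.mulChar_ortho, card_BS, card_SL2', PS.card_F_eq (F := F)]
  have hu : (Fintype.card Fˣ : ℂ) ≠ 0 := Nat.cast_ne_zero.2 Fintype.card_ne_zero
  have hq : ((Fintype.card Fˣ : ℂ) + 1) ≠ 0 := by
    have h := Nat.cast_ne_zero (R := ℂ).2 (Nat.succ_ne_zero (Fintype.card Fˣ))
    rwa [Nat.cast_succ] at h
  congr 1
  · by_cases h : α = β
    · simp only [if_pos h]
    · simp only [if_neg h]
  · by_cases h : α = β⁻¹
    · simp only [if_pos h]
      push_cast
      field_simp
      ring
    · simp only [if_neg h, mul_zero]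

theorem sl_irr_iff (α : MulChar F ℂ) :
    IsIrrCharacter (SL2 F) (indFun (BS F) (sFun α)) ↔ α ^ 2 ≠ 1 := by
  classical
  have hchar : IsCharacter (SL2 F) (indFun (BS F) (sFun α)) :=
    isCharacter_indFun _ (isCharacter_of_isIrrCharacter (isIrrCharacter_sFun α))
  have hnorm := classInner_sl α α
  rw [if_pos rfl] at hnorm
  have hiff : α = α⁻¹ ↔ α ^ 2 = 1 := by
    rw [eq_inv_iff_mul_eq_one, pow_two]
  constructor
  · intro hirr h2
    have h3 : classInner (indFun (BS F) (sFun α)) (indFun (BS F) (sFun α)) = 1 := by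
      rw [classInner_irr hirr hirr, if_pos rfl]
    rw [h3, if_pos (hiff.2 h2)] at hnorm
    norm_num at hnorm
  · intro h2
    apply isIrrCharacter_of_norm_one (isGeneralizedCharacter_of_isCharacter hchar)
    · rw [hnorm, if_neg (fun h => h2 (hiff.1 h)), add_zero]
    · exact PS.indFun_one_re_pos _ _ (sFun_one α)

end finite

end Cfsg.Agent.Lib.Helper26.PS2
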