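import Mathlib
import Cfsg.Prelude.Def_Characters
import Cfsg.Prelude.Def_ParabolicCharacters
import Cfsg.Agent.Lib.Helper26.PrincipalGL2
import Cfsg.Agent.Lib.Helper26.PrincipalSL2
import Cfsg.Agent.Lib.Helper26.NormTwo
import Cfsg.Agent.Lib.Helper26.Clifford
import Cfsg.Agent.Lib.Helper2.CharConj

/-!
# Restriction of the principal series from `GL₂(q)` to `SL₂(q)` (helper26)

`Ind_B^{GL₂}(α, 1)` restricts to `Ind_{B ∩ SL₂}^{SL₂} α`; when `α` has order two this gives two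
`GL₂`-conjugate irreducible constituents of degree `(q + 1)/2`.
-/

set_option autoImplicit false

namespace Cfsg.Agent.Lib.Helper26.PSR
open Cfsg Cfsg.Agent.Lib.Helper26 Cfsg.Agent.Lib.Helper12
open scoped ComplexConjugate

local notation "GLt" => Matrix.GeneralLinearGroup (Fin 2)
local notation "SLt" => Matrix.SpecialLinearGroup (Fin 2)

section general

/-- Clifford: if an irreducible character of `G` restricts to the sum of two distinct irreducible
characters of a normal subgroup (given as the image of an injective homomorphism), these are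
conjugate. -/
theorem exists_conj_of_restrict {S G : Type*} [Group S] [Group G] [Fintype G]
    (ι : S →* G) (hι : Function.Injective ι) [hN : ι.range.Normal]
    {Θ : G → ℂ} (hΘ : IsIrrCharacter G Θ) {χ₁ χ₂ : S → ℂ} (h₁ : IsIrrCharacter S χ₁)
    (h₂ : IsIrrCharacter S χ₂) (hne : χ₁ ≠ χ₂) (hres : ∀ s, Θ (ι s) = χ₁ s + χ₂ s) :
    ∃ x : G, ∀ g h : S, ι h = x * ι g * x⁻¹ → χ₂ h = χ₁ g := by
  classical
  haveI : Fintype ι.range := Fintype.ofFinite _
  let e : S ≃* ι.range := MonoidHom.ofInjective hι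
  have he : ∀ s, ((e s : ι.range) : G) = ι s := fun s => MonoidHom.ofInjective_apply hι
  have hesymm : ∀ n : ι.range, ι (e.symm n) = (n : G) := by
    intro n
    rw [← he, MulEquiv.apply_symm_apply]
  have h₁' : IsIrrCharacter ι.range (χ₁ ∘ e.symm) :=
    Cfsg.Agent.Lib.Helper2.isIrrCharacter_comp_mulEquiv h₁ e.symm
  have h₂' : IsIrrCharacter ι.range (χ₂ ∘ e.symm) :=
    Cfsg.Agent.Lib.Helper2.isIrrCharacter_comp_mulEquiv h₂ e.symm
  have hne' : (χ₂ ∘ e.symm) ≠ (χ₁ ∘ e.symm) := by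
    intro h
    apply hne
    funext s
    have := congrFun h (e s)
    simp only [Function.comp_apply, MulEquiv.symm_apply_apply] at this
    exact this.symm
  have hresN : Θ ∘ ι.range.subtype = (χ₁ ∘ e.symm) + (χ₂ ∘ e.symm) := by
    funext n
    show Θ (n : G) = χ₁ (e.symm n) + χ₂ (e.symm n)
    rw [← hres, hesymm]
  have hc2 : classInner (Θ ∘ ι.range.subtype) (χ₂ ∘ e.symm) = 1 := by
    rw [hresN, classInner_add_left, classInner_irr h₁' h₂', classInner_irr h₂' h₂',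
      if_neg (Ne.symm hne'), if_pos rfl, zero_add]
  have hc1 : classInner (Θ ∘ ι.range.subtype) (χ₁ ∘ e.symm) ≠ 0 := by
    rw [hresN, classInner_add_left, classInner_irr h₁' h₁', classInner_irr h₂' h₁',
      if_neg hne', if_pos rfl, add_zero]
    exact one_ne_zero
  have hex : ∃ g : G, (χ₂ ∘ e.symm) = conjFunN ι.range (χ₁ ∘ e.symm) g := by
    by_contra hcon
    push_neg at hcon
    have := classInner_restrict_eq_zero ι.range hΘ h₁' h₂' hc1 hcon
    rw [hc2] at this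
    exact one_ne_zero this
  obtain ⟨g, hg⟩ := hex
  refine ⟨g⁻¹, ?_⟩
  intro a h hah
  have h3 : χ₂ h = (χ₂ ∘ e.symm) (e h) := by
    simp only [Function.comp_apply, MulEquiv.symm_apply_apply]
  rw [h3, hg]
  unfold conjFunN
  show χ₁ (e.symm ⟨g * ((e h : ι.range) : G) * g⁻¹, _⟩) = χ₁ a
  congr 1
  rw [MulEquiv.symm_apply_eq]
  apply Subtype.ext
  show g * ((e h : ι.range) : G) * g⁻¹ = ((e a : ι.range) : G)
  rw [he, he, hah]
  simp only [inv_inv]
  group

end general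

section field
variable {F : Type*} [Field F]

theorem mem_range_iff (x : GLt F) :
    x ∈ (Matrix.SpecialLinearGroup.toGL : SLt F →* GLt F).range ↔
      Matrix.GeneralLinearGroup.det x = 1 := by
  have h := Set.ext_iff.1 (Matrix.SpecialLinearGroup.range_toGL (n := Fin 2) (A := F)) x
  rw [MonoidHom.mem_range]
  exact h

instance normal_range : (Matrix.SpecialLinearGroup.toGL : SLt F →* GLt F).range.Normal :=
  ⟨fun n hn g => by
    rw [mem_range_iff] at hn ⊢
    rw [map_mul, map_mul, hn, mul_one, map_inv, mul_inv_cancel]⟩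

theorem bij_SLU : Function.Bijective
    (fun p : SLt F × Fˣ => (Matrix.SpecialLinearGroup.toGL p.1 : GLt F) * SL2.diagUnit2 p.2) := by
  constructor
  · rintro ⟨y, t⟩ ⟨y', t'⟩ h
    simp only at h
    have hd := congrArg Matrix.GeneralLinearGroup.det h
    rw [map_mul, map_mul, SL2.det_diagUnit2, SL2.det_diagUnit2, (mem_range_iff _).1 ⟨y, rfl⟩,
      (mem_range_iff _).1 ⟨y', rfl⟩, one_mul, one_mul] at hd
    subst hd
    have h2 := mul_right_cancel h
    rw [Matrix.SpecialLinearGroup.toGL_injective h2]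
  · intro x
    obtain ⟨y, hy⟩ := (mem_range_iff
      (x * (SL2.diagUnit2 (Matrix.GeneralLinearGroup.det x))⁻¹)).2 (by
        rw [map_mul, map_inv, SL2.det_diagUnit2, mul_inv_cancel])
    refine ⟨(y, Matrix.GeneralLinearGroup.det x), ?_⟩
    simp only
    rw [hy, inv_mul_cancel_right]

/-- the parametrization `GL₂ = SL₂ · diag(t, 1)` -/
noncomputable def eSLU : (SLt F × Fˣ) ≃ GLt F := Equiv.ofBijective _ bij_SLU

theorem eSLU_apply (p : SLt F × Fˣ) :
    eSLU p = (Matrix.SpecialLinearGroup.toGL p.1 : GLt F) * SL2.diagUnit2 p.2 := rfl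

theorem diagUnit2_mem (t : Fˣ) : SL2.diagUnit2 t ∈ Cfsg.upperTriangularGL 2 F := by
  rw [PS.mem_upper_iff]
  rfl

theorem extendByZero_toGL (α : MulChar F ℂ) (s : SLt F) :
    extendByZero (Cfsg.upperTriangularGL 2 F) (PS.psFun α 1)
      (Matrix.SpecialLinearGroup.toGL s) = extendByZero (PS2.BS F) (PS2.sFun α) s := by
  by_cases hs : s ∈ PS2.BS F
  · have hs' : (Matrix.SpecialLinearGroup.toGL s : GLt F) ∈ Cfsg.upperTriangularGL 2 F := hs
    rw [extendByZero_apply_mem _ _ _ hs', extendByZero_apply_mem _ _ _ hs]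
    show α ((s : Matrix (Fin 2) (Fin 2) F) 0 0) * (1 : MulChar F ℂ) ((s : Matrix (Fin 2) (Fin 2) F) 1 1)
      = α ((s : Matrix (Fin 2) (Fin 2) F) 0 0)
    have h11 : IsUnit ((s : Matrix (Fin 2) (Fin 2) F) 1 1) := by
      rw [isUnit_iff_ne_zero, PS2.diag_inv ((PS2.mem_BS_iff s).1 hs)]
      exact inv_ne_zero (PS2.diag_ne_zero ((PS2.mem_BS_iff s).1 hs))
    rw [MulChar.one_apply h11, mul_one]
  · have hs' : (Matrix.SpecialLinearGroup.toGL s : GLt F) ∉ Cfsg.upperTriangularGL 2 F := hs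
    rw [extendByZero_apply_not_mem _ _ _ hs', extendByZero_apply_not_mem _ _ _ hs]

end field

section finite
variable {F : Type*} [Field F] [Fintype F] [DecidableEq F]

/-- the restriction of `Ind_B^{GL₂}(α, 1)` to `SL₂` is `Ind_{B ∩ SL₂}^{SL₂} α` -/
theorem ind_toGL (α : MulChar F ℂ) (g : SLt F) :
    indFun (Cfsg.upperTriangularGL 2 F) (PS.psFun α 1) (Matrix.SpecialLinearGroup.toGL g) =
      indFun (PS2.BS F) (PS2.sFun α) g := by
  unfold indFun
  rw [← Equiv.sum_comp (eSLU (F := F)) (fun x => extendByZero (Cfsg.upperTriangularGL 2 F)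
    (PS.psFun α 1) (x⁻¹ * Matrix.SpecialLinearGroup.toGL g * x))]
  have h1 : ∀ p : SLt F × Fˣ, extendByZero (Cfsg.upperTriangularGL 2 F) (PS.psFun α 1)
      ((eSLU p)⁻¹ * Matrix.SpecialLinearGroup.toGL g * (eSLU p)) =
      extendByZero (PS2.BS F) (PS2.sFun α) (p.1⁻¹ * g * p.1) := by
    intro p
    rw [eSLU_apply]
    have h3 : ((Matrix.SpecialLinearGroup.toGL p.1 : GLt F) * SL2.diagUnit2 p.2)⁻¹ *
        Matrix.SpecialLinearGroup.toGL g *
        ((Matrix.SpecialLinearGroup.toGL p.1 : GLt F) * SL2.diagUnit2 p.2) =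
        (SL2.diagUnit2 p.2)⁻¹ * (Matrix.SpecialLinearGroup.toGL (p.1⁻¹ * g * p.1) : GLt F) *
          SL2.diagUnit2 p.2 := by
      rw [map_mul, map_mul, map_inv]
      group
    rw [h3, extendByZero_conj_mem _ (PS.isClassFunction_psFun α 1) _ (diagUnit2_mem p.2),
      extendByZero_toGL]
  rw [Finset.sum_congr rfl (fun p _ => h1 p), Fintype.sum_prod_type]
  simp only [Finset.sum_const, Finset.card_univ, nsmul_eq_mul]
  rw [← Finset.mul_sum, PS.card_upper, PS2.card_BS]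
  have hq : (Fintype.card F : ℂ) ≠ 0 := Nat.cast_ne_zero.2 Fintype.card_ne_zero
  have hu : (Fintype.card Fˣ : ℂ) ≠ 0 := Nat.cast_ne_zero.2 Fintype.card_ne_zero
  push_cast
  field_simp

/-- `SL₂(q)`, `q` odd: inducing the character of order two of the Borel subgroup gives two distinct
`GL₂`-conjugate irreducible characters of degree `(q + 1)/2`. -/
theorem sl_order_two (hodd : Odd (Fintype.card F)) (α : MulChar F ℂ) (hα : α ^ 2 = 1)
    (hα1 : α ≠ 1) :
    ∃ χ₁ χ₂ : SLt F → ℂ, IsIrrCharacter (SLt F) χ₁ ∧ IsIrrCharacter (SLt F) χ₂ ∧ χ₁ ≠ χ₂ ∧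
      indFun (PS2.BS F) (PS2.sFun α) = χ₁ + χ₂ ∧
      χ₁ 1 = (((Fintype.card F + 1) / 2 : ℕ) : ℂ) ∧ χ₂ 1 = (((Fintype.card F + 1) / 2 : ℕ) : ℂ) ∧
      ∃ x : GLt F, ∀ g h : SLt F,
        Matrix.SpecialLinearGroup.toGL h = x * Matrix.SpecialLinearGroup.toGL g * x⁻¹ →
          χ₂ h = χ₁ g := by
  classical
  have hchar : IsCharacter (SLt F) (indFun (PS2.BS F) (PS2.sFun α)) :=
    isCharacter_indFun _ (isCharacter_of_isIrrCharacter (PS2.isIrrCharacter_sFun α))
  have hinv : α = α⁻¹ := by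
    rw [eq_inv_iff_mul_eq_one, ← pow_two]
    exact hα
  have hnorm : classInner (indFun (PS2.BS F) (PS2.sFun α)) (indFun (PS2.BS F) (PS2.sFun α)) = 2 := by
    rw [PS2.classInner_sl α α, if_pos rfl, if_pos hinv]
    norm_num
  obtain ⟨χ₁, χ₂, h₁, h₂, hne, hsum⟩ := char_norm_two hchar hnorm
  have hΘirr : IsIrrCharacter (GLt F) (indFun (Cfsg.upperTriangularGL 2 F) (PS.psFun α 1)) :=
    PS.ps_irr α 1 hα1
  have hres : ∀ g : SLt F, indFun (Cfsg.upperTriangularGL 2 F) (PS.psFun α 1)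
      (Matrix.SpecialLinearGroup.toGL g) = χ₁ g + χ₂ g := by
    intro g
    rw [ind_toGL, hsum]
    rfl
  obtain ⟨x, hx⟩ := exists_conj_of_restrict (Matrix.SpecialLinearGroup.toGL : SLt F →* GLt F)
    Matrix.SpecialLinearGroup.toGL_injective hΘirr h₁ h₂ hne hres
  have hdeg : χ₂ 1 = χ₁ 1 := hx 1 1 (by rw [map_one, mul_one, mul_inv_cancel])
  have hcS : (Fintype.card (SLt F) : ℂ) =
      ((Fintype.card Fˣ * (Fintype.card Fˣ + 1) * (Fintype.card Fˣ + 2) : ℕ) : ℂ) := by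
    rw [← PS2.card_SL2', Nat.card_eq_fintype_card]
  have hu : (Fintype.card Fˣ : ℂ) ≠ 0 := Nat.cast_ne_zero.2 Fintype.card_ne_zero
  have hq : ((Fintype.card Fˣ : ℂ) + 1) ≠ 0 := by
    have h := Nat.cast_ne_zero (R := ℂ).2 (Nat.succ_ne_zero (Fintype.card Fˣ))
    rwa [Nat.cast_succ] at h
  have hR1 : indFun (PS2.BS F) (PS2.sFun α) 1 = (Fintype.card F : ℂ) + 1 := by
    rw [indFun_one, PS2.sFun_one, mul_one, hcS, PS2.card_BS, PS.card_F_eq (F := F)]
    push_cast
    field_simp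
    ring
  have hsum1 : χ₁ 1 + χ₂ 1 = (Fintype.card F : ℂ) + 1 := by
    rw [← hR1, hsum]
    rfl
  obtain ⟨m, hm⟩ := hodd
  have hhalf : (Fintype.card F + 1) / 2 = m + 1 := by omega
  have hχ₁1 : χ₁ 1 = ((m + 1 : ℕ) : ℂ) := by
    rw [hdeg, hm] at hsum1
    push_cast at hsum1 ⊢
    linear_combination hsum1 / 2
  refine ⟨χ₁, χ₂, h₁, h₂, hne, hsum, ?_, ?_, x, hx⟩
  · rw [hhalf]
    exact hχ₁1
  · rw [hhalf, hdeg]
    exact hχ₁1

end finite

end Cfsg.Agent.Lib.Helper26.PSR
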