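import Mathlib
import Cfsg.Prelude.Def_Characters
import Cfsg.Prelude.Def_ParabolicCharacters
import Cfsg.Agent.Lib.Helper26.PrincipalSL2

/-!
# Values of the principal series characters of `SL₂(q)` (helper26)

`R(α)(g) = α°(g) + Σ_t α°((u_t w)⁻¹ g (u_t w))` and the resulting explicit values.
-/

set_option autoImplicit false

namespace Cfsg.Agent.Lib.Helper26.PS2
open Cfsg Cfsg.Agent.Lib.Helper26 Cfsg.Agent.Lib.Helper12.SL2
open scoped ComplexConjugate

local notation "SL2" => Matrix.SpecialLinearGroup (Fin 2)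

section basic
variable {F : Type*} [Field F]

theorem up_inv (t : F) : (up t)⁻¹ = up (-t) := by
  apply inv_eq_of_mul_eq_one_right
  rw [← up_add, add_neg_cancel, up_zero]

theorem bruhatS' (x : SL2 F) (hx : x ∉ BS F) :
    ∃ t : F, ∃ b ∈ BS F, x = up t * wS * b := by
  rw [mem_BS_iff] at hx
  have hdet := det_eq x
  have he : (-(x 1 0)) * (-(x 1 0))⁻¹ - (-(x 1 1)) * 0 = 1 := by
    rw [mul_zero, sub_zero]
    exact mul_inv_cancel₀ (neg_ne_zero.2 hx)
  refine ⟨x 0 0 / x 1 0,
    mk (-(x 1 0)) (-(x 1 1)) 0 (-(x 1 0))⁻¹ he, (mem_BS_iff _).2 rfl, ?_⟩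
  apply ext4
  · simp only [mul_apply', up, wS, mk_00, mk_01, mk_10, mk_11]
    field_simp
    ring
  · simp only [mul_apply', up, wS, mk_00, mk_01, mk_10, mk_11]
    field_simp
    linear_combination (-(x 1 0)) * hdet
  · simp only [mul_apply', up, wS, mk_00, mk_01, mk_10, mk_11]
    ring
  · simp only [mul_apply', up, wS, mk_00, mk_01, mk_10, mk_11]
    ring

theorem phi_00 (t : F) (b : SL2 F) (hb : b 1 0 = 0) : ((up t * wS * b : SL2 F)) 0 0 = -(t * b 0 0) := by
  simp only [mul_apply', up, wS, mk_00, mk_01, mk_10, mk_11, hb]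
  ring

theorem phi_10 (t : F) (b : SL2 F) (hb : b 1 0 = 0) : ((up t * wS * b : SL2 F)) 1 0 = -(b 0 0) := by
  simp only [mul_apply', up, wS, mk_00, mk_01, mk_10, mk_11, hb]
  ring

theorem phi_11 (t : F) (b : SL2 F) (hb : b 1 0 = 0) : ((up t * wS * b : SL2 F)) 1 1 = -(b 0 1) := by
  simp only [mul_apply', up, wS, mk_00, mk_01, mk_10, mk_11, hb]
  ring

theorem phi_not_mem (t : F) (b : ↥(BS F)) : up t * wS * (b : SL2 F) ∉ BS F := by
  have hb := (mem_BS_iff _).1 b.2
  rw [mem_BS_iff, phi_10 t _ hb]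
  exact neg_ne_zero.2 (diag_ne_zero hb)

theorem phi_injective : Function.Injective
    (fun p : F × ↥(BS F) => up p.1 * wS * (p.2 : SL2 F)) := by
  rintro ⟨t, b⟩ ⟨t', b'⟩ h
  simp only at h
  have hb := (mem_BS_iff _).1 b.2
  have hb' := (mem_BS_iff _).1 b'.2
  have e00 := congrArg (fun z : SL2 F => z 0 0) h
  have e10 := congrArg (fun z : SL2 F => z 1 0) h
  have e11 := congrArg (fun z : SL2 F => z 1 1) h
  simp only [phi_00 _ _ hb, phi_00 _ _ hb', phi_10 _ _ hb, phi_10 _ _ hb', phi_11 _ _ hb,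
    phi_11 _ _ hb'] at e00 e10 e11
  have h00 : (b : SL2 F) 0 0 = (b' : SL2 F) 0 0 := neg_injective e10
  have h01 : (b : SL2 F) 0 1 = (b' : SL2 F) 0 1 := neg_injective e11
  have ht : t = t' := by
    have h1 : t * (b : SL2 F) 0 0 = t' * (b : SL2 F) 0 0 := by
      have := neg_injective e00
      rw [← h00] at this
      exact this
    exact mul_right_cancel₀ (diag_ne_zero hb) h1
  have hbb : b = b' := by
    apply Subtype.ext
    apply ext4 h00 h01
    · rw [hb, hb']
    · rw [diag_inv hb, diag_inv hb', h00]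
  rw [ht, hbb]

/-- an eigenvector from a conjugate in the upper triangular subgroup -/
theorem eig_of_conj_mem (g y : SL2 F) (h : (y⁻¹ * g * y) 1 0 = 0) :
    ∃ (c : F) (v : Fin 2 → F), v ≠ 0 ∧ (g : Matrix (Fin 2) (Fin 2) F).mulVec v = c • v := by
  refine ⟨(y⁻¹ * g * y) 0 0, ![y 0 0, y 1 0], ?_, ?_⟩
  · intro hv
    have h0 : y 0 0 = 0 := by simpa using congrFun hv 0
    have h1 : y 1 0 = 0 := by simpa using congrFun hv 1
    have := det_eq y
    rw [h0, h1] at this
    simp at this
  · have hy : y * (y⁻¹ * g * y) = g * y := by group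
    have key : ∀ i : Fin 2, g i 0 * y 0 0 + g i 1 * y 1 0 = y i 0 * (y⁻¹ * g * y) 0 0 := by
      intro i
      have hi : ((y * (y⁻¹ * g * y) : SL2 F)) i 0 = ((g * y : SL2 F)) i 0 := by rw [hy]
      rw [mul_apply' y (y⁻¹ * g * y), mul_apply' g y, h, mul_zero, add_zero] at hi
      exact hi.symm
    have k0 := key 0
    have k1 := key 1
    funext i
    fin_cases i
    · simp [Matrix.mulVec, dotProduct, Fin.sum_univ_two]
      linear_combination k0
    · simp [Matrix.mulVec, dotProduct, Fin.sum_univ_two]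
      linear_combination k1

theorem conj_upw_10 (t : F) (g : SL2 F) :
    (((up t * wS)⁻¹ * g * (up t * wS) : SL2 F)) 1 0 =
      -((g 0 0 - t * g 1 0) * t + g 0 1 - t * g 1 1) := by
  rw [mul_inv_rev, wS_inv, up_inv]
  simp only [mul_apply', up, wS, wSi, mk_00, mk_01, mk_10, mk_11]
  ring

theorem conj_upw_00 (t : F) (g : SL2 F) :
    (((up t * wS)⁻¹ * g * (up t * wS) : SL2 F)) 0 0 = g 1 0 * t + g 1 1 := by
  rw [mul_inv_rev, wS_inv, up_inv]
  simp only [mul_apply', up, wS, wSi, mk_00, mk_01, mk_10, mk_11]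
  ring

theorem ext_conj_of_upper [DecidableEq F] (α : MulChar F ℂ) (g : SL2 F) (hg : g 1 0 = 0) (t : F) :
    extendByZero (BS F) (sFun α) ((up t * wS)⁻¹ * g * (up t * wS)) =
      if (g 0 0 - g 1 1) * t + g 0 1 = 0 then α (g 1 1) else 0 := by
  have h10 := conj_upw_10 t g
  have h00 := conj_upw_00 t g
  rw [hg] at h10 h00
  by_cases h : (g 0 0 - g 1 1) * t + g 0 1 = 0
  · rw [if_pos h]
    have hmem : (up t * wS)⁻¹ * g * (up t * wS) ∈ BS F := by
      rw [mem_BS_iff, h10]
      linear_combination (-1 : F) * h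
    rw [extendByZero_apply_mem _ _ _ hmem]
    show α ((((up t * wS)⁻¹ * g * (up t * wS) : SL2 F)) 0 0) = _
    rw [h00, zero_mul, zero_add]
  · rw [if_neg h]
    apply extendByZero_apply_not_mem
    rw [mem_BS_iff, h10]
    intro h2
    apply h
    linear_combination (-1 : F) * h2

end basic

section finite
variable {F : Type*} [Field F] [Fintype F] [DecidableEq F]

noncomputable local instance instFintypeBSAux' : Fintype ↥(BS F) := Fintype.ofFinite _

/-- the Bruhat decomposition as a sum formula -/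
theorem sum_SL2 (f : SL2 F → ℂ) :
    ∑ y : SL2 F, f y = ∑ b : ↥(BS F), f (b : SL2 F) + ∑ t : F, ∑ b : ↥(BS F), f (up t * wS * (b : SL2 F)) := by
  classical
  rw [← Finset.sum_filter_add_sum_filter_not Finset.univ (fun y : SL2 F => y ∈ BS F) f]
  congr 1
  · exact Finset.sum_subtype (Finset.univ.filter (fun y : SL2 F => y ∈ BS F)) (by simp) f
  · have himg : Finset.univ.filter (fun y : SL2 F => ¬ y ∈ BS F) =
        Finset.univ.image (fun p : F × ↥(BS F) => up p.1 * wS * (p.2 : SL2 F)) := by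
      ext y
      simp only [Finset.mem_filter, Finset.mem_univ, true_and, Finset.mem_image]
      constructor
      · intro hy
        obtain ⟨t, b, hb, rfl⟩ := bruhatS' y hy
        exact ⟨(t, ⟨b, hb⟩), rfl⟩
      · rintro ⟨p, rfl⟩
        exact phi_not_mem p.1 p.2
    rw [himg, Finset.sum_image (fun p _ q _ h => phi_injective h), Fintype.sum_prod_type]

theorem indFun_sl_apply (α : MulChar F ℂ) (g : SL2 F) :
    indFun (BS F) (sFun α) g = extendByZero (BS F) (sFun α) g +
      ∑ t : F, extendByZero (BS F) (sFun α) ((up t * wS)⁻¹ * g * (up t * wS)) := by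
  unfold indFun
  rw [sum_SL2]
  have h1 : ∀ b : ↥(BS F), extendByZero (BS F) (sFun α) ((b : SL2 F)⁻¹ * g * b) =
      extendByZero (BS F) (sFun α) g :=
    fun b => extendByZero_conj_mem _ (isClassFunction_sFun α) b b.2 g
  have h2 : ∀ (t : F) (b : ↥(BS F)), extendByZero (BS F) (sFun α)
      ((up t * wS * (b : SL2 F))⁻¹ * g * (up t * wS * (b : SL2 F))) =
      extendByZero (BS F) (sFun α) ((up t * wS)⁻¹ * g * (up t * wS)) := by
    intro t b
    have h3 : (up t * wS * (b : SL2 F))⁻¹ * g * (up t * wS * (b : SL2 F)) =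
        (b : SL2 F)⁻¹ * ((up t * wS)⁻¹ * g * (up t * wS)) * (b : SL2 F) := by group
    rw [h3, extendByZero_conj_mem _ (isClassFunction_sFun α) b b.2]
  have hne : (Nat.card ↥(BS F) : ℂ) ≠ 0 := Nat.cast_ne_zero.2 Nat.card_pos.ne'
  simp only [h1, h2, Finset.sum_const, Finset.card_univ, nsmul_eq_mul]
  rw [← Finset.mul_sum, ← mul_add, ← Nat.card_eq_fintype_card, ← mul_assoc, inv_mul_cancel₀ hne,
    one_mul]

/-- the values of the principal series characters of `SL₂(q)` -/
theorem sl_values (α : MulChar F ℂ) (g : SL2 F) :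
    (g 0 1 = 0 → g 1 0 = 0 → g 0 0 ^ 2 ≠ 1 →
      indFun (BS F) (sFun α) g = α (g 0 0) + α (g 1 1)) ∧
    ((∀ (c : F) (v : Fin 2 → F), v ≠ 0 → (g : Matrix (Fin 2) (Fin 2) F).mulVec v ≠ c • v) →
      indFun (BS F) (sFun α) g = 0) ∧
    (g 1 0 = 0 → g 0 0 = g 1 1 → g 0 1 ≠ 0 → indFun (BS F) (sFun α) g = α (g 0 0)) ∧
    (g 0 1 = 0 → g 1 0 = 0 → g 0 0 = g 1 1 →
      indFun (BS F) (sFun α) g = ((Fintype.card F : ℂ) + 1) * α (g 0 0)) := by
  refine ⟨?_, ?_, ?_, ?_⟩
  · intro h01 h10 hsq
    have hne : g 0 0 - g 1 1 ≠ 0 := by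
      rw [diag_inv h10]
      intro h
      apply hsq
      have h0 := diag_ne_zero h10
      have h1 : g 0 0 = (g 0 0)⁻¹ := sub_eq_zero.1 h
      rw [pow_two]
      nth_rewrite 2 [h1]
      exact mul_inv_cancel₀ h0
    have hsum : ∑ t : F, extendByZero (BS F) (sFun α) ((up t * wS)⁻¹ * g * (up t * wS)) =
        α (g 1 1) := by
      rw [Finset.sum_eq_single (0 : F)]
      · rw [ext_conj_of_upper α g h10, if_pos]
        rw [mul_zero, zero_add]
        exact h01
      · intro t _ ht
        rw [ext_conj_of_upper α g h10, if_neg]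
        rw [h01, add_zero]
        exact mul_ne_zero hne ht
      · intro h
        exact absurd (Finset.mem_univ _) h
    rw [indFun_sl_apply, hsum, extendByZero_apply_mem _ _ _ ((mem_BS_iff g).2 h10)]
    rfl
  · intro hno
    unfold indFun
    rw [Finset.sum_eq_zero, mul_zero]
    intro y _
    apply extendByZero_apply_not_mem
    rw [mem_BS_iff]
    intro h
    obtain ⟨c, v, hv, hcv⟩ := eig_of_conj_mem g y h
    exact hno c v hv hcv
  · intro h10 heq h01
    have hsum : ∑ t : F, extendByZero (BS F) (sFun α) ((up t * wS)⁻¹ * g * (up t * wS)) = 0 := by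
      apply Finset.sum_eq_zero
      intro t _
      rw [ext_conj_of_upper α g h10, if_neg]
      rw [heq, sub_self, zero_mul, zero_add]
      exact h01
    rw [indFun_sl_apply, hsum, add_zero, extendByZero_apply_mem _ _ _ ((mem_BS_iff g).2 h10)]
    rfl
  · intro h01 h10 heq
    have hsum : ∑ t : F, extendByZero (BS F) (sFun α) ((up t * wS)⁻¹ * g * (up t * wS)) =
        (Fintype.card F : ℂ) * α (g 0 0) := by
      have hterm : ∀ t : F, extendByZero (BS F) (sFun α) ((up t * wS)⁻¹ * g * (up t * wS)) =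
          α (g 0 0) := by
        intro t
        rw [ext_conj_of_upper α g h10, if_pos, heq]
        rw [heq, sub_self, zero_mul, zero_add]
        exact h01
      rw [Finset.sum_congr rfl (fun t _ => hterm t), Finset.sum_const, Finset.card_univ,
        nsmul_eq_mul]
    rw [indFun_sl_apply, hsum, extendByZero_apply_mem _ _ _ ((mem_BS_iff g).2 h10)]
    show α (g 0 0) + _ = _
    ring

end finite

end Cfsg.Agent.Lib.Helper26.PS2
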