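import Mathlib
import Cfsg.Prelude.Def_Characters
import Cfsg.Prelude.Def_ParabolicCharacters
import Cfsg.Agent.Lib.Helper26.PrincipalSL2
import Cfsg.Agent.Lib.Helper26.PrincipalSL2Values
import Cfsg.Agent.Lib.Helper26.PrincipalRes
import Cfsg.Agent.Lib.Helper26.GL2Const
import Cfsg.Agent.Lib.Helper26.NormTwo
import Cfsg.Agent.Lib.Helper4.BurnsideClass
import Cfsg.Agent.Lib.Helper28.DefectZero

/-!
# Constituents of the principal series of `SL₂(q)`; the Steinberg character (helper26)
-/

set_option autoImplicit false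

namespace Cfsg.Agent.Lib.Helper26.PS2
open Cfsg Cfsg.Agent.Lib.Helper26 Cfsg.Agent.Lib.Helper12.SL2
open scoped ComplexConjugate

local notation "SL2" => Matrix.SpecialLinearGroup (Fin 2)

section finite
variable {F : Type*} [Field F] [Fintype F] [DecidableEq F]

attribute [local instance] instFintypeBSAux
attribute [local instance] Cfsg.Agent.Lib.Helper26.PS.instFintypeMulCharAux

theorem sum_sFun_equivUpperS (a : Fˣ) (t : F) :
    (∑ α : MulChar F ℂ, sFun α) (equivUpperS (a, t)) =
      if a = 1 then (Fintype.card Fˣ : ℂ) else 0 := by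
  simp only [Finset.sum_apply, sFun_equivUpperS]
  exact PS.sum_mulChar_apply a

theorem equivUpperS_one (t : F) :
    ((equivUpperS ((1 : Fˣ), t) : ↥(BS F)) : SL2 F) = up t := by
  rw [equivUpperS_coe]
  apply ext4 <;> simp [up]

/-- the sum of the multiplicities in all `R(α)` is the average over the unipotent subgroup -/
theorem sum_classInner_sl (χ : SL2 F → ℂ) (hχ : IsClassFunction (SL2 F) χ) :
    ∑ α : MulChar F ℂ, classInner χ (indFun (BS F) (sFun α)) =
      (Fintype.card F : ℂ)⁻¹ * ∑ t : F, χ (up t) := by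
  have h1 : ∀ α : MulChar F ℂ, classInner χ (indFun (BS F) (sFun α)) =
      classInner (χ ∘ (BS F).subtype) (sFun α) :=
    fun α => classInner_indFun_right' _ χ hχ _
  simp only [h1]
  rw [← classInner_sum_right]
  unfold classInner
  rw [sum_upperS (fun b => (χ ∘ (BS F).subtype) b * conj ((∑ α : MulChar F ℂ, sFun α) b))]
  simp only [sum_sFun_equivUpperS]
  rw [Finset.sum_eq_single (1 : Fˣ)]
  · rw [if_pos rfl, card_BS]
    have hq : (Fintype.card F : ℂ) ≠ 0 := Nat.cast_ne_zero.2 Fintype.card_ne_zero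
    have hu : (Fintype.card Fˣ : ℂ) ≠ 0 := Nat.cast_ne_zero.2 Fintype.card_ne_zero
    have h2 : ∀ t : F, (χ ∘ (BS F).subtype) (equivUpperS (1, t)) = χ (up t) := by
      intro t
      show χ ((equivUpperS ((1 : Fˣ), t) : ↥(BS F)) : SL2 F) = _
      rw [equivUpperS_one]
    simp only [h2, map_natCast]
    rw [← Finset.sum_mul]
    push_cast
    field_simp
  · intro a _ ha
    apply Finset.sum_eq_zero
    intro t _
    rw [if_neg ha, map_zero, mul_zero]
  · intro h
    exact absurd (Finset.mem_univ _) h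

theorem exists_sl_of_avg_ne_zero {χ : SL2 F → ℂ} (hχ : IsIrrCharacter (SL2 F) χ)
    (h : ∑ t : F, χ (up t) ≠ 0) :
    ∃ α : MulChar F ℂ, classInner χ (indFun (BS F) (sFun α)) ≠ 0 := by
  by_contra hcon
  push Not at hcon
  have h1 := sum_classInner_sl χ (isClassFunction_of_isIrrCharacter hχ)
  simp only [hcon, Finset.sum_const_zero] at h1
  have hq : (Fintype.card F : ℂ) ≠ 0 := Nat.cast_ne_zero.2 Fintype.card_ne_zero
  rcases mul_eq_zero.1 h1.symm with h2 | h2
  · exact hq (inv_eq_zero.1 h2)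
  · exact h h2

theorem isIrrCharacter_one_sl : IsIrrCharacter (SL2 F) (1 : SL2 F → ℂ) :=
  Cfsg.Agent.Lib.Helper4.isIrrCharacter_one (G := SL2 F)

theorem one_restrict : (1 : SL2 F → ℂ) ∘ (BS F).subtype = sFun 1 := by
  funext b
  have hb := (mem_BS_iff _).1 b.2
  show (1 : ℂ) = (1 : MulChar F ℂ) ((b : SL2 F) 0 0)
  rw [MulChar.one_apply (isUnit_iff_ne_zero.2 (diag_ne_zero hb))]

theorem classInner_sl_one :
    classInner (indFun (BS F) (sFun (1 : MulChar F ℂ))) (1 : SL2 F → ℂ) = 1 := by
  rw [classInner_indFun_left' _ _ _ (isClassFunction_of_isIrrCharacter isIrrCharacter_one_sl),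
    one_restrict, classInner_sFun, if_pos rfl]

/-- the Steinberg character of `SL₂(q)` -/
noncomputable def slSt : SL2 F → ℂ := indFun (BS F) (sFun (1 : MulChar F ℂ)) - 1

theorem sl_one_decomp : IsIrrCharacter (SL2 F) (slSt (F := F)) ∧ slSt (F := F) ≠ 1 := by
  classical
  have hchar : IsCharacter (SL2 F) (indFun (BS F) (sFun (1 : MulChar F ℂ))) :=
    isCharacter_indFun _ (isCharacter_of_isIrrCharacter (isIrrCharacter_sFun 1))
  have hnorm : classInner (indFun (BS F) (sFun (1 : MulChar F ℂ)))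
      (indFun (BS F) (sFun (1 : MulChar F ℂ))) = 2 := by
    rw [classInner_sl, if_pos rfl, if_pos inv_one.symm]
    norm_num
  obtain ⟨μ₁, μ₂, h₁, h₂, hne, hsum⟩ := char_norm_two hchar hnorm
  have hone := isIrrCharacter_one_sl (F := F)
  have h1 := classInner_sl_one (F := F)
  rw [hsum, classInner_add_left, classInner_irr h₁ hone, classInner_irr h₂ hone] at h1
  by_cases e1 : μ₁ = 1
  · have h2 : slSt (F := F) = μ₂ := by
      unfold slSt
      rw [hsum, e1]
      simp
    rw [h2]
    exact ⟨h₂, fun h => hne (e1.trans h.symm)⟩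
  · by_cases e2 : μ₂ = 1
    · have h2 : slSt (F := F) = μ₁ := by
        unfold slSt
        rw [hsum, e2]
        simp
      rw [h2]
      exact ⟨h₁, e1⟩
    · rw [if_neg e1, if_neg e2] at h1
      norm_num at h1

theorem eq_of_constituent_one {χ : SL2 F → ℂ} (hχ : IsIrrCharacter (SL2 F) χ)
    (h : classInner χ (indFun (BS F) (sFun (1 : MulChar F ℂ))) ≠ 0) :
    χ = 1 ∨ χ = slSt := by
  have hdecomp : indFun (BS F) (sFun (1 : MulChar F ℂ)) = 1 + slSt := by
    unfold slSt
    simp
  rw [hdecomp, classInner_add_right, classInner_irr hχ isIrrCharacter_one_sl,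
    classInner_irr hχ sl_one_decomp.1] at h
  by_cases e1 : χ = 1
  · left; exact e1
  · by_cases e2 : χ = slSt
    · right; exact e2
    · rw [if_neg e1, if_neg e2, add_zero] at h
      exact absurd rfl h

/-- the degree of `R(α)` -/
theorem sl_degree (α : MulChar F ℂ) :
    indFun (BS F) (sFun α) 1 = (Fintype.card F : ℂ) + 1 := by
  have hcS : (Fintype.card (SL2 F) : ℂ) =
      ((Fintype.card Fˣ * (Fintype.card Fˣ + 1) * (Fintype.card Fˣ + 2) : ℕ) : ℂ) := by
    rw [← card_SL2', Nat.card_eq_fintype_card]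
  have hu : (Fintype.card Fˣ : ℂ) ≠ 0 := Nat.cast_ne_zero.2 Fintype.card_ne_zero
  have hq : ((Fintype.card Fˣ : ℂ) + 1) ≠ 0 := by
    have h := Nat.cast_ne_zero (R := ℂ).2 (Nat.succ_ne_zero (Fintype.card Fˣ))
    rwa [Nat.cast_succ] at h
  rw [indFun_one, sFun_one, mul_one, hcS, card_BS, PS.card_F_eq (F := F)]
  push_cast
  field_simp
  ring

/-- an irreducible character of `SL₂(q)` of degree `q` is the Steinberg character -/
theorem eq_slSt_of_degree {χ : SL2 F → ℂ} (hχ : IsIrrCharacter (SL2 F) χ)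
    (hdeg : χ 1 = (Fintype.card F : ℂ)) : χ = slSt := by
  classical
  have hq2 := Fintype.one_lt_card (α := F)
  -- the characteristic
  haveI hchar : CharP F (ringChar F) := ringChar.charP F
  haveI hprime : Fact (ringChar F).Prime := ⟨CharP.char_is_prime F (ringChar F)⟩
  obtain ⟨n, hp, hcard⟩ := FiniteField.card F (ringChar F)
  -- vanishing on the non-trivial unipotent elements
  have hvan : ∀ t : F, t ≠ 0 → χ (up t) = 0 := by
    intro t ht
    obtain ⟨m, ρ, hirr, rfl⟩ := hχ
    have hm : (m : ℂ) = (Fintype.card F : ℂ) := by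
      rw [← hdeg, Representation.char_one]
      simp
    have hm' : m = Fintype.card F := by exact_mod_cast hm
    have hb : Module.finrank ℂ (Fin m → ℂ) * (Fintype.card F ^ 2 - 1) = Nat.card (SL2 F) := by
      rw [card_SL2]
      simp [hm']
    have hcop : (Fintype.card F ^ 2 - 1).Coprime (ringChar F) := by
      apply Nat.Coprime.symm
      rw [Nat.Prime.coprime_iff_not_dvd hp]
      intro hdvd
      have h1 : ringChar F ∣ Fintype.card F ^ 2 := by
        rw [hcard]
        exact dvd_pow (dvd_pow_self _ n.ne_zero) (by norm_num)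
      have h2 : 1 ≤ Fintype.card F ^ 2 := Nat.one_le_pow _ _ (by omega)
      have h3 : ringChar F ∣ Fintype.card F ^ 2 - (Fintype.card F ^ 2 - 1) := Nat.dvd_sub h1 hdvd
      have h4 : Fintype.card F ^ 2 - (Fintype.card F ^ 2 - 1) = 1 := by omega
      rw [h4] at h3
      exact hp.one_lt.ne' (Nat.dvd_one.1 h3)
    apply Cfsg.Agent.Lib.Helper28.defect_zero_vanish ρ hirr hp hb hcop
    rw [orderOf_up (p := ringChar F) ht]
  have hsum : ∑ t : F, χ (up t) = (Fintype.card F : ℂ) := by
    rw [Finset.sum_eq_single (0 : F), up_zero, hdeg]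
    · intro t _ ht
      exact hvan t ht
    · intro h
      exact absurd (Finset.mem_univ _) h
  have hne0 : ∑ t : F, χ (up t) ≠ 0 := by
    rw [hsum]
    exact Nat.cast_ne_zero.2 Fintype.card_ne_zero
  obtain ⟨α, hα⟩ := exists_sl_of_avg_ne_zero hχ hne0
  by_cases e1 : α = 1
  · subst e1
    rcases eq_of_constituent_one hχ hα with h1 | h1
    · exfalso
      rw [h1] at hdeg
      have h2 : ((1 : ℕ) : ℂ) = ((Fintype.card F : ℕ) : ℂ) := by
        push_cast
        exact hdeg
      have h3 : 1 = Fintype.card F := by exact_mod_cast h2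
      omega
    · exact h1
  · exfalso
    by_cases e2 : α ^ 2 = 1
    · -- order two
      have ho : orderOf α = 2 := orderOf_eq_prime e2 e1
      have hdvd := MulChar.orderOf_dvd_card_sub_one (χ := α)
      rw [ho] at hdvd
      obtain ⟨c, hc⟩ := hdvd
      have hodd : Odd (Fintype.card F) := ⟨c, by omega⟩
      obtain ⟨χ₁, χ₂, h₁, h₂, -, hsum12, hd1, hd2, -⟩ := PSR.sl_order_two hodd α e2 e1
      rw [hsum12, classInner_add_right, classInner_irr hχ h₁, classInner_irr hχ h₂] at hα
      have hhalf : (Fintype.card F + 1) / 2 < Fintype.card F := by omega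
      by_cases e3 : χ = χ₁
      · rw [e3, hd1] at hdeg
        have h3 : (Fintype.card F + 1) / 2 = Fintype.card F := by exact_mod_cast hdeg
        omega
      · by_cases e4 : χ = χ₂
        · rw [e4, hd2] at hdeg
          have h3 : (Fintype.card F + 1) / 2 = Fintype.card F := by exact_mod_cast hdeg
          omega
        · rw [if_neg e3, if_neg e4, add_zero] at hα
          exact hα rfl
    · have hirr := (sl_irr_iff α).2 e2
      have h1 := eq_of_classInner_ne_zero hχ hirr hα
      rw [h1, sl_degree] at hdeg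
      have : (1 : ℂ) = 0 := by linear_combination hdeg
      norm_num at this

/-- the values of the character of degree `q` of `SL₂(q)` -/
theorem sl_steinberg_values {χ : SL2 F → ℂ} (hχ : IsIrrCharacter (SL2 F) χ)
    (hdeg : χ 1 = (Fintype.card F : ℂ)) (g : SL2 F) :
    (g 0 1 = 0 → g 1 0 = 0 → g 0 0 ^ 2 ≠ 1 → χ g = 1) ∧
    ((∀ (c : F) (v : Fin 2 → F), v ≠ 0 → (g : Matrix (Fin 2) (Fin 2) F).mulVec v ≠ c • v) →
      χ g = -1) ∧
    (g 1 0 = 0 → g 0 0 = g 1 1 → g 0 1 ≠ 0 → χ g = 0) := by
  rw [eq_slSt_of_degree hχ hdeg]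
  obtain ⟨ha, hb, hc, -⟩ := sl_values (1 : MulChar F ℂ) g
  refine ⟨?_, ?_, ?_⟩
  · intro h01 h10 hsq
    have h0 := diag_ne_zero h10
    have h1 : g 1 1 ≠ 0 := by
      rw [diag_inv h10]
      exact inv_ne_zero h0
    unfold slSt
    rw [Pi.sub_apply, ha h01 h10 hsq, MulChar.one_apply (isUnit_iff_ne_zero.2 h0),
      MulChar.one_apply (isUnit_iff_ne_zero.2 h1)]
    simp
  · intro hno
    unfold slSt
    rw [Pi.sub_apply, hb hno]
    simp
  · intro h10 heq h01
    have h0 := diag_ne_zero h10
    unfold slSt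
    rw [Pi.sub_apply, hc h10 heq h01, MulChar.one_apply (isUnit_iff_ne_zero.2 h0)]
    simp

end finite

end Cfsg.Agent.Lib.Helper26.PS2
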