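import Mathlib
import Cfsg.Prelude.Def_Characters
import Cfsg.Prelude.Def_ParabolicCharacters
import Cfsg.Agent.Lib.Helper26.GL2Count
import Cfsg.Agent.Lib.Helper26.CliffordHom
import Cfsg.Agent.Lib.Helper26.PrincipalRes

/-!
# Characters of `SL₂(q)` via Clifford theory from `GL₂(q)` (helper26)
-/

set_option autoImplicit false

namespace Cfsg.Agent.Lib.Helper26.PSR
open Cfsg Cfsg.Agent.Lib.Helper26 Cfsg.Agent.Lib.Helper12
open scoped ComplexConjugate

local notation "GLt" => Matrix.GeneralLinearGroup (Fin 2)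
local notation "SLt" => Matrix.SpecialLinearGroup (Fin 2)

theorem arith_a (m q : ℕ) (hm : 1 ≤ m) (hq : 4 ≤ q)
    (h : m * (q + 1) = 1 ∨ m * (q + 1) = q - 1 ∨ m * (q + 1) = q ∨ m * (q + 1) = q + 1) :
    m = 1 := by
  rcases Nat.lt_or_ge m 2 with h2 | h2
  · omega
  · have h3 : 2 * (q + 1) ≤ m * (q + 1) := Nat.mul_le_mul_right _ h2
    omega

theorem arith_b (m q : ℕ) (hm : 1 ≤ m) (hq : 4 ≤ q)
    (h : m * (q - 1) = 1 ∨ m * (q - 1) = q - 1 ∨ m * (q - 1) = q ∨ m * (q - 1) = q + 1) :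
    m = 1 := by
  by_contra hne
  have h2 : 2 ≤ m := by omega
  rcases Nat.lt_or_ge m 3 with h3 | h3
  · have hm2 : m = 2 := by omega
    subst hm2
    omega
  · have h4 : 3 * (q - 1) ≤ m * (q - 1) := Nat.mul_le_mul_right _ h3
    omega

section field
variable {F : Type*} [Field F]

theorem toGL_eq_um {u : SLt F} (hu : (u : Matrix (Fin 2) (Fin 2) F) = !![1, 1; 0, 1]) :
    (Matrix.SpecialLinearGroup.toGL u : GLt F) = GL2.um 1 := by
  apply GL2.ext4
  · show (u : Matrix (Fin 2) (Fin 2) F) 0 0 = 1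
    rw [hu]
    simp
  · show (u : Matrix (Fin 2) (Fin 2) F) 0 1 = 1
    rw [hu]
    simp
  · show (u : Matrix (Fin 2) (Fin 2) F) 1 0 = 0
    rw [hu]
    simp
  · show (u : Matrix (Fin 2) (Fin 2) F) 1 1 = 1
    rw [hu]
    simp

end field

section finite
variable {F : Type*} [Field F] [Fintype F] [DecidableEq F]

/-- every irreducible character of `SL₂(q)` lies under an irreducible character `Θ` of `GL₂(q)`,
with `Θ(1) = m χ(1)` and `Θ|_{SL₂} = χ` when `m = 1` -/
theorem exists_gl_above {χ : SLt F → ℂ} (hχ : IsIrrCharacter (SLt F) χ) :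
    ∃ Θ : GLt F → ℂ, IsIrrCharacter (GLt F) Θ ∧
      classInner (Θ ∘ (Matrix.SpecialLinearGroup.toGL : SLt F →* GLt F)) χ ≠ 0 ∧
      ∃ m : ℕ, 1 ≤ m ∧ Θ 1 = m * χ 1 ∧
        (m = 1 → ∀ s : SLt F, Θ (Matrix.SpecialLinearGroup.toGL s) = χ s) := by
  obtain ⟨Θ, hΘ, hne⟩ := CH.exists_above (Matrix.SpecialLinearGroup.toGL : SLt F →* GLt F)
    Matrix.SpecialLinearGroup.toGL_injective hχ
  exact ⟨Θ, hΘ, hne, CH.clifford_hom _ Matrix.SpecialLinearGroup.toGL_injective hΘ hχ hne⟩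

theorem sl_unipotent_values (hq : 4 ≤ Fintype.card F) {χ : SLt F → ℂ}
    (hχ : IsIrrCharacter (SLt F) χ) (u : SLt F)
    (hu : (u : Matrix (Fin 2) (Fin 2) F) = !![1, 1; 0, 1]) :
    (χ 1 = (Fintype.card F : ℂ) + 1 → χ u = 1) ∧
      (χ 1 = (Fintype.card F : ℂ) - 1 → χ u = -1) := by
  obtain ⟨Θ, hΘ, -, m, hm1, hdeg, hm⟩ := exists_gl_above hχ
  have hq3 : 3 ≤ Fintype.card F := by omega
  have hdegs := PS.gl2_degrees hΘ
  have c4 : (Fintype.card F : ℂ) - 1 = ((Fintype.card F - 1 : ℕ) : ℂ) := by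
    rw [Nat.cast_sub (by omega)]
    norm_num
  have c3 : (Fintype.card F : ℂ) + 1 = ((Fintype.card F + 1 : ℕ) : ℂ) := by
    push_cast
    ring
  have c1 : (1 : ℂ) = ((1 : ℕ) : ℂ) := by norm_num
  constructor
  · intro h1
    rw [h1, c3, ← Nat.cast_mul] at hdeg
    rw [hdeg, c4, c3] at hdegs
    have hm' : m = 1 := by
      apply arith_a m (Fintype.card F) hm1 hq
      rcases hdegs with h | h | h | h
      · left
        rw [c1] at h
        exact_mod_cast h
      · right; left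
        exact_mod_cast h
      · right; right; left
        exact_mod_cast h
      · right; right; right
        exact_mod_cast h
    rw [hm', one_mul, ← c3] at hdeg
    have hP := (PS.deg_iff hq3 ⟨Θ, hΘ⟩).2.2.1.1 hdeg
    rw [← hm hm' u, toGL_eq_um hu]
    exact PS.val_of_isP hP
  · intro h1
    rw [h1, c4, ← Nat.cast_mul] at hdeg
    rw [hdeg, c4, c3] at hdegs
    have hm' : m = 1 := by
      apply arith_b m (Fintype.card F) hm1 hq
      rcases hdegs with h | h | h | h
      · left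
        rw [c1] at h
        exact_mod_cast h
      · right; left
        exact_mod_cast h
      · right; right; left
        exact_mod_cast h
      · right; right; right
        exact_mod_cast h
    rw [hm', one_mul, ← c4] at hdeg
    have hC := (PS.deg_iff hq3 ⟨Θ, hΘ⟩).2.2.2.1 hdeg
    rw [← hm hm' u, toGL_eq_um hu]
    exact PS.val_of_isC ⟨Θ, hΘ⟩ hC

end finite

end Cfsg.Agent.Lib.Helper26.PSR
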