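import Mathlib
import Cfsg.Prelude.Def_Characters
import Cfsg.Prelude.Def_ParabolicCharacters
import Cfsg.Agent.Lib.Helper26.GL2Count
import Cfsg.Agent.Lib.Helper26.CliffordHom
import Cfsg.Agent.Lib.Helper26.PrincipalRes
import Cfsg.Agent.Lib.Helper26.SL2Const
import Cfsg.Agent.Lib.Helper26.SL2Cusp

/-!
# Unipotent sums of the irreducible characters of `SL₂(q)` via Clifford theory (helper26)
-/

set_option autoImplicit false

namespace Cfsg.Agent.Lib.Helper26.PSR
open Cfsg Cfsg.Agent.Lib.Helper26 Cfsg.Agent.Lib.Helper12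
open scoped ComplexConjugate

local notation "GLt" => Matrix.GeneralLinearGroup (Fin 2)
local notation "SLt" => Matrix.SpecialLinearGroup (Fin 2)

theorem arith_usum (q m d n D A : ℕ) (hq : 5 ≤ q) (hodd : Odd q) (hm : 1 ≤ m) (hd : 1 ≤ d)
    (hD : m * d = D) (hA : m * (q * n) = A)
    (htype : (D = 1 ∧ A = q) ∨ (D = q ∧ A = q) ∨ (D = q + 1 ∧ A = 2 * q) ∨ (D + 1 = q ∧ A = 0)) :
    (d = q + 1 → n = 2) ∧ (d = q → n = 1) ∧ (d + 1 = q → n = 0) ∧ (d = (q + 1) / 2 → n = 1) ∧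
      (d = (q - 1) / 2 → n = 0) := by
  obtain ⟨k, hk⟩ := hodd
  have hle : d ≤ m * d := Nat.le_mul_of_pos_left d hm
  have h1 : m = 1 → m * d = d := by
    intro h
    rw [h, one_mul]
  have h2 : m = 2 → m * d = 2 * d := by
    intro h
    rw [h]
  have h3 : 3 ≤ m → 3 * d ≤ m * d := fun h => Nat.mul_le_mul_right _ h
  have hmn : ∀ c : ℕ, m * (q * n) = c * q → m * n = c := by
    intro c hc
    have h4 : q * (m * n) = q * c := by
      rw [mul_comm c q] at hc
      rw [← hc]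
      ring
    exact Nat.eq_of_mul_eq_mul_left (by omega) h4
  rcases htype with ⟨hD1, hA1⟩ | ⟨hD1, hA1⟩ | ⟨hD1, hA1⟩ | ⟨hD1, hA1⟩
  · have hd1 : d = 1 := by omega
    refine ⟨?_, ?_, ?_, ?_, ?_⟩ <;> intro h <;> omega
  · have h5 : m * n = 1 := hmn 1 (by rw [hA, hA1, one_mul])
    have hm1 : m = 1 := Nat.dvd_one.1 (Dvd.intro _ h5)
    have hn1 : n = 1 := Nat.dvd_one.1 (Dvd.intro_left _ h5)
    have h6 := h1 hm1
    refine ⟨?_, ?_, ?_, ?_, ?_⟩ <;> intro h <;> omega
  · have h5 : m * n = 2 := hmn 2 (by rw [hA, hA1])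
    have hm2 : m = 1 ∨ m = 2 := (Nat.dvd_prime Nat.prime_two).1 (Dvd.intro _ h5)
    rcases hm2 with hm1 | hm2
    · have h6 := h1 hm1
      rw [hm1, one_mul] at h5
      refine ⟨?_, ?_, ?_, ?_, ?_⟩ <;> intro h <;> omega
    · have h6 := h2 hm2
      rw [hm2] at h5
      refine ⟨?_, ?_, ?_, ?_, ?_⟩ <;> intro h <;> omega
  · have hn0 : n = 0 := by
      rw [hA1] at hA
      rcases Nat.mul_eq_zero.1 hA with h | h
      · omega
      · rcases Nat.mul_eq_zero.1 h with h' | h'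
        · omega
        · exact h'
    rcases (by omega : m = 1 ∨ m = 2 ∨ 3 ≤ m) with h | h | h
    · have h6 := h1 h
      refine ⟨?_, ?_, ?_, ?_, ?_⟩ <;> intro h' <;> omega
    · have h6 := h2 h
      refine ⟨?_, ?_, ?_, ?_, ?_⟩ <;> intro h' <;> omega
    · have h6 := h3 h
      refine ⟨?_, ?_, ?_, ?_, ?_⟩ <;> intro h' <;> omega

section field
variable {F : Type*} [Field F]

theorem toGL_up (t : F) : (Matrix.SpecialLinearGroup.toGL (SL2.up t) : GLt F) = GL2.um t := by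
  apply GL2.ext4 <;> rfl

theorem diag_conj_up (c : Fˣ) (t : F) :
    SL2.diagUnit2 c * (Matrix.SpecialLinearGroup.toGL (SL2.up t) : GLt F) *
      (SL2.diagUnit2 c)⁻¹ = Matrix.SpecialLinearGroup.toGL (SL2.up ((c : F) * t)) := by
  rw [mul_inv_eq_iff_eq_mul]
  apply GL2.ext4
  · rw [GL2.mul_apply', GL2.mul_apply']
    show (c : F) * 1 + 0 * 0 = 1 * (c : F) + ((c : F) * t) * 0
    ring
  · rw [GL2.mul_apply', GL2.mul_apply']
    show (c : F) * t + 0 * 1 = 1 * 0 + ((c : F) * t) * 1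
    ring
  · rw [GL2.mul_apply', GL2.mul_apply']
    show (0 : F) * 1 + 1 * 0 = 0 * (c : F) + 1 * 0
    ring
  · rw [GL2.mul_apply', GL2.mul_apply']
    show (0 : F) * t + 1 * 1 = 0 * 0 + 1 * 1
    ring

/-- the sum over the upper unitriangular subgroup, as in the statements -/
theorem usum_eq [Fintype F] [Fintype (SLt F)] (χ : SLt F → ℂ)
    [DecidablePred (fun g : SLt F => (g : Matrix (Fin 2) (Fin 2) F) 1 0 = 0 ∧
      (g : Matrix (Fin 2) (Fin 2) F) 0 0 = 1 ∧ (g : Matrix (Fin 2) (Fin 2) F) 1 1 = 1)] :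
    (∑ g : SLt F, if (g : Matrix (Fin 2) (Fin 2) F) 1 0 = 0 ∧
      (g : Matrix (Fin 2) (Fin 2) F) 0 0 = 1 ∧ (g : Matrix (Fin 2) (Fin 2) F) 1 1 = 1
        then χ g else 0) = ∑ t : F, χ (SL2.up t) := by
  rw [← Finset.sum_filter]
  symm
  apply Finset.sum_bij (fun (t : F) _ => SL2.up t)
  · intro t _
    simp only [Finset.mem_filter, Finset.mem_univ, true_and]
    exact ⟨rfl, rfl, rfl⟩
  · intro a _ b _ hab
    exact congrArg (fun g : SLt F => g 0 1) hab
  · intro g hg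
    simp only [Finset.mem_filter, Finset.mem_univ, true_and] at hg
    obtain ⟨h10, h00, h11⟩ := hg
    refine ⟨g 0 1, Finset.mem_univ _, ?_⟩
    apply SL2.ext4
    · exact h00.symm
    · rfl
    · exact h10.symm
    · exact h11.symm
  · intro t _
    rfl

end field

section finite
variable {F : Type*} [Field F] [Fintype F] [DecidableEq F]

attribute [local instance] Cfsg.Agent.Lib.Helper26.PS2.instFintypeBSAux
attribute [local instance] Cfsg.Agent.Lib.Helper26.PS.instFintypeMulCharAux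

/-- the unipotent sum is invariant under `GL₂`-conjugation -/
theorem usum_conj {χ ψ : SLt F → ℂ} (hχ : IsClassFunction (SLt F) χ)
    (h : CH.IsConjAlong (Matrix.SpecialLinearGroup.toGL : SLt F →* GLt F) χ ψ) :
    ∑ t : F, ψ (SL2.up t) = ∑ t : F, χ (SL2.up t) := by
  obtain ⟨g₀, hg⟩ := h
  obtain ⟨⟨s₀, c⟩, hp⟩ := (eSLU (F := F)).surjective g₀
  rw [eSLU_apply] at hp
  simp only at hp
  have h1 : ∀ t : F, ψ (SL2.up t) = χ (SL2.up ((c : F) * t)) := by
    intro t
    have h2 : (Matrix.SpecialLinearGroup.toGL (s₀ * SL2.up ((c : F) * t) * s₀⁻¹) : GLt F) =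
        g₀ * Matrix.SpecialLinearGroup.toGL (SL2.up t) * g₀⁻¹ := by
      rw [← hp, map_mul, map_mul, map_inv, ← diag_conj_up c t]
      group
    rw [hg _ _ h2, hχ]
  rw [Finset.sum_congr rfl (fun t _ => h1 t)]
  exact Fintype.sum_equiv (Equiv.mulLeft₀ (c : F) c.ne_zero) _ _ (fun t => rfl)

/-- the unipotent sum of an irreducible character is a multiple of `q` -/
theorem usum_nat {χ : SLt F → ℂ} (hχ : IsIrrCharacter (SLt F) χ) :
    ∃ n : ℕ, ∑ t : F, χ (SL2.up t) = (Fintype.card F : ℂ) * n := by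
  have h1 := PS2.sum_classInner_sl χ (isClassFunction_of_isIrrCharacter hχ)
  have h2 : ∀ α : MulChar F ℂ, ∃ n : ℕ,
      classInner χ (indFun (PS2.BS F) (PS2.sFun α)) = n := fun α =>
    classInner_isCharacter_nat (isCharacter_of_isIrrCharacter hχ)
      (isCharacter_indFun _ (isCharacter_of_isIrrCharacter (PS2.isIrrCharacter_sFun α)))
  choose f hf using h2
  refine ⟨∑ α, f α, ?_⟩
  simp only [hf] at h1
  have hq : (Fintype.card F : ℂ) ≠ 0 := Nat.cast_ne_zero.2 Fintype.card_ne_zero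
  push_cast
  rw [h1]
  field_simp

/-- every irreducible character `χ` of `SL₂(q)` lies under an irreducible character `Θ` of
`GL₂(q)` with `Θ(1) = m χ(1)` and `Σ_U Θ = m Σ_U χ` -/
theorem exists_gl_full {χ : SLt F → ℂ} (hχ : IsIrrCharacter (SLt F) χ) :
    ∃ Θ : GLt F → ℂ, IsIrrCharacter (GLt F) Θ ∧ ∃ m : ℕ, 1 ≤ m ∧ Θ 1 = m * χ 1 ∧
      (m = 1 → ∀ s : SLt F, Θ (Matrix.SpecialLinearGroup.toGL s) = χ s) ∧
      ∑ t : F, Θ (GL2.um t) = m * ∑ t : F, χ (SL2.up t) := by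
  obtain ⟨Θ, hΘ, hne⟩ := CH.exists_above (Matrix.SpecialLinearGroup.toGL : SLt F →* GLt F)
    Matrix.SpecialLinearGroup.toGL_injective hχ
  obtain ⟨m, hm1, hdeg, hres, hL⟩ :=
    CH.clifford_full _ Matrix.SpecialLinearGroup.toGL_injective hΘ hχ hne
  refine ⟨Θ, hΘ, m, hm1, hdeg, hres, ?_⟩
  have h1 := hL (∑ t : F, LinearMap.proj (SL2.up t)) (by
    intro ψ hψ
    simp only [LinearMap.sum_apply, LinearMap.proj_apply]
    exact usum_conj (isClassFunction_of_isIrrCharacter hχ) hψ)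
  simp only [LinearMap.sum_apply, LinearMap.proj_apply, Function.comp_apply, toGL_up] at h1
  exact h1

/-- the unipotent sums of the irreducible characters of `SL₂(q)`, `q ≥ 5` odd, by degree -/
theorem sl_usum (hodd : Odd (Fintype.card F)) (hq : 5 ≤ Fintype.card F) {χ : SLt F → ℂ}
    (hχ : IsIrrCharacter (SLt F) χ) :
    (χ 1 = (Fintype.card F : ℂ) + 1 → ∑ t : F, χ (SL2.up t) = 2 * (Fintype.card F : ℂ)) ∧
    (χ 1 = (Fintype.card F : ℂ) → ∑ t : F, χ (SL2.up t) = (Fintype.card F : ℂ)) ∧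
    (χ 1 = (Fintype.card F : ℂ) - 1 → ∑ t : F, χ (SL2.up t) = 0) ∧
    (χ 1 = (((Fintype.card F + 1) / 2 : ℕ) : ℂ) →
      ∑ t : F, χ (SL2.up t) = (Fintype.card F : ℂ)) ∧
    (χ 1 = (((Fintype.card F - 1) / 2 : ℕ) : ℂ) → ∑ t : F, χ (SL2.up t) = 0) := by
  obtain ⟨Θ, hΘ, m, hm1, hdeg, -, hsum⟩ := exists_gl_full hχ
  obtain ⟨n, hn⟩ := usum_nat hχ
  obtain ⟨d, hd0, hd⟩ := irr_degree hχ
  have key : ∀ (D A : ℕ), Θ 1 = D → ∑ t : F, Θ (GL2.um t) = A →
      m * d = D ∧ m * (Fintype.card F * n) = A := by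
    intro D A h1 h2
    constructor
    · have h3 : ((m * d : ℕ) : ℂ) = D := by
        push_cast
        rw [← hd, ← hdeg, h1]
      exact_mod_cast h3
    · have h3 : ((m * (Fintype.card F * n) : ℕ) : ℂ) = A := by
        push_cast
        rw [← hn, ← hsum, h2]
      exact_mod_cast h3
  have harith : ∃ D A : ℕ, m * d = D ∧ m * (Fintype.card F * n) = A ∧
      ((D = 1 ∧ A = Fintype.card F) ∨ (D = Fintype.card F ∧ A = Fintype.card F) ∨
        (D = Fintype.card F + 1 ∧ A = 2 * Fintype.card F) ∨ (D + 1 = Fintype.card F ∧ A = 0)) := by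
    rcases PS.cover hΘ with h | h | h | h
    · obtain ⟨h1, h2⟩ := key 1 (Fintype.card F) (by rw [PS.deg_of_isD h]; norm_num)
        (PS.avg_of_isD h)
      exact ⟨_, _, h1, h2, Or.inl ⟨rfl, rfl⟩⟩
    · obtain ⟨h1, h2⟩ := key (Fintype.card F) (Fintype.card F) (PS.deg_of_isS h)
        (PS.avg_of_isS h)
      exact ⟨_, _, h1, h2, Or.inr (Or.inl ⟨rfl, rfl⟩)⟩
    · obtain ⟨h1, h2⟩ := key (Fintype.card F + 1) (2 * Fintype.card F)
        (by rw [PS.deg_of_isP h]; push_cast; ring) (by rw [PS.avg_of_isP h]; push_cast; ring)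
      exact ⟨_, _, h1, h2, Or.inr (Or.inr (Or.inl ⟨rfl, rfl⟩))⟩
    · obtain ⟨h1, h2⟩ := key (Fintype.card F - 1) 0
        (by
          have h5 : Θ 1 = (Fintype.card F : ℂ) - 1 := PS.deg_of_isC ⟨Θ, hΘ⟩ h
          rw [h5, Nat.cast_sub (by omega)]
          norm_num)
        (by
          have h3 : ∑ t : F, Θ (GL2.um t) = 0 := h
          rw [h3]
          norm_num)
      exact ⟨_, _, h1, h2, Or.inr (Or.inr (Or.inr ⟨by omega, rfl⟩))⟩
  obtain ⟨D, A, hD, hA, htype⟩ := harith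
  obtain ⟨a1, a2, a3, a4, a5⟩ :=
    arith_usum (Fintype.card F) m d n D A hq hodd hm1 hd0 hD hA htype
  rw [hn, hd]
  refine ⟨?_, ?_, ?_, ?_, ?_⟩
  · intro h
    have h' : d = Fintype.card F + 1 := by exact_mod_cast h
    rw [a1 h']
    push_cast
    ring
  · intro h
    have h' : d = Fintype.card F := by exact_mod_cast h
    rw [a2 h']
    push_cast
    ring
  · intro h
    have h'' : ((d + 1 : ℕ) : ℂ) = (Fintype.card F : ℂ) := by
      push_cast
      rw [h]
      ring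
    have h' : d + 1 = Fintype.card F := by exact_mod_cast h''
    rw [a3 h']
    push_cast
    ring
  · intro h
    have h' : d = (Fintype.card F + 1) / 2 := by exact_mod_cast h
    rw [a4 h']
    push_cast
    ring
  · intro h
    have h' : d = (Fintype.card F - 1) / 2 := by exact_mod_cast h
    rw [a5 h']
    push_cast
    ring

theorem slSt_one : (PS2.slSt (F := F)) 1 = (Fintype.card F : ℂ) := by
  unfold PS2.slSt
  rw [Pi.sub_apply, PS2.sl_degree, Pi.one_apply]
  ring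

theorem slSt_center (z : SLt F) (hz : z ∈ Subgroup.center (SLt F)) :
    (PS2.slSt (F := F)) z = (PS2.slSt (F := F)) 1 := by
  obtain ⟨r, hr1, hr⟩ := Matrix.SpecialLinearGroup.mem_center_iff.1 hz
  have h01 : (z : Matrix (Fin 2) (Fin 2) F) 0 1 = 0 := by
    rw [← hr]
    simp
  have h10 : (z : Matrix (Fin 2) (Fin 2) F) 1 0 = 0 := by
    rw [← hr]
    simp
  have h00 : (z : Matrix (Fin 2) (Fin 2) F) 0 0 = r := by
    rw [← hr]
    simp
  have h11 : (z : Matrix (Fin 2) (Fin 2) F) 1 1 = r := by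
    rw [← hr]
    simp
  have hr0 : r ≠ 0 := by
    rintro rfl
    simp at hr1
  rw [slSt_one]
  unfold PS2.slSt
  rw [Pi.sub_apply, (PS2.sl_values (1 : MulChar F ℂ) z).2.2.2 h01 h10 (h00.trans h11.symm),
    Pi.one_apply]
  have h1 : (1 : MulChar F ℂ) (z 0 0) = 1 := by
    apply MulChar.one_apply
    rw [isUnit_iff_ne_zero]
    exact h00 ▸ hr0
  rw [h1]
  ring

/-- an irreducible character of `SL₂(q)`, `q ≥ 4`, of degree divisible by the characteristic is
the Steinberg character -/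
theorem sl_p_dvd (p : ℕ) [Fact p.Prime] [CharP F p] (hq : 4 ≤ Fintype.card F) {χ : SLt F → ℂ}
    (hχ : IsIrrCharacter (SLt F) χ) (d : ℕ) (hd : χ 1 = d) (hp : p ∣ d) : χ = PS2.slSt := by
  obtain ⟨Θ, hΘ, m, hm1, hdeg, hres, hsum⟩ := exists_gl_full hχ
  obtain ⟨n, hn⟩ := usum_nat hχ
  have hpq : p ∣ Fintype.card F := by
    obtain ⟨k, -, hk⟩ := FiniteField.card F p
    rw [hk]
    exact dvd_pow_self p k.ne_zero
  have hp1 : ¬ p ∣ 1 := (Fact.out : p.Prime).one_lt.ne' ∘ Nat.dvd_one.1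
  have key : ∀ (D : ℕ), Θ 1 = D → m * d = D := by
    intro D h1
    have h3 : ((m * d : ℕ) : ℂ) = D := by
      push_cast
      rw [← hd, ← hdeg, h1]
    exact_mod_cast h3
  rcases PS.cover hΘ with h | h | h | h
  · exfalso
    have h1 := key 1 (by rw [PS.deg_of_isD h]; norm_num)
    exact hp1 (h1 ▸ Dvd.dvd.mul_left hp m)
  · have h1 := key (Fintype.card F) (PS.deg_of_isS h)
    have h2 : ((m * (Fintype.card F * n) : ℕ) : ℂ) = (Fintype.card F : ℕ) := by
      push_cast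
      rw [← hn, ← hsum, PS.avg_of_isS h]
    have h3 : m * (Fintype.card F * n) = Fintype.card F := by exact_mod_cast h2
    have h4 : Fintype.card F * (m * n) = Fintype.card F * 1 := by
      rw [mul_one]
      calc Fintype.card F * (m * n) = m * (Fintype.card F * n) := by ring
        _ = Fintype.card F := h3
    have h5 : m * n = 1 := Nat.eq_of_mul_eq_mul_left (by omega) h4
    have hm' : m = 1 := Nat.dvd_one.1 (Dvd.intro _ h5)
    apply PS2.eq_slSt_of_degree hχ
    rw [← hres hm' 1, map_one, PS.deg_of_isS h]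
  · exfalso
    have h1 := key (Fintype.card F + 1) (by rw [PS.deg_of_isP h]; push_cast; ring)
    have h2 : p ∣ Fintype.card F + 1 := h1 ▸ Dvd.dvd.mul_left hp m
    exact hp1 ((Nat.dvd_add_right hpq).1 h2)
  · exfalso
    have h1 := key (Fintype.card F - 1) (by
      have h5 : Θ 1 = (Fintype.card F : ℂ) - 1 := PS.deg_of_isC ⟨Θ, hΘ⟩ h
      rw [h5, Nat.cast_sub (by omega)]
      norm_num)
    have h2 : p ∣ Fintype.card F - 1 := h1 ▸ Dvd.dvd.mul_left hp m
    have h3 : Fintype.card F - 1 + 1 = Fintype.card F := by omega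
    rw [← h3] at hpq
    exact hp1 ((Nat.dvd_add_right h2).1 hpq)

end finite

end Cfsg.Agent.Lib.Helper26.PSR
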