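import Mathlib
import Cfsg.Prelude.Def_Characters
import Cfsg.Prelude.Def_Blocks
import Cfsg.Agent.Lib.Helper26.SL2Cliff
import Cfsg.Agent.Lib.Helper4.Deflate
import Cfsg.Agent.Lib.Helper2.CharConj

/-!
# The irreducible characters of `PSL₂(q)` of degree divisible by the characteristic (helper26)
-/

set_option autoImplicit false

namespace Cfsg.Agent.Lib.Helper26.PSR
open Cfsg Cfsg.Agent.Lib.Helper26 Cfsg.Agent.Lib.Helper12
open scoped ComplexConjugate

local notation "SLt" => Matrix.SpecialLinearGroup (Fin 2)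
local notation "PSLt" => Matrix.ProjectiveSpecialLinearGroup (Fin 2)

theorem charDegree_eq {G : Type*} [Group G] {χ : G → ℂ} {d : ℕ} (h : χ 1 = d) :
    charDegree χ = d := by
  unfold charDegree
  rw [h, Complex.natCast_re, Nat.floor_natCast]

section finite
variable {F : Type*} [Field F] [Fintype F] [DecidableEq F]

theorem psl_key (p : ℕ) [Fact p.Prime] [CharP F p] (hq : 4 ≤ Fintype.card F)
    (χ : IrrCharacter (PSLt F)) (hp : p ∣ charDegree (χ : PSLt F → ℂ)) (g : SLt F) :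
    (χ : PSLt F → ℂ) (QuotientGroup.mk g) = PS2.slSt g := by
  have hsurj : Function.Surjective (QuotientGroup.mk' (Subgroup.center (SLt F))) :=
    QuotientGroup.mk'_surjective _
  have hirr : IsIrrCharacter (SLt F)
      ((χ : PSLt F → ℂ) ∘ (QuotientGroup.mk' (Subgroup.center (SLt F)))) :=
    Cfsg.Agent.Lib.Helper2.isIrrCharacter_comp_of_surjective χ.2 _ hsurj
  obtain ⟨d, -, hd⟩ := irr_degree χ.2
  rw [charDegree_eq hd] at hp
  have h1 : ((χ : PSLt F → ℂ) ∘ (QuotientGroup.mk' (Subgroup.center (SLt F)))) 1 = d := by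
    show (χ : PSLt F → ℂ) ((QuotientGroup.mk' (Subgroup.center (SLt F))) 1) = d
    rw [map_one, hd]
  have h2 := sl_p_dvd p hq hirr d h1 hp
  exact congrFun h2 g

theorem psl_result (p : ℕ) [Fact p.Prime] [CharP F p] (hq : 4 ≤ Fintype.card F) :
    Nat.card {χ : IrrCharacter (PSLt F) // p ∣ charDegree (χ : PSLt F → ℂ)} = 1 ∧
      ∀ χ : IrrCharacter (PSLt F), p ∣ charDegree (χ : PSLt F → ℂ) →
        charDegree (χ : PSLt F → ℂ) = Fintype.card F := by
  have hpq : p ∣ Fintype.card F := by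
    obtain ⟨k, -, hk⟩ := FiniteField.card F p
    rw [hk]
    exact dvd_pow_self p k.ne_zero
  have hdeg : ∀ χ : IrrCharacter (PSLt F), p ∣ charDegree (χ : PSLt F → ℂ) →
      charDegree (χ : PSLt F → ℂ) = Fintype.card F := by
    intro χ hp
    apply charDegree_eq
    have h1 := psl_key p hq χ hp 1
    rw [slSt_one] at h1
    rw [← h1]
    rfl
  refine ⟨?_, hdeg⟩
  rw [Nat.card_eq_one_iff_unique]
  constructor
  · constructor
    rintro ⟨χ₁, h₁⟩ ⟨χ₂, h₂⟩
    apply Subtype.ext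
    apply Subtype.ext
    funext x
    obtain ⟨g, rfl⟩ := QuotientGroup.mk_surjective x
    rw [psl_key p hq χ₁ h₁ g, psl_key p hq χ₂ h₂ g]
  · obtain ⟨ψ, hψ⟩ := Cfsg.Agent.Lib.Helper4.exists_deflate_irr (Subgroup.center (SLt F))
      ⟨PS2.slSt, PS2.sl_one_decomp.1⟩ (fun z hz => slSt_center z hz)
    refine ⟨⟨ψ, ?_⟩⟩
    have h0 : (ψ : PSLt F → ℂ) (QuotientGroup.mk 1) = PS2.slSt 1 := hψ 1
    rw [slSt_one] at h0
    have h1 : (ψ : PSLt F → ℂ) 1 = (Fintype.card F : ℕ) := h0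
    rw [charDegree_eq h1]
    exact hpq

end finite

end Cfsg.Agent.Lib.Helper26.PSR
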