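import Mathlib
import Cfsg.Prelude.Def_Characters
import Cfsg.Agent.Lib.Helper26.CharBasic
import Cfsg.Agent.Lib.Helper4.CharOrtho

/-!
# Counting irreducible characters along a homomorphism with irreducible restrictions (helper26)

If every irreducible character of `G` restricts irreducibly along an injective `ι : S →* G`, then
every irreducible character of `S` has exactly `|G| / |S|` extensions, and the numbers of
irreducible characters of a given degree are proportional.
-/

set_option autoImplicit false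

namespace Cfsg.Agent.Lib.Helper26.CH
open Cfsg Cfsg.Agent.Lib.Helper26
open scoped ComplexConjugate

theorem sum_above {S G : Type*} [Group S] [Group G] [Fintype S] [Fintype G]
    [Fintype (IrrCharacter G)] (ι : S →* G) (hι : Function.Injective ι) (χ : S → ℂ) :
    ∑ Θ : IrrCharacter G, (Θ : G → ℂ) 1 * classInner χ ((Θ : G → ℂ) ∘ ι) =
      (Fintype.card S : ℂ)⁻¹ * ((Fintype.card G : ℂ) * χ 1) := by
  classical
  unfold classInner
  simp only [Function.comp_apply]
  have h1 : ∀ Θ : IrrCharacter G, (Θ : G → ℂ) 1 *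
      ((Nat.card S : ℂ)⁻¹ * ∑ s : S, χ s * conj ((Θ : G → ℂ) (ι s))) =
      (Nat.card S : ℂ)⁻¹ * ∑ s : S, χ s * ((Θ : G → ℂ) 1 * conj ((Θ : G → ℂ) (ι s))) := by
    intro Θ
    rw [Finset.mul_sum, Finset.mul_sum, Finset.mul_sum]
    apply Finset.sum_congr rfl
    intro s _
    ring
  rw [Finset.sum_congr rfl (fun Θ _ => h1 Θ), ← Finset.mul_sum, Finset.sum_comm]
  have h2 : ∀ s : S, ∑ Θ : IrrCharacter G,
      χ s * ((Θ : G → ℂ) 1 * conj ((Θ : G → ℂ) (ι s))) =
      χ s * (if s = 1 then (Fintype.card G : ℂ) else 0) := by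
    intro s
    rw [← Finset.mul_sum, Cfsg.Agent.Lib.Helper4.column_orthogonality]
    congr 1
    by_cases hs : s = 1
    · subst hs
      rw [map_one, if_pos (IsConj.refl 1), if_pos rfl]
      have htop : Subgroup.centralizer ({1} : Set G) = ⊤ := by
        rw [Subgroup.centralizer_eq_top_iff_subset]
        intro x hx
        rw [Set.mem_singleton_iff.1 hx]
        exact Subgroup.one_mem _
      rw [htop, Subgroup.card_top, Nat.card_eq_fintype_card]
    · rw [if_neg hs, if_neg]
      rw [isConj_one_right]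
      intro h
      apply hs
      apply hι
      rw [h, map_one]
  rw [Finset.sum_congr rfl (fun s _ => h2 s), Finset.sum_eq_single (1 : S)]
  · rw [if_pos rfl, Nat.card_eq_fintype_card]
    ring
  · intro s _ hs
    rw [if_neg hs, mul_zero]
  · intro h
    exact absurd (Finset.mem_univ _) h

open scoped Classical in
theorem card_fiber {S G : Type*} [Group S] [Group G] [Fintype S] [Fintype G]
    [Fintype (IrrCharacter G)] (ι : S →* G) (hι : Function.Injective ι)
    (hres : ∀ Θ : G → ℂ, IsIrrCharacter G Θ → IsIrrCharacter S (Θ ∘ ι)) (k : ℕ)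
    (hk : Fintype.card G = k * Fintype.card S) (χ : IrrCharacter S) :
    (Finset.univ.filter (fun Θ : IrrCharacter G => (Θ : G → ℂ) ∘ ι = (χ : S → ℂ))).card = k := by
  have h1 := sum_above ι hι (χ : S → ℂ)
  have h2 : ∀ Θ : IrrCharacter G,
      (Θ : G → ℂ) 1 * classInner (χ : S → ℂ) ((Θ : G → ℂ) ∘ ι) =
        if (Θ : G → ℂ) ∘ ι = (χ : S → ℂ) then (χ : S → ℂ) 1 else 0 := by
    intro Θ
    rw [classInner_irr χ.2 (hres _ Θ.2)]
    by_cases h : (Θ : G → ℂ) ∘ ι = (χ : S → ℂ)
    · rw [if_pos h, if_pos h.symm, mul_one, ← h]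
      show (Θ : G → ℂ) 1 = (Θ : G → ℂ) (ι 1)
      rw [map_one]
    · rw [if_neg h, if_neg (fun h' => h h'.symm), mul_zero]
  rw [Finset.sum_congr rfl (fun Θ _ => h2 Θ), ← Finset.sum_filter, Finset.sum_const,
    nsmul_eq_mul, hk] at h1
  obtain ⟨n, hn⟩ : ∃ n : ℕ, n = (Finset.univ.filter
    (fun Θ : IrrCharacter G => (Θ : G → ℂ) ∘ ι = (χ : S → ℂ))).card := ⟨_, rfl⟩
  rw [← hn] at h1 ⊢
  obtain ⟨d, hd, hd1⟩ := irr_degree χ.2
  rw [hd1] at h1
  have hS : (Fintype.card S : ℂ) ≠ 0 := Nat.cast_ne_zero.2 Fintype.card_ne_zero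
  have hd' : (d : ℂ) ≠ 0 := Nat.cast_ne_zero.2 (by omega)
  have h3 : ((n : ℂ) - k) * d = 0 := by
    rw [sub_mul, h1]
    push_cast
    field_simp
    ring
  rcases mul_eq_zero.1 h3 with h4 | h4
  · have h5 : (n : ℂ) = k := sub_eq_zero.1 h4
    exact_mod_cast h5
  · exact absurd h4 hd'

/-- the numbers of irreducible characters of a given degree are proportional -/
theorem card_degree_res {S G : Type*} [Group S] [Group G] [Fintype S] [Fintype G]
    (ι : S →* G) (hι : Function.Injective ι)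
    (hres : ∀ Θ : G → ℂ, IsIrrCharacter G Θ → IsIrrCharacter S (Θ ∘ ι)) (k : ℕ)
    (hk : Fintype.card G = k * Fintype.card S) (d : ℂ) :
    Nat.card {Θ : IrrCharacter G // (Θ : G → ℂ) 1 = d} =
      k * Nat.card {χ : IrrCharacter S // (χ : S → ℂ) 1 = d} := by
  classical
  haveI : Fintype (IrrCharacter G) := Fintype.ofFinite _
  haveI : Fintype (IrrCharacter S) := Fintype.ofFinite _
  rw [Nat.card_eq_fintype_card, Nat.card_eq_fintype_card, Fintype.card_subtype,
    Fintype.card_subtype]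
  let r : IrrCharacter G → IrrCharacter S := fun Θ => ⟨(Θ : G → ℂ) ∘ ι, hres _ Θ.2⟩
  have hr1 : ∀ Θ : IrrCharacter G, ((r Θ : IrrCharacter S) : S → ℂ) 1 = (Θ : G → ℂ) 1 := by
    intro Θ
    show (Θ : G → ℂ) (ι 1) = _
    rw [map_one]
  have hmaps : ∀ Θ ∈ Finset.univ.filter (fun Θ : IrrCharacter G => (Θ : G → ℂ) 1 = d),
      r Θ ∈ Finset.univ.filter (fun χ : IrrCharacter S => (χ : S → ℂ) 1 = d) := by
    intro Θ hΘ
    simp only [Finset.mem_filter, Finset.mem_univ, true_and] at hΘ ⊢
    rw [hr1]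
    exact hΘ
  have h0 := Finset.card_eq_sum_card_fiberwise (f := r)
    (s := Finset.univ.filter (fun Θ : IrrCharacter G => (Θ : G → ℂ) 1 = d))
    (t := Finset.univ.filter (fun χ : IrrCharacter S => (χ : S → ℂ) 1 = d))
    (fun Θ hΘ => Finset.mem_coe.2 (hmaps Θ (Finset.mem_coe.1 hΘ)))
  rw [h0]
  have h1 : ∀ χ ∈ Finset.univ.filter (fun χ : IrrCharacter S => (χ : S → ℂ) 1 = d),
      (Finset.filter (fun Θ => r Θ = χ)
        (Finset.univ.filter (fun Θ : IrrCharacter G => (Θ : G → ℂ) 1 = d))).card = k := by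
    intro χ hχ
    rw [← card_fiber ι hι hres k hk χ]
    congr 1
    ext Θ
    simp only [Finset.mem_filter, Finset.mem_univ, true_and]
    constructor
    · rintro ⟨-, h⟩
      exact congrArg Subtype.val h
    · intro h
      have h' : r Θ = χ := Subtype.ext h
      refine ⟨?_, h'⟩
      rw [← hr1 Θ, h']
      exact (Finset.mem_filter.1 hχ).2
  rw [Finset.sum_congr rfl h1, Finset.sum_const, smul_eq_mul, mul_comm]

end Cfsg.Agent.Lib.Helper26.CH
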