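import Mathlib
import Cfsg.Prelude.Def_Characters
import Cfsg.Prelude.Def_ParabolicCharacters
import Cfsg.Agent.Lib.Helper26.GL2Count
import Cfsg.Agent.Lib.Helper26.CliffordHom
import Cfsg.Agent.Lib.Helper26.ResIrr
import Cfsg.Agent.Lib.Helper26.PrincipalRes
import Cfsg.Agent.Lib.Helper26.IndIrr

/-!
# The irreducible characters of `SL₂(q)`, `q` even (helper26)

In characteristic two `GL₂(q) = SL₂(q) × Z`, so every irreducible character of `GL₂(q)` restricts
irreducibly and every irreducible character of `SL₂(q)` has exactly `q - 1` extensions.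
-/

set_option autoImplicit false

namespace Cfsg.Agent.Lib.Helper26.PSR
open Cfsg Cfsg.Agent.Lib.Helper26 Cfsg.Agent.Lib.Helper12
open scoped ComplexConjugate

local notation "GLt" => Matrix.GeneralLinearGroup (Fin 2)
local notation "SLt" => Matrix.SpecialLinearGroup (Fin 2)

section field
variable {F : Type*} [Field F]

theorem sq_inj_of_char_two [CharP F 2] {a b : F} (h : a ^ 2 = b ^ 2) : a = b := by
  have h2 : (2 : F) = 0 := CharTwo.two_eq_zero
  have h3 : (a - b) ^ 2 = 0 := by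
    linear_combination h + (b ^ 2 - a * b) * h2
  exact sub_eq_zero.1 ((pow_eq_zero_iff (two_ne_zero)).1 h3)

theorem det_zEl (a : Fˣ) : Matrix.GeneralLinearGroup.det (PS.zEl a) = a * a := by
  apply Units.ext
  show Matrix.det !![(a : F), 0; 0, (a : F)] = ((a * a : Fˣ) : F)
  rw [Matrix.det_fin_two_of]
  simp

theorem phi_injective [CharP F 2] : Function.Injective
    (fun p : SLt F × Fˣ => (Matrix.SpecialLinearGroup.toGL p.1 : GLt F) * PS.zEl p.2) := by
  rintro ⟨s, a⟩ ⟨s', a'⟩ h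
  simp only at h
  have hd := congrArg Matrix.GeneralLinearGroup.det h
  rw [map_mul, map_mul, det_zEl, det_zEl, (mem_range_iff _).1 ⟨s, rfl⟩,
    (mem_range_iff _).1 ⟨s', rfl⟩, one_mul, one_mul] at hd
  have ha : a = a' := by
    apply Units.ext
    apply sq_inj_of_char_two
    have h1 := congrArg Units.val hd
    simpa [pow_two] using h1
  subst ha
  have h2 := mul_right_cancel h
  rw [Matrix.SpecialLinearGroup.toGL_injective h2]

end field

section finite
variable {F : Type*} [Field F] [Fintype F] [DecidableEq F]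

theorem card_GL_eq : Fintype.card (GLt F) = Fintype.card Fˣ * Fintype.card (SLt F) := by
  have h1 := PS.card_GL2' (F := F)
  have h2 := PS2.card_SL2' (F := F)
  rw [Nat.card_eq_fintype_card] at h1 h2
  rw [h1, h2]
  ring

variable [CharP F 2]

theorem phi_bijective : Function.Bijective
    (fun p : SLt F × Fˣ => (Matrix.SpecialLinearGroup.toGL p.1 : GLt F) * PS.zEl p.2) := by
  rw [Fintype.bijective_iff_injective_and_card]
  refine ⟨phi_injective, ?_⟩
  rw [Fintype.card_prod, card_GL_eq]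
  ring

/-- `GL₂ = SL₂ × Z` in characteristic two -/
noncomputable def eSZ : (SLt F × Fˣ) ≃ GLt F := Equiv.ofBijective _ phi_bijective

theorem eSZ_apply (p : SLt F × Fˣ) :
    eSZ p = (Matrix.SpecialLinearGroup.toGL p.1 : GLt F) * PS.zEl p.2 := rfl

theorem res_norm_even {Θ : GLt F → ℂ} (hΘ : IsIrrCharacter (GLt F) Θ) :
    classInner (Θ ∘ (Matrix.SpecialLinearGroup.toGL : SLt F →* GLt F))
      (Θ ∘ (Matrix.SpecialLinearGroup.toGL : SLt F →* GLt F)) = 1 := by
  have h1 := classInner_irr hΘ hΘ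
  rw [if_pos rfl] at h1
  unfold classInner at h1 ⊢
  rw [← Equiv.sum_comp (eSZ (F := F)) (fun g => Θ g * conj (Θ g)), Fintype.sum_prod_type] at h1
  have h2 : ∀ (s : SLt F) (a : Fˣ), Θ (eSZ (s, a)) * conj (Θ (eSZ (s, a))) =
      Θ (Matrix.SpecialLinearGroup.toGL s) * conj (Θ (Matrix.SpecialLinearGroup.toGL s)) := by
    intro s a
    rw [eSZ_apply]
    simp only
    rw [(Subgroup.mem_center_iff.1 (PS.zEl_mem_center a)) (Matrix.SpecialLinearGroup.toGL s),
      Complex.mul_conj, Complex.mul_conj, Complex.normSq_eq_norm_sq, Complex.normSq_eq_norm_sq,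
      PS.norm_char_center_mul hΘ _ (PS.zEl_mem_center a)]
  simp only [h2, Finset.sum_const, Finset.card_univ, nsmul_eq_mul] at h1
  rw [← Finset.mul_sum] at h1
  simp only [Function.comp_apply]
  obtain ⟨T, hT⟩ : ∃ T : ℂ, T = ∑ s : SLt F, Θ (Matrix.SpecialLinearGroup.toGL s) *
      conj (Θ (Matrix.SpecialLinearGroup.toGL s)) := ⟨_, rfl⟩
  rw [← hT] at h1 ⊢
  rw [Nat.card_eq_fintype_card] at h1 ⊢
  have hS : (Fintype.card (SLt F) : ℂ) ≠ 0 := Nat.cast_ne_zero.2 Fintype.card_ne_zero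
  have hG : (Fintype.card (GLt F) : ℂ) ≠ 0 := Nat.cast_ne_zero.2 Fintype.card_ne_zero
  have hu : (Fintype.card Fˣ : ℂ) ≠ 0 := Nat.cast_ne_zero.2 Fintype.card_ne_zero
  rw [inv_mul_eq_one₀ hG] at h1
  rw [inv_mul_eq_one₀ hS]
  rw [card_GL_eq] at h1
  push_cast at h1
  exact mul_left_cancel₀ hu h1

theorem res_irr_even {Θ : GLt F → ℂ} (hΘ : IsIrrCharacter (GLt F) Θ) :
    IsIrrCharacter (SLt F) (Θ ∘ (Matrix.SpecialLinearGroup.toGL : SLt F →* GLt F)) := by
  apply isIrrCharacter_of_norm_one (isGeneralizedCharacter_of_isCharacter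
    (Cfsg.Agent.Lib.Helper2.isCharacter_comp_hom (isCharacter_of_isIrrCharacter hΘ) _))
    (res_norm_even hΘ)
  obtain ⟨d, hd, hd1⟩ := irr_degree hΘ
  show 0 < (Θ ((Matrix.SpecialLinearGroup.toGL : SLt F →* GLt F) 1)).re
  rw [map_one, hd1, Complex.natCast_re]
  exact_mod_cast hd

/-- degrees of the irreducible characters of `SL₂(q)`, `q` even -/
theorem sl_even_degrees {χ : SLt F → ℂ} (hχ : IsIrrCharacter (SLt F) χ) :
    χ 1 = 1 ∨ χ 1 = (Fintype.card F : ℂ) - 1 ∨ χ 1 = (Fintype.card F : ℂ) ∨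
      χ 1 = (Fintype.card F : ℂ) + 1 := by
  obtain ⟨Θ, hΘ, hne⟩ := CH.exists_above (Matrix.SpecialLinearGroup.toGL : SLt F →* GLt F)
    Matrix.SpecialLinearGroup.toGL_injective hχ
  have h1 : Θ ∘ (Matrix.SpecialLinearGroup.toGL : SLt F →* GLt F) = χ :=
    eq_of_classInner_ne_zero (res_irr_even hΘ) hχ hne
  have h2 : χ 1 = Θ 1 := by
    rw [← h1]
    show Θ ((Matrix.SpecialLinearGroup.toGL : SLt F →* GLt F) 1) = Θ 1
    rw [map_one]
  rw [h2]
  exact PS.gl2_degrees hΘ

/-- the number of irreducible characters of `SL₂(q)` of each degree, `q ≥ 4` even -/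
theorem sl_even_counts (hq : 4 ≤ Fintype.card F) :
    Nat.card {χ : IrrCharacter (SLt F) // (χ : SLt F → ℂ) 1 = 1} = 1 ∧
    Nat.card {χ : IrrCharacter (SLt F) // (χ : SLt F → ℂ) 1 = (Fintype.card F : ℂ)} = 1 ∧
    Nat.card {χ : IrrCharacter (SLt F) // (χ : SLt F → ℂ) 1 = (Fintype.card F : ℂ) + 1} =
      (Fintype.card F - 2) / 2 ∧
    Nat.card {χ : IrrCharacter (SLt F) // (χ : SLt F → ℂ) 1 = (Fintype.card F : ℂ) - 1} =
      Fintype.card F / 2 := by
  obtain ⟨g1, g2, g3, g4⟩ := PS.gl2_counts (F := F) (by omega)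
  have key := fun d : ℂ => CH.card_degree_res
    (Matrix.SpecialLinearGroup.toGL : SLt F →* GLt F) Matrix.SpecialLinearGroup.toGL_injective
    (fun Θ hΘ => res_irr_even hΘ) (Fintype.card Fˣ) card_GL_eq d
  rw [key] at g1 g2 g3 g4
  have hu : Fintype.card F = Fintype.card Fˣ + 1 := PS.card_F_eq
  have h2 : 2 ∣ Fintype.card F := (CharP.cast_eq_zero_iff F 2 _).1 (Nat.cast_card_eq_zero F)
  have h2' : 2 ∣ Fintype.card F - 2 := by
    obtain ⟨k, hk⟩ := h2
    exact ⟨k - 1, by omega⟩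
  have hu0 : 0 < Fintype.card Fˣ := Fintype.card_pos
  have e1 : Fintype.card F - 1 = Fintype.card Fˣ := by omega
  refine ⟨?_, ?_, ?_, ?_⟩
  · apply Nat.eq_of_mul_eq_mul_left hu0
    rw [g1, e1, mul_one]
  · apply Nat.eq_of_mul_eq_mul_left hu0
    rw [g2, e1, mul_one]
  · apply Nat.eq_of_mul_eq_mul_left hu0
    rw [g3, e1, Nat.mul_div_assoc _ h2']
  · apply Nat.eq_of_mul_eq_mul_left hu0
    rw [g4, e1, mul_comm (Fintype.card F), Nat.mul_div_assoc _ h2]

end finite

end Cfsg.Agent.Lib.Helper26.PSR
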