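import Mathlib
import Cfsg.Prelude.Def_Characters
import Cfsg.Prelude.Def_Blocks
import Cfsg.Prelude.Def_DegreeGraph
import Cfsg.Agent.Lib.Helper26.SL2Even
import Cfsg.Agent.Lib.Helper26.PSL2Char
import Cfsg.Agent.Lib.Helper2.CharConj

/-!
# The character degree graph of `SL₂(q) = PSL₂(q)`, `q` even (helper26)
-/

set_option autoImplicit false

namespace Cfsg.Agent.Lib.Helper26.PSR
open Cfsg Cfsg.Agent.Lib.Helper26 Cfsg.Agent.Lib.Helper12

universe u v

local notation "SLt" => Matrix.SpecialLinearGroup (Fin 2)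
local notation "PSLt" => Matrix.ProjectiveSpecialLinearGroup (Fin 2)

theorem charDegrees_subset_of_equiv {A : Type u} {B : Type v} [Group A] [Group B] (e : A ≃* B) :
    charDegrees B ⊆ charDegrees A := by
  intro d hd
  obtain ⟨χ, rfl⟩ := hd
  refine ⟨⟨(χ : B → ℂ) ∘ e, Cfsg.Agent.Lib.Helper2.isIrrCharacter_comp_mulEquiv χ.2 e⟩, ?_⟩
  unfold charDegree
  show ⌊((χ : B → ℂ) (e 1)).re⌋₊ = _
  rw [map_one]

theorem charDegrees_congr {A : Type u} {B : Type v} [Group A] [Group B] (e : A ≃* B) :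
    charDegrees A = charDegrees B :=
  Set.Subset.antisymm (charDegrees_subset_of_equiv e.symm) (charDegrees_subset_of_equiv e)

section field
variable {F : Type*} [Field F] [CharP F 2]

theorem center_eq_bot : Subgroup.center (SLt F) = ⊥ := by
  rw [eq_bot_iff]
  intro z hz
  obtain ⟨r, hr1, hr⟩ := Matrix.SpecialLinearGroup.mem_center_iff.1 hz
  have h1 : r = 1 := by
    apply sq_inj_of_char_two
    rw [one_pow]
    simpa using hr1
  rw [Subgroup.mem_bot]
  apply Matrix.SpecialLinearGroup.ext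
  intro i j
  rw [← hr, h1]
  simp

/-- in characteristic two `PSL₂ = SL₂` -/
noncomputable def pslEquiv : PSLt F ≃* SLt F :=
  (QuotientGroup.quotientMulEquivOfEq center_eq_bot).trans QuotientGroup.quotientBot

end field

section finite
variable {F : Type*} [Field F] [Fintype F] [DecidableEq F] [CharP F 2]

theorem charDegrees_sl_even (hq : 4 ≤ Fintype.card F) :
    charDegrees (SLt F) =
      {1, Fintype.card F - 1, Fintype.card F, Fintype.card F + 1} := by
  obtain ⟨c1, c2, c3, c4⟩ := sl_even_counts (F := F) hq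
  have h2 : 2 ∣ Fintype.card F := (CharP.cast_eq_zero_iff F 2 _).1 (Nat.cast_card_eq_zero F)
  ext d
  simp only [Set.mem_insert_iff, Set.mem_singleton_iff]
  constructor
  · rintro ⟨χ, rfl⟩
    obtain ⟨d', -, hd'⟩ := irr_degree χ.2
    rw [charDegree_eq hd']
    rcases sl_even_degrees χ.2 with h | h | h | h
    · left
      rw [hd'] at h
      exact_mod_cast h
    · right; left
      rw [hd'] at h
      have h' : ((d' + 1 : ℕ) : ℂ) = (Fintype.card F : ℂ) := by
        push_cast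
        rw [h]
        ring
      have h'' : d' + 1 = Fintype.card F := by exact_mod_cast h'
      omega
    · right; right; left
      rw [hd'] at h
      exact_mod_cast h
    · right; right; right
      rw [hd'] at h
      exact_mod_cast h
  · rintro (h | h | h | h)
    · obtain ⟨⟨χ, hχ⟩⟩ := (Nat.card_pos_iff.1 (by omega : 0 < Nat.card
        {χ : IrrCharacter (SLt F) // (χ : SLt F → ℂ) 1 = 1})).1
      refine ⟨χ, ?_⟩
      rw [h]
      apply charDegree_eq
      rw [hχ]
      norm_num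
    · obtain ⟨⟨χ, hχ⟩⟩ := (Nat.card_pos_iff.1 (by omega : 0 < Nat.card
        {χ : IrrCharacter (SLt F) // (χ : SLt F → ℂ) 1 = (Fintype.card F : ℂ) - 1})).1
      refine ⟨χ, ?_⟩
      rw [h]
      apply charDegree_eq
      rw [hχ, Nat.cast_sub (by omega)]
      norm_num
    · obtain ⟨⟨χ, hχ⟩⟩ := (Nat.card_pos_iff.1 (by omega : 0 < Nat.card
        {χ : IrrCharacter (SLt F) // (χ : SLt F → ℂ) 1 = (Fintype.card F : ℂ)})).1
      refine ⟨χ, ?_⟩
      rw [h]
      exact charDegree_eq hχ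
    · obtain ⟨⟨χ, hχ⟩⟩ := (Nat.card_pos_iff.1 (by omega : 0 < Nat.card
        {χ : IrrCharacter (SLt F) // (χ : SLt F → ℂ) 1 = (Fintype.card F : ℂ) + 1})).1
      refine ⟨χ, ?_⟩
      rw [h]
      apply charDegree_eq
      rw [hχ]
      push_cast
      ring

theorem degree_graph_even (h4 : 4 ≤ Fintype.card F) {S : Type*} [Group S] (e : S ≃* SLt F) :
    degreePrimes S =
      {r : ℕ | r.Prime ∧ r ∣ Fintype.card F * (Fintype.card F ^ 2 - 1)} ∧
    ∀ r s : ℕ, (degreeGraph S).Adj r s ↔ (r ≠ s ∧ r.Prime ∧ s.Prime ∧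
      ((r ∣ Fintype.card F + 1 ∧ s ∣ Fintype.card F + 1) ∨
        (r ∣ Fintype.card F - 1 ∧ s ∣ Fintype.card F - 1))) := by
  have hdeg : charDegrees S =
      {1, Fintype.card F - 1, Fintype.card F, Fintype.card F + 1} := by
    rw [charDegrees_congr e]
    exact charDegrees_sl_even h4
  obtain ⟨a, -, ha⟩ := FiniteField.card F 2
  generalize Fintype.card F = q at *
  have hfac : q ^ 2 - 1 = (q - 1) * (q + 1) := by
    obtain ⟨k, rfl⟩ : ∃ k, q = k + 1 := ⟨q - 1, by omega⟩
    apply Nat.sub_eq_of_eq_add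
    rw [Nat.add_sub_cancel]
    ring
  have hmem : ∀ d, d ∈ charDegrees S ↔ (d = 1 ∨ d = q - 1 ∨ d = q ∨ d = q + 1) := by
    intro d
    rw [hdeg]
    simp only [Set.mem_insert_iff, Set.mem_singleton_iff]
  have htwo : ∀ r : ℕ, r.Prime → r ∣ q → r = 2 := by
    intro r hr hrq
    rw [ha] at hrq
    exact (Nat.prime_dvd_prime_iff_eq hr Nat.prime_two).1 (hr.dvd_of_dvd_pow hrq)
  constructor
  · ext r
    simp only [degreePrimes, Set.mem_setOf_eq]
    constructor
    · rintro ⟨hr, d, hd, hrd⟩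
      refine ⟨hr, ?_⟩
      rw [hfac]
      rcases (hmem d).1 hd with h | h | h | h
      · exfalso
        rw [h] at hrd
        exact hr.one_lt.ne' (Nat.dvd_one.1 hrd)
      · rw [h] at hrd
        exact Dvd.dvd.mul_left (Dvd.dvd.mul_right hrd _) _
      · rw [h] at hrd
        exact Dvd.dvd.mul_right hrd _
      · rw [h] at hrd
        exact Dvd.dvd.mul_left (Dvd.dvd.mul_left hrd _) _
    · rintro ⟨hr, hrd⟩
      refine ⟨hr, ?_⟩
      rw [hfac] at hrd
      rcases (Nat.Prime.dvd_mul hr).1 hrd with h | h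
      · exact ⟨q, (hmem q).2 (Or.inr (Or.inr (Or.inl rfl))), h⟩
      · rcases (Nat.Prime.dvd_mul hr).1 h with h' | h'
        · exact ⟨q - 1, (hmem _).2 (Or.inr (Or.inl rfl)), h'⟩
        · exact ⟨q + 1, (hmem _).2 (Or.inr (Or.inr (Or.inr rfl))), h'⟩
  · intro r s
    show (r ≠ s ∧ r.Prime ∧ s.Prime ∧ ∃ d ∈ charDegrees S, r * s ∣ d) ↔ _
    constructor
    · rintro ⟨hne, hr, hs, d, hd, hdvd⟩
      refine ⟨hne, hr, hs, ?_⟩
      have hrd : r ∣ d := dvd_of_mul_right_dvd hdvd
      have hsd : s ∣ d := dvd_of_mul_left_dvd hdvd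
      rcases (hmem d).1 hd with h | h | h | h
      · exfalso
        rw [h] at hrd
        exact hr.one_lt.ne' (Nat.dvd_one.1 hrd)
      · rw [h] at hrd hsd
        exact Or.inr ⟨hrd, hsd⟩
      · exfalso
        rw [h] at hrd hsd
        exact hne ((htwo r hr hrd).trans (htwo s hs hsd).symm)
      · rw [h] at hrd hsd
        exact Or.inl ⟨hrd, hsd⟩
    · rintro ⟨hne, hr, hs, h⟩
      refine ⟨hne, hr, hs, ?_⟩
      have hcop : Nat.Coprime r s := (Nat.coprime_primes hr hs).2 hne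
      rcases h with ⟨h1, h2⟩ | ⟨h1, h2⟩
      · exact ⟨q + 1, (hmem _).2 (Or.inr (Or.inr (Or.inr rfl))),
          Nat.Coprime.mul_dvd_of_dvd_of_dvd hcop h1 h2⟩
      · exact ⟨q - 1, (hmem _).2 (Or.inr (Or.inl rfl)),
          Nat.Coprime.mul_dvd_of_dvd_of_dvd hcop h1 h2⟩

end finite

end Cfsg.Agent.Lib.Helper26.PSR
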