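import Mathlib
import Cfsg.Prelude.Def_Characters
import Cfsg.Agent.Lib.Helper26.FTLemmaA

set_option autoImplicit false
set_option linter.unusedSectionVars false

/-!
# Minimal groups with a non-normal Sylow subgroup, I (helper26)

Group-theoretic preliminaries for the Feit–Thompson–Blichfeldt reduction: a finite group `G`
all of whose proper subgroups have normal Sylow `p`-subgroups while `G` has not, and whose Sylow
`p`-subgroups are abelian.
-/

namespace Cfsg.Agent.Lib.Helper26.FTB

open Cfsg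
open scoped Pointwise

/-- all Sylow `p`-subgroups of `G` are normal -/
def NS (p : ℕ) (G : Type*) [Group G] : Prop := ∀ Q : Sylow p G, (Q : Subgroup G).Normal

theorem NS_of_equiv {p : ℕ} {G G' : Type*} [Group G] [Group G'] (e : G ≃* G') (h : NS p G) :
    NS p G' := by
  intro Q'
  have hrange : (Q' : Subgroup G') ≤ e.toMonoidHom.range := by
    intro x _
    exact ⟨e.symm x, by simp⟩
  have hQ : ((Q'.comapOfInjective e.toMonoidHom e.injective hrange : Sylow p G) : Subgroup G) =
      (Q' : Subgroup G').comap e.toMonoidHom := rfl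
  have hn := h (Q'.comapOfInjective e.toMonoidHom e.injective hrange)
  rw [hQ] at hn
  constructor
  intro x hx g
  have h1 : e.symm x ∈ (Q' : Subgroup G').comap e.toMonoidHom := by
    rw [Subgroup.mem_comap]
    simpa using hx
  have h2 := hn.conj_mem _ h1 (e.symm g)
  rw [Subgroup.mem_comap] at h2
  simpa using h2

/-- a minimal group with non-normal, abelian Sylow `p`-subgroups -/
structure MinBad (p : ℕ) (G : Type*) [Group G] : Prop where
  sub : ∀ H : Subgroup G, H ≠ ⊤ → NS p H
  ab : ∀ Q : Sylow p G, ∀ a ∈ (Q : Subgroup G), ∀ b ∈ (Q : Subgroup G), a * b = b * a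
  bad : ∀ Q : Sylow p G, ¬ (Q : Subgroup G).Normal

section Basic
variable {G : Type*} [Group G] [Finite G] {p : ℕ} [hp : Fact p.Prime]

theorem le_sylow_of_le_normalizer (P : Sylow p G) {R : Subgroup G} (hR : IsPGroup p R)
    (hle : R ≤ Subgroup.normalizer ((P : Subgroup G) : Set G)) : R ≤ (P : Subgroup G) := by
  have h : R ⊓ Subgroup.normalizer ((P : Subgroup G) : Set G) = R ⊓ (P : Subgroup G) :=
    hR.inf_normalizer_sylow P
  have h2 : R ⊓ Subgroup.normalizer ((P : Subgroup G) : Set G) = R := inf_eq_left.mpr hle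
  rw [h2] at h
  exact inf_eq_left.mp h.symm

theorem isPGroup_zpowers_of_mem (P : Sylow p G) {x : G} (hx : x ∈ (P : Subgroup G)) :
    IsPGroup p (Subgroup.zpowers x) := by
  apply P.isPGroup'.to_le
  rw [Subgroup.zpowers_le]
  exact hx

theorem mem_sylow_of_mem_normalizer (P : Sylow p G) {x : G} (hxp : IsPGroup p (Subgroup.zpowers x))
    (hxN : x ∈ Subgroup.normalizer ((P : Subgroup G) : Set G)) : x ∈ (P : Subgroup G) := by
  have hle : Subgroup.zpowers x ≤ Subgroup.normalizer ((P : Subgroup G) : Set G) := by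
    rw [Subgroup.zpowers_le]
    exact hxN
  exact le_sylow_of_le_normalizer P hxp hle (Subgroup.mem_zpowers x)

theorem isPGroup_zpowers_conj {x : G} (hxp : IsPGroup p (Subgroup.zpowers x)) (g : G) :
    IsPGroup p (Subgroup.zpowers (g * x * g⁻¹)) := by
  have h1 : Subgroup.zpowers (g * x * g⁻¹) = (Subgroup.zpowers x).map (MulAut.conj g).toMonoidHom := by
    rw [MonoidHom.map_zpowers]
    rfl
  rw [h1]
  exact hxp.map _

theorem smul_sylow_mem (P : Sylow p G) (g : G) {x : G} (hx : x ∈ (P : Subgroup G)) :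
    g * x * g⁻¹ ∈ ((g • P : Sylow p G) : Subgroup G) := by
  rw [Sylow.coe_subgroup_smul, Subgroup.mem_smul_pointwise_iff_exists]
  exact ⟨x, hx, by simp [MulAut.smul_def, MulAut.conj_apply]⟩

theorem mem_smul_sylow_iff (P : Sylow p G) (g : G) (x : G) :
    x ∈ ((g • P : Sylow p G) : Subgroup G) ↔ g⁻¹ * x * g ∈ (P : Subgroup G) := by
  constructor
  · intro hx
    rw [Sylow.coe_subgroup_smul, Subgroup.mem_smul_pointwise_iff_exists] at hx
    obtain ⟨u, hu, rfl⟩ := hx
    have e : g⁻¹ * (MulAut.conj g • u) * g = u := by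
      simp [MulAut.smul_def, MulAut.conj_apply, mul_assoc]
    rw [e]
    exact hu
  · intro hx
    have h1 := smul_sylow_mem P g hx
    have e : g * (g⁻¹ * x * g) * g⁻¹ = x := by group
    rwa [e] at h1

variable (h : MinBad p G)
include h

theorem le_normalizer_of_ne_top (P : Sylow p G) {H : Subgroup G}
    (hPH : (P : Subgroup G) ≤ H) (hH : H ≠ ⊤) :
    H ≤ Subgroup.normalizer ((P : Subgroup G) : Set G) := by
  have hn : ((P.subtype hPH : Sylow p H) : Subgroup H).Normal := h.sub H hH (P.subtype hPH)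
  have hcoe : ((P.subtype hPH : Sylow p H) : Subgroup H) = (P : Subgroup G).subgroupOf H :=
    Sylow.coe_subtype P hPH
  rw [hcoe] at hn
  intro g hg
  rw [Subgroup.mem_normalizer_iff]
  intro x
  constructor
  · intro hx
    have h1 : (⟨x, hPH hx⟩ : H) ∈ (P : Subgroup G).subgroupOf H := by
      rw [Subgroup.mem_subgroupOf]
      exact hx
    have h2 := hn.conj_mem _ h1 ⟨g, hg⟩
    rw [Subgroup.mem_subgroupOf] at h2
    exact h2
  · intro hx
    have hxH : g * x * g⁻¹ ∈ H := hPH hx
    have h1 : (⟨g * x * g⁻¹, hxH⟩ : H) ∈ (P : Subgroup G).subgroupOf H := by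
      rw [Subgroup.mem_subgroupOf]
      exact hx
    have h2 := hn.conj_mem _ h1 (⟨g, hg⟩ : H)⁻¹
    rw [Subgroup.mem_subgroupOf] at h2
    have h3 : g⁻¹ * (g * x * g⁻¹) * g⁻¹⁻¹ ∈ (P : Subgroup G) := h2
    have e : g⁻¹ * (g * x * g⁻¹) * g⁻¹⁻¹ = x := by group
    rwa [e] at h3

theorem eq_top_of_normal_of_le (P : Sylow p G) (M : Subgroup G) (hM : M.Normal)
    (hPM : (P : Subgroup G) ≤ M) : M = ⊤ := by
  by_contra hne
  have hMN := le_normalizer_of_ne_top h P hPM hne
  apply h.bad P
  constructor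
  intro x hx g
  have hR : IsPGroup p ((g • P : Sylow p G) : Subgroup G) := (g • P).isPGroup'
  have hRle : ((g • P : Sylow p G) : Subgroup G) ≤
      Subgroup.normalizer ((P : Subgroup G) : Set G) := by
    intro y hy
    rw [mem_smul_sylow_iff] at hy
    apply hMN
    have h1 := hM.conj_mem _ (hPM hy) g
    have e : g * (g⁻¹ * y * g) * g⁻¹ = y := by group
    rwa [e] at h1
  exact le_sylow_of_le_normalizer P hR hRle (smul_sylow_mem P g hx)

theorem sup_eq_top_of_ne (P Q : Sylow p G) (hne : P ≠ Q) :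
    (P : Subgroup G) ⊔ (Q : Subgroup G) = ⊤ := by
  by_contra hH
  have hle := le_normalizer_of_ne_top h P (le_sup_left : (P : Subgroup G) ≤ (P : Subgroup G) ⊔ (Q : Subgroup G)) hH
  have hQle : (Q : Subgroup G) ≤ (P : Subgroup G) :=
    le_sylow_of_le_normalizer P Q.isPGroup' (le_trans le_sup_right hle)
  exact hne (Sylow.ext (Q.is_maximal' P.isPGroup' hQle))

theorem mem_center_of_mem_inter (P Q : Sylow p G) (hne : P ≠ Q) {x : G}
    (hxP : x ∈ (P : Subgroup G)) (hxQ : x ∈ (Q : Subgroup G)) : x ∈ Subgroup.center G := by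
  have htop := sup_eq_top_of_ne h P Q hne
  have hle : (P : Subgroup G) ⊔ (Q : Subgroup G) ≤ Subgroup.centralizer ({x} : Set G) := by
    apply sup_le
    · intro y hy
      rw [Subgroup.mem_centralizer_iff]
      intro z hz
      rw [Set.mem_singleton_iff] at hz
      rw [hz]
      exact h.ab P x hxP y hy
    · intro y hy
      rw [Subgroup.mem_centralizer_iff]
      intro z hz
      rw [Set.mem_singleton_iff] at hz
      rw [hz]
      exact h.ab Q x hxQ y hy
  rw [htop] at hle
  rw [Subgroup.mem_center_iff]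
  intro g
  have hg := hle (Subgroup.mem_top g)
  rw [Subgroup.mem_centralizer_iff] at hg
  exact (hg x rfl).symm

/-- there is a Sylow subgroup different from `P` -/
theorem exists_smul_ne (P : Sylow p G) : ∃ g : G, g • P ≠ P := by
  by_contra hcon
  push Not at hcon
  apply h.bad P
  rw [← Subgroup.normalizer_eq_top_iff]
  rw [eq_top_iff]
  intro g _
  exact Sylow.smul_eq_iff_mem_normalizer.mp (hcon g)

/-- a non-central element of `P` lies in no other Sylow subgroup -/
theorem smul_eq_of_mem_of_not_central (P : Sylow p G) (g : G) {y : G}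
    (hyP : y ∈ (P : Subgroup G)) (hyc : y ∉ Subgroup.center G)
    (hgy : g * y * g⁻¹ ∈ (P : Subgroup G)) : g • P = P := by
  by_contra hne
  apply hyc
  have h1 : g * y * g⁻¹ ∈ ((g • P : Sylow p G) : Subgroup G) := smul_sylow_mem P g hyP
  have h2 := mem_center_of_mem_inter h P (g • P) (fun e => hne e.symm) hgy h1
  rw [Subgroup.mem_center_iff] at h2 ⊢
  intro k
  have h3 := h2 (g * k * g⁻¹)
  have e1 : k * y = g⁻¹ * (g * k * g⁻¹ * (g * y * g⁻¹)) * g := by group
  have e2 : y * k = g⁻¹ * (g * y * g⁻¹ * (g * k * g⁻¹)) * g := by group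
  rw [e1, e2, h3]

end Basic

section Transfer
variable {G : Type*} [Group G] [Finite G] {p : ℕ} [hp : Fact p.Prime]

/-- transfer: a central element of an abelian Sylow subgroup lying in the commutator subgroup
is trivial -/
theorem eq_one_of_mem_center_of_mem_commutator (P : Sylow p G)
    (hab : ∀ a ∈ (P : Subgroup G), ∀ b ∈ (P : Subgroup G), a * b = b * a)
    {z : G} (hzc : z ∈ Subgroup.center G) (hzP : z ∈ (P : Subgroup G))
    (hz' : z ∈ commutator G) : z = 1 := by
  have key : ∀ {A : Type _} [CommGroup A] (ϕ : (P : Subgroup G) →* A), ϕ ⟨z, hzP⟩ = 1 := by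
    intro A _ ϕ
    have htriv : MonoidHom.transfer ϕ z = 1 := by
      have h1 : commutator G ≤ (MonoidHom.transfer ϕ).ker :=
        Abelianization.commutator_subset_ker _
      exact h1 hz'
    have hpow := MonoidHom.transfer_eq_pow ϕ z (fun k g₀ _ => by
      have hc : z ^ k ∈ Subgroup.center G := pow_mem hzc k
      rw [mul_assoc, ← (Subgroup.mem_center_iff.1 hc g₀), inv_mul_cancel_left])
    rw [htriv] at hpow
    have hpow' : (ϕ ⟨z, hzP⟩) ^ (P : Subgroup G).index = 1 := by
      rw [← map_pow]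
      exact hpow.symm
    have hndvd : ¬ p ∣ (P : Subgroup G).index := P.not_dvd_index
    obtain ⟨k, hk⟩ := IsPGroup.iff_orderOf.1 P.isPGroup' ⟨z, hzP⟩
    have h1 : orderOf (ϕ ⟨z, hzP⟩) ∣ p ^ k := by
      rw [← hk]
      exact orderOf_map_dvd ϕ _
    have h2 : orderOf (ϕ ⟨z, hzP⟩) ∣ (P : Subgroup G).index := orderOf_dvd_of_pow_eq_one hpow'
    have hcop : Nat.Coprime (p ^ k) (P : Subgroup G).index :=
      Nat.Coprime.pow_left k ((Nat.Prime.coprime_iff_not_dvd Fact.out).2 hndvd)
    have h3 := Nat.dvd_gcd h1 h2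
    rw [hcop.gcd_eq_one] at h3
    exact orderOf_eq_one_iff.1 (Nat.dvd_one.1 h3)
  have hmem : (⟨z, hzP⟩ : (P : Subgroup G)) ∈ commutator (P : Subgroup G) := by
    rw [← Abelianization.ker_of]
    exact MonoidHom.mem_ker.2 (key Abelianization.of)
  have hbot : commutator (P : Subgroup G) = ⊥ := by
    rw [commutator_def, Subgroup.commutator_eq_bot_iff_le_centralizer]
    intro a _
    rw [Subgroup.mem_centralizer_iff]
    intro b _
    exact Subtype.ext (hab b b.2 a a.2)
  rw [hbot, Subgroup.mem_bot] at hmem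
  exact congrArg Subtype.val hmem

end Transfer

end Cfsg.Agent.Lib.Helper26.FTB
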