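import Mathlib
import Cfsg.Prelude.Def_Characters
import Cfsg.Agent.Lib.Helper26.FTBA

set_option autoImplicit false
set_option linter.unusedSectionVars false

/-!
# Minimal groups with a non-normal Sylow subgroup, II: the non-perfect case (helper26)

If `G` is a minimal group with non-normal abelian Sylow `p`-subgroups and `G' < G`, then
`G = G' P` with `G'` a `p'`-group, `N_G(P)` is abelian, `C_{G'}(P)` is central, and `N_G(P)` minus
the centre is a TI-set.
-/

namespace Cfsg.Agent.Lib.Helper26.FTB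

open Cfsg
open scoped Pointwise
open scoped commutatorElement

section PEl
variable {G : Type*} [Group G] [Finite G] {p : ℕ} [hp : Fact p.Prime]

theorem isPGroup_zpowers_of_pow_eq_one {x : G} {j : ℕ} (hx : x ^ p ^ j = 1) :
    IsPGroup p (Subgroup.zpowers x) := by
  obtain ⟨i, -, hi⟩ := (Nat.dvd_prime_pow hp.out).mp (orderOf_dvd_of_pow_eq_one hx)
  exact IsPGroup.of_card (n := i) (by rw [Nat.card_zpowers, hi])

theorem exists_pow_of_mem (P : Sylow p G) {x : G} (hx : x ∈ (P : Subgroup G)) :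
    ∃ j : ℕ, x ^ p ^ j = 1 := by
  obtain ⟨j, hj⟩ := P.isPGroup' ⟨x, hx⟩
  refine ⟨j, ?_⟩
  have := congrArg Subtype.val hj
  rwa [Subgroup.coe_pow, Subgroup.coe_one] at this

theorem mem_sylow_of_pow (P : Sylow p G) {x : G} {j : ℕ} (hx : x ^ p ^ j = 1)
    (hxN : x ∈ Subgroup.normalizer ((P : Subgroup G) : Set G)) : x ∈ (P : Subgroup G) :=
  mem_sylow_of_mem_normalizer P (isPGroup_zpowers_of_pow_eq_one hx) hxN

theorem conj_pow_eq_one {x : G} {j : ℕ} (hx : x ^ p ^ j = 1) (g : G) :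
    (g * x * g⁻¹) ^ p ^ j = 1 := by
  rw [conj_pow, hx]
  group

theorem exists_sylow_of_pow {x : G} {j : ℕ} (hx : x ^ p ^ j = 1) :
    ∃ Q : Sylow p G, x ∈ (Q : Subgroup G) := by
  obtain ⟨Q, hQ⟩ := (isPGroup_zpowers_of_pow_eq_one hx).exists_le_sylow
  exact ⟨Q, hQ (Subgroup.mem_zpowers x)⟩

end PEl

section CaseB
variable {G : Type*} [Group G] [Finite G] {p : ℕ} [hp : Fact p.Prime]
variable (h : MinBad p G) (hK : commutator G ≠ ⊤)
include h hK

/-- `P ∩ G' = 1` -/
theorem inter_commutator_trivial (P : Sylow p G) {x : G} (hxP : x ∈ (P : Subgroup G))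
    (hxK : x ∈ commutator G) : x = 1 := by
  obtain ⟨S⟩ := (inferInstance : Nonempty (Sylow p ↥(commutator G)))
  have hSn : (S : Subgroup ↥(commutator G)).Normal := h.sub (commutator G) hK S
  have hS' : IsPGroup p ((S : Subgroup ↥(commutator G)).map (commutator G).subtype) :=
    S.isPGroup'.map _
  obtain ⟨T, hT⟩ := hS'.exists_le_sylow
  have hall : ∀ u : G, u ∈ commutator G → ∀ j : ℕ, u ^ p ^ j = 1 →
      ∀ Q : Sylow p G, u ∈ (Q : Subgroup G) := by
    intro u hu j hj Q
    obtain ⟨g, hg⟩ := MulAction.exists_smul_eq G T Q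
    rw [← hg, mem_smul_sylow_iff]
    have hu' : g⁻¹ * u * g ∈ commutator G := by
      have := (inferInstance : (commutator G).Normal).conj_mem u hu g⁻¹
      rwa [inv_inv] at this
    have hj' : (g⁻¹ * u * g) ^ p ^ j = 1 := by
      have := conj_pow_eq_one hj g⁻¹
      rwa [inv_inv] at this
    apply hT
    rw [Subgroup.mem_map]
    refine ⟨⟨g⁻¹ * u * g, hu'⟩, ?_, rfl⟩
    apply mem_sylow_of_mem_normalizer S
    · apply isPGroup_zpowers_of_pow_eq_one (j := j)
      apply Subtype.ext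
      rw [Subgroup.coe_pow, Subgroup.coe_one]
      exact hj'
    · rw [Subgroup.normalizer_eq_top_iff.mpr hSn]
      exact Subgroup.mem_top _
  obtain ⟨g₀, hg₀⟩ := exists_smul_ne h P
  obtain ⟨j, hj⟩ := exists_pow_of_mem P hxP
  have hxQ := hall x hxK j hj (g₀ • P)
  have hxc := mem_center_of_mem_inter h P (g₀ • P) (fun e => hg₀ e.symm) hxP hxQ
  exact eq_one_of_mem_center_of_mem_commutator P (h.ab P) hxc hxP hxK

omit hK in
theorem commutator_sup_eq_top (P : Sylow p G) : commutator G ⊔ (P : Subgroup G) = ⊤ := by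
  apply eq_top_of_normal_of_le h P _ ?_ le_sup_right
  constructor
  intro x hx g
  have e : g * x * g⁻¹ = ⁅g, x⁆ * x := by
    rw [commutatorElement_def]
    group
  rw [e]
  apply Subgroup.mul_mem _ ?_ hx
  apply (le_sup_left : commutator G ≤ commutator G ⊔ (P : Subgroup G))
  rw [commutator_def]
  exact Subgroup.commutator_mem_commutator (Subgroup.mem_top g) (Subgroup.mem_top x)

omit hK in
theorem exists_decomp (P : Sylow p G) (g : G) :
    ∃ k ∈ commutator G, ∃ y ∈ (P : Subgroup G), g = k * y := by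
  have h1 : g ∈ (↑(commutator G ⊔ (P : Subgroup G)) : Set G) := by
    rw [commutator_sup_eq_top h P]
    exact Subgroup.mem_top g
  rw [Subgroup.normal_mul] at h1
  obtain ⟨k, hk, y, hy, e⟩ := h1
  exact ⟨k, hk, y, hy, e.symm⟩

theorem comm_of_mem_normalizer (P : Sylow p G) {k : G} (hk : k ∈ commutator G)
    (hkN : k ∈ Subgroup.normalizer ((P : Subgroup G) : Set G)) :
    ∀ y ∈ (P : Subgroup G), k * y = y * k := by
  intro y hy
  have h1 : k * y * k⁻¹ ∈ (P : Subgroup G) := (Subgroup.mem_normalizer_iff.mp hkN y).mp hy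
  have h2 : k * y * k⁻¹ * y⁻¹ ∈ (P : Subgroup G) :=
    Subgroup.mul_mem _ h1 (Subgroup.inv_mem _ hy)
  have h3 : k * y * k⁻¹ * y⁻¹ ∈ commutator G := by
    have h4 : y * k⁻¹ * y⁻¹ ∈ commutator G :=
      (inferInstance : (commutator G).Normal).conj_mem _ (Subgroup.inv_mem _ hk) y
    have e : k * y * k⁻¹ * y⁻¹ = k * (y * k⁻¹ * y⁻¹) := by group
    rw [e]
    exact Subgroup.mul_mem _ hk h4
  have h5 := inter_commutator_trivial h hK P h2 h3
  have e : k * y = (k * y * k⁻¹ * y⁻¹) * (y * k) := by group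
  rw [e, h5, one_mul]

/-- a proper `P`-invariant subgroup of `G'` is centralized by `P` -/
theorem comm_of_invariant (P : Sylow p G) (K₁ : Subgroup G) (hK₁ : K₁ ≤ commutator G)
    (hne : K₁ ≠ commutator G)
    (hinv : ∀ y ∈ (P : Subgroup G), ∀ k ∈ K₁, y * k * y⁻¹ ∈ K₁) :
    ∀ k ∈ K₁, ∀ y ∈ (P : Subgroup G), k * y = y * k := by
  have hPN : (P : Subgroup G) ≤ Subgroup.normalizer (K₁ : Set G) := by
    intro y hy
    rw [Subgroup.mem_normalizer_iff]
    intro k
    constructor
    · exact hinv y hy k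
    · intro hk
      have h1 := hinv y⁻¹ (Subgroup.inv_mem _ hy) _ hk
      have e : y⁻¹ * (y * k * y⁻¹) * y⁻¹⁻¹ = k := by group
      rwa [e] at h1
  have hne' : K₁ ⊔ (P : Subgroup G) ≠ ⊤ := by
    intro htop
    apply hne
    apply le_antisymm hK₁
    intro k hk
    have h1 : k ∈ (↑(K₁ ⊔ (P : Subgroup G)) : Set G) := by
      rw [htop]
      exact Subgroup.mem_top k
    rw [Subgroup.coe_mul_of_right_le_normalizer_left K₁ (P : Subgroup G) hPN] at h1
    obtain ⟨k₁, hk₁, y, hy, e0⟩ := h1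
    have e : k₁ * y = k := e0
    have hyK : y ∈ commutator G := by
      have e2 : y = k₁⁻¹ * k := by
        rw [← e]
        group
      rw [e2]
      exact Subgroup.mul_mem _ (Subgroup.inv_mem _ (hK₁ hk₁)) hk
    have hy1 := inter_commutator_trivial h hK P hy hyK
    rw [hy1, mul_one] at e
    rw [← e]
    exact hk₁
  have hle := le_normalizer_of_ne_top h P
    (le_sup_right : (P : Subgroup G) ≤ K₁ ⊔ (P : Subgroup G)) hne'
  intro k hk y hy
  exact comm_of_mem_normalizer h hK P (hK₁ hk)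
    (hle ((le_sup_left : K₁ ≤ K₁ ⊔ (P : Subgroup G)) hk)) y hy

omit hK in
theorem not_comm_commutator (P : Sylow p G) :
    ¬ (∀ k ∈ commutator G, ∀ y ∈ (P : Subgroup G), k * y = y * k) := by
  intro hc
  apply h.bad P
  rw [← Subgroup.normalizer_eq_top_iff, eq_top_iff]
  intro g _
  obtain ⟨k, hk, y, hy, rfl⟩ := exists_decomp h P g
  apply Subgroup.mul_mem
  · rw [Subgroup.mem_normalizer_iff]
    intro w
    constructor
    · intro hw
      have e : k * w * k⁻¹ = w := by
        rw [hc k hk w hw]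
        group
      rw [e]
      exact hw
    · intro hw
      have h1 := hc k hk _ hw
      have e : w = k * w * k⁻¹ := by
        have e3 : k * w * k⁻¹ = k⁻¹ * (k * (k * w * k⁻¹)) := by group
        rw [e3, h1]
        group
      rw [e]
      exact hw
  · exact Subgroup.le_normalizer hy

theorem not_dvd_card_commutator : ¬ p ∣ Nat.card ↥(commutator G) := by
  intro hdvd
  obtain ⟨x, hx⟩ := exists_prime_orderOf_dvd_card' p hdvd
  have hxp : (x : G) ^ p ^ 1 = 1 := by
    rw [pow_one, ← hx, ← Subgroup.coe_pow, pow_orderOf_eq_one, Subgroup.coe_one]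
  obtain ⟨Q, hQ⟩ := exists_sylow_of_pow hxp
  have h1 := inter_commutator_trivial h hK Q hQ x.2
  have h2 : x = 1 := Subtype.ext h1
  rw [h2, orderOf_one] at hx
  exact hp.out.one_lt.ne hx

end CaseB

section Invariant
variable {G : Type*} [Group G] [Finite G] {p : ℕ} [hp : Fact p.Prime]

/-- a `p`-group acting by conjugation on a normal `p'`-subgroup normalizes a Sylow `q`-subgroup -/
theorem exists_invariant_sylow (P : Sylow p G) (K : Subgroup G) [hKn : K.Normal]
    (hcop : ¬ p ∣ Nat.card K) (q : ℕ) [Fact q.Prime] :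
    ∃ S : Sylow q K, ∀ y ∈ (P : Subgroup G), ∀ s : K, s ∈ (S : Subgroup K) →
      (⟨y * s * y⁻¹, hKn.conj_mem s s.2 y⟩ : K) ∈ (S : Subgroup K) := by
  let act : MulDistribMulAction ↥(P : Subgroup G) ↥K :=
    MulDistribMulAction.compHom ↥K ((MulAut.conjNormal (H := K)).comp (P : Subgroup G).subtype)
  have hnd : ¬ p ∣ Nat.card (Sylow q ↥K) := by
    intro hdvd
    apply hcop
    obtain ⟨S₀⟩ := (inferInstance : Nonempty (Sylow q ↥K))
    have h1 : Nat.card (Sylow q ↥K) ∣ (S₀ : Subgroup ↥K).index := Sylow.card_dvd_index S₀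
    exact hdvd.trans (h1.trans (Subgroup.index_dvd_card _))
  obtain ⟨S, hS⟩ := (P.isPGroup').nonempty_fixed_point_of_prime_not_dvd_card (Sylow q ↥K) hnd
  refine ⟨S, ?_⟩
  intro y hy s hs
  have h1 : (⟨y, hy⟩ : ↥(P : Subgroup G)) • S = S := hS ⟨y, hy⟩
  have h2 : (⟨y, hy⟩ : ↥(P : Subgroup G)) • s ∈
      ((⟨y, hy⟩ : ↥(P : Subgroup G)) • (S : Subgroup ↥K)) :=
    Subgroup.smul_mem_pointwise_smul s _ _ hs
  rw [← Sylow.pointwise_smul_def, h1] at h2
  have e : ((⟨y, hy⟩ : ↥(P : Subgroup G)) • s : ↥K) =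
      ⟨y * s * y⁻¹, hKn.conj_mem s s.2 y⟩ := Subtype.ext (MulAut.conjNormal_apply y s)
  rw [e] at h2
  exact h2

end Invariant

end Cfsg.Agent.Lib.Helper26.FTB
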