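import Mathlib
import Cfsg.Prelude.Def_Characters
import Cfsg.Agent.Lib.Helper26.FTBB

set_option autoImplicit false
set_option linter.unusedSectionVars false

/-!
# Minimal groups with a non-normal Sylow subgroup, III: the normalizer (helper26)

In the non-perfect case: `C_{G'}(P)` is central, `N_G(P) = Z(G) P` is abelian, `p |Z(G)| ≤ |N_G(P)|`
and `N_G(P)` minus the centre is a TI-set.
-/

namespace Cfsg.Agent.Lib.Helper26.FTB

open Cfsg
open scoped Pointwise
open scoped commutatorElement

section CaseB2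
variable {G : Type*} [Group G] [Finite G] {p : ℕ} [hp : Fact p.Prime]
variable (h : MinBad p G) (hK : commutator G ≠ ⊤)
include h hK

/-- `G'` is a `q`-group for some prime `q` -/
theorem exists_prime_isPGroup_commutator (P : Sylow p G) :
    ∃ q : ℕ, q.Prime ∧ IsPGroup q ↥(commutator G) := by
  by_contra hcon
  push Not at hcon
  have hcop := not_dvd_card_commutator h hK
  have hSle : ∀ q : ℕ, q.Prime → (Nat.card ↥(commutator G)).factorization q ≤
      (Nat.card ↥((Subgroup.centralizer ((P : Subgroup G) : Set G)).subgroupOf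
        (commutator G))).factorization q := by
    intro q hq
    haveI : Fact q.Prime := ⟨hq⟩
    obtain ⟨S, hS⟩ := exists_invariant_sylow P (commutator G) hcop q
    have hle : (S : Subgroup ↥(commutator G)).map (commutator G).subtype ≤ commutator G := by
      intro x hx
      rw [Subgroup.mem_map] at hx
      obtain ⟨s', _, rfl⟩ := hx
      exact s'.2
    have hne : (S : Subgroup ↥(commutator G)).map (commutator G).subtype ≠ commutator G := by
      intro heq
      apply hcon q hq
      intro g
      have hg : (g : G) ∈ (S : Subgroup ↥(commutator G)).map (commutator G).subtype := by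
        rw [heq]
        exact g.2
      rw [Subgroup.mem_map] at hg
      obtain ⟨s', hs', e⟩ := hg
      have e' : s' = g := Subtype.ext e
      obtain ⟨k, hk⟩ := S.isPGroup' ⟨s', hs'⟩
      refine ⟨k, ?_⟩
      have h3 := congrArg Subtype.val hk
      rw [Subgroup.coe_pow, Subgroup.coe_one] at h3
      rw [← e']
      exact h3
    have hinv : ∀ y ∈ (P : Subgroup G),
        ∀ k ∈ (S : Subgroup ↥(commutator G)).map (commutator G).subtype,
        y * k * y⁻¹ ∈ (S : Subgroup ↥(commutator G)).map (commutator G).subtype := by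
      intro y' hy' k hk
      rw [Subgroup.mem_map] at hk ⊢
      obtain ⟨s', hs', rfl⟩ := hk
      exact ⟨_, hS y' hy' s' hs', rfl⟩
    have hcomm := comm_of_invariant h hK P _ hle hne hinv
    have hSCK : (S : Subgroup ↥(commutator G)) ≤
        (Subgroup.centralizer ((P : Subgroup G) : Set G)).subgroupOf (commutator G) := by
      intro s hs
      rw [Subgroup.mem_subgroupOf, Subgroup.mem_centralizer_iff]
      intro y hy
      exact (hcomm (s : G) (Subgroup.mem_map_of_mem _ hs) y hy).symm
    have hdvd : Nat.card ↥(S : Subgroup ↥(commutator G)) ∣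
        Nat.card ↥((Subgroup.centralizer ((P : Subgroup G) : Set G)).subgroupOf (commutator G)) :=
      Subgroup.card_dvd_of_le hSCK
    have hcardS : Nat.card ↥(S : Subgroup ↥(commutator G)) =
        q ^ (Nat.card ↥(commutator G)).factorization q := Sylow.card_eq_multiplicity S
    rw [hcardS] at hdvd
    exact (Nat.Prime.pow_dvd_iff_le_factorization hq Nat.card_pos.ne').mp hdvd
  have hdvd : Nat.card ↥(commutator G) ∣
      Nat.card ↥((Subgroup.centralizer ((P : Subgroup G) : Set G)).subgroupOf (commutator G)) :=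
    (Nat.factorization_prime_le_iff_dvd Nat.card_pos.ne' Nat.card_pos.ne').mp hSle
  have htop : (Subgroup.centralizer ((P : Subgroup G) : Set G)).subgroupOf (commutator G) = ⊤ :=
    Subgroup.eq_top_of_le_card _ (Nat.le_of_dvd Nat.card_pos hdvd)
  apply not_comm_commutator h P
  intro k hk y hy
  have hmem : (⟨k, hk⟩ : ↥(commutator G)) ∈
      (Subgroup.centralizer ((P : Subgroup G) : Set G)).subgroupOf (commutator G) := by
    rw [htop]
    exact Subgroup.mem_top _
  rw [Subgroup.mem_subgroupOf, Subgroup.mem_centralizer_iff] at hmem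
  exact (hmem y hy).symm

/-- `C_{G'}(P)` is central -/
theorem central_of_comm (P : Sylow p G) {c : G} (hc : c ∈ commutator G)
    (hcP : ∀ y ∈ (P : Subgroup G), c * y = y * c) : c ∈ Subgroup.center G := by
  by_cases hKbot : commutator G = ⊥
  · rw [hKbot, Subgroup.mem_bot] at hc
    rw [hc]
    exact Subgroup.one_mem _
  obtain ⟨q, hq, hqK⟩ := exists_prime_isPGroup_commutator h hK P
  haveI : Fact q.Prime := ⟨hq⟩
  haveI : Nontrivial ↥(commutator G) := (Subgroup.nontrivial_iff_ne_bot _).mpr hKbot
  haveI hnil : Group.IsNilpotent ↥(commutator G) := hqK.isNilpotent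
  have hlt : commutator ↥(commutator G) < ⊤ :=
    Group.IsSolvable.commutator_lt_top_of_nontrivial ↥(commutator G)
  have hK2le : (commutator ↥(commutator G)).map (commutator G).subtype ≤ commutator G := by
    intro x hx
    rw [Subgroup.mem_map] at hx
    obtain ⟨s, _, rfl⟩ := hx
    exact s.2
  have hK2ne : (commutator ↥(commutator G)).map (commutator G).subtype ≠ commutator G := by
    intro heq
    apply hlt.ne
    rw [eq_top_iff]
    intro g _
    have hg : (g : G) ∈ (commutator ↥(commutator G)).map (commutator G).subtype := by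
      rw [heq]
      exact g.2
    rw [Subgroup.mem_map] at hg
    obtain ⟨s, hs, e⟩ := hg
    have e' : s = g := Subtype.ext e
    rw [← e']
    exact hs
  have hK2inv : ∀ y ∈ (P : Subgroup G),
      ∀ k ∈ (commutator ↥(commutator G)).map (commutator G).subtype,
      y * k * y⁻¹ ∈ (commutator ↥(commutator G)).map (commutator G).subtype := by
    intro y _ k hk
    rw [Subgroup.mem_map] at hk ⊢
    obtain ⟨s, hs, rfl⟩ := hk
    have hchar : (commutator ↥(commutator G)).Characteristic := inferInstance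
    refine ⟨MulAut.conjNormal y s, ?_, ?_⟩
    · exact (SetLike.ext_iff.mp (hchar.fixed (MulAut.conjNormal y)) s).mpr hs
    · exact MulAut.conjNormal_apply y s
  have hK2 := comm_of_invariant h hK P _ hK2le hK2ne hK2inv
  have hN : ∀ u ∈ commutator G, ∀ c' ∈ commutator G,
      (∀ y ∈ (P : Subgroup G), c' * y = y * c') →
      ∀ y ∈ (P : Subgroup G), (u * c' * u⁻¹) * y = y * (u * c' * u⁻¹) := by
    intro u hu c' hc' hc'P y hy
    have hw : u * c' * u⁻¹ * c'⁻¹ ∈
        (commutator ↥(commutator G)).map (commutator G).subtype := by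
      rw [Subgroup.mem_map]
      refine ⟨⁅(⟨u, hu⟩ : ↥(commutator G)), (⟨c', hc'⟩ : ↥(commutator G))⁆, ?_, ?_⟩
      · have h0 : ⁅(⟨u, hu⟩ : ↥(commutator G)), (⟨c', hc'⟩ : ↥(commutator G))⁆ ∈
            ⁅(⊤ : Subgroup ↥(commutator G)), ⊤⁆ :=
          Subgroup.commutator_mem_commutator (Subgroup.mem_top _) (Subgroup.mem_top _)
        exact h0
      · rfl
    have h1 := hK2 _ hw y hy
    have h2 := hc'P y hy
    calc u * c' * u⁻¹ * y = (u * c' * u⁻¹ * c'⁻¹) * (c' * y) := by group
      _ = (u * c' * u⁻¹ * c'⁻¹) * (y * c') := by rw [h2]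
      _ = ((u * c' * u⁻¹ * c'⁻¹) * y) * c' := by group
      _ = (y * (u * c' * u⁻¹ * c'⁻¹)) * c' := by rw [h1]
      _ = y * (u * c' * u⁻¹) := by group
  have hall : ∀ g : G, ∀ y ∈ (P : Subgroup G), (g * c * g⁻¹) * y = y * (g * c * g⁻¹) := by
    intro g y hy
    obtain ⟨k, hk, y', hy', rfl⟩ := exists_decomp h P g
    have h1 : y' * c * y'⁻¹ = c := by
      rw [← hcP y' hy']
      group
    have e : k * y' * c * (k * y')⁻¹ = k * (y' * c * y'⁻¹) * k⁻¹ := by group
    rw [e, h1]
    exact hN k hk c hc hcP y hy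
  obtain ⟨g₀, hg₀⟩ := exists_smul_ne h P
  have htop := sup_eq_top_of_ne h P (g₀ • P) (fun e => hg₀ e.symm)
  have hle : (P : Subgroup G) ⊔ ((g₀ • P : Sylow p G) : Subgroup G) ≤
      Subgroup.centralizer ({c} : Set G) := by
    apply sup_le
    · intro y hy
      rw [Subgroup.mem_centralizer_iff]
      intro z hz
      rw [Set.mem_singleton_iff] at hz
      rw [hz]
      exact hcP y hy
    · intro x hx
      rw [Subgroup.mem_centralizer_iff]
      intro z hz
      rw [Set.mem_singleton_iff] at hz
      rw [hz]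
      rw [mem_smul_sylow_iff] at hx
      have h1 := hall g₀⁻¹ _ hx
      have e1 : c * x = g₀ * (g₀⁻¹ * c * g₀⁻¹⁻¹ * (g₀⁻¹ * x * g₀)) * g₀⁻¹ := by group
      have e2 : x * c = g₀ * (g₀⁻¹ * x * g₀ * (g₀⁻¹ * c * g₀⁻¹⁻¹)) * g₀⁻¹ := by group
      rw [e1, e2, h1]
  rw [htop] at hle
  rw [Subgroup.mem_center_iff]
  intro g
  have hg := hle (Subgroup.mem_top g)
  rw [Subgroup.mem_centralizer_iff] at hg
  exact (hg c rfl).symm

/-- `N_G(P) = Z(G) P` -/
theorem exists_decomp_normalizer (P : Sylow p G) {a : G}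
    (ha : a ∈ Subgroup.normalizer ((P : Subgroup G) : Set G)) :
    ∃ k ∈ Subgroup.center G, ∃ y ∈ (P : Subgroup G), a = k * y := by
  obtain ⟨k, hk, y, hy, e⟩ := exists_decomp h P a
  have hkN : k ∈ Subgroup.normalizer ((P : Subgroup G) : Set G) := by
    have e2 : k = a * y⁻¹ := by
      rw [e]
      group
    rw [e2]
    exact Subgroup.mul_mem _ ha (Subgroup.inv_mem _ (Subgroup.le_normalizer hy))
  have hkc := central_of_comm h hK P hk (comm_of_mem_normalizer h hK P hk hkN)
  exact ⟨k, hkc, y, hy, e⟩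

/-- `N_G(P)` is abelian -/
theorem normalizer_comm (P : Sylow p G) {a b : G}
    (ha : a ∈ Subgroup.normalizer ((P : Subgroup G) : Set G))
    (hb : b ∈ Subgroup.normalizer ((P : Subgroup G) : Set G)) : a * b = b * a := by
  obtain ⟨k, hk, y, hy, rfl⟩ := exists_decomp_normalizer h hK P ha
  obtain ⟨k', hk', y', hy', rfl⟩ := exists_decomp_normalizer h hK P hb
  rw [Subgroup.mem_center_iff] at hk hk'
  have h1 := h.ab P y hy y' hy'
  calc k * y * (k' * y') = k * (y * k') * y' := by group
    _ = k * (k' * y) * y' := by rw [hk' y]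
    _ = (k * k') * (y * y') := by group
    _ = (k' * k) * (y' * y) := by rw [hk' k, h1]
    _ = k' * (k * y') * y := by group
    _ = k' * (y' * k) * y := by rw [← hk y']
    _ = k' * y' * (k * y) := by group

omit hK in
theorem not_pow_dvd_card_center :
    ¬ p ^ (Nat.card G).factorization p ∣ Nat.card ↥(Subgroup.center G) := by
  intro hdvd
  obtain ⟨Q, hQ⟩ := Sylow.exists_subgroup_card_pow_prime p hdvd
  have hcard : Nat.card ↥(Q.map (Subgroup.center G).subtype) =
      p ^ (Nat.card G).factorization p := by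
    rw [Subgroup.card_map_of_injective (Subgroup.subtype_injective _), hQ]
  apply h.bad (Sylow.ofCard _ hcard)
  rw [Sylow.coe_ofCard]
  constructor
  intro x hx g
  rw [Subgroup.mem_map] at hx
  obtain ⟨z, hzQ, rfl⟩ := hx
  have hz := Subgroup.mem_center_iff.mp z.2 g
  have e : g * (Subgroup.center G).subtype z * g⁻¹ = (Subgroup.center G).subtype z := by
    change g * (z : G) * g⁻¹ = (z : G)
    rw [hz]
    group
  rw [e]
  exact Subgroup.mem_map_of_mem _ hzQ

omit hK in
/-- `p |Z(G)| ≤ |N_G(P)|` -/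
theorem card_center_mul_le (P : Sylow p G) :
    p * Nat.card ↥(Subgroup.center G) ≤
      Nat.card ↥(Subgroup.normalizer ((P : Subgroup G) : Set G)) := by
  have hZA : Subgroup.center G ≤ Subgroup.normalizer ((P : Subgroup G) : Set G) :=
    FTLemma.center_le_normalizer _
  obtain ⟨m, hm⟩ := Subgroup.card_dvd_of_le hZA
  have hPA : Nat.card ↥(P : Subgroup G) ∣
      Nat.card ↥(Subgroup.normalizer ((P : Subgroup G) : Set G)) :=
    Subgroup.card_dvd_of_le Subgroup.le_normalizer
  have hP : Nat.card ↥(P : Subgroup G) = p ^ (Nat.card G).factorization p :=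
    Sylow.card_eq_multiplicity P
  rw [hP, hm] at hPA
  have hpm : p ∣ m := by
    by_contra hnd
    have hcop : Nat.Coprime (p ^ (Nat.card G).factorization p) m :=
      Nat.Coprime.pow_left _ ((Nat.Prime.coprime_iff_not_dvd hp.out).mpr hnd)
    exact not_pow_dvd_card_center h (hcop.dvd_of_dvd_mul_right hPA)
  have hmpos : 0 < m := by
    rcases Nat.eq_zero_or_pos m with h0 | h0
    · rw [h0, mul_zero] at hm
      exact absurd hm Nat.card_pos.ne'
    · exact h0
  have hle := Nat.le_of_dvd hmpos hpm
  rw [hm]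
  calc p * Nat.card ↥(Subgroup.center G) = Nat.card ↥(Subgroup.center G) * p := mul_comm _ _
    _ ≤ Nat.card ↥(Subgroup.center G) * m := Nat.mul_le_mul_left _ hle

/-- `N_G(P) ∖ Z(G)` is a TI-set with normalizer `N_G(P)` -/
theorem ti_normalizer (P : Sylow p G) {g t : G}
    (hg : g ∉ Subgroup.normalizer ((P : Subgroup G) : Set G))
    (ht : t ∈ Subgroup.normalizer ((P : Subgroup G) : Set G)) (htc : t ∉ Subgroup.center G) :
    g * t * g⁻¹ ∉ Subgroup.normalizer ((P : Subgroup G) : Set G) := by
  intro hgt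
  obtain ⟨k, hk, y, hy, rfl⟩ := exists_decomp_normalizer h hK P ht
  have hyc : y ∉ Subgroup.center G := fun hyc => htc (Subgroup.mul_mem _ hk hyc)
  have hkN : k⁻¹ ∈ Subgroup.normalizer ((P : Subgroup G) : Set G) :=
    FTLemma.center_le_normalizer _ (Subgroup.inv_mem _ hk)
  have hgy : g * y * g⁻¹ ∈ Subgroup.normalizer ((P : Subgroup G) : Set G) := by
    have e : g * y * g⁻¹ = k⁻¹ * (g * (k * y) * g⁻¹) := by
      have hk' := Subgroup.mem_center_iff.mp hk g
      calc g * y * g⁻¹ = k⁻¹ * (k * g) * y * g⁻¹ := by group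
        _ = k⁻¹ * (g * k) * y * g⁻¹ := by rw [hk']
        _ = k⁻¹ * (g * (k * y) * g⁻¹) := by group
    rw [e]
    exact Subgroup.mul_mem _ hkN hgt
  obtain ⟨j, hj⟩ := exists_pow_of_mem P hy
  have hgyP : g * y * g⁻¹ ∈ (P : Subgroup G) :=
    mem_sylow_of_pow P (conj_pow_eq_one hj g) hgy
  have hsm := smul_eq_of_mem_of_not_central h P g hy hyc hgyP
  exact hg (Sylow.smul_eq_iff_mem_normalizer.mp hsm)

end CaseB2

end Cfsg.Agent.Lib.Helper26.FTB
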