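import Mathlib
import Cfsg.Prelude.Def_Characters
import Cfsg.Agent.Lib.Helper4.CharOrtho
import Cfsg.Agent.Lib.Helper4.Deflate
import Cfsg.Agent.Lib.Helper26.CharBasic
import Cfsg.Agent.Lib.Helper26.CharInt
import Cfsg.Agent.Lib.Helper26.TIInd
import Cfsg.Agent.Lib.Helper26.IndChar
import Cfsg.Agent.Lib.Helper26.GenChar
import Cfsg.Agent.Lib.Helper26.FTLemmaD

set_option autoImplicit false
set_option linter.unusedSectionVars false

/-!
# Character-theoretic lemmas for the Feit–Thompson–Blichfeldt reduction (helper26)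

* `comm_of_linear_constituents`: a group with a faithful character all of whose irreducible
  constituents are linear is abelian.
* `comm_of_pgroup_of_faithful`: Blichfeldt; a `p`-group with a faithful representation of degree
  `< p` is abelian.
* `count_ineq`: if `A` is an abelian subgroup containing the centre `Z` with `A ∖ Z` a TI-set with
  normalizer `A`, then every irreducible character of degree `d` has `d |A| ≤ |A| + d² |Z|`.
-/

namespace Cfsg.Agent.Lib.Helper26.FTB

open Cfsg
open scoped ComplexConjugate Classical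
open scoped commutatorElement

section Constituents
variable {G : Type*} [Group G] [Fintype G]

theorem rep_char_one {n : ℕ} (ρ : Representation ℂ G (Fin n → ℂ)) : ρ.character 1 = n := by
  rw [Representation.char_one]
  simp

omit [Fintype G] in
/-- A degree one character is multiplicative. -/
theorem lin_mul' (lam : G → ℂ) (h : IsCharacter G lam) (h1 : lam 1 = 1)
    (a b : G) : lam (a * b) = lam a * lam b := by
  obtain ⟨n, ρ, rfl⟩ := h
  have hn : n = 1 := by
    have := Representation.char_one ρ
    rw [h1] at this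
    simp at this
    exact_mod_cast this.symm
  subst hn
  simp only [Representation.character]
  rw [trace_eq_trace_toMatrix', trace_eq_trace_toMatrix', trace_eq_trace_toMatrix', map_mul]
  rw [Module.End.mul_eq_comp, LinearMap.toMatrix'_comp]
  simp [Matrix.trace, Matrix.mul_apply]

omit [Fintype G] in
/-- a linear character is trivial on the commutator subgroup -/
theorem lin_eq_one_of_mem_commutator {lam : G → ℂ} (hlam : IsCharacter G lam) (h1 : lam 1 = 1)
    {g : G} (hg : g ∈ commutator G) : lam g = 1 := by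
  let f : G →* ℂ := { toFun := lam, map_one' := h1, map_mul' := lin_mul' lam hlam h1 }
  have hker : commutator G ≤ (MonoidHom.toHomUnits f).ker :=
    Abelianization.commutator_subset_ker _
  have h2 := hker hg
  rw [MonoidHom.mem_ker] at h2
  have h3 : ((MonoidHom.toHomUnits f g : ℂˣ) : ℂ) = 1 := by
    rw [h2]
    rfl
  rw [MonoidHom.coe_toHomUnits] at h3
  exact h3

/-- if all irreducible constituents of a faithful character are linear, the group is abelian -/
theorem comm_of_linear_constituents {n : ℕ} (ρ : Representation ℂ G (Fin n → ℂ))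
    (hρ : Function.Injective ρ)
    (hlin : ∀ μ : IrrCharacter G, classInner ρ.character (μ : G → ℂ) ≠ 0 → (μ : G → ℂ) 1 = 1) :
    ∀ a b : G, a * b = b * a := by
  haveI : Fintype (IrrCharacter G) := Fintype.ofFinite _
  have hχ : IsCharacter G ρ.character := ⟨n, ρ, rfl⟩
  have hexp := Cfsg.Agent.Lib.Helper4.classFunction_expansion ρ.character
    (isClassFunction_of_isCharacter hχ)
  have hexp' : ∀ g : G, ρ.character g =
      ∑ μ : IrrCharacter G, classInner ρ.character (μ : G → ℂ) * (μ : G → ℂ) g := by
    intro g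
    have e1 := congrFun hexp g
    simp only [Finset.sum_apply, Pi.smul_apply, smul_eq_mul] at e1
    exact e1
  have hval : ∀ g ∈ commutator G, ρ.character g = ρ.character 1 := by
    intro g hg
    rw [hexp' g, hexp' 1]
    apply Finset.sum_congr rfl
    intro μ _
    by_cases hc : classInner ρ.character (μ : G → ℂ) = 0
    · rw [hc, zero_mul, zero_mul]
    · have h1 := hlin μ hc
      rw [lin_eq_one_of_mem_commutator (isCharacter_of_isIrrCharacter μ.2) h1 hg, h1]
  intro a b
  have hmem : a * b * a⁻¹ * b⁻¹ ∈ commutator G := by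
    have h0 : ⁅a, b⁆ ∈ ⁅(⊤ : Subgroup G), ⊤⁆ :=
      Subgroup.commutator_mem_commutator (Subgroup.mem_top a) (Subgroup.mem_top b)
    exact h0
  have hk := (Cfsg.Agent.Lib.Helper4.character_eq_one_iff_mem_ker ρ _).mp (hval _ hmem)
  rw [MonoidHom.mem_ker] at hk
  have h1 : a * b * a⁻¹ * b⁻¹ = 1 := hρ (by rw [hk, map_one])
  calc a * b = (a * b * a⁻¹ * b⁻¹) * (b * a) := by group
    _ = b * a := by rw [h1, one_mul]

/-- an irreducible constituent of a character of degree `n` has degree at most `n` -/
theorem constituent_degree_le {n : ℕ} (ρ : Representation ℂ G (Fin n → ℂ)) (μ : IrrCharacter G)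
    (hμ : classInner ρ.character (μ : G → ℂ) ≠ 0) {d : ℕ} (hd : (μ : G → ℂ) 1 = d) : d ≤ n := by
  haveI : Fintype (IrrCharacter G) := Fintype.ofFinite _
  have hχ : IsCharacter G ρ.character := ⟨n, ρ, rfl⟩
  choose c hc using fun ν : IrrCharacter G =>
    classInner_isCharacter_nat hχ (isCharacter_of_isIrrCharacter ν.2)
  choose e he0 he using fun ν : IrrCharacter G => irr_degree ν.2
  have hexp := Cfsg.Agent.Lib.Helper4.classFunction_expansion ρ.character
    (isClassFunction_of_isCharacter hχ)
  have e1 := congrFun hexp 1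
  simp only [Finset.sum_apply, Pi.smul_apply, smul_eq_mul] at e1
  rw [rep_char_one] at e1
  simp_rw [hc, he] at e1
  have e2 : n = ∑ ν : IrrCharacter G, c ν * e ν := by exact_mod_cast e1
  have hcμ : c μ ≠ 0 := by
    intro h0
    apply hμ
    rw [hc μ, h0]
    simp
  have hdμ : e μ = d := by
    have h1 := he μ
    rw [hd] at h1
    exact_mod_cast h1.symm
  have h3 : c μ * e μ ≤ ∑ ν : IrrCharacter G, c ν * e ν :=
    Finset.single_le_sum (f := fun ν => c ν * e ν) (fun ν _ => Nat.zero_le _) (Finset.mem_univ μ)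
  rw [← e2, hdμ] at h3
  have h4 : 1 ≤ c μ := Nat.one_le_iff_ne_zero.mpr hcμ
  nlinarith

end Constituents

section Blichfeldt

/-- Blichfeldt: a `p`-group with a faithful representation of degree `< p` is abelian -/
theorem comm_of_pgroup_of_faithful {Q : Type*} [Group Q] [Fintype Q] {p : ℕ} [hp : Fact p.Prime]
    (hQ : IsPGroup p Q) {n : ℕ} (hn : n < p) (σ : Representation ℂ Q (Fin n → ℂ))
    (hσ : Function.Injective σ) : ∀ a b : Q, a * b = b * a := by
  apply comm_of_linear_constituents σ hσ
  intro μ hμ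
  obtain ⟨d, hd0, hd⟩ := irr_degree μ.2
  have hdn := constituent_degree_le σ μ hμ hd
  have hdvd : d ∣ Nat.card Q := by
    obtain ⟨m, τ, hτ, hτμ⟩ := μ.2
    have h1 := Cfsg.Agent.Lib.Helper4.degree_dvd_index_ker τ hτ
    have h2 : Module.finrank ℂ (Fin m → ℂ) = m := by simp
    rw [h2] at h1
    have h3 : (m : ℂ) = d := by
      rw [← hd, ← hτμ, rep_char_one]
    have h4 : m = d := by exact_mod_cast h3
    rw [← h4]
    exact h1.trans (Subgroup.index_dvd_card _)
  obtain ⟨k, hk⟩ := IsPGroup.iff_card.mp hQ
  rw [hk] at hdvd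
  obtain ⟨j, -, hj⟩ := (Nat.dvd_prime_pow hp.out).mp hdvd
  rcases Nat.eq_zero_or_pos j with h0 | h0
  · rw [h0, pow_zero] at hj
    rw [hd, hj]
    simp
  · exfalso
    have h5 : p ∣ d := by
      rw [hj]
      exact dvd_pow_self p h0.ne'
    have h6 := Nat.le_of_dvd hd0 h5
    omega

end Blichfeldt

section Count
variable {G : Type*} [Group G] [Fintype G]

/-- `μ` restricted to `A`, with the centre zeroed out -/
noncomputable def offCenter (A : Subgroup G) (μ : G → ℂ) : A → ℂ :=
  fun a => if (a : G) ∈ Subgroup.center G then 0 else μ a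

theorem offCenter_of_mem (A : Subgroup G) (μ : G → ℂ) (a : A)
    (ha : (a : G) ∈ Subgroup.center G) : offCenter A μ a = 0 := by
  unfold offCenter
  exact if_pos ha

theorem offCenter_of_not_mem (A : Subgroup G) (μ : G → ℂ) (a : A)
    (ha : (a : G) ∉ Subgroup.center G) : offCenter A μ a = μ a := by
  unfold offCenter
  exact if_neg ha

theorem count_ineq (A : Subgroup G) [Fintype A]
    (hAab : ∀ a ∈ A, ∀ b ∈ A, a * b = b * a)
    (hZA : Subgroup.center G ≤ A)
    (hTI : ∀ g : G, g ∉ A → ∀ t ∈ A, t ∉ Subgroup.center G → g * t * g⁻¹ ∉ A)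
    {μ : G → ℂ} (hμ : IsIrrCharacter G μ) {d : ℕ} (hd : μ 1 = d) :
    d * Nat.card A ≤ Nat.card A + d ^ 2 * Nat.card (Subgroup.center G) := by
  haveI : Fintype (IrrCharacter A) := Fintype.ofFinite _
  have hμchar := isCharacter_of_isIrrCharacter hμ
  have hμcf := isClassFunction_of_isIrrCharacter hμ
  have hψcf : IsClassFunction A (offCenter A μ) := by
    intro g k
    have e : k * g * k⁻¹ = g := by
      apply Subtype.ext
      have hc := hAab k k.2 g g.2
      rw [Subgroup.coe_mul, Subgroup.coe_mul, Subgroup.coe_inv, hc]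
      group
    rw [e]
  have hψ1 : offCenter A μ 1 = 0 :=
    offCenter_of_mem A μ 1 (by rw [Subgroup.coe_one]; exact Subgroup.one_mem _)
  have hψT : ∀ x : A, (x : G) ∉ {t : G | t ∈ A ∧ t ∉ Subgroup.center G} →
      offCenter A μ x = 0 := by
    intro x hx
    apply offCenter_of_mem
    by_contra hxc
    exact hx ⟨x.2, hxc⟩
  have hTI' : ∀ g : G, g ∉ A → ∀ t ∈ {t : G | t ∈ A ∧ t ∉ Subgroup.center G},
      g * t * g⁻¹ ∈ {t : G | t ∈ A ∧ t ∉ Subgroup.center G} → t = 1 := by
    intro g hg t ht hgt
    exact absurd hgt.1 (hTI g hg t ht.1 ht.2)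
  have hnorm := classInner_indFun_indFun_ti _ A hTI' (offCenter A μ) (offCenter A μ)
    hψcf hψT hψT hψ1
  have hrec := classInner_indFun_right' A μ hμcf (offCenter A μ)
  have hsame : classInner (μ ∘ A.subtype) (offCenter A μ) =
      classInner (offCenter A μ) (offCenter A μ) := by
    unfold classInner
    congr 1
    apply Finset.sum_congr rfl
    intro a _
    by_cases ha : (a : G) ∈ Subgroup.center G
    · rw [offCenter_of_mem A μ a ha, map_zero, mul_zero, mul_zero]
    · rw [offCenter_of_not_mem A μ a ha]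
      rfl
  have hμμ : classInner μ μ = 1 := by
    have h1 := classInner_irr hμ hμ
    rwa [if_pos rfl] at h1
  have hμΦ : classInner μ (indFun A (offCenter A μ)) =
      classInner (offCenter A μ) (offCenter A μ) := by
    rw [hrec, hsame]
  have hΦμ : classInner (indFun A (offCenter A μ)) μ =
      conj (classInner (offCenter A μ) (offCenter A μ)) := by
    rw [← classInner_conj_symm, hμΦ]
  have hdiff : classInner (μ - indFun A (offCenter A μ)) (μ - indFun A (offCenter A μ)) =
      1 - conj (classInner (offCenter A μ) (offCenter A μ)) := by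
    rw [classInner_sub_left, classInner_sub_right, classInner_sub_right, hμμ, hμΦ, hΦμ, hnorm]
    ring
  have hApos : (0 : ℝ) < (Nat.card A : ℝ) := by exact_mod_cast Nat.card_pos
  have hGpos : (0 : ℝ) < (Nat.card G : ℝ) := by exact_mod_cast Nat.card_pos
  have hAne : (Nat.card A : ℂ) ≠ 0 := Nat.cast_ne_zero.2 Nat.card_pos.ne'
  have hSψ := FTLemma.sum_normSq_eq (L := A) (offCenter A μ)
  have hSA := FTLemma.sum_normSq_eq (L := A) (μ ∘ A.subtype)
  have hSΦ := FTLemma.sum_normSq_eq (L := G) (μ - indFun A (offCenter A μ))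
  have hw : classInner (offCenter A μ) (offCenter A μ) =
      (((∑ a : A, Complex.normSq (offCenter A μ a)) / (Nat.card A : ℝ) : ℝ) : ℂ) := by
    rw [Complex.ofReal_div, hSψ, Complex.ofReal_natCast]
    field_simp
  rw [hdiff, hw, Complex.conj_ofReal] at hSΦ
  have hSΦ' : (∑ g : G, Complex.normSq ((μ - indFun A (offCenter A μ)) g)) =
      (Nat.card G : ℝ) *
        (1 - (∑ a : A, Complex.normSq (offCenter A μ a)) / (Nat.card A : ℝ)) := by
    exact_mod_cast hSΦ
  have hSΦnn : (0 : ℝ) ≤ ∑ g : G, Complex.normSq ((μ - indFun A (offCenter A μ)) g) :=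
    Finset.sum_nonneg (fun _ _ => Complex.normSq_nonneg _)
  have hSψle : (∑ a : A, Complex.normSq (offCenter A μ a)) ≤ (Nat.card A : ℝ) := by
    rw [hSΦ'] at hSΦnn
    have h1 : 0 ≤ 1 - (∑ a : A, Complex.normSq (offCenter A μ a)) / (Nat.card A : ℝ) := by
      by_contra hneg
      push Not at hneg
      have h2 := mul_neg_of_pos_of_neg hGpos hneg
      linarith
    have h2 : (∑ a : A, Complex.normSq (offCenter A μ a)) / (Nat.card A : ℝ) ≤ 1 := by linarith
    rwa [div_le_one hApos] at h2
  have hsplit : (∑ a : A, Complex.normSq (offCenter A μ a)) =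
      (∑ a : A, Complex.normSq ((μ ∘ A.subtype) a)) -
        (Nat.card (Subgroup.center G) : ℝ) * ((d : ℝ) * d) := by
    have h1 : ∀ a : A, Complex.normSq (offCenter A μ a) =
        Complex.normSq ((μ ∘ A.subtype) a) -
          (if (a : G) ∈ Subgroup.center G then Complex.normSq (μ a) else 0) := by
      intro a
      by_cases ha : (a : G) ∈ Subgroup.center G
      · rw [offCenter_of_mem A μ a ha, if_pos ha, map_zero]
        change (0 : ℝ) = Complex.normSq (μ a) - Complex.normSq (μ a)
        ring
      · rw [offCenter_of_not_mem A μ a ha, if_neg ha, sub_zero]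
        rfl
    have h3 : (∑ a : A, (if (a : G) ∈ Subgroup.center G then Complex.normSq (μ a) else 0)) =
        ∑ g : G, (if g ∈ Subgroup.center G then Complex.normSq (μ g) else 0) := by
      rw [FTLemma.sum_subtype_eq A
        (fun g : G => if g ∈ Subgroup.center G then Complex.normSq (μ g) else 0)]
      apply Finset.sum_congr rfl
      intro g _
      by_cases hgA : g ∈ A
      · rw [if_pos hgA]
      · rw [if_neg hgA, if_neg (fun hz => hgA (hZA hz))]
    have h4 : (∑ g : G, (if g ∈ Subgroup.center G then Complex.normSq (μ g) else 0)) =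
        (Nat.card (Subgroup.center G) : ℝ) * Complex.normSq (μ 1) := by
      convert FTLemma.sum_center hμ
    simp_rw [h1]
    rw [Finset.sum_sub_distrib, h3, h4, hd, Complex.normSq_natCast]
  have hX : IsGeneralizedCharacter A (μ ∘ A.subtype) :=
    isGeneralizedCharacter_of_isCharacter (isCharacter_restrict A hμchar)
  obtain ⟨c, hc⟩ := exists_int_coeff hX
  have hnormA := genChar_norm hX c hc
  have hexpA := genChar_expansion hX c hc
  have hdeg : (d : ℤ) = ∑ lam : IrrCharacter A, c lam := by
    have e1 := congrFun hexpA 1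
    simp only [Finset.sum_apply, Pi.smul_apply, smul_eq_mul, Function.comp_apply] at e1
    have hlin : ∀ lam : IrrCharacter A, (lam : A → ℂ) 1 = 1 := fun lam =>
      FTLemma.irr_degree_one_of_comm (fun a b => Subtype.ext (hAab a a.2 b b.2)) lam
    simp_rw [hlin, mul_one] at e1
    rw [map_one, hd] at e1
    exact_mod_cast e1
  have hsum_sq : (d : ℤ) ≤ ∑ lam : IrrCharacter A, c lam ^ 2 := by
    rw [hdeg]
    apply Finset.sum_le_sum
    intro lam _
    rcases le_or_gt (c lam) 0 with h0 | h0
    · nlinarith [sq_nonneg (c lam)]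
    · nlinarith
  have hSAeq : (∑ a : A, Complex.normSq ((μ ∘ A.subtype) a)) =
      (Nat.card A : ℝ) * ((∑ lam : IrrCharacter A, c lam ^ 2 : ℤ) : ℝ) := by
    rw [hnormA] at hSA
    exact_mod_cast hSA
  have hfinal : (d : ℝ) * (Nat.card A : ℝ) ≤
      (Nat.card A : ℝ) + (d : ℝ) ^ 2 * (Nat.card (Subgroup.center G) : ℝ) := by
    have h5 : (d : ℝ) ≤ ((∑ lam : IrrCharacter A, c lam ^ 2 : ℤ) : ℝ) := by
      exact_mod_cast hsum_sq
    have h6 : (d : ℝ) * (Nat.card A : ℝ) ≤ ∑ a : A, Complex.normSq ((μ ∘ A.subtype) a) := by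
      rw [hSAeq]
      nlinarith [mul_le_mul_of_nonneg_left h5 hApos.le]
    rw [hsplit] at hSψle
    nlinarith
  exact_mod_cast hfinal

end Count

end Cfsg.Agent.Lib.Helper26.FTB
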