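import Mathlib
import Cfsg.Prelude.Def_Characters
import Cfsg.Agent.Lib.Helper26.FTBC
import Cfsg.Agent.Lib.Helper26.FTBD

set_option autoImplicit false
set_option linter.unusedSectionVars false

/-!
# The order of a Sylow subgroup of a minimal bad group (helper26)

`card_sylow_lt`: if `G` is a minimal group with non-normal abelian Sylow `p`-subgroups having a
faithful complex representation of degree `n` with `n + 1 < p`, then `|P| < (n + 1)²`.
-/

namespace Cfsg.Agent.Lib.Helper26.FTB

open Cfsg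
open scoped Pointwise
open scoped ComplexConjugate Classical

section Final
variable {G : Type*} [Group G] [Fintype G] {p : ℕ} [hp : Fact p.Prime]

theorem one_conj (h : MinBad p G)
    (hQZ : ∀ Q : Sylow p G, ∀ x ∈ (Q : Subgroup G), x ∈ Subgroup.center G → x = 1)
    (P : Sylow p G) : FTLemma.OneConj (P : Subgroup G) := by
  intro g hg a b ha hb
  have hex : ∀ a : G, Subgroup.centralizer ({g} : Set G) ⊓
      (P : Subgroup G).map (MulAut.conj a).toMonoidHom ≠ ⊥ →
      ∃ x : G, x ≠ 1 ∧ x ∈ Subgroup.centralizer ({g} : Set G) ∧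
        x ∈ ((a • P : Sylow p G) : Subgroup G) := by
    intro a ha
    rw [Ne, Subgroup.eq_bot_iff_forall] at ha
    push Not at ha
    obtain ⟨x, hx, hx1⟩ := ha
    obtain ⟨hxC, hxP⟩ := Subgroup.mem_inf.mp hx
    refine ⟨x, hx1, hxC, ?_⟩
    rw [mem_smul_sylow_iff]
    exact (FTLemma.mem_map_conj _ a x).mp hxP
  obtain ⟨x₁, hx₁1, hx₁C, hx₁a⟩ := hex a ha
  obtain ⟨x₂, hx₂1, hx₂C, hx₂b⟩ := hex b hb
  have hCne : Subgroup.centralizer ({g} : Set G) ≠ ⊤ := by
    intro htop
    apply hg
    rw [Subgroup.mem_center_iff]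
    intro k
    have hk : k ∈ Subgroup.centralizer ({g} : Set G) := by
      rw [htop]
      exact Subgroup.mem_top k
    rw [Subgroup.mem_centralizer_iff] at hk
    exact (hk g rfl).symm
  obtain ⟨S⟩ := (inferInstance : Nonempty (Sylow p ↥(Subgroup.centralizer ({g} : Set G))))
  have hSn : (S : Subgroup ↥(Subgroup.centralizer ({g} : Set G))).Normal := h.sub _ hCne S
  obtain ⟨T, hT⟩ :=
    (S.isPGroup'.map (Subgroup.centralizer ({g} : Set G)).subtype).exists_le_sylow
  have hmemT : ∀ x : G, x ∈ Subgroup.centralizer ({g} : Set G) → ∀ j : ℕ, x ^ p ^ j = 1 →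
      x ∈ (T : Subgroup G) := by
    intro x hxC j hj
    apply hT
    rw [Subgroup.mem_map]
    refine ⟨⟨x, hxC⟩, ?_, rfl⟩
    apply mem_sylow_of_mem_normalizer S
    · apply isPGroup_zpowers_of_pow_eq_one (j := j)
      apply Subtype.ext
      rw [Subgroup.coe_pow, Subgroup.coe_one]
      exact hj
    · rw [Subgroup.normalizer_eq_top_iff.mpr hSn]
      exact Subgroup.mem_top _
  have heqT : ∀ (c : G) (x : G), x ≠ 1 → x ∈ Subgroup.centralizer ({g} : Set G) →
      x ∈ ((c • P : Sylow p G) : Subgroup G) → T = c • P := by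
    intro c x hx1 hxC hxc
    by_contra hne
    obtain ⟨j, hj⟩ := exists_pow_of_mem (c • P) hxc
    have hxT := hmemT x hxC j hj
    have hxcen := mem_center_of_mem_inter h T (c • P) hne hxT hxc
    exact hx1 (hQZ (c • P) x hxc hxcen)
  have hab : a • P = b • P :=
    (heqT a x₁ hx₁1 hx₁C hx₁a).symm.trans (heqT b x₂ hx₂1 hx₂C hx₂b)
  ext y
  rw [FTLemma.mem_map_conj, FTLemma.mem_map_conj, ← mem_smul_sylow_iff, ← mem_smul_sylow_iff, hab]

theorem exists_nonlinear_constituent (h : MinBad p G) {n : ℕ}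
    (ρ : Representation ℂ G (Fin n → ℂ)) (hρ : Function.Injective ρ) :
    ∃ μ : IrrCharacter G, classInner ρ.character (μ : G → ℂ) ≠ 0 ∧ (μ : G → ℂ) 1 ≠ 1 := by
  by_contra hcon
  push Not at hcon
  have hcomm := comm_of_linear_constituents ρ hρ hcon
  obtain ⟨P⟩ := (inferInstance : Nonempty (Sylow p G))
  apply h.bad P
  constructor
  intro x hx g
  have e : g * x * g⁻¹ = x := by
    rw [hcomm g x]
    group
  rw [e]
  exact hx

/-- the order of a Sylow `p`-subgroup of a minimal bad group with a small faithful representation -/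
theorem card_sylow_lt (h : MinBad p G) {n : ℕ} (ρ : Representation ℂ G (Fin n → ℂ))
    (hρ : Function.Injective ρ) (hnp : n + 1 < p) (P : Sylow p G) :
    Nat.card ↥(P : Subgroup G) < (n + 1) ^ 2 := by
  obtain ⟨μ, hμc, hμ1⟩ := exists_nonlinear_constituent h ρ hρ
  obtain ⟨d, hd0, hd⟩ := irr_degree μ.2
  have hdn : d ≤ n := constituent_degree_le ρ μ hμc hd
  by_cases hK : commutator G = ⊤
  · haveI : Fintype ↥(P : Subgroup G) := Fintype.ofFinite _
    have hQZ : ∀ Q : Sylow p G, ∀ x ∈ (Q : Subgroup G), x ∈ Subgroup.center G → x = 1 := by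
      intro Q x hxQ hxc
      exact eq_one_of_mem_center_of_mem_commutator Q (h.ab Q) hxc hxQ
        (by rw [hK]; exact Subgroup.mem_top x)
    have hZ : (P : Subgroup G) ⊓ Subgroup.center G = ⊥ := by
      rw [Subgroup.eq_bot_iff_forall]
      intro x hx
      obtain ⟨hx1, hx2⟩ := Subgroup.mem_inf.mp hx
      exact hQZ P x hx1 hx2
    have hone : FTLemma.OneConj (P : Subgroup G) := one_conj h hQZ P
    have hgen : ∀ M : Subgroup G, M.Normal → (P : Subgroup G) ≤ M → M = ⊤ :=
      fun M hM hPM => eq_top_of_normal_of_le h P M hM hPM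
    have hlt := FTLemma.claim_two (P : Subgroup G) (h.ab P) hZ hone μ.2 hμ1 hgen
    rw [hd] at hlt
    simp only [Complex.natCast_re] at hlt
    have h2 : ((Nat.card ↥(P : Subgroup G) : ℕ) : ℝ) < (((n + 1) ^ 2 : ℕ) : ℝ) := by
      have h4 : (d : ℝ) ≤ (n : ℝ) := by exact_mod_cast hdn
      have h5 : (0 : ℝ) ≤ (d : ℝ) := Nat.cast_nonneg d
      push_cast
      nlinarith
    exact_mod_cast h2
  · exfalso
    haveI : Fintype ↥(Subgroup.normalizer ((P : Subgroup G) : Set G)) := Fintype.ofFinite _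
    have hineq := count_ineq (Subgroup.normalizer ((P : Subgroup G) : Set G))
      (fun a ha b hb => normalizer_comm h hK P ha hb)
      (FTLemma.center_le_normalizer _)
      (fun g hg t ht htc => ti_normalizer h hK P hg ht htc)
      μ.2 hd
    have hcard := card_center_mul_le h P
    have hd1 : d ≠ 1 := by
      intro h1
      apply hμ1
      rw [hd, h1]
      simp
    have hZpos : 0 < Nat.card ↥(Subgroup.center G) := Nat.card_pos
    have hd2 : 2 ≤ d := by omega
    obtain ⟨e, rfl⟩ : ∃ e, d = e + 2 := ⟨d - 2, by omega⟩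
    have hp4 : e + 4 ≤ p := by omega
    have h1 : (e + 1) * Nat.card ↥(Subgroup.normalizer ((P : Subgroup G) : Set G)) ≤
        (e + 2) ^ 2 * Nat.card ↥(Subgroup.center G) := by
      nlinarith
    have h2 : (e + 1) * (p * Nat.card ↥(Subgroup.center G)) ≤
        (e + 2) ^ 2 * Nat.card ↥(Subgroup.center G) :=
      le_trans (Nat.mul_le_mul_left _ hcard) h1
    have h3 : (e + 1) * p ≤ (e + 2) ^ 2 := by
      have h4 : ((e + 1) * p) * Nat.card ↥(Subgroup.center G) ≤
          (e + 2) ^ 2 * Nat.card ↥(Subgroup.center G) := by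
        rw [mul_assoc]
        exact h2
      exact Nat.le_of_mul_le_mul_right h4 hZpos
    have he0 : e = 0 := by
      nlinarith [Nat.mul_le_mul_left (e + 1) hp4]
    subst he0
    have hp4' : p = 4 := by omega
    have hpp := hp.out
    rw [hp4'] at hpp
    exact absurd hpp (by norm_num)

end Final

end Cfsg.Agent.Lib.Helper26.FTB
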