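import Mathlib
import Cfsg.Prelude.Def_Characters
import Cfsg.Agent.Lib.Helper26.Frame
import Cfsg.Agent.Lib.Helper26.CharInt
import Cfsg.Agent.Lib.Helper26.GenChar
import Cfsg.Agent.Lib.Helper28.PermChar

/-!
# Consequences of Frame-type divisibility (helper26)

* `permChar_data`: multiplicities `e χ = ⟨π, χ⟩` of a transitive permutation character, with
  `e 1 = 1`, `Σ e² = rank`, `Σ e χ(1) = |Ω|`.
* `frame_equal_degree`: if all non-principal constituents have the same degree `f`, then `π` is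
  multiplicity-free and all nontrivial subdegrees equal `f`.
* `frame_rank_le_five`: rank `≤ 5` implies multiplicity-free.
-/

set_option autoImplicit false

namespace Cfsg.Agent.Lib.Helper26
open Cfsg
open scoped ComplexConjugate

section
variable {G : Type*} [Group G] [Fintype G] {Ω : Type*} [Fintype Ω] [MulAction G Ω]

theorem permChar_data [MulAction.IsPretransitive G Ω] [Fintype (IrrCharacter G)] (a : Ω) :
    ∃ e : IrrCharacter G → ℕ,
      (∀ χ : IrrCharacter G,
        classInner (fun g : G => (Nat.card (MulAction.fixedBy Ω g) : ℂ)) (χ : G → ℂ) = e χ) ∧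
      (∀ t : IrrCharacter G, (t : G → ℂ) = (fun _ => 1) → e t = 1) ∧
      ∑ χ : IrrCharacter G, (e χ) ^ 2 =
        Nat.card (MulAction.orbitRel.Quotient (MulAction.stabilizer G a) Ω) ∧
      (∀ deg : IrrCharacter G → ℕ, (∀ χ : IrrCharacter G, (χ : G → ℂ) 1 = (deg χ : ℂ)) →
        ∑ χ : IrrCharacter G, e χ * deg χ = Nat.card Ω) := by
  classical
  obtain ⟨π, hπ⟩ : ∃ π : G → ℂ, π = fun g : G => (Nat.card (MulAction.fixedBy Ω g) : ℂ) :=
    ⟨_, rfl⟩
  rw [← hπ]
  have hπchar : IsCharacter G π := by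
    rw [hπ]
    exact Cfsg.Agent.Lib.Helper28.isCharacter_permChar G Ω
  have hπcf : IsClassFunction G π := isClassFunction_of_isCharacter hπchar
  have hgen : IsGeneralizedCharacter G π := isGeneralizedCharacter_of_isCharacter hπchar
  have hπind : π = indFun (MulAction.stabilizer G a) (fun _ => (1 : ℂ)) := by
    rw [hπ]
    exact permChar_eq_indFun' a
  have hex : ∀ χ : IrrCharacter G, ∃ n : ℕ, classInner π (χ : G → ℂ) = n := fun χ =>
    classInner_isCharacter_nat hπchar (isCharacter_of_isIrrCharacter χ.2)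
  choose e he using hex
  have hG : (Nat.card G : ℂ) ≠ 0 := by
    have : Nat.card G ≠ 0 := Nat.card_pos.ne'
    exact_mod_cast this
  have hH : (Nat.card (MulAction.stabilizer G a) : ℂ) ≠ 0 := by
    have : Nat.card (MulAction.stabilizer G a) ≠ 0 := Nat.card_pos.ne'
    exact_mod_cast this
  have heZ : ∀ χ : IrrCharacter G, classInner π (χ : G → ℂ) = (((e χ : ℕ) : ℤ) : ℂ) := by
    intro χ
    rw [he χ, Int.cast_natCast]
  refine ⟨e, he, ?_, ?_, ?_⟩
  · intro t ht
    have h1 := he t
    rw [ht] at h1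
    have h2 : classInner π (fun _ => (1 : ℂ)) = 1 := by
      unfold classInner
      have h3 : ∑ g : G, π g * (starRingEnd ℂ) ((fun _ => (1 : ℂ)) g) =
          ∑ g : G, (Nat.card (MulAction.fixedBy Ω g) : ℂ) := by
        apply Finset.sum_congr rfl
        intro g _
        rw [hπ]
        simp
      haveI : Nonempty Ω := ⟨a⟩
      rw [h3, Cfsg.Agent.Lib.Helper28.sum_card_fixedBy,
        Cfsg.Agent.Lib.Helper28.card_orbits_of_isPretransitive, Nat.cast_one, one_mul,
        inv_mul_cancel₀ hG]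
    rw [h2] at h1
    exact_mod_cast h1.symm
  · have h1 := genChar_norm hgen (fun χ => ((e χ : ℕ) : ℤ)) heZ
    have h2 : classInner π π =
        (Nat.card (MulAction.orbitRel.Quotient (MulAction.stabilizer G a) Ω) : ℂ) := by
      have h3 : classInner π π =
          classInner (indFun (MulAction.stabilizer G a) (fun _ => (1 : ℂ))) π := by
        rw [← hπind]
      rw [h3, classInner_indFun_left' _ _ _ hπcf]
      unfold classInner
      have h4 : ∑ h : MulAction.stabilizer G a, (fun _ => (1 : ℂ)) h *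
          (starRingEnd ℂ) ((π ∘ (MulAction.stabilizer G a).subtype) h) =
          ∑ h : MulAction.stabilizer G a, (Nat.card (MulAction.fixedBy Ω h) : ℂ) := by
        apply Finset.sum_congr rfl
        intro h _
        rw [hπ]
        simp only [Function.comp_apply, one_mul, Subgroup.coe_subtype, map_natCast]
        rfl
      rw [h4, Cfsg.Agent.Lib.Helper28.sum_card_fixedBy, mul_comm, mul_assoc, mul_inv_cancel₀ hH,
        mul_one]
    rw [h1] at h2
    exact_mod_cast h2
  · intro deg hdeg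
    have hexp := genChar_expansion hgen (fun χ => ((e χ : ℕ) : ℤ)) heZ
    have h1 : π 1 = (Nat.card Ω : ℂ) := by
      rw [hπ]
      show ((Nat.card (MulAction.fixedBy Ω (1 : G)) : ℕ) : ℂ) = _
      congr 1
      exact Nat.card_congr (Equiv.subtypeUnivEquiv (fun x => by
        rw [MulAction.mem_fixedBy, one_smul]))
    have h2 : π 1 = ∑ χ : IrrCharacter G, (((e χ : ℕ) : ℤ) : ℂ) * (deg χ : ℂ) := by
      conv_lhs => rw [hexp]
      rw [Finset.sum_apply]
      apply Finset.sum_congr rfl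
      intro χ _
      rw [Pi.smul_apply, smul_eq_mul, hdeg]
    rw [h1] at h2
    exact_mod_cast h2.symm

/-- If all non-principal constituents of a transitive permutation character have degree `f`,
the character is multiplicity-free and all nontrivial subdegrees equal `f`. -/
theorem frame_equal_degree [MulAction.IsPretransitive G Ω] (a : Ω) (f : ℕ)
    (hdeg : ∀ χ : G → ℂ, IsIrrCharacter G χ → χ ≠ (fun _ => 1) →
      classInner (fun g : G => (Nat.card (MulAction.fixedBy Ω g) : ℂ)) χ ≠ 0 → χ 1 = f) :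
    (∀ χ : G → ℂ, IsIrrCharacter G χ →
      classInner (fun g : G => (Nat.card (MulAction.fixedBy Ω g) : ℂ)) χ = 0 ∨
      classInner (fun g : G => (Nat.card (MulAction.fixedBy Ω g) : ℂ)) χ = 1) ∧
    ∀ b : Ω, b ≠ a → Nat.card (MulAction.orbit (MulAction.stabilizer G a) b) = f := by
  classical
  haveI : Fintype (IrrCharacter G) := Fintype.ofFinite _
  haveI : Fintype (MulAction.orbitRel.Quotient (MulAction.stabilizer G a) Ω) :=
    Fintype.ofFinite _
  obtain ⟨e, he, hetriv, hesq, hedeg⟩ := permChar_data (G := G) a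
  have hdx : ∀ χ : IrrCharacter G, ∃ j : ℕ, (χ : G → ℂ) 1 = j := fun χ => by
    obtain ⟨j, _, hj⟩ := irr_degree χ.2
    exact ⟨j, hj⟩
  choose deg hdegc using hdx
  have hsumdeg := hedeg deg hdegc
  obtain ⟨triv, htriv⟩ : ∃ t : IrrCharacter G, (t : G → ℂ) = fun _ => 1 :=
    ⟨⟨fun _ => 1, Cfsg.Agent.Lib.Helper4.isIrrCharacter_one⟩, rfl⟩
  have hetriv' := hetriv triv htriv
  have hdegtriv : deg triv = 1 := by
    have h1 : (1 : ℂ) = (deg triv : ℂ) := by
      rw [← hdegc triv, htriv]
    exact_mod_cast h1.symm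
  have hterm : ∀ χ ∈ Finset.univ.erase triv, e χ * deg χ = e χ * f := by
    intro χ hχ
    have hne : χ ≠ triv := Finset.ne_of_mem_erase hχ
    by_cases h0 : e χ = 0
    · rw [h0, zero_mul, zero_mul]
    · have h1 : (χ : G → ℂ) 1 = f :=
        hdeg χ χ.2 (fun h => hne (Subtype.ext (h.trans htriv.symm))) (by
          rw [he χ]
          exact_mod_cast h0)
      rw [hdegc χ] at h1
      have h2 : deg χ = f := by exact_mod_cast h1
      rw [h2]
  have hΩ1 : Nat.card Ω = 1 + ∑ χ ∈ Finset.univ.erase triv, e χ * f := by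
    rw [← hsumdeg, ← Finset.add_sum_erase Finset.univ _ (Finset.mem_univ triv), hetriv', hdegtriv,
      Finset.sum_congr rfl hterm]
  have hr1 : Nat.card (MulAction.orbitRel.Quotient (MulAction.stabilizer G a) Ω) =
      1 + ∑ χ ∈ Finset.univ.erase triv, (e χ) ^ 2 := by
    rw [← hesq, ← Finset.add_sum_erase Finset.univ _ (Finset.mem_univ triv), hetriv', one_pow]
  obtain ⟨c, hc⟩ : ∃ c : MulAction.orbitRel.Quotient (MulAction.stabilizer G a) Ω → ℕ,
      c = fun ω => Nat.card ω.orbit := ⟨_, rfl⟩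
  have hcmk : ∀ b : Ω, c (Quotient.mk'' b) =
      Nat.card (MulAction.orbit (MulAction.stabilizer G a) b) := by
    intro b
    rw [hc]
    show Nat.card (MulAction.orbitRel.Quotient.orbit
      (Quotient.mk'' b : MulAction.orbitRel.Quotient (MulAction.stabilizer G a) Ω)) = _
    rw [MulAction.orbitRel.Quotient.orbit_mk]
  have hΩ2 : Nat.card Ω =
      ∑ ω : MulAction.orbitRel.Quotient (MulAction.stabilizer G a) Ω, c ω := by
    rw [hc, Nat.card_congr (MulAction.selfEquivSigmaOrbits' (MulAction.stabilizer G a) Ω),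
      Nat.card_sigma]
  obtain ⟨ω₀, hω₀⟩ : ∃ ω₀ : MulAction.orbitRel.Quotient (MulAction.stabilizer G a) Ω,
      ω₀ = Quotient.mk'' a := ⟨_, rfl⟩
  have horba : MulAction.orbit (MulAction.stabilizer G a) a = {a} := by
    ext x
    constructor
    · rintro ⟨h, rfl⟩
      exact MulAction.mem_stabilizer_iff.mp h.2
    · intro hx
      rw [Set.mem_singleton_iff] at hx
      rw [hx]
      exact MulAction.mem_orbit_self a
  have hcω₀ : c ω₀ = 1 := by
    rw [hω₀, hcmk, horba]
    simp
  have hmkne : ∀ b : Ω, b ≠ a →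
      (Quotient.mk'' b : MulAction.orbitRel.Quotient (MulAction.stabilizer G a) Ω) ≠ ω₀ := by
    intro b hb h
    rw [hω₀] at h
    have h2 : b ∈ MulAction.orbit (MulAction.stabilizer G a) a := Quotient.exact' h
    rw [horba] at h2
    exact hb h2
  have hcdvd : ∀ ω ∈ Finset.univ.erase ω₀, f ∣ c ω ∧ 1 ≤ c ω := by
    intro ω hω
    have hne := Finset.ne_of_mem_erase hω
    obtain ⟨b, rfl⟩ : ∃ b, (Quotient.mk'' b :
        MulAction.orbitRel.Quotient (MulAction.stabilizer G a) Ω) = ω := Quotient.exists_rep ω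
    have hba : b ≠ a := by
      rintro rfl
      exact hne hω₀.symm
    rw [hcmk]
    refine ⟨frame_dvd f (fun χ hχ h1 h2 => ⟨1, by rw [hdeg χ hχ h1 h2]; simp⟩) a b hba, ?_⟩
    haveI := (MulAction.nonempty_orbit (M := MulAction.stabilizer G a) b).to_subtype
    exact Nat.card_pos
  have hΩ3 : Nat.card Ω = 1 + ∑ ω ∈ Finset.univ.erase ω₀, c ω := by
    rw [hΩ2, ← Finset.add_sum_erase Finset.univ _ (Finset.mem_univ ω₀), hcω₀]
  have hcardQ : (Finset.univ.erase ω₀).card + 1 =
      Nat.card (MulAction.orbitRel.Quotient (MulAction.stabilizer G a) Ω) := by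
    rw [Finset.card_erase_of_mem (Finset.mem_univ _), Finset.card_univ, Nat.card_eq_fintype_card]
    have : 0 < Fintype.card (MulAction.orbitRel.Quotient (MulAction.stabilizer G a) Ω) :=
      Fintype.card_pos_iff.mpr ⟨ω₀⟩
    omega
  -- integer bookkeeping
  have hC : (∑ ω ∈ Finset.univ.erase ω₀, (c ω : ℤ)) =
      (f : ℤ) * ∑ χ ∈ Finset.univ.erase triv, (e χ : ℤ) := by
    have h' : ∑ χ ∈ Finset.univ.erase triv, e χ * f = ∑ ω ∈ Finset.univ.erase ω₀, c ω := by
      have h := hΩ1.symm.trans hΩ3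
      omega
    have h'' := congrArg (Nat.cast : ℕ → ℤ) h'
    push_cast at h''
    rw [← h'', Finset.mul_sum]
    apply Finset.sum_congr rfl
    intro χ _
    ring
  have hm : ((Finset.univ.erase ω₀).card : ℤ) = ∑ χ ∈ Finset.univ.erase triv, (e χ : ℤ) ^ 2 := by
    have h' : (Finset.univ.erase ω₀).card = ∑ χ ∈ Finset.univ.erase triv, (e χ) ^ 2 := by
      have h := hcardQ.trans hr1
      omega
    have h'' := congrArg (Nat.cast : ℕ → ℤ) h'
    push_cast at h''
    exact h''
  have hAnn : ∀ ω ∈ Finset.univ.erase ω₀, (0 : ℤ) ≤ (c ω : ℤ) - f := by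
    intro ω hω
    have h1 := hcdvd ω hω
    have h2 : f ≤ c ω := Nat.le_of_dvd h1.2 h1.1
    have h3 : (f : ℤ) ≤ (c ω : ℤ) := by exact_mod_cast h2
    linarith
  have hBnn : ∀ χ ∈ Finset.univ.erase triv, (0 : ℤ) ≤ (f : ℤ) * ((e χ : ℤ) ^ 2 - e χ) := by
    intro χ _
    apply mul_nonneg (Int.natCast_nonneg f)
    rcases Nat.eq_zero_or_pos (e χ) with h | h
    · rw [h]; simp
    · have h3 : (1 : ℤ) ≤ (e χ : ℤ) := by exact_mod_cast h
      nlinarith
  have hsumAB : (∑ ω ∈ Finset.univ.erase ω₀, ((c ω : ℤ) - f)) +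
      ∑ χ ∈ Finset.univ.erase triv, (f : ℤ) * ((e χ : ℤ) ^ 2 - e χ) = 0 := by
    rw [Finset.sum_sub_distrib, Finset.sum_const, nsmul_eq_mul, ← Finset.mul_sum,
      Finset.sum_sub_distrib, hC, hm]
    ring
  have hA0 : ∑ ω ∈ Finset.univ.erase ω₀, ((c ω : ℤ) - f) = 0 := by
    have h1 := Finset.sum_nonneg hAnn
    have h2 := Finset.sum_nonneg hBnn
    linarith
  have hB0 : ∑ χ ∈ Finset.univ.erase triv, (f : ℤ) * ((e χ : ℤ) ^ 2 - e χ) = 0 := by
    have h1 := Finset.sum_nonneg hAnn
    have h2 := Finset.sum_nonneg hBnn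
    linarith
  have hAterm := (Finset.sum_eq_zero_iff_of_nonneg hAnn).mp hA0
  have hBterm := (Finset.sum_eq_zero_iff_of_nonneg hBnn).mp hB0
  have hceq : ∀ ω ∈ Finset.univ.erase ω₀, c ω = f := by
    intro ω hω
    have h1 := hAterm ω hω
    have h2 : (c ω : ℤ) = f := by linarith
    exact_mod_cast h2
  refine ⟨?_, ?_⟩
  · intro χ hχ
    by_cases hχt : (⟨χ, hχ⟩ : IrrCharacter G) = triv
    · right
      have h1 := he ⟨χ, hχ⟩
      rw [hχt, hetriv'] at h1
      have h2 : χ = (triv : G → ℂ) := congrArg Subtype.val hχt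
      rw [h2, h1, Nat.cast_one]
    · have hmem : (⟨χ, hχ⟩ : IrrCharacter G) ∈ Finset.univ.erase triv :=
        Finset.mem_erase.mpr ⟨hχt, Finset.mem_univ _⟩
      have h1 := hBterm _ hmem
      have hecase : e ⟨χ, hχ⟩ = 0 ∨ e ⟨χ, hχ⟩ = 1 := by
        rcases mul_eq_zero.mp h1 with h2 | h2
        · -- f = 0
          have hf0 : f = 0 := by exact_mod_cast h2
          have hempty : Finset.univ.erase ω₀ = ∅ := by
            apply Finset.eq_empty_of_forall_notMem
            intro ω hω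
            have h3 := hcdvd ω hω
            have h4 := hceq ω hω
            omega
          rw [hempty, Finset.card_empty] at hm
          have h5 : ∀ χ' ∈ Finset.univ.erase triv, (0 : ℤ) ≤ (e χ' : ℤ) ^ 2 :=
            fun χ' _ => sq_nonneg _
          have h6 := (Finset.sum_eq_zero_iff_of_nonneg h5).mp (by
            rw [← hm]; simp) _ hmem
          left
          have h7 : (e ⟨χ, hχ⟩ : ℤ) = 0 := pow_eq_zero_iff (two_ne_zero) |>.mp h6
          exact_mod_cast h7
        · have h3 : (e ⟨χ, hχ⟩ : ℤ) * ((e ⟨χ, hχ⟩ : ℤ) - 1) = 0 := by linarith [h2]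
          rcases mul_eq_zero.mp h3 with h4 | h4
          · left; exact_mod_cast h4
          · right
            have h5 : (e ⟨χ, hχ⟩ : ℤ) = 1 := by linarith
            exact_mod_cast h5
      have h8 := he ⟨χ, hχ⟩
      rcases hecase with h9 | h9
      · left
        rw [h8, h9, Nat.cast_zero]
      · right
        rw [h8, h9, Nat.cast_one]
  · intro b hb
    have hmem : (Quotient.mk'' b : MulAction.orbitRel.Quotient (MulAction.stabilizer G a) Ω) ∈
        Finset.univ.erase ω₀ := Finset.mem_erase.mpr ⟨hmkne b hb, Finset.mem_univ _⟩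
    rw [← hcmk]
    exact hceq _ hmem

/-- A transitive group of rank at most `5` has multiplicity-free permutation character. -/
theorem frame_rank_le_five [MulAction.IsPretransitive G Ω] (a : Ω)
    (hr : Nat.card (MulAction.orbitRel.Quotient (MulAction.stabilizer G a) Ω) ≤ 5) :
    ∀ χ : G → ℂ, IsIrrCharacter G χ →
      classInner (fun g : G => (Nat.card (MulAction.fixedBy Ω g) : ℂ)) χ = 0 ∨
      classInner (fun g : G => (Nat.card (MulAction.fixedBy Ω g) : ℂ)) χ = 1 := by
  classical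
  haveI : Fintype (IrrCharacter G) := Fintype.ofFinite _
  obtain ⟨e, he, hetriv, hesq, hedeg⟩ := permChar_data (G := G) a
  obtain ⟨triv, htriv⟩ : ∃ t : IrrCharacter G, (t : G → ℂ) = fun _ => 1 :=
    ⟨⟨fun _ => 1, Cfsg.Agent.Lib.Helper4.isIrrCharacter_one⟩, rfl⟩
  have hetriv' := hetriv triv htriv
  by_contra hcon
  push_neg at hcon
  obtain ⟨χ₀, hχ₀irr, h0, h1⟩ := hcon
  obtain ⟨χ₀', hχ₀'⟩ : ∃ x : IrrCharacter G, x = ⟨χ₀, hχ₀irr⟩ := ⟨_, rfl⟩
  have hval : (χ₀' : G → ℂ) = χ₀ := by rw [hχ₀']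
  have he2 : 2 ≤ e χ₀' := by
    have h2 := he χ₀'
    rw [hval] at h2
    by_contra hlt
    push_neg at hlt
    have h3 : e χ₀' = 0 ∨ e χ₀' = 1 := by omega
    rcases h3 with h3 | h3
    · apply h0
      rw [h2, h3, Nat.cast_zero]
    · apply h1
      rw [h2, h3, Nat.cast_one]
  have hne : χ₀' ≠ triv := by
    intro h
    rw [h, hetriv'] at he2
    omega
  have hsplit : ∑ χ : IrrCharacter G, (e χ) ^ 2 = (e triv) ^ 2 + ((e χ₀') ^ 2 +
      ∑ χ ∈ (Finset.univ.erase triv).erase χ₀', (e χ) ^ 2) := by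
    rw [← Finset.add_sum_erase Finset.univ _ (Finset.mem_univ triv),
      ← Finset.add_sum_erase (Finset.univ.erase triv) _
        (Finset.mem_erase.mpr ⟨hne, Finset.mem_univ _⟩)]
  have hrest : ∀ χ ∈ (Finset.univ.erase triv).erase χ₀', e χ = 0 := by
    have h4 : 4 ≤ (e χ₀') ^ 2 := by nlinarith
    have hsum0 : ∑ χ ∈ (Finset.univ.erase triv).erase χ₀', (e χ) ^ 2 = 0 := by
      rw [hesq, hetriv'] at hsplit
      omega
    intro χ hχ
    have h5 := (Finset.sum_eq_zero_iff.mp hsum0) χ hχ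
    exact pow_eq_zero_iff (two_ne_zero) |>.mp h5
  obtain ⟨d, _, hd⟩ := irr_degree hχ₀irr
  have hA := (frame_equal_degree a d ?_).1 χ₀ hχ₀irr
  · rcases hA with h | h
    · exact h0 h
    · exact h1 h
  · intro χ hχ hne1 hne0
    have h6 : (⟨χ, hχ⟩ : IrrCharacter G) = χ₀' := by
      by_contra hne2
      have hmem : (⟨χ, hχ⟩ : IrrCharacter G) ∈ (Finset.univ.erase triv).erase χ₀' :=
        Finset.mem_erase.mpr ⟨hne2, Finset.mem_erase.mpr
          ⟨fun h => hne1 ((congrArg Subtype.val h).trans htriv), Finset.mem_univ _⟩⟩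
      have h7 := hrest _ hmem
      apply hne0
      have h8 := he ⟨χ, hχ⟩
      rw [h7, Nat.cast_zero] at h8
      exact h8
    have h9 : χ = χ₀ := (congrArg Subtype.val h6).trans hval
    rw [h9, hd]

end

end Cfsg.Agent.Lib.Helper26
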