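import Mathlib
import Cfsg.Prelude.Def_Characters
import Cfsg.Prelude.Def_ParabolicCharacters
import Cfsg.Agent.Lib.Helper26.GL2Const
import Cfsg.Agent.S0857

/-!
# Twisting characters of `GL₂(q)` by `γ ∘ det` (helper26)
-/

set_option autoImplicit false

namespace Cfsg.Agent.Lib.Helper26.PS
open Cfsg Cfsg.Agent.Lib.Helper26 Cfsg.Agent.Lib.Helper12.GL2
open scoped ComplexConjugate

local notation "GL2" => Matrix.GeneralLinearGroup (Fin 2)

section finite
variable {F : Type*} [Field F] [Fintype F] [DecidableEq F]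

theorem ext_twist (γ α β : MulChar F ℂ) (y : GL2 F) :
    extendByZero (Cfsg.upperTriangularGL 2 F) (psFun (γ * α) (γ * β)) y =
      detFun γ y * extendByZero (Cfsg.upperTriangularGL 2 F) (psFun α β) y := by
  by_cases hy : y ∈ Cfsg.upperTriangularGL 2 F
  · rw [extendByZero_apply_mem _ _ _ hy, extendByZero_apply_mem _ _ _ hy]
    have h10 : y 1 0 = 0 := (mem_upper_iff y).1 hy
    show (γ * α) (y 0 0) * (γ * β) (y 1 1) =
      γ ((y : Matrix (Fin 2) (Fin 2) F).det) * (α (y 0 0) * β (y 1 1))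
    rw [det_eq, h10, mul_zero, sub_zero, map_mul, MulChar.mul_apply, MulChar.mul_apply]
    ring
  · rw [extendByZero_apply_not_mem _ _ _ hy, extendByZero_apply_not_mem _ _ _ hy, mul_zero]

theorem detFun_conj (γ : MulChar F ℂ) (x g : GL2 F) : detFun γ (x⁻¹ * g * x) = detFun γ g := by
  have h := isClassFunction_of_isIrrCharacter (isIrrCharacter_detFun γ) g x⁻¹
  rwa [inv_inv] at h

/-- `(γ ∘ det) · Ind(α, β) = Ind(γα, γβ)` -/
theorem indFun_twist (γ α β : MulChar F ℂ) (g : GL2 F) :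
    indFun (Cfsg.upperTriangularGL 2 F) (psFun (γ * α) (γ * β)) g =
      detFun γ g * indFun (Cfsg.upperTriangularGL 2 F) (psFun α β) g := by
  unfold indFun
  have h1 : ∀ x : GL2 F, extendByZero (Cfsg.upperTriangularGL 2 F) (psFun (γ * α) (γ * β))
      (x⁻¹ * g * x) = detFun γ g *
        extendByZero (Cfsg.upperTriangularGL 2 F) (psFun α β) (x⁻¹ * g * x) := by
    intro x
    rw [ext_twist, detFun_conj]
  rw [Finset.sum_congr rfl (fun x _ => h1 x), ← Finset.mul_sum]
  ring

theorem isIrrCharacter_twist (γ : MulChar F ℂ) {Θ : GL2 F → ℂ}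
    (hΘ : IsIrrCharacter (GL2 F) Θ) : IsIrrCharacter (GL2 F) (fun g => detFun γ g * Θ g) := by
  have h := Cfsg.Agent.S0857.isIrr_twist ((detHom γ).toHomUnits) Θ hΘ
  have h2 : (fun k => (((detHom γ).toHomUnits k : ℂˣ) : ℂ) * Θ k) =
      fun g => detFun γ g * Θ g := by
    funext g
    rw [MonoidHom.coe_toHomUnits, detFun_eq_detHom]
  rwa [h2] at h

end finite

end Cfsg.Agent.Lib.Helper26.PS
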