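import Cfsg.Agent.Lib.Helper13.Glauberman

/-!
# Glauberman's lemma for conjugacy classes (helper26)

`exists_fixed_of_invariant_class`: if `x` has order coprime to the normal subgroup `K` and maps a
conjugacy class `C` of `K` to itself, then `x` centralises some element of `C`.
-/

namespace Cfsg.Agent.Lib.Helper26

theorem exists_fixed_of_invariant_class {L : Type*} [Group L] [Finite L] (K : Subgroup L)
    [hK : K.Normal] (x : L) (hx : Nat.Coprime (orderOf x) (Nat.card K)) (C : ConjClasses K)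
    (hCinv : ConjClasses.map (MulEquiv.toMonoidHom ((MulAut.conjNormal x : MulAut K))) C = C) :
    ∃ s : L, ∃ h : s ∈ K, ConjClasses.mk (⟨s, h⟩ : K) = C ∧ x * s * x⁻¹ = s := by
  classical
  obtain ⟨A, hA⟩ : ∃ A : Subgroup L, A = Subgroup.zpowers x := ⟨_, rfl⟩
  have hxA : x ∈ A := by rw [hA]; exact Subgroup.mem_zpowers x
  have hAK : A ≤ Subgroup.normalizer (K : Set L) := by
    rw [Subgroup.normalizer_eq_top]; exact le_top
  have hcop : (Nat.card A).Coprime (Nat.card K) := by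
    rw [hA, Nat.card_zpowers]; exact hx
  have hsolv : Group.IsSolvable A := by
    rw [hA]
    apply Group.isSolvable_of_comm
    rintro ⟨a, ha⟩ ⟨b, hb⟩
    obtain ⟨m, rfl⟩ := Subgroup.mem_zpowers_iff.mp ha
    obtain ⟨n, rfl⟩ := Subgroup.mem_zpowers_iff.mp hb
    apply Subtype.ext
    show x ^ m * x ^ n = x ^ n * x ^ m
    rw [← zpow_add, ← zpow_add, add_comm]
  obtain ⟨S, hSdef⟩ : ∃ S : Set L,
      S = {l : L | ∃ h : l ∈ K, ConjClasses.mk (⟨l, h⟩ : K) = C} := ⟨_, rfl⟩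
  have hS : S.Nonempty := by
    obtain ⟨k, hk⟩ := ConjClasses.mk_surjective C
    exact ⟨(k : L), by rw [hSdef]; exact ⟨k.2, hk⟩⟩
  have htrans : ∀ a ∈ S, ∀ b ∈ S, ∃ k ∈ K, k * a * k⁻¹ = b := by
    intro a ha b hb
    rw [hSdef] at ha hb
    obtain ⟨ha1, ha2⟩ := ha
    obtain ⟨hb1, hb2⟩ := hb
    have hconj : IsConj (⟨a, ha1⟩ : K) ⟨b, hb1⟩ :=
      ConjClasses.mk_eq_mk_iff_isConj.mp (ha2.trans hb2.symm)
    obtain ⟨c, hc⟩ := isConj_iff.mp hconj
    refine ⟨(c : L), c.2, ?_⟩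
    have h2 := congrArg Subtype.val hc
    simpa using h2
  have hKS : ∀ k ∈ K, ∀ a ∈ S, k * a * k⁻¹ ∈ S := by
    intro k hk a ha
    rw [hSdef] at ha ⊢
    obtain ⟨ha1, ha2⟩ := ha
    refine ⟨K.mul_mem (K.mul_mem hk ha1) (K.inv_mem hk), ?_⟩
    rw [← ha2]
    apply ConjClasses.mk_eq_mk_iff_isConj.mpr
    apply isConj_iff.mpr
    refine ⟨(⟨k, hk⟩ : K)⁻¹, ?_⟩
    apply Subtype.ext
    simp [mul_assoc]
  have hxS : ∀ a ∈ S, x * a * x⁻¹ ∈ S := by
    intro a ha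
    rw [hSdef] at ha ⊢
    obtain ⟨ha1, ha2⟩ := ha
    refine ⟨hK.conj_mem a ha1 x, ?_⟩
    have h1 : ConjClasses.map (MulEquiv.toMonoidHom ((MulAut.conjNormal x : MulAut K)))
        (ConjClasses.mk (⟨a, ha1⟩ : K)) =
        ConjClasses.mk (⟨x * a * x⁻¹, hK.conj_mem a ha1 x⟩ : K) := by
      show ConjClasses.mk _ = ConjClasses.mk _
      exact congrArg ConjClasses.mk (Subtype.ext (by simp [MulAut.conjNormal_apply]))
    rw [← h1, ha2, hCinv]
  have hAS : ∀ a' ∈ A, ∀ a ∈ S, a' * a * a'⁻¹ ∈ S := by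
    intro a' ha' a ha
    rw [hA, ← mem_powers_iff_mem_zpowers] at ha'
    obtain ⟨n, rfl⟩ := (Submonoid.mem_powers_iff _ _).mp ha'
    clear ha'
    induction n generalizing a with
    | zero => simpa using ha
    | succ n ih =>
      have h3 : x ^ (n + 1) * a * (x ^ (n + 1))⁻¹ = x ^ n * (x * a * x⁻¹) * (x ^ n)⁻¹ := by
        rw [pow_succ]; group
      rw [h3]
      exact ih _ (hxS a ha)
  obtain ⟨s, hsS, hsfix⟩ := @Cfsg.Agent.Lib.Helper13.glauberman_exists L _ _ L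
    (MulAction.compHom L (MulAut.conj (G := L))) A K hAK hcop (Or.inl hsolv) S hS htrans hKS hAS
  rw [hSdef] at hsS
  obtain ⟨hsK, hsC⟩ := hsS
  exact ⟨s, hsK, hsC, hsfix x hxA⟩

end Cfsg.Agent.Lib.Helper26
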