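import Mathlib
import Cfsg.Prelude.Def_Characters
import Cfsg.Agent.Lib.Helper26.CharBasic
import Cfsg.Agent.Lib.Helper4.Decomp
import Cfsg.Agent.Lib.Helper4.FaithfulIrr

/-!
# Multiplicity-free representations and commutativity of the centralizer algebra (helper26)

* `span_irreducible_ranges_eq_top`: a finite-dimensional complex representation of a finite group is
  spanned by the images of intertwiners from irreducible representations on coordinate spaces.
* `commute_of_multFree`: if every irreducible occurs with multiplicity at most one, equivariant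
  endomorphisms commute.
* `exists_not_commute_of_two_le`: if some irreducible occurs with multiplicity at least two, there
  are two non-commuting equivariant endomorphisms.
-/

set_option autoImplicit false

namespace Cfsg.Agent.Lib.Helper26
open Cfsg

section
variable {G : Type*} [Group G] [Fintype G]
variable {V : Type*} [AddCommGroup V] [Module ℂ V] [FiniteDimensional ℂ V]

/-- the set of vectors in the image of an intertwiner from an irreducible representation -/
def irrRangeSet (ρ : Representation ℂ G V) : Set V :=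
  {v | ∃ (n : ℕ) (τ : Representation ℂ G (Fin n → ℂ)), τ.IsIrreducible ∧
    ∃ i : Representation.IntertwiningMap τ ρ, v ∈ Set.range i}

theorem span_irreducible_ranges_eq_top (ρ : Representation ℂ G V) :
    Submodule.span ℂ (irrRangeSet ρ) = ⊤ := by
  classical
  have hneZ : NeZero (Nat.card G : ℂ) := ⟨Nat.cast_ne_zero.mpr Nat.card_pos.ne'⟩
  let U : Subrepresentation ρ :=
    { toSubmodule := Submodule.span ℂ (irrRangeSet ρ)
      apply_mem_toSubmodule := by
        intro g v hv
        induction hv using Submodule.span_induction with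
        | mem x hx =>
          obtain ⟨n, τ, hτ, i, t, rfl⟩ := hx
          apply Submodule.subset_span
          exact ⟨n, τ, hτ, i, τ g t, Representation.IntertwiningMap.isIntertwining τ ρ i g t⟩
        | zero => rw [map_zero]; exact Submodule.zero_mem _
        | add x y _ _ hx hy => rw [map_add]; exact Submodule.add_mem _ hx hy
        | smul c x _ hx => rw [map_smul]; exact Submodule.smul_mem _ c hx }
  obtain ⟨C, hC⟩ := exists_isCompl U
  have hdisj : U.toSubmodule ⊓ C.toSubmodule = ⊥ :=
    congrArg Subrepresentation.toSubmodule hC.inf_eq_bot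
  have hsup : U.toSubmodule ⊔ C.toSubmodule = ⊤ :=
    congrArg Subrepresentation.toSubmodule hC.sup_eq_top
  have hCzero : ∀ c ∈ C.toSubmodule, c = 0 := by
    by_contra hcon
    push_neg at hcon
    obtain ⟨c, hc, hc0⟩ := hcon
    have hfin : Module.finrank ℂ ↥C.toSubmodule ≠ 0 := by
      have h1 : 0 < Module.finrank ℂ ↥C.toSubmodule :=
        Module.finrank_pos_iff_exists_ne_zero.mpr ⟨⟨c, hc⟩, fun h => hc0 (congrArg Subtype.val h)⟩
      exact h1.ne'
    obtain ⟨n, τ, hτ, hne⟩ :=
      Cfsg.Agent.Lib.Helper4.exists_irreducible_injective C.toRepresentation hfin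
    obtain ⟨f, hf⟩ :=
      Cfsg.Agent.Lib.Helper4.exists_injective_of_classInner_ne_zero τ C.toRepresentation hτ hne
    let i : Representation.IntertwiningMap τ ρ :=
      (C.toSubmodule.subtype ∘ₗ f.toLinearMap).intertwiningMap_of_isIntertwiningMap τ ρ (by
        intro g t
        show ((f (τ g t) : ↥C.toSubmodule) : V) = ρ g ((f t : ↥C.toSubmodule) : V)
        rw [Representation.IntertwiningMap.isIntertwining τ C.toRepresentation f g t]
        rfl)
    have hnt := Cfsg.Agent.Lib.Helper4.nontrivial_of_irreducible τ hτ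
    obtain ⟨t₀, ht₀⟩ := exists_ne (0 : Fin n → ℂ)
    have hiv : i t₀ = ((f t₀ : ↥C.toSubmodule) : V) := rfl
    have hmemU : i t₀ ∈ U.toSubmodule :=
      Submodule.subset_span ⟨n, τ, hτ, i, t₀, rfl⟩
    have hmemC : i t₀ ∈ C.toSubmodule := by
      rw [hiv]
      exact (f t₀).2
    have hz : i t₀ ∈ U.toSubmodule ⊓ C.toSubmodule := ⟨hmemU, hmemC⟩
    rw [hdisj, Submodule.mem_bot, hiv] at hz
    have hz2 : f t₀ = 0 := Subtype.ext hz
    apply ht₀
    apply hf
    rw [hz2, map_zero]
  have hCbot : C.toSubmodule = ⊥ := by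
    rw [Submodule.eq_bot_iff]
    exact hCzero
  rw [hCbot, sup_bot_eq] at hsup
  exact hsup

/-- multiplicity-free implies commutative centralizer algebra -/
theorem commute_of_multFree (ρ : Representation ℂ G V)
    (hmf : ∀ (n : ℕ) (τ : Representation ℂ G (Fin n → ℂ)), τ.IsIrreducible →
      Module.finrank ℂ (Representation.IntertwiningMap τ ρ) ≤ 1)
    (S T : V →ₗ[ℂ] V) (hS : ∀ g v, S (ρ g v) = ρ g (S v)) (hT : ∀ g v, T (ρ g v) = ρ g (T v)) :
    S ∘ₗ T = T ∘ₗ S := by
  classical
  let S' : Representation.IntertwiningMap ρ ρ := S.intertwiningMap_of_isIntertwiningMap ρ ρ hS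
  let T' : Representation.IntertwiningMap ρ ρ := T.intertwiningMap_of_isIntertwiningMap ρ ρ hT
  have key : ∀ v ∈ Submodule.span ℂ (irrRangeSet ρ), S (T v) = T (S v) := by
    intro v hv
    induction hv using Submodule.span_induction with
    | mem x hx =>
      obtain ⟨n, τ, hτ, i, t, rfl⟩ := hx
      obtain ⟨v₀, hv₀⟩ := (finrank_le_one_iff (K := ℂ)
        (V := Representation.IntertwiningMap τ ρ)).mp (hmf n τ hτ)
      obtain ⟨a, ha⟩ := hv₀ i
      obtain ⟨s, hs⟩ := hv₀ (S'.comp v₀)
      obtain ⟨r, hr⟩ := hv₀ (T'.comp v₀)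
      have h1 : S'.comp (T'.comp i) = T'.comp (S'.comp i) := by
        rw [← ha, Representation.IntertwiningMap.comp_smul,
          Representation.IntertwiningMap.comp_smul, Representation.IntertwiningMap.comp_smul,
          Representation.IntertwiningMap.comp_smul, ← hs, ← hr,
          Representation.IntertwiningMap.comp_smul, Representation.IntertwiningMap.comp_smul,
          ← hs, ← hr, smul_comm s r]
      have h2 := DFunLike.congr_fun h1 t
      exact h2
    | zero => rw [map_zero, map_zero, map_zero]
    | add x y _ _ hx hy => rw [map_add, map_add, map_add, map_add, hx, hy]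
    | smul c x _ hx => rw [map_smul, map_smul, map_smul, map_smul, hx]
  apply LinearMap.ext
  intro v
  have hv : v ∈ Submodule.span ℂ (irrRangeSet ρ) := by
    rw [span_irreducible_ranges_eq_top]
    exact Submodule.mem_top
  exact key v hv

/-- multiplicity at least two gives non-commuting equivariant endomorphisms -/
theorem exists_not_commute_of_two_le (ρ : Representation ℂ G V)
    {n : ℕ} (τ : Representation ℂ G (Fin n → ℂ)) (hτ : τ.IsIrreducible)
    (h2 : 2 ≤ Module.finrank ℂ (Representation.IntertwiningMap τ ρ)) :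
    ∃ S T : V →ₗ[ℂ] V, (∀ g v, S (ρ g v) = ρ g (S v)) ∧ (∀ g v, T (ρ g v) = ρ g (T v)) ∧
      S ∘ₗ T ≠ T ∘ₗ S := by
  classical
  have hne : Cfsg.classInner ρ.character τ.character ≠ 0 := by
    rw [Cfsg.Agent.Lib.Helper4.classInner_eq_finrank_intertwining]
    have h3 : Module.finrank ℂ (Representation.IntertwiningMap τ ρ) ≠ 0 := by omega
    exact_mod_cast h3
  obtain ⟨f, hf⟩ :=
    Cfsg.Agent.Lib.Helper4.exists_injective_of_classInner_ne_zero τ ρ hτ hne
  obtain ⟨C, ⟨e⟩⟩ := Cfsg.Agent.Lib.Helper4.exists_equiv_prod_of_injective τ ρ f hf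
  let f₁ : Representation.IntertwiningMap τ ρ :=
    e.toIntertwiningMap.comp (Representation.IntertwiningMap.inl ℂ τ C.toRepresentation)
  let p₁ : Representation.IntertwiningMap ρ τ :=
    (Representation.IntertwiningMap.fst ℂ τ C.toRepresentation).comp e.symm.toIntertwiningMap
  have hpf : ∀ t, p₁ (f₁ t) = t := by
    intro t
    show (e.symm (e ((t, 0) : (Fin n → ℂ) × ↥C.toSubmodule))).1 = t
    rw [Representation.Equiv.symm_apply_apply]
  have hex : ∃ f₂ : Representation.IntertwiningMap τ ρ, ∀ c : ℂ, c • f₁ ≠ f₂ := by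
    by_contra hcon
    push_neg at hcon
    have h3 : Module.finrank ℂ (Representation.IntertwiningMap τ ρ) ≤ 1 :=
      (finrank_le_one_iff (K := ℂ) (V := Representation.IntertwiningMap τ ρ)).mpr ⟨f₁, hcon⟩
    omega
  obtain ⟨f₂, hf₂⟩ := hex
  let S : Representation.IntertwiningMap ρ ρ := f₁.comp p₁
  let T : Representation.IntertwiningMap ρ ρ := f₂.comp p₁
  refine ⟨S.toLinearMap, T.toLinearMap,
    fun g v => Representation.IntertwiningMap.isIntertwining ρ ρ S g v,
    fun g v => Representation.IntertwiningMap.isIntertwining ρ ρ T g v, ?_⟩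
  intro hST
  obtain ⟨c, hc⟩ := Cfsg.Agent.Lib.Helper4.exists_scalar_of_commute τ hτ
    (p₁.comp f₂).toLinearMap
    (fun g v => Representation.IntertwiningMap.isIntertwining τ τ (p₁.comp f₂) g v)
  have hc' : ∀ t, p₁ (f₂ t) = c • t := by
    intro t
    have h3 := LinearMap.congr_fun hc t
    exact h3
  apply hf₂ c
  apply Representation.IntertwiningMap.ext
  apply LinearMap.ext
  intro t
  have h3 := LinearMap.congr_fun hST (f₁ t)
  have h4 : S (T (f₁ t)) = T (S (f₁ t)) := h3
  have h5 : S (T (f₁ t)) = f₁ (p₁ (f₂ (p₁ (f₁ t)))) := rfl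
  have h6 : T (S (f₁ t)) = f₂ (p₁ (f₁ (p₁ (f₁ t)))) := rfl
  rw [h5, h6, hpf, hpf, hc', map_smul] at h4
  exact h4

/-- membership in the invariants of `linHom` is equivariance -/
theorem mem_invariants_linHom_iff (ρ : Representation ℂ G V) (S : V →ₗ[ℂ] V) :
    S ∈ (ρ.linHom ρ).invariants ↔ ∀ g v, S (ρ g v) = ρ g (S v) := by
  rw [Representation.mem_invariants]
  constructor
  · intro h g v
    have h1 := LinearMap.congr_fun (h g) (ρ g v)
    rw [Representation.linHom_apply] at h1
    simp only [LinearMap.comp_apply] at h1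
    have h2 : ρ g⁻¹ (ρ g v) = v := by
      rw [← Module.End.mul_apply, ← map_mul, inv_mul_cancel, map_one, Module.End.one_apply]
    rw [h2] at h1
    exact h1.symm
  · intro h g
    apply LinearMap.ext
    intro w
    rw [Representation.linHom_apply]
    simp only [LinearMap.comp_apply]
    rw [h g⁻¹ w]
    rw [← Module.End.mul_apply, ← map_mul, mul_inv_cancel, map_one, Module.End.one_apply]

/-- multiplicity-free iff the centralizer algebra is commutative -/
theorem multFree_iff_commute (ρ : Representation ℂ G V) :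
    (∀ χ : G → ℂ, Cfsg.IsIrrCharacter G χ →
      Cfsg.classInner ρ.character χ = 0 ∨ Cfsg.classInner ρ.character χ = 1) ↔
    ∀ S T : V →ₗ[ℂ] V, S ∈ (ρ.linHom ρ).invariants → T ∈ (ρ.linHom ρ).invariants →
      S ∘ₗ T = T ∘ₗ S := by
  constructor
  · intro h S T hS hT
    rw [mem_invariants_linHom_iff] at hS hT
    apply commute_of_multFree ρ _ S T hS hT
    intro n τ hτ
    have h1 := h τ.character ⟨n, τ, hτ, rfl⟩
    rw [Cfsg.Agent.Lib.Helper4.classInner_eq_finrank_intertwining] at h1
    rcases h1 with h1 | h1
    · have h2 : Module.finrank ℂ (Representation.IntertwiningMap τ ρ) = 0 := by exact_mod_cast h1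
      omega
    · have h2 : Module.finrank ℂ (Representation.IntertwiningMap τ ρ) = 1 := by exact_mod_cast h1
      omega
  · intro h χ hχ
    obtain ⟨n, τ, hτ, rfl⟩ := hχ
    rw [Cfsg.Agent.Lib.Helper4.classInner_eq_finrank_intertwining]
    by_contra hcon
    push_neg at hcon
    have h2 : 2 ≤ Module.finrank ℂ (Representation.IntertwiningMap τ ρ) := by
      by_contra h3
      have h4 : Module.finrank ℂ (Representation.IntertwiningMap τ ρ) = 0 ∨
          Module.finrank ℂ (Representation.IntertwiningMap τ ρ) = 1 := by omega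
      rcases h4 with h4 | h4
      · apply hcon.1
        rw [h4]
        simp
      · apply hcon.2
        rw [h4]
        simp
    obtain ⟨S, T, hS, hT, hST⟩ := exists_not_commute_of_two_le ρ τ hτ h2
    apply hST
    exact h S T ((mem_invariants_linHom_iff ρ S).mpr hS) ((mem_invariants_linHom_iff ρ T).mpr hT)

end

end Cfsg.Agent.Lib.Helper26
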