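import Mathlib
import Cfsg.Prelude.Def_Characters
import Cfsg.Agent.Lib.Helper26.CharBasic
import Cfsg.Agent.Lib.Helper26.CharInt
import Cfsg.Agent.Lib.Helper26.IndChar
import Cfsg.Agent.Lib.Helper26.LinCharOrtho
import Cfsg.Agent.Lib.Helper26.PrimeActChar

/-!
# A sum of `k` non-zero characters of norm `k` is multiplicity free (helper26)
-/

set_option autoImplicit false

namespace Cfsg.Agent.Lib.Helper26
open Cfsg
open scoped ComplexConjugate

section
variable {G : Type*} [Group G] [Fintype G]

theorem classInner_self_ne_zero {φ : G → ℂ} (h1 : φ 1 ≠ 0) : classInner φ φ ≠ 0 := by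
  intro h0
  unfold classInner at h0
  have hne : (Nat.card G : ℂ) ≠ 0 := Nat.cast_ne_zero.2 Nat.card_pos.ne'
  rcases mul_eq_zero.1 h0 with h | h
  · exact hne (inv_eq_zero.1 h)
  · have h2 : ∀ g : G, φ g * conj (φ g) = ((Complex.normSq (φ g) : ℝ) : ℂ) :=
      fun g => Complex.mul_conj _
    rw [Finset.sum_congr rfl (fun g _ => h2 g), ← Complex.ofReal_sum, Complex.ofReal_eq_zero] at h
    have h3 := (Finset.sum_eq_zero_iff_of_nonneg
      (fun g _ => Complex.normSq_nonneg (φ g))).1 h 1 (Finset.mem_univ _)
    exact h1 (Complex.normSq_eq_zero.1 h3)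

theorem character_degree_nat {χ : G → ℂ} (h : IsCharacter G χ) : ∃ d : ℕ, χ 1 = d := by
  obtain ⟨n, ρ, rfl⟩ := h
  exact ⟨n, by rw [Representation.char_one, Module.finrank_fin_fun]⟩

/-- characters `φ j`, all non-zero, whose sum has norm the number of summands, are orthonormal -/
theorem orthonormal_of_norm_sum {J : Type*} [Fintype J] [DecidableEq J] (φ : J → G → ℂ)
    (hφ : ∀ j, IsCharacter G (φ j)) (h1 : ∀ j, φ j 1 ≠ 0)
    (hnorm : classInner (∑ j, φ j) (∑ j, φ j) = (Fintype.card J : ℂ)) :
    ∀ j k, classInner (φ j) (φ k) = if j = k then 1 else 0 := by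
  classical
  choose N hN using fun j k => classInner_isCharacter_nat (hφ j) (hφ k)
  have hsum : ∑ j, ∑ k, N j k = Fintype.card J := by
    have h : ((∑ j, ∑ k, N j k : ℕ) : ℂ) = (Fintype.card J : ℂ) := by
      rw [← hnorm, classInner_sum_left]
      push_cast
      apply Finset.sum_congr rfl
      intro j _
      rw [classInner_sum_right]
      apply Finset.sum_congr rfl
      intro k _
      exact (hN j k).symm
    exact_mod_cast h
  have hdiag : ∀ j, 1 ≤ N j j := by
    intro j
    have h := classInner_self_ne_zero (h1 j)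
    rw [hN] at h
    have h' : N j j ≠ 0 := by exact_mod_cast h
    omega
  have hrow : ∀ j, 1 ≤ ∑ k, N j k := fun j =>
    le_trans (hdiag j) (Finset.single_le_sum (f := fun k => N j k)
      (fun _ _ => Nat.zero_le _) (Finset.mem_univ j))
  have hrow1 : ∀ j, ∑ k, N j k = 1 := by
    by_contra hcon
    obtain ⟨j₀, hj₀⟩ := not_forall.1 hcon
    have hlt : ∑ _j : J, 1 < ∑ j, ∑ k, N j k :=
      Finset.sum_lt_sum (fun j _ => hrow j)
        ⟨j₀, Finset.mem_univ _, lt_of_le_of_ne (hrow j₀) (Ne.symm hj₀)⟩
    rw [hsum] at hlt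
    simp at hlt
  intro j k
  rw [hN]
  have hsplit := Finset.add_sum_erase Finset.univ (fun k => N j k) (Finset.mem_univ j)
  rw [hrow1 j] at hsplit
  have hd := hdiag j
  by_cases hjk : j = k
  · rw [if_pos hjk, ← hjk]
    have h : N j j = 1 := by
      have : N j j ≤ 1 := by
        have h5 : N j j + ∑ x ∈ Finset.univ.erase j, N j x = 1 := hsplit
        omega
      omega
    rw [h]
    norm_num
  · rw [if_neg hjk]
    have h0 : ∑ x ∈ Finset.univ.erase j, N j x = 0 := by
      have h5 : N j j + ∑ x ∈ Finset.univ.erase j, N j x = 1 := hsplit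
      omega
    have h6 := Finset.sum_eq_zero_iff.1 h0 k
      (Finset.mem_erase.2 ⟨fun h => hjk h.symm, Finset.mem_univ _⟩)
    rw [h6]
    norm_num

/-- a sum of characters `P i`, one of which contains the principal character, of norm
`card ι + 1`: removing the principal character gives pairwise distinct irreducible characters -/
theorem split_of_norm {ι : Type*} [Fintype ι] [DecidableEq ι] (P : ι → G → ℂ)
    (hP : ∀ i, IsCharacter G (P i)) (h1 : ∀ i, P i 1 ≠ 0) (i₀ : ι)
    (hi₀ : classInner (P i₀) (fun _ => (1 : ℂ)) = 1) (hdeg : P i₀ 1 ≠ 1)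
    (hnorm : classInner (∑ i, P i) (∑ i, P i) = (Fintype.card ι : ℂ) + 1) :
    (∀ i, IsIrrCharacter G (fun g => P i g - if i = i₀ then 1 else 0)) ∧
      Function.Injective (fun i => (fun g => P i g - if i = i₀ then 1 else 0 : G → ℂ)) := by
  classical
  have hone : IsIrrCharacter G (fun _ : G => (1 : ℂ)) := by
    rw [const_one_eq_linFun]
    exact isIrrCharacter_linFun 1
  -- the character `P i₀ - 1`
  have hρ : IsCharacter G (fun g => P i₀ g - 1) := by
    apply isCharacter_of_nat_coeff
    · intro g h
      show P i₀ (h * g * h⁻¹) - 1 = P i₀ g - 1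
      rw [isClassFunction_of_isCharacter (hP i₀) g h]
    · intro μ
      have h2 : (fun g => P i₀ g - 1) = P i₀ - (fun _ : G => (1 : ℂ)) := rfl
      rw [h2, classInner_sub_left]
      obtain ⟨m, hm⟩ := classInner_isCharacter_nat (hP i₀) (isCharacter_of_isIrrCharacter μ.2)
      by_cases hμ : (fun _ : G => (1 : ℂ)) = (μ : G → ℂ)
      · refine ⟨0, ?_⟩
        rw [← hμ, hi₀, classInner_irr hone hone, if_pos rfl]
        norm_num
      · refine ⟨m, ?_⟩
        rw [hm, classInner_irr hone μ.2, if_neg hμ, sub_zero]
  let φ : Option ι → G → ℂ := fun o =>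
    match o with
    | none => fun _ => 1
    | some i => fun g => P i g - if i = i₀ then 1 else 0
  have hφ : ∀ j, IsCharacter G (φ j) := by
    intro j
    cases j with
    | none => exact isCharacter_of_isIrrCharacter hone
    | some i =>
      show IsCharacter G (fun g => P i g - if i = i₀ then 1 else 0)
      by_cases hi : i = i₀
      · subst hi
        simp only [if_true]
        exact hρ
      · simp only [if_neg hi, sub_zero]
        exact hP i
  have hφ1 : ∀ j, φ j 1 ≠ 0 := by
    intro j
    cases j with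
    | none => exact one_ne_zero
    | some i =>
      show P i 1 - (if i = i₀ then 1 else 0) ≠ 0
      by_cases hi : i = i₀
      · subst hi
        rw [if_pos rfl]
        exact sub_ne_zero.2 hdeg
      · rw [if_neg hi, sub_zero]
        exact h1 i
  have hsumφ : ∑ j, φ j = ∑ i, P i := by
    funext g
    rw [Fintype.sum_option, Pi.add_apply, Finset.sum_apply, Finset.sum_apply]
    show (1 : ℂ) + ∑ i, (P i g - if i = i₀ then 1 else 0) = _
    rw [Finset.sum_sub_distrib, Finset.sum_ite_eq' Finset.univ i₀, if_pos (Finset.mem_univ _)]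
    ring
  have hnormφ : classInner (∑ j, φ j) (∑ j, φ j) = (Fintype.card (Option ι) : ℂ) := by
    rw [hsumφ, hnorm, Fintype.card_option]
    push_cast
    ring
  have horth := orthonormal_of_norm_sum φ hφ hφ1 hnormφ
  constructor
  · intro i
    have h2 := horth (some i) (some i)
    rw [if_pos rfl] at h2
    obtain ⟨d, hd⟩ := character_degree_nat (hφ (some i))
    apply isIrrCharacter_of_norm_one (isGeneralizedCharacter_of_isCharacter (hφ (some i))) h2
    have h3 : φ (some i) 1 = (d : ℂ) := hd
    have h4 := hφ1 (some i)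
    show 0 < (φ (some i) 1).re
    rw [h3, Complex.natCast_re]
    have h5 : d ≠ 0 := by
      intro h0
      apply h4
      rw [h3, h0, Nat.cast_zero]
    exact_mod_cast Nat.pos_of_ne_zero h5
  · intro i k hik
    by_contra hne
    have h2 := horth (some i) (some k)
    rw [if_neg (fun h => hne (Option.some.inj h))] at h2
    have h3 := horth (some i) (some i)
    rw [if_pos rfl] at h3
    have h4 : φ (some i) = φ (some k) := hik
    rw [← h4, h3] at h2
    exact one_ne_zero h2

end

end Cfsg.Agent.Lib.Helper26
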