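import Mathlib

/-!
# A `p`-element normalizing a subgroup of order divisible by `p` centralizes a nontrivial element
(helper26)
-/

namespace Cfsg.Agent.Lib.Helper26

/-- Conjugation action of `zpowers x` on a subgroup `K` normalized by `x`. -/
def zpowersConjAction {G : Type*} [Group G] (K : Subgroup G) (x : G)
    (hx : x ∈ Subgroup.normalizer (K : Set G)) : MulAction (Subgroup.zpowers x) K where
  smul z k := ⟨(z : G) * k * (z : G)⁻¹,
    (Subgroup.mem_normalizer_iff.mp ((Subgroup.zpowers_le.mpr hx) z.2) k).mp k.2⟩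
  one_smul k := by
    apply Subtype.ext
    show ((1 : Subgroup.zpowers x) : G) * k * ((1 : Subgroup.zpowers x) : G)⁻¹ = k
    simp
  mul_smul a b k := by
    apply Subtype.ext
    show ((a * b : Subgroup.zpowers x) : G) * k * ((a * b : Subgroup.zpowers x) : G)⁻¹
      = (a : G) * ((b : G) * k * (b : G)⁻¹) * (a : G)⁻¹
    simp [mul_assoc]

/-- If a `p`-element `x` normalizes `K` and `p ∣ |K|`, then `x` commutes with some `y ≠ 1` in `K`. -/
theorem exists_ne_one_commute_of_normalizes {G : Type*} [Group G] [Finite G] (K : Subgroup G)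
    (x : G) (p : ℕ) [Fact p.Prime] (hx : x ∈ Subgroup.normalizer (K : Set G))
    (hxp : IsPGroup p (Subgroup.zpowers x)) (hp : p ∣ Nat.card K) :
    ∃ y ∈ K, y ≠ 1 ∧ x * y = y * x := by
  letI := zpowersConjAction K x hx
  have h1 : (1 : K) ∈ MulAction.fixedPoints (Subgroup.zpowers x) K := by
    intro z
    apply Subtype.ext
    show (z : G) * ((1 : K) : G) * (z : G)⁻¹ = ((1 : K) : G)
    simp
  obtain ⟨b, hb, hne⟩ := hxp.exists_fixed_point_of_prime_dvd_card_of_fixed_point K hp h1
  refine ⟨b, b.2, fun h => hne (Subtype.ext h.symm), ?_⟩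
  have h2 := hb ⟨x, Subgroup.mem_zpowers x⟩
  have h3 : x * (b : G) * x⁻¹ = b := congrArg Subtype.val h2
  calc x * (b : G) = x * b * x⁻¹ * x := by group
    _ = b * x := by rw [h3]

end Cfsg.Agent.Lib.Helper26
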