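import Mathlib
import Cfsg.Prelude.Def_Characters
import Cfsg.Prelude.Def_ParabolicCharacters
import Cfsg.Agent.Lib.Helper26.GL2Count
import Cfsg.Agent.Lib.Helper26.GL2Twist
import Cfsg.Agent.Lib.Helper26.CliffordHom
import Cfsg.Agent.Lib.Helper26.ResIrr
import Cfsg.Agent.Lib.Helper26.PrincipalRes
import Cfsg.Agent.Lib.Helper26.IndIrr
import Cfsg.Agent.Lib.Helper26.NormTwo
import Cfsg.Agent.Lib.Helper26.SL2Even

/-!
# Restriction of the irreducible characters of `GL₂(q)` to `SL₂(q)`, `q` odd (helper26)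

`⟨Θ|_S, Θ|_S⟩ = 1 + ⟨(sgn ∘ det) Θ, Θ⟩`: an irreducible character `Θ` of `GL₂(q)` restricts
irreducibly unless it is fixed by the twist with `sgn ∘ det`, in which case it restricts to the sum
of two distinct conjugate irreducible characters.
-/

set_option autoImplicit false

namespace Cfsg.Agent.Lib.Helper26.PSR
open Cfsg Cfsg.Agent.Lib.Helper26 Cfsg.Agent.Lib.Helper12
open scoped ComplexConjugate

local notation "GLt" => Matrix.GeneralLinearGroup (Fin 2)
local notation "SLt" => Matrix.SpecialLinearGroup (Fin 2)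

/-- the quadratic character with complex values -/
noncomputable def sgnC (F : Type*) [Field F] [Fintype F] [DecidableEq F] : MulChar F ℂ :=
  (quadraticChar F).ringHomComp (Int.castRingHom ℂ)

section finite
variable {F : Type*} [Field F] [Fintype F] [DecidableEq F]

theorem sgnC_apply (a : F) : sgnC F a = ((quadraticChar F a : ℤ) : ℂ) := by
  unfold sgnC
  rw [MulChar.ringHomComp_apply]
  rfl

theorem sgnC_of_isSquare {a : F} (ha : a ≠ 0) (h : IsSquare a) : sgnC F a = 1 := by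
  rw [sgnC_apply, (quadraticChar_one_iff_isSquare ha).2 h]
  norm_num

theorem sgnC_of_not_isSquare {a : F} (h : ¬ IsSquare a) : sgnC F a = -1 := by
  rw [sgnC_apply, quadraticChar_neg_one_iff_not_isSquare.2 h]
  norm_num

theorem char_ne_two (hodd : Odd (Fintype.card F)) : ringChar F ≠ 2 := by
  intro h
  have h1 := FiniteField.even_card_iff_char_two.1 h
  rcases hodd with ⟨k, hk⟩
  omega

theorem sgnC_ne_one (hodd : Odd (Fintype.card F)) : sgnC F ≠ 1 := by
  obtain ⟨a, ha⟩ := FiniteField.exists_nonsquare (char_ne_two hodd)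
  intro h
  have h1 := sgnC_of_not_isSquare ha
  have ha0 : a ≠ 0 := by
    rintro rfl
    exact ha ⟨0, by simp⟩
  rw [h, MulChar.one_apply (isUnit_iff_ne_zero.2 ha0)] at h1
  norm_num at h1

theorem sgnC_mul_self : sgnC F * sgnC F = 1 := by
  ext a
  rw [MulChar.mul_apply, MulChar.one_apply_coe]
  have ha : (a : F) ≠ 0 := a.ne_zero
  by_cases h : IsSquare (a : F)
  · rw [sgnC_of_isSquare ha h]
    norm_num
  · rw [sgnC_of_not_isSquare h]
    norm_num

theorem sum_sgnC (hodd : Odd (Fintype.card F)) : ∑ t : Fˣ, sgnC F (t : F) = 0 := by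
  have h := PS.mulChar_ortho (sgnC F) 1
  rw [if_neg (sgnC_ne_one hodd)] at h
  rw [← h]
  apply Finset.sum_congr rfl
  intro t _
  rw [MulChar.one_apply_coe, map_one, mul_one]

/-- `diag(a, a⁻¹)` -/
noncomputable def hEl (a : Fˣ) : SLt F :=
  SL2.mk (a : F) 0 0 ((a : F)⁻¹) (by rw [mul_zero, sub_zero, mul_inv_cancel₀ a.ne_zero])

theorem diag_sq (a : Fˣ) : SL2.diagUnit2 (a * a) =
    PS.zEl a * (Matrix.SpecialLinearGroup.toGL (hEl a) : GLt F) := by
  apply GL2.ext4
  · rw [GL2.mul_apply']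
    show ((a * a : Fˣ) : F) = (a : F) * (a : F) + 0 * 0
    push_cast
    ring
  · rw [GL2.mul_apply']
    show (0 : F) = (a : F) * 0 + 0 * (a : F)⁻¹
    ring
  · rw [GL2.mul_apply']
    show (0 : F) = 0 * (a : F) + (a : F) * 0
    ring
  · rw [GL2.mul_apply']
    show (1 : F) = 0 * 0 + (a : F) * (a : F)⁻¹
    rw [mul_inv_cancel₀ a.ne_zero]
    ring

/-- the norm of the restriction to `SL₂(q)` -/
theorem res_norm_odd (hodd : Odd (Fintype.card F)) {Θ : GLt F → ℂ}
    (hΘ : IsIrrCharacter (GLt F) Θ) :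
    classInner (Θ ∘ (Matrix.SpecialLinearGroup.toGL : SLt F →* GLt F))
      (Θ ∘ (Matrix.SpecialLinearGroup.toGL : SLt F →* GLt F)) =
      1 + classInner (fun g => PS.detFun (sgnC F) g * Θ g) Θ := by
  obtain ⟨f, hf⟩ : ∃ f : GLt F → ℂ, f = fun g => Θ g * conj (Θ g) := ⟨_, rfl⟩
  have hfz : ∀ (a : Fˣ) (x : GLt F), f (PS.zEl a * x) = f x := by
    intro a x
    rw [hf]
    simp only
    rw [Complex.mul_conj, Complex.mul_conj, Complex.normSq_eq_norm_sq,
      Complex.normSq_eq_norm_sq, PS.norm_char_center_mul hΘ _ (PS.zEl_mem_center a)]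
  obtain ⟨T, hT⟩ : ∃ T : ℂ, T = ∑ s : SLt F, f (Matrix.SpecialLinearGroup.toGL s) := ⟨_, rfl⟩
  have hinner : ∀ t : Fˣ, (1 + sgnC F (t : F)) *
      ∑ s : SLt F, f ((Matrix.SpecialLinearGroup.toGL s : GLt F) * SL2.diagUnit2 t) =
      (1 + sgnC F (t : F)) * T := by
    intro t
    by_cases ht : IsSquare (t : F)
    · obtain ⟨r, hr⟩ := ht
      have hr0 : r ≠ 0 := by
        rintro rfl
        rw [mul_zero] at hr
        exact t.ne_zero hr
      have hta : t = Units.mk0 r hr0 * Units.mk0 r hr0 := by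
        apply Units.ext
        rw [Units.val_mul, Units.val_mk0]
        exact hr
      congr 1
      rw [hta, diag_sq, hT]
      have h1 : ∀ s : SLt F, f ((Matrix.SpecialLinearGroup.toGL s : GLt F) *
          (PS.zEl (Units.mk0 r hr0) *
            (Matrix.SpecialLinearGroup.toGL (hEl (Units.mk0 r hr0)) : GLt F))) =
          f (Matrix.SpecialLinearGroup.toGL (s * hEl (Units.mk0 r hr0))) := by
        intro s
        rw [← mul_assoc, (Subgroup.mem_center_iff.1 (PS.zEl_mem_center (Units.mk0 r hr0)))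
          (Matrix.SpecialLinearGroup.toGL s), mul_assoc, hfz, map_mul]
      rw [Finset.sum_congr rfl (fun s _ => h1 s)]
      exact Fintype.sum_equiv (Equiv.mulRight (hEl (Units.mk0 r hr0))) _ _ (fun s => rfl)
    · rw [sgnC_of_not_isSquare ht]
      norm_num
  have h1 := classInner_irr hΘ hΘ
  rw [if_pos rfl] at h1
  unfold classInner at h1 ⊢
  simp only [Function.comp_apply]
  have hW : ∑ g : GLt F, (1 + PS.detFun (sgnC F) g) * f g = (Fintype.card Fˣ : ℂ) * T := by
    rw [← Equiv.sum_comp (eSLU (F := F)), Fintype.sum_prod_type, Finset.sum_comm]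
    have h2 : ∀ (t : Fˣ) (s : SLt F),
        (1 + PS.detFun (sgnC F) (eSLU (s, t))) * f (eSLU (s, t)) =
        (1 + sgnC F (t : F)) * f ((Matrix.SpecialLinearGroup.toGL s : GLt F) *
          SL2.diagUnit2 t) := by
      intro t s
      rw [eSLU_apply]
      simp only
      congr 2
      show sgnC F (((Matrix.SpecialLinearGroup.toGL s : GLt F) * SL2.diagUnit2 t : GLt F) :
        Matrix (Fin 2) (Fin 2) F).det = sgnC F (t : F)
      congr 1
      have h3 := congrArg Units.val (show Matrix.GeneralLinearGroup.det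
        ((Matrix.SpecialLinearGroup.toGL s : GLt F) * SL2.diagUnit2 t) = t from by
        rw [map_mul, SL2.det_diagUnit2, (mem_range_iff _).1 ⟨s, rfl⟩, one_mul])
      exact h3
    simp only [h2]
    simp only [← Finset.mul_sum, hinner]
    rw [← Finset.sum_mul, Finset.sum_add_distrib, sum_sgnC hodd]
    simp
  have hsplit : ∑ g : GLt F, (1 + PS.detFun (sgnC F) g) * f g =
      ∑ g : GLt F, Θ g * conj (Θ g) +
        ∑ g : GLt F, PS.detFun (sgnC F) g * Θ g * conj (Θ g) := by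
    rw [← Finset.sum_add_distrib]
    apply Finset.sum_congr rfl
    intro g _
    rw [hf]
    ring
  rw [hsplit] at hW
  have hG : (Nat.card (GLt F) : ℂ) = (Fintype.card Fˣ : ℂ) * (Nat.card (SLt F) : ℂ) := by
    rw [Nat.card_eq_fintype_card, Nat.card_eq_fintype_card, card_GL_eq]
    push_cast
    ring
  have hu : (Fintype.card Fˣ : ℂ) ≠ 0 := Nat.cast_ne_zero.2 Fintype.card_ne_zero
  have hS : (Nat.card (SLt F) : ℂ) ≠ 0 := Nat.cast_ne_zero.2 Nat.card_pos.ne'
  have hT' : ∑ s : SLt F, Θ (Matrix.SpecialLinearGroup.toGL s) *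
      conj (Θ (Matrix.SpecialLinearGroup.toGL s)) = T := by
    rw [hT, hf]
  rw [hT', hG]
  rw [hG] at h1
  generalize (∑ g : GLt F, Θ g * conj (Θ g)) = A at h1 hW
  generalize (∑ g : GLt F, PS.detFun (sgnC F) g * Θ g * conj (Θ g)) = B at hW ⊢
  have hA : (Fintype.card Fˣ : ℂ) * (Nat.card (SLt F) : ℂ) = A :=
    (inv_mul_eq_one₀ (mul_ne_zero hu hS)).1 h1
  have hTval : T = ((Fintype.card Fˣ : ℂ))⁻¹ * (A + B) := by
    rw [hW]
    field_simp
  rw [hTval, ← hA]
  field_simp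

/-- `Θ` is fixed by the twist with `sgn ∘ det` -/
def isII (Θ : GLt F → ℂ) : Prop := (fun g => PS.detFun (sgnC F) g * Θ g) = Θ

theorem twist_inner_of_isII {Θ : GLt F → ℂ} (hΘ : IsIrrCharacter (GLt F) Θ) (h : isII Θ) :
    classInner (fun g => PS.detFun (sgnC F) g * Θ g) Θ = 1 := by
  have h' : (fun g => PS.detFun (sgnC F) g * Θ g) = Θ := h
  rw [classInner_irr (PS.isIrrCharacter_twist (sgnC F) hΘ) hΘ, if_pos h']

theorem twist_inner_of_not_isII {Θ : GLt F → ℂ} (hΘ : IsIrrCharacter (GLt F) Θ)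
    (h : ¬ isII Θ) : classInner (fun g => PS.detFun (sgnC F) g * Θ g) Θ = 0 := by
  have h' : ¬ (fun g => PS.detFun (sgnC F) g * Θ g) = Θ := h
  rw [classInner_irr (PS.isIrrCharacter_twist (sgnC F) hΘ) hΘ, if_neg h']

theorem res_irr_of_not_isII (hodd : Odd (Fintype.card F)) {Θ : GLt F → ℂ}
    (hΘ : IsIrrCharacter (GLt F) Θ) (h : ¬ isII Θ) :
    IsIrrCharacter (SLt F) (Θ ∘ (Matrix.SpecialLinearGroup.toGL : SLt F →* GLt F)) := by
  apply isIrrCharacter_of_norm_one (isGeneralizedCharacter_of_isCharacter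
    (Cfsg.Agent.Lib.Helper2.isCharacter_comp_hom (isCharacter_of_isIrrCharacter hΘ) _))
  · rw [res_norm_odd hodd hΘ, twist_inner_of_not_isII hΘ h, add_zero]
  · obtain ⟨d, hd, hd1⟩ := irr_degree hΘ
    show 0 < (Θ ((Matrix.SpecialLinearGroup.toGL : SLt F →* GLt F) 1)).re
    rw [map_one, hd1, Complex.natCast_re]
    exact_mod_cast hd

theorem res_split_of_isII (hodd : Odd (Fintype.card F)) {Θ : GLt F → ℂ}
    (hΘ : IsIrrCharacter (GLt F) Θ) (h : isII Θ) :
    ∃ χ₁ χ₂ : SLt F → ℂ, IsIrrCharacter (SLt F) χ₁ ∧ IsIrrCharacter (SLt F) χ₂ ∧ χ₁ ≠ χ₂ ∧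
      Θ ∘ (Matrix.SpecialLinearGroup.toGL : SLt F →* GLt F) = χ₁ + χ₂ ∧ χ₁ 1 = χ₂ 1 := by
  have hchar : IsCharacter (SLt F) (Θ ∘ (Matrix.SpecialLinearGroup.toGL : SLt F →* GLt F)) :=
    Cfsg.Agent.Lib.Helper2.isCharacter_comp_hom (isCharacter_of_isIrrCharacter hΘ) _
  have hnorm : classInner (Θ ∘ (Matrix.SpecialLinearGroup.toGL : SLt F →* GLt F))
      (Θ ∘ (Matrix.SpecialLinearGroup.toGL : SLt F →* GLt F)) = 2 := by
    rw [res_norm_odd hodd hΘ, twist_inner_of_isII hΘ h]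
    norm_num
  obtain ⟨χ₁, χ₂, h₁, h₂, hne, hsum⟩ := char_norm_two hchar hnorm
  refine ⟨χ₁, χ₂, h₁, h₂, hne, hsum, ?_⟩
  obtain ⟨x, hx⟩ := exists_conj_of_restrict
    (Matrix.SpecialLinearGroup.toGL : SLt F →* GLt F) Matrix.SpecialLinearGroup.toGL_injective
    hΘ h₁ h₂ hne (fun s => congrFun hsum s)
  exact (hx 1 1 (by rw [map_one, mul_one, mul_inv_cancel])).symm

end finite

end Cfsg.Agent.Lib.Helper26.PSR
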