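import Mathlib
import Cfsg.Prelude.Def_Characters
import Cfsg.Prelude.Def_ParabolicCharacters
import Cfsg.Agent.Lib.Helper26.SL2Odd
import Cfsg.Agent.Lib.Helper26.ClassSum
import Cfsg.Agent.Lib.Helper26.GL2Classes

/-!
# Counting the irreducible characters of `SL₂(q)`, `q` odd (helper26)
-/

set_option autoImplicit false

namespace Cfsg.Agent.Lib.Helper26.PSR
open Cfsg Cfsg.Agent.Lib.Helper26 Cfsg.Agent.Lib.Helper12
open scoped ComplexConjugate

local notation "GLt" => Matrix.GeneralLinearGroup (Fin 2)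
local notation "SLt" => Matrix.SpecialLinearGroup (Fin 2)

section finite
variable {F : Type*} [Field F] [Fintype F] [DecidableEq F]

attribute [local instance] Cfsg.Agent.Lib.Helper26.PS.instFintypeMulCharAux
attribute [local instance] Cfsg.Agent.Lib.Helper26.PS.instFintypeIrrAux

noncomputable local instance instFintypeIrrSLAux : Fintype (IrrCharacter (SLt F)) :=
  Fintype.ofFinite _

noncomputable local instance instFintypeConjGLAux : Fintype (ConjClasses (GLt F)) :=
  Fintype.ofFinite _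

theorem isII_degree (hodd : Odd (Fintype.card F)) {Θ : GLt F → ℂ}
    (hΘ : IsIrrCharacter (GLt F) Θ) (h : isII Θ) :
    ∃ n : ℕ, 0 < n ∧ Θ 1 = ((2 * n : ℕ) : ℂ) := by
  obtain ⟨χ₁, χ₂, h₁, h₂, hne, hsum, hdeg⟩ := res_split_of_isII hodd hΘ h
  obtain ⟨n, hn, hn1⟩ := irr_degree h₁
  refine ⟨n, hn, ?_⟩
  have h1 : Θ 1 = χ₁ 1 + χ₂ 1 := by
    have h2 := congrFun hsum 1
    simp only [Function.comp_apply, map_one, Pi.add_apply] at h2
    exact h2
  rw [h1, ← hdeg, hn1]
  push_cast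
  ring

theorem isII_degree' (hodd : Odd (Fintype.card F)) {Θ : GLt F → ℂ}
    (hΘ : IsIrrCharacter (GLt F) Θ) (h : isII Θ) :
    Θ 1 = (Fintype.card F : ℂ) + 1 ∨ Θ 1 = (Fintype.card F : ℂ) - 1 := by
  obtain ⟨n, hn, h2⟩ := isII_degree hodd hΘ h
  obtain ⟨k, hk⟩ := hodd
  rcases PS.gl2_degrees hΘ with h1 | h1 | h1 | h1
  · exfalso
    rw [h2] at h1
    have h3 : 2 * n = 1 := by exact_mod_cast h1
    omega
  · exact Or.inr h1
  · exfalso
    rw [h2] at h1
    have h3 : 2 * n = Fintype.card F := by exact_mod_cast h1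
    omega
  · exact Or.inl h1

theorem detFun_clsInv (g : GLt F) :
    PS.detFun (sgnC F) g = Sum.elim (fun _ : Fˣ => (1 : ℂ))
      (fun p : F × Fˣ => sgnC F (p.2 : F)) (PS.clsInv g) := by
  by_cases hs : PS.IsScalarEl g
  · rw [PS.clsInv_of_scalar hs, Sum.elim_inl]
    show sgnC F (g : Matrix (Fin 2) (Fin 2) F).det = 1
    rw [GL2.det_eq, hs.1, zero_mul, sub_zero, ← hs.2.2]
    exact sgnC_of_isSquare (mul_ne_zero (PS.scalar_ne_zero hs) (PS.scalar_ne_zero hs))
      ⟨g 0 0, rfl⟩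
  · rw [PS.clsInv_of_not_scalar hs, Sum.elim_inr]
    rfl

open scoped Classical in
/-- the number of irreducible characters of `GL₂(q)` fixed by the twist with `sgn ∘ det` -/
theorem card_isII (hodd : Odd (Fintype.card F)) :
    (Finset.univ.filter (fun Θ : IrrCharacter (GLt F) => isII (Θ : GLt F → ℂ))).card =
      Fintype.card Fˣ := by
  have h1 := CH.sum_twist_inner (G := GLt F) (PS.detFun (sgnC F))
    (isClassFunction_of_isIrrCharacter (PS.isIrrCharacter_detFun (sgnC F)))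
  have h2 : ∀ Θ : IrrCharacter (GLt F),
      classInner (fun g => PS.detFun (sgnC F) g * (Θ : GLt F → ℂ) g) (Θ : GLt F → ℂ) =
        if isII (Θ : GLt F → ℂ) then 1 else 0 := by
    intro Θ
    by_cases h : isII (Θ : GLt F → ℂ)
    · rw [if_pos h, twist_inner_of_isII Θ.2 h]
    · rw [if_neg h, twist_inner_of_not_isII Θ.2 h]
  rw [Finset.sum_congr rfl (fun Θ _ => h2 Θ), Finset.sum_boole] at h1
  have h4 : ∑ C : ConjClasses (GLt F), PS.detFun (sgnC F) (Quotient.out C) =
      ∑ x : Fˣ ⊕ (F × Fˣ), Sum.elim (fun _ : Fˣ => (1 : ℂ))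
        (fun p : F × Fˣ => sgnC F (p.2 : F)) x := by
    apply Fintype.sum_bijective PS.clsMap PS.clsMap_bijective
    intro C
    have hC : ConjClasses.mk (Quotient.out C) = C := Quotient.out_eq C
    have h5 : PS.clsMap C = PS.clsInv (Quotient.out C) := by
      rw [← PS.clsMap_mk, hC]
    rw [detFun_clsInv, h5]
  rw [h4, Fintype.sum_sum_type] at h1
  simp only [Sum.elim_inl, Sum.elim_inr] at h1
  rw [Fintype.sum_prod_type] at h1
  simp only [sum_sgnC hodd, Finset.sum_const_zero, add_zero, Finset.sum_const, Finset.card_univ,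
    nsmul_eq_mul, mul_one] at h1
  exact_mod_cast h1

open scoped Classical in
/-- the number of irreducible principal series characters fixed by the twist -/
theorem card_isII_P (hodd : Odd (Fintype.card F)) (hq : 3 ≤ Fintype.card F) :
    2 * (Finset.univ.filter (fun Θ : IrrCharacter (GLt F) =>
      (Θ : GLt F → ℂ) 1 = (Fintype.card F : ℂ) + 1 ∧ isII (Θ : GLt F → ℂ))).card =
      Fintype.card Fˣ := by
  have hsne : ∀ α : MulChar F ℂ, α ≠ sgnC F * α := by
    intro α h
    apply sgnC_ne_one hodd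
    have h1 : 1 * α = sgnC F * α := by
      rw [one_mul]
      exact h
    exact (mul_right_cancel h1).symm
  obtain ⟨f, hf⟩ : ∃ f : MulChar F ℂ → IrrCharacter (GLt F), ∀ α,
      ((f α : IrrCharacter (GLt F)) : GLt F → ℂ) =
        indFun (Cfsg.upperTriangularGL 2 F) (PS.psFun α (sgnC F * α)) :=
    ⟨fun α => ⟨_, PS.ps_irr α (sgnC F * α) (hsne α)⟩, fun α => rfl⟩
  have hswap : ∀ α : MulChar F ℂ,
      indFun (Cfsg.upperTriangularGL 2 F) (PS.psFun (sgnC F * α) α) =
        indFun (Cfsg.upperTriangularGL 2 F) (PS.psFun α (sgnC F * α)) :=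
    fun α => (PS.ps_eq_iff _ _ _ _).2 (Or.inr ⟨rfl, rfl⟩)
  have hfII : ∀ α, isII ((f α : IrrCharacter (GLt F)) : GLt F → ℂ) := by
    intro α
    unfold isII
    rw [hf]
    funext g
    rw [← PS.indFun_twist, ← mul_assoc, sgnC_mul_self, one_mul]
    exact congrFun (hswap α) g
  have himg : Finset.univ.filter (fun Θ : IrrCharacter (GLt F) =>
      (Θ : GLt F → ℂ) 1 = (Fintype.card F : ℂ) + 1 ∧ isII (Θ : GLt F → ℂ)) =
      Finset.univ.image f := by
    ext Θ
    simp only [Finset.mem_filter, Finset.mem_univ, true_and, Finset.mem_image]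
    constructor
    · rintro ⟨hdeg, hII⟩
      obtain ⟨α, β, hne, hΘ⟩ := (PS.deg_iff hq Θ).2.2.1.1 hdeg
      have h1 : indFun (Cfsg.upperTriangularGL 2 F) (PS.psFun (sgnC F * α) (sgnC F * β)) =
          indFun (Cfsg.upperTriangularGL 2 F) (PS.psFun α β) := by
        funext g
        rw [PS.indFun_twist, ← hΘ]
        exact congrFun hII g
      rcases (PS.ps_eq_iff _ _ _ _).1 h1 with ⟨h2, -⟩ | ⟨h2, -⟩
      · exact absurd h2.symm (hsne α)
      · refine ⟨α, Subtype.ext ?_⟩
        rw [hf, hΘ, h2]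
    · rintro ⟨α, rfl⟩
      refine ⟨?_, hfII α⟩
      rw [hf]
      exact PS.ps_degree _ _
  have hfib : ∀ α : MulChar F ℂ,
      (Finset.univ.filter (fun α' : MulChar F ℂ => f α' = f α)).card = 2 := by
    intro α
    have h0 : Finset.univ.filter (fun α' : MulChar F ℂ => f α' = f α) = {α, sgnC F * α} := by
      ext α'
      simp only [Finset.mem_filter, Finset.mem_univ, true_and, Finset.mem_insert,
        Finset.mem_singleton]
      constructor
      · intro h
        have h1 := congrArg Subtype.val h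
        rw [hf, hf] at h1
        rcases (PS.ps_eq_iff _ _ _ _).1 h1 with ⟨h2, -⟩ | ⟨h2, -⟩
        · exact Or.inl h2
        · exact Or.inr h2
      · rintro (rfl | rfl)
        · rfl
        · apply Subtype.ext
          rw [hf, hf, ← mul_assoc, sgnC_mul_self, one_mul]
          exact hswap α
    rw [h0, Finset.card_pair (hsne α)]
  have h0 := Finset.card_eq_sum_card_fiberwise (f := f)
    (s := (Finset.univ : Finset (MulChar F ℂ))) (t := Finset.univ.image f)
    (fun α _ => Finset.mem_coe.2 (Finset.mem_image_of_mem f (Finset.mem_univ α)))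
  rw [Finset.card_univ, PS.card_mulChar] at h0
  have h1 : ∀ Θ ∈ Finset.univ.image f,
      (Finset.univ.filter (fun α' : MulChar F ℂ => f α' = Θ)).card = 2 := by
    intro Θ hΘ
    obtain ⟨α, -, rfl⟩ := Finset.mem_image.1 hΘ
    exact hfib α
  rw [Finset.sum_congr rfl h1, Finset.sum_const, smul_eq_mul] at h0
  rw [himg, h0, mul_comm]

open scoped Classical in
theorem sum_inner_filter {ψ : SLt F → ℂ} (hψ : IsIrrCharacter (SLt F) ψ) (d : ℂ) :
    ∑ χ ∈ Finset.univ.filter (fun χ : IrrCharacter (SLt F) => (χ : SLt F → ℂ) 1 = d),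
      classInner (χ : SLt F → ℂ) ψ = if ψ 1 = d then 1 else 0 := by
  by_cases h : ψ 1 = d
  · rw [if_pos h, Finset.sum_eq_single (⟨ψ, hψ⟩ : IrrCharacter (SLt F))]
    · exact (classInner_irr hψ hψ).trans (if_pos rfl)
    · intro χ _ hne
      rw [classInner_irr χ.2 hψ, if_neg]
      intro h'
      exact hne (Subtype.ext h')
    · intro hnot
      have hmem : (⟨ψ, hψ⟩ : IrrCharacter (SLt F)) ∈ Finset.univ.filter
          (fun χ : IrrCharacter (SLt F) => (χ : SLt F → ℂ) 1 = d) :=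
        Finset.mem_filter.2 ⟨Finset.mem_univ _, h⟩
      exact absurd hmem hnot
  · rw [if_neg h]
    apply Finset.sum_eq_zero
    intro χ hχ
    rw [classInner_irr χ.2 hψ, if_neg]
    intro h'
    apply h
    rw [← h']
    exact (Finset.mem_filter.1 hχ).2

open scoped Classical in
/-- the counting formula `(q - 1) N_S(d) = N_G^I(d) + 4 N_G^{II}(2d)` -/
theorem count_formula (hodd : Odd (Fintype.card F)) (d : ℕ) (hd : 0 < d) :
    Fintype.card Fˣ * (Finset.univ.filter (fun χ : IrrCharacter (SLt F) =>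
      (χ : SLt F → ℂ) 1 = (d : ℂ))).card =
      (Finset.univ.filter (fun Θ : IrrCharacter (GLt F) =>
        (Θ : GLt F → ℂ) 1 = (d : ℂ) ∧ ¬ isII (Θ : GLt F → ℂ))).card +
      4 * (Finset.univ.filter (fun Θ : IrrCharacter (GLt F) =>
        (Θ : GLt F → ℂ) 1 = ((2 * d : ℕ) : ℂ) ∧ isII (Θ : GLt F → ℂ))).card := by
  have hterm : ∀ Θ : IrrCharacter (GLt F),
      (Θ : GLt F → ℂ) 1 * ∑ χ ∈ Finset.univ.filter (fun χ : IrrCharacter (SLt F) =>
        (χ : SLt F → ℂ) 1 = (d : ℂ)), classInner (χ : SLt F → ℂ)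
          ((Θ : GLt F → ℂ) ∘ (Matrix.SpecialLinearGroup.toGL : SLt F →* GLt F)) =
      (if ((Θ : GLt F → ℂ) 1 = (d : ℂ) ∧ ¬ isII (Θ : GLt F → ℂ)) then (d : ℂ) else 0) +
      (if ((Θ : GLt F → ℂ) 1 = ((2 * d : ℕ) : ℂ) ∧ isII (Θ : GLt F → ℂ))
        then 4 * (d : ℂ) else 0) := by
    intro Θ
    by_cases hII : isII (Θ : GLt F → ℂ)
    · obtain ⟨χ₁, χ₂, h₁, h₂, hne, hsum, hdeg⟩ := res_split_of_isII hodd Θ.2 hII
      rw [if_neg (fun h => h.2 hII), zero_add, hsum]
      have h3 : ∀ χ : IrrCharacter (SLt F), classInner (χ : SLt F → ℂ) (χ₁ + χ₂) =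
          classInner (χ : SLt F → ℂ) χ₁ + classInner (χ : SLt F → ℂ) χ₂ :=
        fun χ => classInner_add_right _ _ _
      rw [Finset.sum_congr rfl (fun χ _ => h3 χ), Finset.sum_add_distrib, sum_inner_filter h₁,
        sum_inner_filter h₂, ← hdeg]
      have h1 : (Θ : GLt F → ℂ) 1 = 2 * χ₁ 1 := by
        have h2 := congrFun hsum 1
        simp only [Function.comp_apply, map_one, Pi.add_apply] at h2
        rw [h2, ← hdeg]
        ring
      by_cases hd1 : χ₁ 1 = (d : ℂ)
      · have h4 : (Θ : GLt F → ℂ) 1 = ((2 * d : ℕ) : ℂ) := by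
          rw [h1, hd1]
          push_cast
          ring
        rw [if_pos hd1, if_pos ⟨h4, hII⟩, h1, hd1]
        ring
      · rw [if_neg hd1, if_neg]
        · ring
        · rintro ⟨h4, -⟩
          apply hd1
          rw [h1] at h4
          push_cast at h4
          exact mul_left_cancel₀ two_ne_zero h4
    · have hirr := res_irr_of_not_isII hodd Θ.2 hII
      rw [if_neg (fun h : (Θ : GLt F → ℂ) 1 = ((2 * d : ℕ) : ℂ) ∧ isII (Θ : GLt F → ℂ) =>
        hII h.2), add_zero, sum_inner_filter hirr]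
      have h1 : ((Θ : GLt F → ℂ) ∘ (Matrix.SpecialLinearGroup.toGL : SLt F →* GLt F)) 1 =
          (Θ : GLt F → ℂ) 1 := by
        show (Θ : GLt F → ℂ) ((Matrix.SpecialLinearGroup.toGL : SLt F →* GLt F) 1) = _
        rw [map_one]
      rw [h1]
      by_cases hd1 : (Θ : GLt F → ℂ) 1 = (d : ℂ)
      · rw [if_pos hd1, if_pos ⟨hd1, hII⟩, hd1, mul_one]
      · rw [if_neg hd1, if_neg (fun h => hd1 h.1), mul_zero]
  obtain ⟨nS, hnS⟩ : ∃ n : ℕ, n = (Finset.univ.filter (fun χ : IrrCharacter (SLt F) =>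
      (χ : SLt F → ℂ) 1 = (d : ℂ))).card := ⟨_, rfl⟩
  obtain ⟨n1, hn1⟩ : ∃ n : ℕ, n = (Finset.univ.filter (fun Θ : IrrCharacter (GLt F) =>
      (Θ : GLt F → ℂ) 1 = (d : ℂ) ∧ ¬ isII (Θ : GLt F → ℂ))).card := ⟨_, rfl⟩
  obtain ⟨n2, hn2⟩ : ∃ n : ℕ, n = (Finset.univ.filter (fun Θ : IrrCharacter (GLt F) =>
      (Θ : GLt F → ℂ) 1 = ((2 * d : ℕ) : ℂ) ∧ isII (Θ : GLt F → ℂ))).card := ⟨_, rfl⟩
  have hL : ∑ χ ∈ Finset.univ.filter (fun χ : IrrCharacter (SLt F) =>
      (χ : SLt F → ℂ) 1 = (d : ℂ)), ∑ Θ : IrrCharacter (GLt F), (Θ : GLt F → ℂ) 1 *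
        classInner (χ : SLt F → ℂ)
          ((Θ : GLt F → ℂ) ∘ (Matrix.SpecialLinearGroup.toGL : SLt F →* GLt F)) =
      (nS : ℂ) * ((Fintype.card Fˣ : ℂ) * d) := by
    have h1 : ∀ χ ∈ Finset.univ.filter (fun χ : IrrCharacter (SLt F) =>
        (χ : SLt F → ℂ) 1 = (d : ℂ)), ∑ Θ : IrrCharacter (GLt F), (Θ : GLt F → ℂ) 1 *
        classInner (χ : SLt F → ℂ)
          ((Θ : GLt F → ℂ) ∘ (Matrix.SpecialLinearGroup.toGL : SLt F →* GLt F)) =
        (Fintype.card Fˣ : ℂ) * d := by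
      intro χ hχ
      rw [CH.sum_above _ Matrix.SpecialLinearGroup.toGL_injective, (Finset.mem_filter.1 hχ).2,
        card_GL_eq]
      have hS : (Fintype.card (SLt F) : ℂ) ≠ 0 := Nat.cast_ne_zero.2 Fintype.card_ne_zero
      push_cast
      field_simp
    rw [Finset.sum_congr rfl h1, Finset.sum_const, nsmul_eq_mul, ← hnS]
  have hR : ∑ χ ∈ Finset.univ.filter (fun χ : IrrCharacter (SLt F) =>
      (χ : SLt F → ℂ) 1 = (d : ℂ)), ∑ Θ : IrrCharacter (GLt F), (Θ : GLt F → ℂ) 1 *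
        classInner (χ : SLt F → ℂ)
          ((Θ : GLt F → ℂ) ∘ (Matrix.SpecialLinearGroup.toGL : SLt F →* GLt F)) =
      (d : ℂ) * n1 + 4 * (d : ℂ) * n2 := by
    rw [Finset.sum_comm]
    simp only [← Finset.mul_sum]
    rw [Finset.sum_congr rfl (fun Θ _ => hterm Θ), Finset.sum_add_distrib, ← Finset.sum_filter,
      ← Finset.sum_filter, Finset.sum_const, Finset.sum_const, nsmul_eq_mul, nsmul_eq_mul,
      ← hn1, ← hn2]
    ring
  rw [← hnS, ← hn1, ← hn2]
  have hd' : (d : ℂ) ≠ 0 := Nat.cast_ne_zero.2 (by omega)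
  have h5 : (d : ℂ) * ((Fintype.card Fˣ * nS : ℕ) : ℂ) = (d : ℂ) * ((n1 + 4 * n2 : ℕ) : ℂ) := by
    push_cast
    rw [hL] at hR
    linear_combination hR
  exact_mod_cast mul_left_cancel₀ hd' h5

/-- degrees of the irreducible characters of `SL₂(q)`, `q` odd -/
theorem sl_odd_degrees (hodd : Odd (Fintype.card F)) {χ : SLt F → ℂ}
    (hχ : IsIrrCharacter (SLt F) χ) :
    χ 1 = 1 ∨ χ 1 = (Fintype.card F : ℂ) ∨ χ 1 = (Fintype.card F : ℂ) + 1 ∨
      χ 1 = (Fintype.card F : ℂ) - 1 ∨ χ 1 = (((Fintype.card F + 1) / 2 : ℕ) : ℂ) ∨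
      χ 1 = (((Fintype.card F - 1) / 2 : ℕ) : ℂ) := by
  obtain ⟨Θ, hΘ, hne⟩ := CH.exists_above (Matrix.SpecialLinearGroup.toGL : SLt F →* GLt F)
    Matrix.SpecialLinearGroup.toGL_injective hχ
  by_cases hII : isII Θ
  · obtain ⟨χ₁, χ₂, h₁, h₂, hne12, hsum, hdeg⟩ := res_split_of_isII hodd hΘ hII
    rw [hsum, classInner_add_left] at hne
    have hχ1 : χ 1 = χ₁ 1 := by
      by_cases e1 : χ₁ = χ
      · rw [e1]
      · by_cases e2 : χ₂ = χ
        · rw [hdeg, e2]
        · exfalso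
          apply hne
          rw [classInner_irr h₁ hχ, classInner_irr h₂ hχ, if_neg e1, if_neg e2, add_zero]
    obtain ⟨n, hn, hn1⟩ := irr_degree hχ
    have h1 : Θ 1 = ((2 * n : ℕ) : ℂ) := by
      have h2 := congrFun hsum 1
      simp only [Function.comp_apply, map_one, Pi.add_apply] at h2
      rw [h2, ← hdeg, ← hχ1, hn1]
      push_cast
      ring
    obtain ⟨k, hk⟩ := hodd
    rw [hn1]
    rcases PS.gl2_degrees hΘ with h3 | h3 | h3 | h3
    · exfalso
      rw [h1] at h3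
      have h4 : 2 * n = 1 := by exact_mod_cast h3
      omega
    · right; right; right; right; right
      rw [h1] at h3
      have h4 : ((2 * n + 1 : ℕ) : ℂ) = (Fintype.card F : ℂ) := by
        push_cast
        push_cast at h3
        rw [h3]
        ring
      have h5 : 2 * n + 1 = Fintype.card F := by exact_mod_cast h4
      have h6 : n = (Fintype.card F - 1) / 2 := by omega
      rw [h6]
    · exfalso
      rw [h1] at h3
      have h4 : 2 * n = Fintype.card F := by exact_mod_cast h3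
      omega
    · right; right; right; right; left
      rw [h1] at h3
      have h4 : ((2 * n : ℕ) : ℂ) = ((Fintype.card F + 1 : ℕ) : ℂ) := by
        rw [h3]
        push_cast
        ring
      have h5 : 2 * n = Fintype.card F + 1 := by exact_mod_cast h4
      have h6 : n = (Fintype.card F + 1) / 2 := by omega
      rw [h6]
  · have hirr := res_irr_of_not_isII hodd hΘ hII
    have h1 : Θ ∘ (Matrix.SpecialLinearGroup.toGL : SLt F →* GLt F) = χ :=
      eq_of_classInner_ne_zero hirr hχ hne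
    have h2 : χ 1 = Θ 1 := by
      rw [← h1]
      show Θ ((Matrix.SpecialLinearGroup.toGL : SLt F →* GLt F) 1) = Θ 1
      rw [map_one]
    rw [h2]
    rcases PS.gl2_degrees hΘ with h3 | h3 | h3 | h3
    · exact Or.inl h3
    · exact Or.inr (Or.inr (Or.inr (Or.inl h3)))
    · exact Or.inr (Or.inl h3)
    · exact Or.inr (Or.inr (Or.inl h3))

theorem arith3 (k n X : ℕ) (hk : 2 ≤ k) (h1 : X + k = k * (2 * k - 1)) (h2 : 2 * k * n = X) :
    n = k - 1 := by
  obtain ⟨j, rfl⟩ : ∃ j, k = j + 1 := ⟨k - 1, by omega⟩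
  have e : 2 * (j + 1) - 1 = 2 * j + 1 := by omega
  rw [e] at h1
  have e2 : (j + 1) * (2 * j + 1) = 2 * (j + 1) * j + (j + 1) := by ring
  have h3 : 2 * (j + 1) * n = 2 * (j + 1) * j := by omega
  have h4 := Nat.eq_of_mul_eq_mul_left (by omega : 0 < 2 * (j + 1)) h3
  omega

theorem arith4 (k n X : ℕ) (hk : 1 ≤ k) (h1 : X + k = (2 * k + 1) * k) (h2 : 2 * k * n = X) :
    n = k := by
  have e2 : (2 * k + 1) * k = 2 * k * k + k := by ring
  have h3 : 2 * k * n = 2 * k * k := by omega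
  exact Nat.eq_of_mul_eq_mul_left (by omega : 0 < 2 * k) h3

open scoped Classical in
/-- the number of irreducible characters of `SL₂(q)` with `χ(1) = e` -/
noncomputable def nS (F : Type*) [Field F] [Fintype F] [DecidableEq F] (e : ℂ) : ℕ :=
  (Finset.univ.filter (fun χ : IrrCharacter (SLt F) => (χ : SLt F → ℂ) 1 = e)).card

open scoped Classical in
/-- the number of irreducible characters of `GL₂(q)` with `Θ(1) = e` not fixed by the twist -/
noncomputable def nI (F : Type*) [Field F] [Fintype F] [DecidableEq F] (e : ℂ) : ℕ :=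
  (Finset.univ.filter (fun Θ : IrrCharacter (GLt F) =>
    (Θ : GLt F → ℂ) 1 = e ∧ ¬ isII (Θ : GLt F → ℂ))).card

open scoped Classical in
/-- the number of irreducible characters of `GL₂(q)` with `Θ(1) = e` fixed by the twist -/
noncomputable def nII (F : Type*) [Field F] [Fintype F] [DecidableEq F] (e : ℂ) : ℕ :=
  (Finset.univ.filter (fun Θ : IrrCharacter (GLt F) =>
    (Θ : GLt F → ℂ) 1 = e ∧ isII (Θ : GLt F → ℂ))).card

open scoped Classical in
theorem nS_eq (e : ℂ) :
    Nat.card {χ : IrrCharacter (SLt F) // (χ : SLt F → ℂ) 1 = e} = nS F e := by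
  unfold nS
  rw [Nat.card_eq_fintype_card, Fintype.card_subtype]

open scoped Classical in
theorem nI_add_nII (e : ℂ) :
    nI F e + nII F e = Nat.card {Θ : IrrCharacter (GLt F) // (Θ : GLt F → ℂ) 1 = e} := by
  unfold nI nII
  rw [Nat.card_eq_fintype_card, Fintype.card_subtype, ← Finset.filter_filter,
    ← Finset.filter_filter, add_comm, Finset.card_filter_add_card_filter_not]

theorem count_formula' (hodd : Odd (Fintype.card F)) (d : ℕ) (hd : 0 < d) :
    Fintype.card Fˣ * nS F (d : ℂ) = nI F (d : ℂ) + 4 * nII F ((2 * d : ℕ) : ℂ) :=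
  count_formula hodd d hd

open scoped Classical in
theorem nII_nat_zero (hodd : Odd (Fintype.card F)) (n : ℕ) (h1 : n ≠ Fintype.card F + 1)
    (h2 : n + 1 ≠ Fintype.card F) : nII F (n : ℂ) = 0 := by
  unfold nII
  rw [Finset.card_eq_zero, Finset.filter_eq_empty_iff]
  rintro Θ - ⟨hdeg, hII⟩
  rcases isII_degree' hodd Θ.2 hII with h | h
  · rw [hdeg] at h
    apply h1
    exact_mod_cast h
  · rw [hdeg] at h
    apply h2
    have h3 : ((n + 1 : ℕ) : ℂ) = (Fintype.card F : ℂ) := by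
      push_cast
      rw [h]
      ring
    exact_mod_cast h3

open scoped Classical in
theorem nI_nat_zero (n : ℕ) (h1 : n ≠ 1) (h2 : n + 1 ≠ Fintype.card F)
    (h3 : n ≠ Fintype.card F) (h4 : n ≠ Fintype.card F + 1) : nI F (n : ℂ) = 0 := by
  unfold nI
  rw [Finset.card_eq_zero, Finset.filter_eq_empty_iff]
  rintro Θ - ⟨hdeg, -⟩
  rcases PS.gl2_degrees Θ.2 with h | h | h | h
  · rw [hdeg] at h
    apply h1
    exact_mod_cast h
  · rw [hdeg] at h
    apply h2
    have h5 : ((n + 1 : ℕ) : ℂ) = (Fintype.card F : ℂ) := by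
      push_cast
      rw [h]
      ring
    exact_mod_cast h5
  · rw [hdeg] at h
    apply h3
    exact_mod_cast h
  · rw [hdeg] at h
    apply h4
    exact_mod_cast h

theorem nII_P (hodd : Odd (Fintype.card F)) (hq : 3 ≤ Fintype.card F) :
    2 * nII F ((Fintype.card F : ℂ) + 1) = Fintype.card Fˣ :=
  card_isII_P hodd hq

open scoped Classical in
theorem nII_sum (hodd : Odd (Fintype.card F)) :
    nII F ((Fintype.card F : ℂ) + 1) + nII F ((Fintype.card F : ℂ) - 1) = Fintype.card Fˣ := by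
  rw [← card_isII hodd]
  unfold nII
  rw [Finset.card_filter, Finset.card_filter, Finset.card_filter, ← Finset.sum_add_distrib]
  apply Finset.sum_congr rfl
  intro Θ _
  have hne : (Fintype.card F : ℂ) + 1 ≠ (Fintype.card F : ℂ) - 1 := by
    intro h
    have h2 : (2 : ℂ) = 0 := by linear_combination h
    norm_num at h2
  by_cases hII : isII (Θ : GLt F → ℂ)
  · rcases isII_degree' hodd Θ.2 hII with h | h
    · rw [if_pos ⟨h, hII⟩, if_pos hII, if_neg]
      rintro ⟨h', -⟩
      exact hne (h.symm.trans h')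
    · rw [if_pos hII, if_neg, if_pos ⟨h, hII⟩]
      rintro ⟨h', -⟩
      exact hne (h'.symm.trans h)
  · rw [if_neg hII, if_neg (fun h => hII h.2), if_neg (fun h => hII h.2)]

/-- the numbers of irreducible characters of `SL₂(q)`, `q ≥ 5` odd, of each degree -/
theorem final_counts (hodd : Odd (Fintype.card F)) (hq : 5 ≤ Fintype.card F) :
    nS F ((1 : ℕ) : ℂ) = 1 ∧ nS F ((Fintype.card F : ℕ) : ℂ) = 1 ∧
    nS F ((Fintype.card F + 1 : ℕ) : ℂ) = (Fintype.card F - 3) / 2 ∧
    nS F ((Fintype.card F - 1 : ℕ) : ℂ) = (Fintype.card F - 1) / 2 ∧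
    nS F (((Fintype.card F + 1) / 2 : ℕ) : ℂ) = 2 ∧
    nS F (((Fintype.card F - 1) / 2 : ℕ) : ℂ) = 2 := by
  obtain ⟨g1, g2, g3, g4⟩ := PS.gl2_counts (F := F) (by omega)
  have hu : Fintype.card F = Fintype.card Fˣ + 1 := PS.card_F_eq
  obtain ⟨k, hk⟩ := hodd
  have hodd' : Odd (Fintype.card F) := ⟨k, hk⟩
  have e_add : ((Fintype.card F + 1 : ℕ) : ℂ) = (Fintype.card F : ℂ) + 1 := by
    push_cast
    ring
  have e_sub : ((Fintype.card F - 1 : ℕ) : ℂ) = (Fintype.card F : ℂ) - 1 := by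
    rw [Nat.cast_sub (by omega)]
    norm_num
  -- the numbers of characters fixed by the twist
  have hP := nII_P hodd' (by omega : 3 ≤ Fintype.card F)
  have hPC := nII_sum (F := F) hodd'
  rw [← e_add] at hP hPC
  rw [← e_sub] at hPC
  -- the numbers of characters of `GL₂`
  have e1 : Fintype.card F - 1 = 2 * k := by omega
  have e2 : Fintype.card F - 2 = 2 * k - 1 := by omega
  have hcard : Fintype.card Fˣ = 2 * k := by omega
  have g3' : (Fintype.card F - 1) * (Fintype.card F - 2) / 2 = k * (2 * k - 1) := by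
    rw [e1, e2, Nat.mul_assoc, Nat.mul_div_cancel_left _ (by norm_num : 0 < 2)]
  have g4' : Fintype.card F * (Fintype.card F - 1) / 2 = (2 * k + 1) * k := by
    rw [e1, hk, Nat.mul_left_comm, Nat.mul_div_cancel_left _ (by norm_num : 0 < 2)]
  rw [e1] at g1 g2
  rw [g3'] at g3
  rw [g4'] at g4
  have a1 := nI_add_nII (F := F) ((1 : ℕ) : ℂ)
  rw [Nat.cast_one, g1] at a1
  have a2 := nI_add_nII (F := F) ((Fintype.card F : ℕ) : ℂ)
  rw [g2] at a2
  have a3 := nI_add_nII (F := F) ((Fintype.card F + 1 : ℕ) : ℂ)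
  rw [e_add, g3] at a3
  have a4 := nI_add_nII (F := F) ((Fintype.card F - 1 : ℕ) : ℂ)
  rw [e_sub, g4] at a4
  rw [← Nat.cast_one (R := ℂ)] at a1
  rw [← e_add] at a3
  rw [← e_sub] at a4
  rw [hcard] at hP hPC
  -- vanishing
  have z1 : nII F ((1 : ℕ) : ℂ) = 0 := nII_nat_zero hodd' 1 (by omega) (by omega)
  have z2 : nII F ((Fintype.card F : ℕ) : ℂ) = 0 :=
    nII_nat_zero hodd' _ (by omega) (by omega)
  -- the counting formulas
  have b1 := count_formula' (F := F) hodd' 1 one_pos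
  have b2 := count_formula' (F := F) hodd' (Fintype.card F) (by omega)
  have b3 := count_formula' (F := F) hodd' (Fintype.card F + 1) (by omega)
  have b4 := count_formula' (F := F) hodd' (Fintype.card F - 1) (by omega)
  have b5 := count_formula' (F := F) hodd' ((Fintype.card F + 1) / 2) (by omega)
  have b6 := count_formula' (F := F) hodd' ((Fintype.card F - 1) / 2) (by omega)
  rw [nII_nat_zero hodd' (2 * 1) (by omega) (by omega), hcard] at b1
  rw [nII_nat_zero hodd' (2 * Fintype.card F) (by omega) (by omega), hcard] at b2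
  rw [nII_nat_zero hodd' (2 * (Fintype.card F + 1)) (by omega) (by omega), hcard] at b3
  rw [nII_nat_zero hodd' (2 * (Fintype.card F - 1)) (by omega) (by omega), hcard] at b4
  have e5 : 2 * ((Fintype.card F + 1) / 2) = Fintype.card F + 1 := by omega
  have e6 : 2 * ((Fintype.card F - 1) / 2) = Fintype.card F - 1 := by omega
  rw [e5, nI_nat_zero _ (by omega) (by omega) (by omega) (by omega), hcard] at b5
  rw [e6, nI_nat_zero _ (by omega) (by omega) (by omega) (by omega), hcard] at b6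
  have hPk : nII F ((Fintype.card F + 1 : ℕ) : ℂ) = k := by omega
  have hCk : nII F ((Fintype.card F - 1 : ℕ) : ℂ) = k := by omega
  rw [hPk] at a3 b5
  rw [hCk] at a4 b6
  rw [z1] at a1
  rw [z2] at a2
  refine ⟨?_, ?_, ?_, ?_, ?_, ?_⟩
  · apply Nat.eq_of_mul_eq_mul_left (by omega : 0 < 2 * k)
    omega
  · apply Nat.eq_of_mul_eq_mul_left (by omega : 0 < 2 * k)
    omega
  · have h5 := arith3 k _ _ (by omega) a3 (by omega : 2 * k * nS F ((Fintype.card F + 1 : ℕ) : ℂ) = _)
    omega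
  · have h5 := arith4 k _ _ (by omega) a4 (by omega : 2 * k * nS F ((Fintype.card F - 1 : ℕ) : ℂ) = _)
    omega
  · apply Nat.eq_of_mul_eq_mul_left (by omega : 0 < 2 * k)
    omega
  · apply Nat.eq_of_mul_eq_mul_left (by omega : 0 < 2 * k)
    omega

/-- the numbers of irreducible characters of `SL₂(q)`, `q ≥ 5` odd, in the form of the statement -/
theorem sl_odd_counts (hodd : Odd (Fintype.card F)) (hq : 5 ≤ Fintype.card F) :
    Nat.card {χ : IrrCharacter (SLt F) // (χ : SLt F → ℂ) 1 = 1} = 1 ∧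
    Nat.card {χ : IrrCharacter (SLt F) // (χ : SLt F → ℂ) 1 = (Fintype.card F : ℂ)} = 1 ∧
    Nat.card {χ : IrrCharacter (SLt F) // (χ : SLt F → ℂ) 1 = (Fintype.card F : ℂ) + 1} =
      (Fintype.card F - 3) / 2 ∧
    Nat.card {χ : IrrCharacter (SLt F) // (χ : SLt F → ℂ) 1 = (Fintype.card F : ℂ) - 1} =
      (Fintype.card F - 1) / 2 ∧
    Nat.card {χ : IrrCharacter (SLt F) //
      (χ : SLt F → ℂ) 1 = (((Fintype.card F + 1) / 2 : ℕ) : ℂ)} = 2 ∧
    Nat.card {χ : IrrCharacter (SLt F) //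
      (χ : SLt F → ℂ) 1 = (((Fintype.card F - 1) / 2 : ℕ) : ℂ)} = 2 := by
  obtain ⟨c1, c2, c3, c4, c5, c6⟩ := final_counts hodd hq
  have e_add : ((Fintype.card F + 1 : ℕ) : ℂ) = (Fintype.card F : ℂ) + 1 := by
    push_cast
    ring
  have e_sub : ((Fintype.card F - 1 : ℕ) : ℂ) = (Fintype.card F : ℂ) - 1 := by
    rw [Nat.cast_sub (by omega)]
    norm_num
  rw [Nat.cast_one] at c1
  rw [e_add] at c3
  rw [e_sub] at c4
  rw [nS_eq, nS_eq, nS_eq, nS_eq, nS_eq, nS_eq]
  exact ⟨c1, c2, c3, c4, c5, c6⟩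

end finite

end Cfsg.Agent.Lib.Helper26.PSR
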