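import Mathlib
import Cfsg.Prelude.Def_Characters
import Cfsg.Prelude.Def_Blocks
import Cfsg.Prelude.Def_DegreeGraph
import Cfsg.Agent.Lib.Helper26.SL2OddCount
import Cfsg.Agent.Lib.Helper26.DegreeGraphSL2
import Cfsg.Agent.Lib.Helper26.PSL2Char
import Cfsg.Agent.Lib.Helper4.Deflate
import Cfsg.Agent.Lib.Helper4.FaithfulIrr
import Cfsg.Agent.Lib.Helper4.CharOrtho

/-!
# The character degrees of `PSL₂(q)`, `q` odd, and the degree graph (helper26)

The irreducible characters of `GL₂(q)` trivial on `-1` are counted through the orthogonality of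
the columns of `1`, `-1` and the transvections; comparing with the number of characters fixed by
the twist with `sgn ∘ det` produces irreducible characters of `PSL₂(q)` of degrees `q ± 1`.
-/

set_option autoImplicit false

namespace Cfsg.Agent.Lib.Helper26.PSR
open Cfsg Cfsg.Agent.Lib.Helper26 Cfsg.Agent.Lib.Helper12
open scoped ComplexConjugate

local notation "GLt" => Matrix.GeneralLinearGroup (Fin 2)
local notation "SLt" => Matrix.SpecialLinearGroup (Fin 2)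
local notation "PSLt" => Matrix.ProjectiveSpecialLinearGroup (Fin 2)

section general

/-- an irreducible character takes the value `± χ(1)` at a central involution -/
theorem center_sign {G : Type*} [Group G] {Θ : G → ℂ} (hΘ : IsIrrCharacter G Θ) (z : G)
    (hz : z ∈ Subgroup.center G) (hzz : z * z = 1) : Θ z = Θ 1 ∨ Θ z = -Θ 1 := by
  obtain ⟨n, ρ, hirr, rfl⟩ := hΘ
  obtain ⟨c, hc⟩ := Cfsg.Agent.Lib.Helper4.exists_scalar_of_mem_center ρ hirr z hz
  have h1 : ρ.character z = c * ρ.character 1 := by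
    rw [Representation.char_one]
    show LinearMap.trace ℂ (Fin n → ℂ) (ρ z) = _
    rw [hc, map_smul, LinearMap.trace_id, smul_eq_mul]
  have h2 : c * c * ρ.character 1 = ρ.character 1 := by
    have h3 : ρ (z * z) = (c * c) • LinearMap.id := by
      rw [map_mul, hc]
      apply LinearMap.ext
      intro v
      simp only [Module.End.mul_apply, LinearMap.smul_apply, LinearMap.id_apply, mul_smul]
    have h4 : ρ.character (z * z) = (c * c) * ρ.character 1 := by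
      rw [Representation.char_one]
      show LinearMap.trace ℂ (Fin n → ℂ) (ρ (z * z)) = _
      rw [h3, map_smul, LinearMap.trace_id, smul_eq_mul]
    rw [← h4, hzz]
  have h5 : (c - 1) * (c + 1) * ρ.character 1 = 0 := by linear_combination h2
  rcases mul_eq_zero.1 h5 with h6 | h6
  · rcases mul_eq_zero.1 h6 with h7 | h7
    · left
      rw [h1, sub_eq_zero.1 h7, one_mul]
    · right
      rw [h1, eq_neg_of_add_eq_zero_left h7]
      ring
  · left
    rw [h1, h6, mul_zero]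

open scoped Classical in
/-- the sum over the irreducible characters trivial on a central involution -/
theorem plus_sum {G : Type*} [Group G] [Fintype G] [Fintype (IrrCharacter G)] (z : G)
    (hz : z ∈ Subgroup.center G) (hzz : z * z = 1) (r : IrrCharacter G → Prop)
    (hr : ∀ Θ : IrrCharacter G, r Θ ↔ (Θ : G → ℂ) z = (Θ : G → ℂ) 1) (h : G) :
    ∑ Θ ∈ Finset.univ.filter r, 2 * (Θ : G → ℂ) 1 * conj ((Θ : G → ℂ) h) =
      ∑ χ : IrrCharacter G, (χ : G → ℂ) 1 * conj ((χ : G → ℂ) h) +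
      ∑ χ : IrrCharacter G, (χ : G → ℂ) z * conj ((χ : G → ℂ) h) := by
  rw [← Finset.sum_add_distrib, Finset.sum_filter]
  apply Finset.sum_congr rfl
  intro Θ _
  by_cases hp : r Θ
  · rw [if_pos hp, (hr Θ).1 hp]
    ring
  · rw [if_neg hp]
    rcases center_sign Θ.2 z hz hzz with h1 | h1
    · exact absurd ((hr Θ).2 h1) hp
    · rw [h1]
      ring

open scoped Classical in
theorem sum_filter_ite_const {ι : Type*} [Fintype ι] (p r : ι → Prop) (f : ι → ℂ) (c : ℂ)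
    (hf : ∀ i, p i → r i → f i = c) :
    ∑ i ∈ Finset.univ.filter p, (if r i then f i else 0) =
      (((Finset.univ.filter p).filter r).card : ℂ) * c := by
  rw [← Finset.sum_filter]
  have h1 : ∀ i ∈ (Finset.univ.filter p).filter r, f i = c := by
    intro i hi
    rw [Finset.mem_filter, Finset.mem_filter] at hi
    exact hf i hi.1.2 hi.2
  rw [Finset.sum_congr rfl h1, Finset.sum_const, nsmul_eq_mul]

open scoped Classical in
theorem sum_four_filter {ι : Type*} [Fintype ι] (p₁ p₂ p₃ p₄ r : ι → Prop)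
    (hcover : ∀ i, p₁ i ∨ p₂ i ∨ p₃ i ∨ p₄ i)
    (h12 : ∀ i, p₁ i → ¬ p₂ i) (h13 : ∀ i, p₁ i → ¬ p₃ i) (h14 : ∀ i, p₁ i → ¬ p₄ i)
    (h23 : ∀ i, p₂ i → ¬ p₃ i) (h24 : ∀ i, p₂ i → ¬ p₄ i) (h34 : ∀ i, p₃ i → ¬ p₄ i)
    (f : ι → ℂ) (c₁ c₂ c₃ c₄ : ℂ)
    (hf₁ : ∀ i, p₁ i → r i → f i = c₁) (hf₂ : ∀ i, p₂ i → r i → f i = c₂)
    (hf₃ : ∀ i, p₃ i → r i → f i = c₃) (hf₄ : ∀ i, p₄ i → r i → f i = c₄) :
    ∑ i ∈ Finset.univ.filter r, f i =
      (((Finset.univ.filter p₁).filter r).card : ℂ) * c₁ +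
      (((Finset.univ.filter p₂).filter r).card : ℂ) * c₂ +
      (((Finset.univ.filter p₃).filter r).card : ℂ) * c₃ +
      (((Finset.univ.filter p₄).filter r).card : ℂ) * c₄ := by
  rw [Finset.sum_filter, PS.sum_four p₁ p₂ p₃ p₄ hcover h12 h13 h14 h23 h24 h34,
    sum_filter_ite_const p₁ r f c₁ hf₁, sum_filter_ite_const p₂ r f c₂ hf₂,
    sum_filter_ite_const p₃ r f c₃ hf₃, sum_filter_ite_const p₄ r f c₄ hf₄]

theorem charDegrees_subset_of_surjective {A : Type*} {B : Type*} [Group A] [Group B]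
    (f : A →* B) (hf : Function.Surjective f) : charDegrees B ⊆ charDegrees A := by
  rintro d ⟨χ, rfl⟩
  refine ⟨⟨(χ : B → ℂ) ∘ f,
    Cfsg.Agent.Lib.Helper2.isIrrCharacter_comp_of_surjective χ.2 f hf⟩, ?_⟩
  unfold charDegree
  show ⌊((χ : B → ℂ) (f 1)).re⌋₊ = _
  rw [map_one]

/-- the degree graph of a group with the character degrees of `PSL₂(q)` or `SL₂(q)`, `q` odd -/
theorem degree_graph_odd {S : Type*} [Group S] (q t a : ℕ) (ht : t.Prime) (ht2 : t ≠ 2)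
    (hqt : q = t ^ a) (h5 : 5 < q)
    (hsub : ∀ d ∈ charDegrees S, d = 1 ∨ d = q ∨ d = q + 1 ∨ d = q - 1 ∨ d = (q + 1) / 2 ∨
      d = (q - 1) / 2)
    (h1 : q ∈ charDegrees S) (h2 : q + 1 ∈ charDegrees S) (h3 : q - 1 ∈ charDegrees S) :
    degreePrimes S = {r : ℕ | r.Prime ∧ r ∣ q * (q ^ 2 - 1)} ∧
    ∀ r s : ℕ, (degreeGraph S).Adj r s ↔ (r ≠ s ∧ r.Prime ∧ s.Prime ∧ r ∣ q ^ 2 - 1 ∧
      s ∣ q ^ 2 - 1 ∧ (r = 2 ∨ s = 2 ∨ (r ∣ q + 1 ∧ s ∣ q + 1) ∨ (r ∣ q - 1 ∧ s ∣ q - 1))) := by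
  have hfac : q ^ 2 - 1 = (q - 1) * (q + 1) := by
    obtain ⟨k, rfl⟩ : ∃ k, q = k + 1 := ⟨q - 1, by omega⟩
    apply Nat.sub_eq_of_eq_add
    rw [Nat.add_sub_cancel]
    ring
  have hqodd : q % 2 = 1 := by
    rw [← Nat.two_dvd_ne_zero]
    intro h
    rw [hqt] at h
    exact ht2 ((Nat.prime_dvd_prime_iff_eq Nat.prime_two ht).1
      (Nat.prime_two.dvd_of_dvd_pow h)).symm
  have e1 : 2 * ((q + 1) / 2) = q + 1 := by omega
  have e2 : 2 * ((q - 1) / 2) = q - 1 := by omega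
  have htp : ∀ r : ℕ, r.Prime → r ∣ q → r = t := by
    intro r hr hrq
    rw [hqt] at hrq
    exact (Nat.prime_dvd_prime_iff_eq hr ht).1 (hr.dvd_of_dvd_pow hrq)
  have hdvd1 : ∀ r : ℕ, r ∣ (q + 1) / 2 → r ∣ q + 1 := by
    intro r h
    rw [← e1]
    exact Dvd.dvd.mul_left h 2
  have hdvd2 : ∀ r : ℕ, r ∣ (q - 1) / 2 → r ∣ q - 1 := by
    intro r h
    rw [← e2]
    exact Dvd.dvd.mul_left h 2
  have two1 : 2 ∣ q + 1 := ⟨(q + 1) / 2, e1.symm⟩
  have two2 : 2 ∣ q - 1 := ⟨(q - 1) / 2, e2.symm⟩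
  have hm1 : ∀ r : ℕ, r ∣ q - 1 → r ∣ q ^ 2 - 1 := by
    intro r h
    rw [hfac]
    exact Dvd.dvd.mul_right h _
  have hp1 : ∀ r : ℕ, r ∣ q + 1 → r ∣ q ^ 2 - 1 := by
    intro r h
    rw [hfac]
    exact Dvd.dvd.mul_left h _
  constructor
  · ext r
    simp only [degreePrimes, Set.mem_setOf_eq]
    constructor
    · rintro ⟨hr, d, hd, hrd⟩
      refine ⟨hr, ?_⟩
      rcases hsub d hd with h | h | h | h | h | h
      · exfalso
        rw [h] at hrd
        exact hr.one_lt.ne' (Nat.dvd_one.1 hrd)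
      · rw [h] at hrd
        exact Dvd.dvd.mul_right hrd _
      · rw [h] at hrd
        exact Dvd.dvd.mul_left (hp1 r hrd) _
      · rw [h] at hrd
        exact Dvd.dvd.mul_left (hm1 r hrd) _
      · rw [h] at hrd
        exact Dvd.dvd.mul_left (hp1 r (hdvd1 r hrd)) _
      · rw [h] at hrd
        exact Dvd.dvd.mul_left (hm1 r (hdvd2 r hrd)) _
    · rintro ⟨hr, hrd⟩
      refine ⟨hr, ?_⟩
      rw [hfac] at hrd
      rcases (Nat.Prime.dvd_mul hr).1 hrd with h | h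
      · exact ⟨q, h1, h⟩
      · rcases (Nat.Prime.dvd_mul hr).1 h with h' | h'
        · exact ⟨q - 1, h3, h'⟩
        · exact ⟨q + 1, h2, h'⟩
  · intro r s
    show (r ≠ s ∧ r.Prime ∧ s.Prime ∧ ∃ d ∈ charDegrees S, r * s ∣ d) ↔ _
    constructor
    · rintro ⟨hne, hr, hs, d, hd, hdvd⟩
      have hrd : r ∣ d := dvd_of_mul_right_dvd hdvd
      have hsd : s ∣ d := dvd_of_mul_left_dvd hdvd
      rcases hsub d hd with h | h | h | h | h | h
      · exfalso
        rw [h] at hrd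
        exact hr.one_lt.ne' (Nat.dvd_one.1 hrd)
      · exfalso
        rw [h] at hrd hsd
        exact hne ((htp r hr hrd).trans (htp s hs hsd).symm)
      · rw [h] at hrd hsd
        exact ⟨hne, hr, hs, hp1 r hrd, hp1 s hsd, Or.inr (Or.inr (Or.inl ⟨hrd, hsd⟩))⟩
      · rw [h] at hrd hsd
        exact ⟨hne, hr, hs, hm1 r hrd, hm1 s hsd, Or.inr (Or.inr (Or.inr ⟨hrd, hsd⟩))⟩
      · rw [h] at hrd hsd
        exact ⟨hne, hr, hs, hp1 r (hdvd1 r hrd), hp1 s (hdvd1 s hsd),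
          Or.inr (Or.inr (Or.inl ⟨hdvd1 r hrd, hdvd1 s hsd⟩))⟩
      · rw [h] at hrd hsd
        exact ⟨hne, hr, hs, hm1 r (hdvd2 r hrd), hm1 s (hdvd2 s hsd),
          Or.inr (Or.inr (Or.inr ⟨hdvd2 r hrd, hdvd2 s hsd⟩))⟩
    · rintro ⟨hne, hr, hs, hrq, hsq, h⟩
      refine ⟨hne, hr, hs, ?_⟩
      have hcop : Nat.Coprime r s := (Nat.coprime_primes hr hs).2 hne
      have both : ∀ x y : ℕ, x.Prime → y.Prime → x ≠ y → x = 2 → y ∣ q ^ 2 - 1 →
          ∃ d ∈ charDegrees S, x * y ∣ d := by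
        intro x y hx hy hxy hx2 hyq
        have hc : Nat.Coprime x y := (Nat.coprime_primes hx hy).2 hxy
        rw [hfac] at hyq
        rcases (Nat.Prime.dvd_mul hy).1 hyq with h' | h'
        · exact ⟨q - 1, h3, Nat.Coprime.mul_dvd_of_dvd_of_dvd hc (by rw [hx2]; exact two2) h'⟩
        · exact ⟨q + 1, h2, Nat.Coprime.mul_dvd_of_dvd_of_dvd hc (by rw [hx2]; exact two1) h'⟩
      rcases h with h | h | ⟨ha, hb⟩ | ⟨ha, hb⟩
      · exact both r s hr hs hne h hsq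
      · obtain ⟨d, hd, hdv⟩ := both s r hs hr hne.symm h hrq
        exact ⟨d, hd, by rw [mul_comm]; exact hdv⟩
      · exact ⟨q + 1, h2, Nat.Coprime.mul_dvd_of_dvd_of_dvd hcop ha hb⟩
      · exact ⟨q - 1, h3, Nat.Coprime.mul_dvd_of_dvd_of_dvd hcop ha hb⟩

end general

section field
variable {F : Type*} [Field F]

theorem zz_mul : (PS.zEl (-1 : Fˣ) : GLt F) * PS.zEl (-1) = 1 := by
  apply GL2.ext4 <;> simp [GL2.mul_apply', GL2.one_apply', PS.zEl]

theorem detFun_zz (α : MulChar F ℂ) : PS.detFun α (PS.zEl (-1 : Fˣ)) = 1 := by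
  unfold PS.detFun
  rw [GL2.det_eq]
  simp [PS.zEl]

/-- a character of `GL₂` trivial at `-1` restricts to a character of `SL₂` trivial on the
centre -/
theorem res_center_of_plus {Θ : GLt F → ℂ} (hp : Θ (PS.zEl (-1)) = Θ 1) (z : SLt F)
    (hz : z ∈ Subgroup.center (SLt F)) :
    (Θ ∘ (Matrix.SpecialLinearGroup.toGL : SLt F →* GLt F)) z =
      (Θ ∘ (Matrix.SpecialLinearGroup.toGL : SLt F →* GLt F)) 1 := by
  obtain ⟨r, hr1, hr⟩ := Matrix.SpecialLinearGroup.mem_center_iff.1 hz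
  have h01 : (z : Matrix (Fin 2) (Fin 2) F) 0 1 = 0 := by
    rw [← hr]
    simp
  have h10 : (z : Matrix (Fin 2) (Fin 2) F) 1 0 = 0 := by
    rw [← hr]
    simp
  have h00 : (z : Matrix (Fin 2) (Fin 2) F) 0 0 = r := by
    rw [← hr]
    simp
  have h11 : (z : Matrix (Fin 2) (Fin 2) F) 1 1 = r := by
    rw [← hr]
    simp
  have hr2 : (r - 1) * (r + 1) = 0 := by
    have h : r ^ 2 = 1 := by simpa using hr1
    linear_combination h
  show Θ ((Matrix.SpecialLinearGroup.toGL : SLt F →* GLt F) z) =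
    Θ ((Matrix.SpecialLinearGroup.toGL : SLt F →* GLt F) 1)
  rcases mul_eq_zero.1 hr2 with h | h
  · have hr' : r = 1 := sub_eq_zero.1 h
    have hz1 : z = 1 := by
      apply Matrix.SpecialLinearGroup.ext
      intro i j
      rw [← hr, hr']
      simp
    rw [hz1]
  · have hr' : r = -1 := eq_neg_of_add_eq_zero_left h
    have hzz : ((Matrix.SpecialLinearGroup.toGL : SLt F →* GLt F) z : GLt F) =
        PS.zEl (-1) := by
      apply GL2.ext4
      · show (z : Matrix (Fin 2) (Fin 2) F) 0 0 = _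
        rw [h00, hr']
        simp [PS.zEl]
      · show (z : Matrix (Fin 2) (Fin 2) F) 0 1 = _
        rw [h01]
        simp [PS.zEl]
      · show (z : Matrix (Fin 2) (Fin 2) F) 1 0 = _
        rw [h10]
        simp [PS.zEl]
      · show (z : Matrix (Fin 2) (Fin 2) F) 1 1 = _
        rw [h11, hr']
        simp [PS.zEl]
    rw [hzz, map_one, hp]

end field

section finite
variable {F : Type*} [Field F] [Fintype F] [DecidableEq F]

attribute [local instance] Cfsg.Agent.Lib.Helper26.PS.instFintypeMulCharAux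
attribute [local instance] Cfsg.Agent.Lib.Helper26.PS.instFintypeIrrAux

theorem stFun_zz (α : MulChar F ℂ) :
    PS.stFun α (PS.zEl (-1 : Fˣ)) = (Fintype.card F : ℂ) := by
  have h00 : (PS.zEl (-1 : Fˣ) : GLt F) 0 0 = -1 := by simp [PS.zEl]
  have h11 : (PS.zEl (-1 : Fˣ) : GLt F) 1 1 = -1 := by simp [PS.zEl]
  have h01 : (PS.zEl (-1 : Fˣ) : GLt F) 0 1 = 0 := by simp [PS.zEl]
  have h10 : (PS.zEl (-1 : Fˣ) : GLt F) 1 0 = 0 := by simp [PS.zEl]
  have hα : α (-1) * α (-1) = 1 := by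
    rw [← map_mul, neg_mul_neg, mul_one, map_one]
  have hsum : ∑ t : F, (if ((-1 : F) - -1) * t + 0 = 0 then (1 : ℂ) else 0) =
      (Fintype.card F : ℂ) := by
    have h : ∀ t : F, (if ((-1 : F) - -1) * t + 0 = 0 then (1 : ℂ) else 0) = 1 := by
      intro t
      rw [if_pos]
      ring
    rw [Finset.sum_congr rfl (fun t _ => h t)]
    simp
  unfold PS.stFun
  rw [Pi.sub_apply, PS.ps_value_upper α α _ h10, detFun_zz, h00, h11, h01, hα, hsum]
  ring

theorem neg_one_ne_one' (hodd : Odd (Fintype.card F)) : (-1 : F) ≠ 1 :=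
  Ring.neg_one_ne_one_of_char_ne_two (char_ne_two hodd)

theorem not_isConj_zz (hodd : Odd (Fintype.card F)) (g : GLt F) (hg : g 0 0 = 1) :
    ¬ IsConj (PS.zEl (-1 : Fˣ)) g := by
  intro h
  obtain ⟨c, hc⟩ := isConj_iff.1 h
  rw [PS.scalar_conj (PS.isScalarEl_zEl _) c] at hc
  have h00 : (PS.zEl (-1 : Fˣ) : GLt F) 0 0 = g 0 0 := by rw [hc]
  rw [hg] at h00
  apply neg_one_ne_one' hodd
  simpa [PS.zEl] using h00

/-- irreducible characters of `GL₂` trivial at `-1` -/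
def isPlus (Θ : GLt F → ℂ) : Prop := Θ (PS.zEl (-1)) = Θ 1

open scoped Classical in
/-- the numbers of irreducible characters of degrees `q + 1` and `q - 1` trivial at `-1` -/
theorem plus_counts (hodd : Odd (Fintype.card F)) :
    4 * ((Finset.univ.filter (fun Θ : IrrCharacter (GLt F) => PS.isP (Θ : GLt F → ℂ))).filter
        (fun Θ : IrrCharacter (GLt F) => isPlus (Θ : GLt F → ℂ))).card + 2 * Fintype.card Fˣ =
      Fintype.card Fˣ ^ 2 ∧
    4 * ((Finset.univ.filter (fun Θ : IrrCharacter (GLt F) => PS.isC (Θ : GLt F → ℂ))).filter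
        (fun Θ : IrrCharacter (GLt F) => isPlus (Θ : GLt F → ℂ))).card = Fintype.card Fˣ ^ 2 := by
  obtain ⟨nP, hnP⟩ : ∃ n : ℕ, n = ((Finset.univ.filter
    (fun Θ : IrrCharacter (GLt F) => PS.isP (Θ : GLt F → ℂ))).filter
    (fun Θ : IrrCharacter (GLt F) => isPlus (Θ : GLt F → ℂ))).card := ⟨_, rfl⟩
  obtain ⟨nC, hnC⟩ : ∃ n : ℕ, n = ((Finset.univ.filter
    (fun Θ : IrrCharacter (GLt F) => PS.isC (Θ : GLt F → ℂ))).filter
    (fun Θ : IrrCharacter (GLt F) => isPlus (Θ : GLt F → ℂ))).card := ⟨_, rfl⟩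
  obtain ⟨u, hu⟩ : ∃ n : ℕ, n = Fintype.card Fˣ := ⟨_, rfl⟩
  rw [← hnP, ← hnC, ← hu]
  have hqC : (Fintype.card F : ℂ) = (u : ℂ) + 1 := by
    rw [PS.card_F_eq (F := F), ← hu, Nat.cast_add, Nat.cast_one]
  have hupos : 1 ≤ u := by
    rw [hu]
    exact Fintype.card_pos
  have hz : PS.zEl (-1 : Fˣ) ∈ Subgroup.center (GLt F) := PS.zEl_mem_center _
  have hzz : (PS.zEl (-1 : Fˣ) : GLt F) * PS.zEl (-1) = 1 := zz_mul
  have hN : (Nat.card (Subgroup.centralizer ({1} : Set (GLt F))) : ℂ) =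
      (u : ℂ) ^ 2 * (u + 1) * (u + 2) := by
    have h1 : Subgroup.centralizer ({1} : Set (GLt F)) = ⊤ := by
      rw [Subgroup.centralizer_eq_top_iff_subset]
      exact Set.singleton_subset_iff.2 (Subgroup.one_mem _)
    rw [h1, Subgroup.card_top, PS.card_GL2', ← hu]
    push_cast
    ring
  -- the master splitting
  have key : ∀ (f : IrrCharacter (GLt F) → ℂ) (cD cS cP cC : ℂ),
      (∀ Θ : IrrCharacter (GLt F), PS.isD (Θ : GLt F → ℂ) → f Θ = cD) →
      (∀ Θ : IrrCharacter (GLt F), PS.isS (Θ : GLt F → ℂ) → f Θ = cS) →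
      (∀ Θ : IrrCharacter (GLt F), PS.isP (Θ : GLt F → ℂ) → f Θ = cP) →
      (∀ Θ : IrrCharacter (GLt F), PS.isC (Θ : GLt F → ℂ) → f Θ = cC) →
      ∑ Θ ∈ Finset.univ.filter (fun Θ : IrrCharacter (GLt F) => isPlus (Θ : GLt F → ℂ)), f Θ =
        (u : ℂ) * cD + (u : ℂ) * cS + (nP : ℂ) * cP + (nC : ℂ) * cC := by
    intro f cD cS cP cC hD hS hP hC
    rw [sum_four_filter
      (fun χ : IrrCharacter (GLt F) => PS.isD (χ : GLt F → ℂ))
      (fun χ : IrrCharacter (GLt F) => PS.isS (χ : GLt F → ℂ))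
      (fun χ : IrrCharacter (GLt F) => PS.isP (χ : GLt F → ℂ))
      (fun χ : IrrCharacter (GLt F) => PS.isC (χ : GLt F → ℂ))
      (fun Θ : IrrCharacter (GLt F) => isPlus (Θ : GLt F → ℂ))
      (fun χ => PS.cover χ.2) (fun χ h => PS.not_isS_of_isD h) (fun χ h => PS.not_isP_of_isD h)
      (fun χ h => PS.not_isC_of_isD h) (fun χ h => PS.not_isP_of_isS h)
      (fun χ h => PS.not_isC_of_isS h) (fun χ h => PS.not_isC_of_isP h) f cD cS cP cC
      (fun Θ h _ => hD Θ h) (fun Θ h _ => hS Θ h) (fun Θ h _ => hP Θ h) (fun Θ h _ => hC Θ h)]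
    rw [← hnP, ← hnC]
    have hDall : (Finset.univ.filter
        (fun χ : IrrCharacter (GLt F) => PS.isD (χ : GLt F → ℂ))).filter
        (fun Θ : IrrCharacter (GLt F) => isPlus (Θ : GLt F → ℂ)) =
        Finset.univ.filter (fun χ : IrrCharacter (GLt F) => PS.isD (χ : GLt F → ℂ)) := by
      apply Finset.filter_true_of_mem
      intro Θ hΘ
      obtain ⟨α, hα⟩ := (Finset.mem_filter.1 hΘ).2
      show (Θ : GLt F → ℂ) (PS.zEl (-1)) = (Θ : GLt F → ℂ) 1
      rw [hα, detFun_zz, PS.detFun_one]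
    have hSall : (Finset.univ.filter
        (fun χ : IrrCharacter (GLt F) => PS.isS (χ : GLt F → ℂ))).filter
        (fun Θ : IrrCharacter (GLt F) => isPlus (Θ : GLt F → ℂ)) =
        Finset.univ.filter (fun χ : IrrCharacter (GLt F) => PS.isS (χ : GLt F → ℂ)) := by
      apply Finset.filter_true_of_mem
      intro Θ hΘ
      obtain ⟨α, hα⟩ := (Finset.mem_filter.1 hΘ).2
      show (Θ : GLt F → ℂ) (PS.zEl (-1)) = (Θ : GLt F → ℂ) 1
      rw [hα, stFun_zz, PS.stFun_one]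
    rw [hDall, hSall, PS.card_filter_isD, PS.card_filter_isS, ← hu]
  have hcj : ∀ Θ : IrrCharacter (GLt F), conj ((Θ : GLt F → ℂ) 1) = (Θ : GLt F → ℂ) 1 := by
    intro Θ
    obtain ⟨d, -, hd⟩ := irr_degree Θ.2
    rw [hd, Complex.conj_natCast]
  have hr : ∀ Θ : IrrCharacter (GLt F), isPlus (Θ : GLt F → ℂ) ↔
      (Θ : GLt F → ℂ) (PS.zEl (-1)) = (Θ : GLt F → ℂ) 1 := fun Θ => Iff.rfl
  have hS := fun h : GLt F => plus_sum (PS.zEl (-1 : Fˣ)) hz hzz
    (fun Θ : IrrCharacter (GLt F) => isPlus (Θ : GLt F → ℂ)) hr h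
  have hone : ((1 : GLt F)) 0 0 = 1 := by
    rw [GL2.one_apply']
    simp
  -- first identity
  have E1 := key (fun Θ => 2 * (Θ : GLt F → ℂ) 1 * conj ((Θ : GLt F → ℂ) 1))
    (2 * 1 * 1) (2 * (Fintype.card F : ℂ) * (Fintype.card F : ℂ))
    (2 * ((Fintype.card F : ℂ) + 1) * ((Fintype.card F : ℂ) + 1))
    (2 * ((Fintype.card F : ℂ) - 1) * ((Fintype.card F : ℂ) - 1))
    (fun Θ h => by
      show 2 * (Θ : GLt F → ℂ) 1 * conj ((Θ : GLt F → ℂ) 1) = _
      rw [hcj Θ, PS.deg_of_isD h])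
    (fun Θ h => by
      show 2 * (Θ : GLt F → ℂ) 1 * conj ((Θ : GLt F → ℂ) 1) = _
      rw [hcj Θ, PS.deg_of_isS h])
    (fun Θ h => by
      show 2 * (Θ : GLt F → ℂ) 1 * conj ((Θ : GLt F → ℂ) 1) = _
      rw [hcj Θ, PS.deg_of_isP h])
    (fun Θ h => by
      show 2 * (Θ : GLt F → ℂ) 1 * conj ((Θ : GLt F → ℂ) 1) = _
      rw [hcj Θ, PS.deg_of_isC Θ h])
  rw [hS 1, Cfsg.Agent.Lib.Helper4.column_orthogonality,
    Cfsg.Agent.Lib.Helper4.column_orthogonality, if_pos (IsConj.refl 1),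
    if_neg (not_isConj_zz hodd 1 hone), add_zero, hN, hqC] at E1
  -- second identity
  have hE2 : ∑ Θ ∈ Finset.univ.filter
      (fun Θ : IrrCharacter (GLt F) => isPlus (Θ : GLt F → ℂ)),
      2 * (Θ : GLt F → ℂ) 1 * conj (∑ t : F, (Θ : GLt F → ℂ) (GL2.um t)) =
      (u : ℂ) ^ 2 * (u + 1) * (u + 2) := by
    have h1 : ∀ t : F, ∑ Θ ∈ Finset.univ.filter
        (fun Θ : IrrCharacter (GLt F) => isPlus (Θ : GLt F → ℂ)),
        2 * (Θ : GLt F → ℂ) 1 * conj ((Θ : GLt F → ℂ) (GL2.um t)) =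
        if t = 0 then (u : ℂ) ^ 2 * (u + 1) * (u + 2) else 0 := by
      intro t
      rw [hS (GL2.um t), Cfsg.Agent.Lib.Helper4.column_orthogonality,
        Cfsg.Agent.Lib.Helper4.column_orthogonality,
        if_neg (not_isConj_zz hodd (GL2.um t) (GL2.um_00 t)), add_zero]
      by_cases ht : t = 0
      · rw [if_pos ht, ht, GL2.um_zero, if_pos (IsConj.refl 1), hN]
      · rw [if_neg ht, if_neg]
        intro hc
        exact GL2.um_ne_one ht (isConj_one_right.1 hc)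
    calc ∑ Θ ∈ Finset.univ.filter
          (fun Θ : IrrCharacter (GLt F) => isPlus (Θ : GLt F → ℂ)),
          2 * (Θ : GLt F → ℂ) 1 * conj (∑ t : F, (Θ : GLt F → ℂ) (GL2.um t))
        = ∑ Θ ∈ Finset.univ.filter
          (fun Θ : IrrCharacter (GLt F) => isPlus (Θ : GLt F → ℂ)),
          ∑ t : F, 2 * (Θ : GLt F → ℂ) 1 * conj ((Θ : GLt F → ℂ) (GL2.um t)) := by
          apply Finset.sum_congr rfl
          intro Θ _
          rw [map_sum, Finset.mul_sum]
      _ = ∑ t : F, ∑ Θ ∈ Finset.univ.filter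
          (fun Θ : IrrCharacter (GLt F) => isPlus (Θ : GLt F → ℂ)),
          2 * (Θ : GLt F → ℂ) 1 * conj ((Θ : GLt F → ℂ) (GL2.um t)) := Finset.sum_comm
      _ = ∑ t : F, (if t = 0 then (u : ℂ) ^ 2 * (u + 1) * (u + 2) else 0) :=
          Finset.sum_congr rfl (fun t _ => h1 t)
      _ = (u : ℂ) ^ 2 * (u + 1) * (u + 2) := by simp
  have E2 := key (fun Θ => 2 * (Θ : GLt F → ℂ) 1 * conj (∑ t : F, (Θ : GLt F → ℂ) (GL2.um t)))
    (2 * 1 * (Fintype.card F : ℂ)) (2 * (Fintype.card F : ℂ) * (Fintype.card F : ℂ))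
    (2 * ((Fintype.card F : ℂ) + 1) * (2 * (Fintype.card F : ℂ)))
    (2 * ((Fintype.card F : ℂ) - 1) * 0)
    (fun Θ h => by
      show 2 * (Θ : GLt F → ℂ) 1 * conj (∑ t : F, (Θ : GLt F → ℂ) (GL2.um t)) = _
      rw [PS.avg_of_isD h, Complex.conj_natCast, PS.deg_of_isD h])
    (fun Θ h => by
      show 2 * (Θ : GLt F → ℂ) 1 * conj (∑ t : F, (Θ : GLt F → ℂ) (GL2.um t)) = _
      rw [PS.avg_of_isS h, Complex.conj_natCast, PS.deg_of_isS h])
    (fun Θ h => by
      show 2 * (Θ : GLt F → ℂ) 1 * conj (∑ t : F, (Θ : GLt F → ℂ) (GL2.um t)) = _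
      rw [PS.avg_of_isP h, map_mul, Complex.conj_natCast, Complex.conj_ofNat, PS.deg_of_isP h])
    (fun Θ h => by
      show 2 * (Θ : GLt F → ℂ) 1 * conj (∑ t : F, (Θ : GLt F → ℂ) (GL2.um t)) = _
      have h' : ∑ t : F, (Θ : GLt F → ℂ) (GL2.um t) = 0 := h
      rw [h', map_zero, PS.deg_of_isC Θ h])
  rw [hE2, hqC] at E2
  have hu0 : (u : ℂ) ≠ 0 := Nat.cast_ne_zero.2 (by omega)
  have hu1 : (u : ℂ) + 1 ≠ 0 := Nat.cast_add_one_ne_zero u
  have hu2 : (u : ℂ) + 2 ≠ 0 := by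
    have h : ((u + 2 : ℕ) : ℂ) ≠ 0 := Nat.cast_ne_zero.2 (by omega)
    rwa [Nat.cast_add, Nat.cast_ofNat] at h
  have E2' : (4 * (nP : ℂ) + 2 * u) = (u : ℂ) ^ 2 := by
    have h : (((u : ℂ) + 1) * ((u : ℂ) + 2)) * (4 * (nP : ℂ) + 2 * u) =
        (((u : ℂ) + 1) * ((u : ℂ) + 2)) * (u : ℂ) ^ 2 := by
      linear_combination (-1 : ℂ) * E2
    exact mul_left_cancel₀ (mul_ne_zero hu1 hu2) h
  have E1' : (4 * (nC : ℂ)) = (u : ℂ) ^ 2 := by
    have h : (u : ℂ) ^ 2 * (4 * (nC : ℂ)) = (u : ℂ) ^ 2 * (u : ℂ) ^ 2 := by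
      linear_combination (-2 : ℂ) * E1 - ((u : ℂ) + 2) ^ 2 * E2'
    exact mul_left_cancel₀ (pow_ne_zero 2 hu0) h
  constructor
  · exact_mod_cast E2'
  · exact_mod_cast E1'

open scoped Classical in
/-- irreducible characters of `GL₂(q)` of degrees `q ± 1`, trivial at `-1` and not fixed by the
twist with `sgn ∘ det` -/
theorem exists_plus_typeI (hodd : Odd (Fintype.card F)) :
    (5 < Fintype.card F → ∃ Θ : GLt F → ℂ, IsIrrCharacter (GLt F) Θ ∧
      Θ 1 = (Fintype.card F : ℂ) + 1 ∧ isPlus Θ ∧ ¬ isII Θ) ∧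
    (3 < Fintype.card F → ∃ Θ : GLt F → ℂ, IsIrrCharacter (GLt F) Θ ∧
      Θ 1 = (Fintype.card F : ℂ) - 1 ∧ isPlus Θ ∧ ¬ isII Θ) := by
  obtain ⟨cP, cC⟩ := plus_counts hodd
  have hq : Fintype.card F = Fintype.card Fˣ + 1 := PS.card_F_eq
  have hq3 : 3 ≤ Fintype.card F := by
    obtain ⟨k, hk⟩ := hodd
    have h := Fintype.one_lt_card (α := F)
    omega
  have hIIP := nII_P hodd hq3
  have hIIsum := nII_sum hodd
  constructor
  · intro h5
    by_contra hcon
    push Not at hcon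
    have hle : ((Finset.univ.filter
        (fun Θ : IrrCharacter (GLt F) => PS.isP (Θ : GLt F → ℂ))).filter
        (fun Θ : IrrCharacter (GLt F) => isPlus (Θ : GLt F → ℂ))).card ≤ nII F ((Fintype.card F : ℂ) + 1) := by
      unfold nII
      apply Finset.card_le_card
      intro Θ hΘ
      rw [Finset.mem_filter, Finset.mem_filter] at hΘ
      rw [Finset.mem_filter]
      exact ⟨Finset.mem_univ _, PS.deg_of_isP hΘ.1.2,
        hcon Θ Θ.2 (PS.deg_of_isP hΘ.1.2) hΘ.2⟩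
    have h1 : Fintype.card Fˣ ^ 2 ≤ 4 * Fintype.card Fˣ := by omega
    have h2 : 5 * Fintype.card Fˣ ≤ Fintype.card Fˣ ^ 2 := by
      rw [pow_two]
      exact Nat.mul_le_mul_right _ (by omega)
    omega
  · intro h3
    by_contra hcon
    push Not at hcon
    have hle : ((Finset.univ.filter
        (fun Θ : IrrCharacter (GLt F) => PS.isC (Θ : GLt F → ℂ))).filter
        (fun Θ : IrrCharacter (GLt F) => isPlus (Θ : GLt F → ℂ))).card ≤ nII F ((Fintype.card F : ℂ) - 1) := by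
      unfold nII
      apply Finset.card_le_card
      intro Θ hΘ
      rw [Finset.mem_filter, Finset.mem_filter] at hΘ
      rw [Finset.mem_filter]
      exact ⟨Finset.mem_univ _, PS.deg_of_isC Θ hΘ.1.2,
        hcon Θ Θ.2 (PS.deg_of_isC Θ hΘ.1.2) hΘ.2⟩
    have h1 : Fintype.card Fˣ ^ 2 ≤ 2 * Fintype.card Fˣ := by omega
    have h2 : 3 * Fintype.card Fˣ ≤ Fintype.card Fˣ ^ 2 := by
      rw [pow_two]
      exact Nat.mul_le_mul_right _ (by omega)
    omega

/-- `q`, `q + 1` and `q - 1` are character degrees of `PSL₂(q)`, `q > 5` odd -/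
theorem psl_odd_degrees (hodd : Odd (Fintype.card F)) (h5 : 5 < Fintype.card F) :
    Fintype.card F ∈ charDegrees (PSLt F) ∧ Fintype.card F + 1 ∈ charDegrees (PSLt F) ∧
      Fintype.card F - 1 ∈ charDegrees (PSLt F) := by
  have hdef : ∀ (Θ : GLt F → ℂ) (d : ℕ), IsIrrCharacter (GLt F) Θ → Θ 1 = (d : ℂ) →
      isPlus Θ → ¬ isII Θ → d ∈ charDegrees (PSLt F) := by
    intro Θ d hΘ hd hp hII
    have hχ := res_irr_of_not_isII hodd hΘ hII
    obtain ⟨ψ, hψ⟩ := Cfsg.Agent.Lib.Helper4.exists_deflate_irr (Subgroup.center (SLt F))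
      ⟨Θ ∘ (Matrix.SpecialLinearGroup.toGL : SLt F →* GLt F), hχ⟩
      (fun z hz => res_center_of_plus hp z hz)
    refine ⟨ψ, ?_⟩
    apply charDegree_eq
    have h0 : (ψ : PSLt F → ℂ) (QuotientGroup.mk 1) =
        Θ ((Matrix.SpecialLinearGroup.toGL : SLt F →* GLt F) 1) := hψ 1
    rw [map_one, hd] at h0
    exact h0
  obtain ⟨hP, hC⟩ := exists_plus_typeI hodd
  refine ⟨?_, ?_, ?_⟩
  · obtain ⟨ψ, hψ⟩ := Cfsg.Agent.Lib.Helper4.exists_deflate_irr (Subgroup.center (SLt F))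
      ⟨PS2.slSt, PS2.sl_one_decomp.1⟩ (fun z hz => slSt_center z hz)
    refine ⟨ψ, ?_⟩
    apply charDegree_eq
    have h0 : (ψ : PSLt F → ℂ) (QuotientGroup.mk 1) = PS2.slSt 1 := hψ 1
    rw [slSt_one] at h0
    exact h0
  · obtain ⟨Θ, hΘ, hd, hp, hII⟩ := hP h5
    apply hdef Θ _ hΘ _ hp hII
    rw [hd, Nat.cast_add, Nat.cast_one]
  · obtain ⟨Θ, hΘ, hd, hp, hII⟩ := hC (by omega)
    apply hdef Θ _ hΘ _ hp hII
    rw [hd, Nat.cast_sub (by omega), Nat.cast_one]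

/-- the character degree graph of `PSL₂(q)` and `SL₂(q)`, `q > 5` odd -/
theorem degree_graph_psl_odd (t : ℕ) [Fact t.Prime] [CharP F t] (ht : t ≠ 2)
    (h5 : 5 < Fintype.card F) {S : Type*} [Group S]
    (hS : Nonempty (S ≃* PSLt F) ∨ Nonempty (S ≃* SLt F)) :
    degreePrimes S =
      {r : ℕ | r.Prime ∧ r ∣ Fintype.card F * (Fintype.card F ^ 2 - 1)} ∧
    ∀ r s : ℕ, (degreeGraph S).Adj r s ↔ (r ≠ s ∧ r.Prime ∧ s.Prime ∧
      r ∣ Fintype.card F ^ 2 - 1 ∧ s ∣ Fintype.card F ^ 2 - 1 ∧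
      (r = 2 ∨ s = 2 ∨ (r ∣ Fintype.card F + 1 ∧ s ∣ Fintype.card F + 1) ∨
        (r ∣ Fintype.card F - 1 ∧ s ∣ Fintype.card F - 1))) := by
  obtain ⟨a, -, ha⟩ := FiniteField.card F t
  have hodd : Odd (Fintype.card F) := by
    rw [ha]
    exact Odd.pow ((Fact.out : t.Prime).odd_of_ne_two ht)
  obtain ⟨d1, d2, d3⟩ := psl_odd_degrees hodd h5
  have hpsl : charDegrees (PSLt F) ⊆ charDegrees (SLt F) :=
    charDegrees_subset_of_surjective (QuotientGroup.mk' (Subgroup.center (SLt F)))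
      (QuotientGroup.mk'_surjective _)
  have hsl : ∀ d ∈ charDegrees (SLt F), d = 1 ∨ d = Fintype.card F ∨
      d = Fintype.card F + 1 ∨ d = Fintype.card F - 1 ∨ d = (Fintype.card F + 1) / 2 ∨
      d = (Fintype.card F - 1) / 2 := by
    rintro d ⟨χ, rfl⟩
    obtain ⟨d', -, hd'⟩ := irr_degree χ.2
    rw [charDegree_eq hd']
    rcases sl_odd_degrees hodd χ.2 with h | h | h | h | h | h
    · left
      rw [hd'] at h
      exact_mod_cast h
    · right; left
      rw [hd'] at h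
      exact_mod_cast h
    · right; right; left
      rw [hd'] at h
      exact_mod_cast h
    · right; right; right; left
      rw [hd'] at h
      have h' : ((d' + 1 : ℕ) : ℂ) = (Fintype.card F : ℂ) := by
        push_cast
        rw [h]
        ring
      have h'' : d' + 1 = Fintype.card F := by exact_mod_cast h'
      omega
    · right; right; right; right; left
      rw [hd'] at h
      exact_mod_cast h
    · right; right; right; right; right
      rw [hd'] at h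
      exact_mod_cast h
  rcases hS with ⟨⟨e⟩⟩ | ⟨⟨e⟩⟩
  · have hcd : charDegrees S = charDegrees (PSLt F) := charDegrees_congr e
    apply degree_graph_odd (Fintype.card F) t a Fact.out ht ha h5
    · intro d hd
      rw [hcd] at hd
      exact hsl d (hpsl hd)
    · rw [hcd]
      exact d1
    · rw [hcd]
      exact d2
    · rw [hcd]
      exact d3
  · have hcd : charDegrees S = charDegrees (SLt F) := charDegrees_congr e
    apply degree_graph_odd (Fintype.card F) t a Fact.out ht ha h5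
    · intro d hd
      rw [hcd] at hd
      exact hsl d hd
    · rw [hcd]
      exact hpsl d1
    · rw [hcd]
      exact hpsl d2
    · rw [hcd]
      exact hpsl d3

end finite

end Cfsg.Agent.Lib.Helper26.PSR
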