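import Mathlib
import Cfsg.Prelude.Def_Characters
import Cfsg.Agent.Lib.Helper26.PrimeActChar
import Cfsg.Agent.Lib.Helper26.GlaubClass
import Cfsg.Agent.Lib.Helper26.Clifford
import Cfsg.Agent.Lib.Helper26.IndIrr
import Cfsg.Agent.Lib.Helper7.CliffordCorr
import Cfsg.Agent.S0173

/-!
# Prime action hypothesis (Peterfalvi (4.3)) — Clifford theory for `K ⊴ L = K ⋊ W₁` (helper26)

* `stabFun K θ`: the stabiliser in `L` of a function on the normal subgroup `K`.
* `isIrrCharacter_indFun_of_stab`: `Ind θ` is irreducible if `θ ∈ Irr K` has stabiliser `K`.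
* `PAHyp.card_fixed_irr`: a non-identity element of `W₁` fixes exactly `|W₂|` irreducible
  characters of `K` (Brauer's permutation lemma + Glauberman's lemma).
* `PAHyp.stab_of_fixed`: an irreducible character of `K` fixed by one non-identity element of `W₁` is
  fixed by `W₁`.
* `PAHyp.isIrr_indFun`: non-invariant characters induce irreducibly.
-/

namespace Cfsg.Agent.Lib.Helper26
open Cfsg
open scoped ComplexConjugate

section
variable {L : Type*} [Group L] [Fintype L] (K : Subgroup L) [hK : K.Normal]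

theorem conjFunN_mul_apply (θ : K → ℂ) (a b : L) (k : K) :
    conjFunN K θ (a * b) k = conjFunN K θ a ⟨b * k * b⁻¹, hK.conj_mem k k.2 b⟩ := by
  unfold conjFunN
  congr 1
  apply Subtype.ext
  simp [mul_assoc]

/-- Stabiliser of a function on a normal subgroup. -/
def stabFun (θ : K → ℂ) : Subgroup L where
  carrier := {g | conjFunN K θ g = θ}
  one_mem' := by
    show conjFunN K θ 1 = θ
    funext k
    unfold conjFunN
    congr 1
    apply Subtype.ext
    simp
  mul_mem' := by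
    intro a b ha hb
    have ha' : conjFunN K θ a = θ := ha
    have hb' : conjFunN K θ b = θ := hb
    show conjFunN K θ (a * b) = θ
    funext k
    rw [conjFunN_mul_apply, ha']
    exact congrFun hb' k
  inv_mem' := by
    intro a ha
    have ha' : conjFunN K θ a = θ := ha
    show conjFunN K θ a⁻¹ = θ
    funext k
    have h1 : conjFunN K θ a⁻¹ k = conjFunN K θ a (⟨a⁻¹ * k * a⁻¹⁻¹, hK.conj_mem k k.2 a⁻¹⟩ : K) := by
      rw [ha']; rfl
    rw [h1]
    unfold conjFunN
    congr 1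
    apply Subtype.ext
    simp [mul_assoc]

theorem mem_stabFun (θ : K → ℂ) (g : L) : g ∈ stabFun K θ ↔ conjFunN K θ g = θ := Iff.rfl

theorem le_stabFun {θ : K → ℂ} (hθ : IsClassFunction K θ) : K ≤ stabFun K θ := by
  intro g hg
  rw [mem_stabFun]
  funext k
  have := hθ k ⟨g, hg⟩
  rw [← this]
  rfl

/-- `Ind θ` is irreducible when no element outside `K` fixes `θ`. -/
theorem isIrrCharacter_indFun_of_stab (τ : K → ℂ) (hτ : IsIrrCharacter K τ)
    (hstab : ∀ x : L, x ∉ K → conjFunN K τ x ≠ τ) : IsIrrCharacter L (indFun K τ) := by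
  classical
  have : Fintype K := Fintype.ofFinite _
  have hchar : IsCharacter L (indFun K τ) :=
    isCharacter_indFun K (isCharacter_of_isIrrCharacter hτ)
  have hcf := isClassFunction_of_isIrrCharacter hτ
  have hterm : ∀ x : L, classInner τ (fun k : K => τ ⟨x * k * x⁻¹, hK.conj_mem k k.2 x⟩) =
      if x ∈ K then 1 else 0 := by
    intro x
    have hirr := Cfsg.Agent.Lib.Helper2.isIrrCharacter_conj_of_normal K hτ x
    by_cases hx : x ∈ K
    · rw [if_pos hx]
      have heq : (fun k : K => τ ⟨x * k * x⁻¹, hK.conj_mem k k.2 x⟩) = τ :=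
        (mem_stabFun K τ x).mp (le_stabFun K hcf hx)
      rw [heq, classInner_irr hτ hτ, if_pos rfl]
    · rw [if_neg hx, classInner_irr hτ hirr]
      rw [if_neg]
      intro heq
      exact hstab x hx heq.symm
  apply isIrrCharacter_of_norm_one (isGeneralizedCharacter_of_isCharacter hchar)
  · rw [classInner_indFun_indFun_normal K τ τ]
    simp_rw [hterm]
    rw [Finset.sum_boole]
    have e : Nat.card K = (Finset.univ.filter (fun x : L => x ∈ K)).card := by
      rw [Nat.card_eq_fintype_card, Fintype.card_subtype]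
    rw [← e]
    have hK0 : (Nat.card K : ℂ) ≠ 0 := by
      have : Nat.card K ≠ 0 := Nat.card_pos.ne'
      exact_mod_cast this
    exact inv_mul_cancel₀ hK0
  · rw [indFun_one]
    obtain ⟨d, hd, hd1⟩ := irr_degree hτ
    rw [hd1]
    have hcast : (Nat.card K : ℂ)⁻¹ * ((Fintype.card L : ℂ) * (d : ℂ)) =
        (((Nat.card K : ℝ)⁻¹ * ((Fintype.card L : ℝ) * (d : ℝ)) : ℝ) : ℂ) := by
      push_cast; ring
    rw [hcast, Complex.ofReal_re]
    have hK0 : (0 : ℝ) < Nat.card K := by exact_mod_cast Nat.card_pos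
    have hG : (0 : ℝ) < Fintype.card L := by exact_mod_cast Fintype.card_pos
    have hd' : (0 : ℝ) < d := by exact_mod_cast hd
    exact mul_pos (inv_pos.2 hK0) (mul_pos hG hd')

/-- If all of `L` fixes `θ ∈ Irr K`, then `⟨Ind θ, Ind θ⟩ = [L : K]`. -/
theorem classInner_indFun_self_of_invariant (τ : K → ℂ) (hτ : IsIrrCharacter K τ)
    (hstab : ∀ x : L, conjFunN K τ x = τ) :
    classInner (indFun K τ) (indFun K τ) = (K.index : ℂ) := by
  classical
  have : Fintype K := Fintype.ofFinite _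
  rw [classInner_indFun_indFun_normal K τ τ]
  have hterm : ∀ x : L, classInner τ (fun k : K => τ ⟨x * k * x⁻¹, hK.conj_mem k k.2 x⟩) = 1 := by
    intro x
    have heq : (fun k : K => τ ⟨x * k * x⁻¹, hK.conj_mem k k.2 x⟩) = τ := hstab x
    rw [heq, classInner_irr hτ hτ, if_pos rfl]
  simp_rw [hterm]
  rw [Finset.sum_const, Finset.card_univ, nsmul_eq_mul, mul_one]
  have hci : (Nat.card K : ℂ) * (K.index : ℂ) = (Fintype.card L : ℂ) := by
    rw [← Nat.cast_mul, Subgroup.card_mul_index, Nat.card_eq_fintype_card]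
  have hK0 : (Nat.card K : ℂ) ≠ 0 := Nat.cast_ne_zero.mpr Nat.card_pos.ne'
  rw [← hci]
  field_simp

end

section
variable {L : Type*} [Group L] [Fintype L] {K W₁ W₂ : Subgroup L}

theorem comp_conjNormal_eq [hK : K.Normal] (θ : K → ℂ) (y : L) :
    θ ∘ (MulAut.conjNormal y : K ≃* K) = conjFunN K θ y := by
  funext k
  simp only [Function.comp_apply, conjFunN]
  congr 1

/-- The classes of `K` fixed by a non-identity element `y` of `W₁` are in bijection with `W₂`. -/
theorem PAHyp.card_fixed_classes (h : PAHyp K W₁ W₂) {y : L} (hy : y ∈ W₁) (hy1 : y ≠ 1) :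
    haveI := h.normal
    Nat.card {C : ConjClasses K //
      ConjClasses.map (MulEquiv.toMonoidHom (MulAut.conjNormal y : K ≃* K)) C = C} =
      Nat.card W₂ := by
  classical
  haveI hK := h.normal
  have hyc : ∀ c ∈ W₂, y * c * y⁻¹ = c := by
    intro c hc
    rw [h.comm y hy c hc, mul_inv_cancel_right]
  have hfix : ∀ c : ↥W₂, ConjClasses.map (MulEquiv.toMonoidHom (MulAut.conjNormal y : K ≃* K))
      (ConjClasses.mk (⟨(c : L), h.le₂ c.2⟩ : K)) = ConjClasses.mk (⟨(c : L), h.le₂ c.2⟩ : K) := by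
    intro c
    show ConjClasses.mk _ = ConjClasses.mk _
    exact congrArg ConjClasses.mk
      (Subtype.ext (by simp [MulAut.conjNormal_apply, hyc (c : L) c.2]))
  symm
  apply Nat.card_eq_of_bijective
    (fun c : ↥W₂ => (⟨ConjClasses.mk (⟨(c : L), h.le₂ c.2⟩ : K), hfix c⟩ :
      {C : ConjClasses K //
        ConjClasses.map (MulEquiv.toMonoidHom (MulAut.conjNormal y : K ≃* K)) C = C}))
  constructor
  · -- injective
    intro c c' hcc
    have h1 : ConjClasses.mk (⟨(c : L), h.le₂ c.2⟩ : K) = ConjClasses.mk ⟨(c' : L), h.le₂ c'.2⟩ :=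
      congrArg Subtype.val hcc
    obtain ⟨k, hk⟩ := isConj_iff.mp (ConjClasses.mk_eq_mk_iff_isConj.mp h1)
    have hkL : (k : L) * (c : L) * (k : L)⁻¹ = (c' : L) := by
      have := congrArg Subtype.val hk
      simpa using this
    obtain ⟨A, hA⟩ : ∃ A : Subgroup L, A = Subgroup.zpowers y := ⟨_, rfl⟩
    have hAK : A ≤ Subgroup.normalizer (K : Set L) := by
      rw [Subgroup.normalizer_eq_top]; exact le_top
    have hcop : (Nat.card A).Coprime (Nat.card K) := by
      rw [hA, Nat.card_zpowers]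
      apply Nat.Coprime.coprime_dvd_left _ h.coprime_card
      have := orderOf_dvd_natCard (⟨y, hy⟩ : W₁)
      rwa [Subgroup.orderOf_mk] at this
    have hsolv : Group.IsSolvable A := by
      rw [hA]
      apply Group.isSolvable_of_comm
      rintro ⟨a, ha⟩ ⟨b, hb⟩
      obtain ⟨m, rfl⟩ := Subgroup.mem_zpowers_iff.mp ha
      obtain ⟨n, rfl⟩ := Subgroup.mem_zpowers_iff.mp hb
      apply Subtype.ext
      show y ^ m * y ^ n = y ^ n * y ^ m
      rw [← zpow_add, ← zpow_add, add_comm]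
    have hAfix : ∀ c₁ ∈ W₂, ∀ a ∈ A, a * c₁ * a⁻¹ = c₁ := by
      intro c₁ hc₁ a ha
      rw [hA] at ha
      obtain ⟨n, rfl⟩ := Subgroup.mem_zpowers_iff.mp ha
      have hcomm : Commute (y ^ n) c₁ := Commute.zpow_left (h.comm y hy c₁ hc₁) n
      rw [hcomm.eq, mul_inv_cancel_right]
    obtain ⟨c₀, hc₀, hc₀c⟩ := @Cfsg.Agent.Lib.Helper13.glauberman_conj L _ _ L
      (MulAction.compHom L (MulAut.conj (G := L))) A K hAK hcop (Or.inl hsolv) (c : L) (c' : L)
      (hAfix (c : L) c.2) (hAfix (c' : L) c'.2) ⟨(k : L), k.2, hkL⟩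
    have hc₀c' : c₀ * (c : L) * c₀⁻¹ = (c' : L) := hc₀c
    have hc₀W : c₀ ∈ W₂ := by
      rw [← h.cent y hy hy1]
      refine ⟨hc₀.1, ?_⟩
      refine Subgroup.centralizer_le ?_ hc₀.2
      intro z hz
      rw [Set.mem_singleton_iff] at hz
      rw [hz, hA]
      exact Subgroup.mem_zpowers y
    apply Subtype.ext
    rw [← hc₀c', h.comm₂ c₀ hc₀W (c : L) c.2, mul_inv_cancel_right]
  · -- surjective
    rintro ⟨C, hC⟩
    have hcopy : Nat.Coprime (orderOf y) (Nat.card K) := by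
      apply Nat.Coprime.coprime_dvd_left _ h.coprime_card
      have := orderOf_dvd_natCard (⟨y, hy⟩ : W₁)
      rwa [Subgroup.orderOf_mk] at this
    obtain ⟨s, hsK, hsC, hsfix⟩ := exists_fixed_of_invariant_class K y hcopy C hC
    have hsW : s ∈ W₂ := by
      rw [← h.cent y hy hy1]
      refine ⟨hsK, Subgroup.mem_centralizer_iff.mpr ?_⟩
      intro z hz
      rw [Set.mem_singleton_iff] at hz
      subst hz
      calc z * s = (z * s * z⁻¹) * z := by group
        _ = s * z := by rw [hsfix]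
    refine ⟨⟨s, hsW⟩, ?_⟩
    apply Subtype.ext
    exact hsC

/-- A non-identity element of `W₁` fixes exactly `|W₂|` irreducible characters of `K`. -/
theorem PAHyp.card_fixed_irr (h : PAHyp K W₁ W₂) {y : L} (hy : y ∈ W₁) (hy1 : y ≠ 1) :
    haveI := h.normal
    Nat.card {θ : IrrCharacter K // conjFunN K (θ : K → ℂ) y = (θ : K → ℂ)} = Nat.card W₂ := by
  haveI hK := h.normal
  rw [← h.card_fixed_classes hy hy1, Cfsg.Agent.S0173.result (MulAut.conjNormal y : K ≃* K)]
  apply Nat.card_congr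
  apply Equiv.subtypeEquivRight
  intro θ
  rw [comp_conjNormal_eq]

/-- Prime action on characters: a character fixed by a non-identity element of `W₁` is fixed by
all of `W₁`. -/
theorem PAHyp.stab_of_fixed (h : PAHyp K W₁ W₂) :
    haveI := h.normal
    ∀ (θ : K → ℂ), IsIrrCharacter K θ → ∀ y ∈ W₁, y ≠ 1 → conjFunN K θ y = θ →
      W₁ ≤ stabFun K θ := by
  classical
  haveI hK := h.normal
  intro θ hθ y hy hy1 hfix
  haveI : Fintype (IrrCharacter K) := Fintype.ofFinite _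
  haveI := h.cyc₁
  obtain ⟨g₀, hg₀⟩ := IsCyclic.exists_generator (α := ↥W₁)
  have hW₁le : ∀ x ∈ W₁, x ∈ Subgroup.zpowers (g₀ : L) := by
    intro x hx
    obtain ⟨n, hn⟩ := Subgroup.mem_zpowers_iff.mp (hg₀ ⟨x, hx⟩)
    refine Subgroup.mem_zpowers_iff.mpr ⟨n, ?_⟩
    have := congrArg Subtype.val hn
    simpa using this
  have hx₀1 : (g₀ : L) ≠ 1 := by
    intro h1
    obtain ⟨x, hx, hx1⟩ := h.exists_ne_one
    apply hx1
    have := hW₁le x hx
    rw [h1, Subgroup.zpowers_one_eq_bot, Subgroup.mem_bot] at this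
    exact this
  have hsub : Finset.univ.filter (fun θ : IrrCharacter K =>
      conjFunN K (θ : K → ℂ) (g₀ : L) = (θ : K → ℂ)) ⊆
      Finset.univ.filter (fun θ : IrrCharacter K => conjFunN K (θ : K → ℂ) y = (θ : K → ℂ)) := by
    intro η hη
    rw [Finset.mem_filter] at hη ⊢
    refine ⟨Finset.mem_univ _, ?_⟩
    have h1 : (g₀ : L) ∈ stabFun K (η : K → ℂ) := hη.2
    have h2 : Subgroup.zpowers (g₀ : L) ≤ stabFun K (η : K → ℂ) := Subgroup.zpowers_le.mpr h1
    exact h2 (hW₁le y hy)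
  have hcard : (Finset.univ.filter (fun θ : IrrCharacter K =>
      conjFunN K (θ : K → ℂ) y = (θ : K → ℂ))).card ≤
      (Finset.univ.filter (fun θ : IrrCharacter K =>
      conjFunN K (θ : K → ℂ) (g₀ : L) = (θ : K → ℂ))).card := by
    have e1 := h.card_fixed_irr hy hy1
    have e2 := h.card_fixed_irr g₀.2 hx₀1
    rw [Nat.card_eq_fintype_card, Fintype.card_subtype] at e1 e2
    rw [e1, e2]
  have heq := Finset.eq_of_subset_of_card_le hsub hcard
  have hmem : (⟨θ, hθ⟩ : IrrCharacter K) ∈ Finset.univ.filter (fun θ : IrrCharacter K =>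
      conjFunN K (θ : K → ℂ) (g₀ : L) = (θ : K → ℂ)) := by
    rw [heq, Finset.mem_filter]
    exact ⟨Finset.mem_univ _, hfix⟩
  have h1 : (g₀ : L) ∈ stabFun K θ := (Finset.mem_filter.mp hmem).2
  have h2 : Subgroup.zpowers (g₀ : L) ≤ stabFun K θ := Subgroup.zpowers_le.mpr h1
  intro x hx
  exact h2 (hW₁le x hx)

/-- Peterfalvi (4.3)(a): a character of `K` not fixed by `W₁` induces irreducibly to `L`. -/
theorem PAHyp.isIrr_indFun (h : PAHyp K W₁ W₂) :
    haveI := h.normal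
    ∀ (θ : K → ℂ), IsIrrCharacter K θ → (∃ x ∈ W₁, conjFunN K θ x ≠ θ) →
      IsIrrCharacter L (indFun K θ) := by
  haveI hK := h.normal
  intro θ hθ hx
  apply isIrrCharacter_indFun_of_stab K θ hθ
  intro g hg hfix
  obtain ⟨k, hk, y, hy, rfl⟩ := h.decomp g
  have hkS : k ∈ stabFun K θ := le_stabFun K (isClassFunction_of_isIrrCharacter hθ) hk
  have hgS : k * y ∈ stabFun K θ := hfix
  have hyS : y ∈ stabFun K θ := by
    have := (stabFun K θ).mul_mem ((stabFun K θ).inv_mem hkS) hgS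
    simpa using this
  have hy1 : y ≠ 1 := by
    rintro rfl
    apply hg
    simpa using hk
  obtain ⟨x, hxW, hxne⟩ := hx
  exact hxne (h.stab_of_fixed θ hθ y hy hy1 hyS hxW)

/-- A `W₁`-invariant character of `K` is `L`-invariant. -/
theorem PAHyp.stab_eq_top (h : PAHyp K W₁ W₂) :
    haveI := h.normal
    ∀ (θ : K → ℂ), IsIrrCharacter K θ → (∀ x ∈ W₁, conjFunN K θ x = θ) →
      ∀ g : L, conjFunN K θ g = θ := by
  haveI hK := h.normal
  intro θ hθ hinv g
  obtain ⟨k, hk, y, hy, rfl⟩ := h.decomp g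
  have hkS : k ∈ stabFun K θ := le_stabFun K (isClassFunction_of_isIrrCharacter hθ) hk
  have hyS : y ∈ stabFun K θ := hinv y hy
  exact (stabFun K θ).mul_mem hkS hyS

end

section
variable {L : Type*} [Group L] [Fintype L] {K W₁ W₂ : Subgroup L}

theorem PAHyp.card_dual (h : PAHyp K W₁ W₂) :
    Nat.card (↥(W₁ ⊔ W₂) →* ℂˣ) = Nat.card W₁ * Nat.card W₂ := by
  rw [← h.card_sup]
  letI : CommGroup ↥(W₁ ⊔ W₂) := { (inferInstance : Group ↥(W₁ ⊔ W₂)) with
    mul_comm := h.commW }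
  have : NeZero ((Monoid.exponent ↥(W₁ ⊔ W₂) : ℕ) : ℂ) :=
    ⟨Nat.cast_ne_zero.mpr Monoid.exponent_ne_zero_of_finite⟩
  exact CommGroup.card_monoidHom_of_hasEnoughRootsOfUnity ↥(W₁ ⊔ W₂) ℂ

theorem PAHyp.index_K (h : PAHyp K W₁ W₂) : K.index = Nat.card W₁ :=
  h.isComplement'.symm.index_eq_card

/-- Peterfalvi (4.3)(b), counting part: exactly `|W₂|` irreducible characters of `K` are
`W₁`-invariant. -/
theorem PAHyp.card_invariant_irr (h : PAHyp K W₁ W₂) :
    haveI := h.normal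
    Nat.card {θ : IrrCharacter K // ∀ x ∈ W₁, conjFunN K (θ : K → ℂ) x = (θ : K → ℂ)} =
      Nat.card W₂ := by
  haveI hK := h.normal
  obtain ⟨y, hy, hy1⟩ := h.exists_ne_one
  rw [← h.card_fixed_irr hy hy1]
  apply Nat.card_congr
  apply Equiv.subtypeEquivRight
  intro θ
  constructor
  · intro hinv
    exact hinv y hy
  · intro hfix x hx
    exact h.stab_of_fixed θ θ.2 y hy hy1 hfix hx

/-- Peterfalvi (4.3)(b): a `W₁`-invariant irreducible character of `K` induces to the sum of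
`|W₁|` distinct irreducible characters of `L`. -/
theorem PAHyp.indFun_invariant (h : PAHyp K W₁ W₂) :
    haveI := h.normal
    ∀ (θ : K → ℂ), IsIrrCharacter K θ → (∀ x ∈ W₁, conjFunN K θ x = θ) →
      ∃ C : Finset (L → ℂ), C.card = Nat.card W₁ ∧ (∀ μ ∈ C, IsIrrCharacter L μ) ∧
        indFun K θ = ∑ μ ∈ C, μ := by
  classical
  haveI hK := h.normal
  intro θ hθ hθinv
  haveI : Fintype ↥(W₁ ⊔ W₂) := Fintype.ofFinite _
  haveI : Fintype ↥K := Fintype.ofFinite _
  haveI : Finite (↥(W₁ ⊔ W₂) →* ℂˣ) := Cfsg.Agent.Lib.Helper4.finite_monoidHom_units' h.commW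
  haveI : Fintype (↥(W₁ ⊔ W₂) →* ℂˣ) := Fintype.ofFinite _
  haveI : Fintype (IrrCharacter L) := Fintype.ofFinite _
  haveI : Fintype (IrrCharacter K) := Fintype.ofFinite _
  obtain ⟨μ, δ, hinj, hirr, hδ, hcoh, hval, hvan, hdeg⟩ := h.exists_mu
  obtain ⟨w, hwdef⟩ : ∃ w : ℕ, w = Nat.card W₁ := ⟨_, rfl⟩
  -- (b) every μ ω lies over an invariant character
  have hover : ∀ ω : ↥(W₁ ⊔ W₂) →* ℂˣ,
      ∃ η : {θ : IrrCharacter K // ∀ x ∈ W₁, conjFunN K (θ : K → ℂ) x = (θ : K → ℂ)},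
        classInner (indFun K (η.1 : K → ℂ)) (μ ω) ≠ 0 := by
    intro ω
    obtain ⟨x, hx, hx1⟩ := h.exists_ne_one
    have hxW₂ : x ∉ W₂ := h.not_mem_W₂ hx hx1
    have hxK : x ∉ K := h.not_mem_K (Subgroup.mem_sup_left hx) hxW₂
    have hμx : μ ω x ≠ 0 := by
      have := hval ω ⟨x, Subgroup.mem_sup_left hx⟩ hxW₂
      rw [this]
      apply mul_ne_zero
      · rcases hδ ω with h1 | h1 <;> rw [h1] <;> norm_num
      · exact Units.ne_zero _
    have hX : IsCharacter K ((μ ω) ∘ K.subtype) :=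
      Cfsg.Agent.Lib.Helper2.isCharacter_comp_hom (isCharacter_of_isIrrCharacter (hirr ω)) K.subtype
    have hX1 : ((μ ω) ∘ K.subtype) 1 ≠ 0 := by
      obtain ⟨d, hd, hd1⟩ := irr_degree (hirr ω)
      simp only [Function.comp_apply, map_one]
      rw [hd1]
      exact_mod_cast hd.ne'
    obtain ⟨η₀, hη₀⟩ := Cfsg.Agent.Lib.Helper7.exists_constituent hX hX1
    have hfr : classInner (μ ω) (indFun K (η₀ : K → ℂ)) ≠ 0 := by
      rw [classInner_indFun_right' K (μ ω) (isClassFunction_of_isIrrCharacter (hirr ω))]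
      exact hη₀
    by_cases hinv : ∀ x ∈ W₁, conjFunN K (η₀ : K → ℂ) x = (η₀ : K → ℂ)
    · refine ⟨⟨η₀, hinv⟩, ?_⟩
      rw [← classInner_conj_symm]
      exact (map_ne_zero _).mpr hfr
    · exfalso
      push_neg at hinv
      have hind := h.isIrr_indFun (η₀ : K → ℂ) η₀.2 hinv
      have heq := eq_of_classInner_ne_zero (hirr ω) hind hfr
      apply hμx
      rw [heq]
      apply indFun_eq_zero_of_not_conj
      intro g hg
      apply hxK
      have := hK.conj_mem _ hg g
      simpa [mul_assoc] using this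
  choose p hp using hover
  -- (c) coefficients
  have hnat : ∀ (η : {θ : IrrCharacter K // ∀ x ∈ W₁, conjFunN K (θ : K → ℂ) x = (θ : K → ℂ)})
      (χ : IrrCharacter L), ∃ n : ℕ, classInner (indFun K (η.1 : K → ℂ)) (χ : L → ℂ) = n :=
    fun η χ => classInner_isCharacter_nat
      (isCharacter_indFun K (isCharacter_of_isIrrCharacter η.1.2))
      (isCharacter_of_isIrrCharacter χ.2)
  choose n hn using hnat
  have hnorm : ∀ η : {θ : IrrCharacter K // ∀ x ∈ W₁, conjFunN K (θ : K → ℂ) x = (θ : K → ℂ)},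
      ∑ χ : IrrCharacter L, (n η χ) ^ 2 = w := by
    intro η
    have hgen : IsGeneralizedCharacter L (indFun K (η.1 : K → ℂ)) :=
      isGeneralizedCharacter_of_isCharacter
        (isCharacter_indFun K (isCharacter_of_isIrrCharacter η.1.2))
    have h1 := genChar_norm hgen (fun χ => (n η χ : ℤ)) (fun χ => by rw [hn η χ]; simp)
    rw [classInner_indFun_self_of_invariant K (η.1 : K → ℂ) η.1.2
      (h.stab_eq_top (η.1 : K → ℂ) η.1.2 η.2), h.index_K, ← hwdef] at h1
    have h2 : ((w : ℤ) : ℂ) = ((∑ χ : IrrCharacter L, ((n η χ : ℤ)) ^ 2 : ℤ) : ℂ) := by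
      rw [← h1]; simp
    have h3 : (w : ℤ) = ∑ χ : IrrCharacter L, ((n η χ : ℤ)) ^ 2 := by exact_mod_cast h2
    have h4 : (w : ℤ) = ((∑ χ : IrrCharacter L, (n η χ) ^ 2 : ℕ) : ℤ) := by
      rw [h3]; push_cast; rfl
    exact_mod_cast h4.symm
  obtain ⟨E, hEdef⟩ : ∃ E : {θ : IrrCharacter K // ∀ x ∈ W₁,
      conjFunN K (θ : K → ℂ) x = (θ : K → ℂ)} → Finset (IrrCharacter L),
      ∀ η, E η = Finset.univ.filter (fun χ => n η χ ≠ 0) := ⟨_, fun _ => rfl⟩
  have hone_le : ∀ η, ∀ χ ∈ E η, 1 ≤ (n η χ) ^ 2 := by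
    intro η χ hχ
    rw [hEdef, Finset.mem_filter] at hχ
    exact Nat.one_le_pow _ _ (Nat.pos_of_ne_zero hχ.2)
  have hsumE : ∀ η, ∑ χ ∈ E η, (n η χ) ^ 2 = w := by
    intro η
    rw [← hnorm η, hEdef]
    apply Finset.sum_subset (Finset.subset_univ _)
    intro χ _ hχ
    rw [Finset.mem_filter, not_and, not_not] at hχ
    rw [hχ (Finset.mem_univ _)]
    rfl
  have hEcard : ∀ η, (E η).card ≤ w := by
    intro η
    rw [← hsumE η, Finset.card_eq_sum_ones]
    exact Finset.sum_le_sum (hone_le η)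
  -- (d) fibres
  have hfib_le : ∀ η, (Finset.univ.filter (fun ω : ↥(W₁ ⊔ W₂) →* ℂˣ => p ω = η)).card ≤
      (E η).card := by
    intro η
    apply Finset.card_le_card_of_injOn (fun ω => (⟨μ ω, hirr ω⟩ : IrrCharacter L))
    · intro ω hω
      have hω' : p ω = η := (Finset.mem_filter.mp hω).2
      rw [hEdef]
      apply Finset.mem_coe.mpr
      rw [Finset.mem_filter]
      refine ⟨Finset.mem_univ _, ?_⟩
      intro h0
      have := hp ω
      rw [hω'] at this
      apply this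
      have h2 := hn η ⟨μ ω, hirr ω⟩
      rw [h0] at h2
      simpa using h2
    · intro a _ b _ hab
      exact hinj (congrArg Subtype.val hab)
  -- (e) counting
  have htotal : (Finset.univ : Finset (↥(W₁ ⊔ W₂) →* ℂˣ)).card = ∑ η : {θ : IrrCharacter K //
      ∀ x ∈ W₁, conjFunN K (θ : K → ℂ) x = (θ : K → ℂ)},
      (Finset.univ.filter (fun ω : ↥(W₁ ⊔ W₂) →* ℂˣ => p ω = η)).card :=
    Finset.card_eq_sum_card_fiberwise (fun ω _ => Finset.mem_coe.mpr (Finset.mem_univ (p ω)))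
  have hcardΘ : Fintype.card {θ : IrrCharacter K //
      ∀ x ∈ W₁, conjFunN K (θ : K → ℂ) x = (θ : K → ℂ)} = Nat.card W₂ := by
    rw [← Nat.card_eq_fintype_card]
    exact h.card_invariant_irr
  have hcardŴ : (Finset.univ : Finset (↥(W₁ ⊔ W₂) →* ℂˣ)).card = w * Nat.card W₂ := by
    rw [Finset.card_univ, ← Nat.card_eq_fintype_card, h.card_dual, hwdef]
  have hsumw : ∑ _η : {θ : IrrCharacter K //
      ∀ x ∈ W₁, conjFunN K (θ : K → ℂ) x = (θ : K → ℂ)}, w = w * Nat.card W₂ := by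
    rw [Finset.sum_const, Finset.card_univ, hcardΘ, smul_eq_mul, mul_comm]
  have hfib_eq : ∀ η, (Finset.univ.filter (fun ω : ↥(W₁ ⊔ W₂) →* ℂˣ => p ω = η)).card = w := by
    have hle : ∀ η ∈ (Finset.univ : Finset {θ : IrrCharacter K //
        ∀ x ∈ W₁, conjFunN K (θ : K → ℂ) x = (θ : K → ℂ)}),
        (Finset.univ.filter (fun ω : ↥(W₁ ⊔ W₂) →* ℂˣ => p ω = η)).card ≤ w :=
      fun η _ => (hfib_le η).trans (hEcard η)
    have := (Finset.sum_eq_sum_iff_of_le hle).mp (by rw [← htotal, hcardŴ, hsumw])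
    intro η
    exact this η (Finset.mem_univ _)
  -- (f) our θ
  obtain ⟨η, hη⟩ : ∃ η : {θ : IrrCharacter K //
      ∀ x ∈ W₁, conjFunN K (θ : K → ℂ) x = (θ : K → ℂ)}, (η.1 : K → ℂ) = θ :=
    ⟨⟨⟨θ, hθ⟩, hθinv⟩, rfl⟩
  have hEη : (E η).card = w := le_antisymm (hEcard η) (by rw [← hfib_eq η]; exact hfib_le η)
  have hn1 : ∀ χ ∈ E η, n η χ = 1 := by
    have h1 : ∑ χ ∈ E η, 1 = ∑ χ ∈ E η, (n η χ) ^ 2 := by
      rw [hsumE η, ← Finset.card_eq_sum_ones, hEη]
    have h2 := (Finset.sum_eq_sum_iff_of_le (hone_le η)).mp h1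
    intro χ hχ
    have h3 := h2 χ hχ
    have h4 : (n η χ) ^ 2 = 1 ^ 2 := by rw [← h3]; norm_num
    exact Nat.pow_left_injective (n := 2) (by norm_num) h4
  -- (g) expansion
  have hgen : IsGeneralizedCharacter L (indFun K (η.1 : K → ℂ)) :=
    isGeneralizedCharacter_of_isCharacter
      (isCharacter_indFun K (isCharacter_of_isIrrCharacter η.1.2))
  have hexp := genChar_expansion hgen (fun χ => (n η χ : ℤ)) (fun χ => by rw [hn η χ]; simp)
  obtain ⟨emb, hemb⟩ : ∃ emb : IrrCharacter L ↪ (L → ℂ), ∀ χ, emb χ = (χ : L → ℂ) :=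
    ⟨⟨Subtype.val, Subtype.val_injective⟩, fun _ => rfl⟩
  refine ⟨Finset.map emb (E η), ?_, ?_, ?_⟩
  · rw [Finset.card_map, hEη, hwdef]
  · intro ν hν
    obtain ⟨χ, -, rfl⟩ := Finset.mem_map.mp hν
    rw [hemb]
    exact χ.2
  · rw [← hη, hexp, Finset.sum_map]
    rw [← Finset.sum_subset (Finset.subset_univ (E η))]
    · apply Finset.sum_congr rfl
      intro χ hχ
      rw [hn1 χ hχ, hemb]
      simp
    · intro χ _ hχ
      rw [hEdef, Finset.mem_filter, not_and, not_not] at hχ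
      rw [hχ (Finset.mem_univ _)]
      simp

end

end Cfsg.Agent.Lib.Helper26
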