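import Mathlib
import Cfsg.Agent.Lib.Helper16.CentMaxA

set_option autoImplicit false
set_option maxHeartbeats 1000000

/-!
Groups whose two largest class sizes are coprime (helper26): basic tools
(indices of centralizers, coprime indices, class sets, splitting of elements).
-/

namespace Cfsg.Agent.Lib.Helper26.QFrob

open Cfsg.Agent.Lib.Helper16.CentMax

variable {G : Type*} [Group G]

/-- index of the centralizer -/
noncomputable abbrev ind (g : G) : ℕ := (cz g).index

theorem ind_pos [Finite G] (g : G) : 0 < ind g :=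
  Nat.pos_of_ne_zero Subgroup.index_ne_zero_of_finite

theorem ind_eq_one_iff [Finite G] {g : G} : ind g = 1 ↔ g ∈ Subgroup.center G := by
  rw [ind, Subgroup.index_eq_one]
  constructor
  · intro h
    rw [Subgroup.mem_center_iff]
    intro x
    have : x ∈ cz g := by rw [h]; exact Subgroup.mem_top x
    exact mem_cz.mp this
  · intro h; exact cz_eq_top h

theorem cz_le_cz_pow (g : G) (k : ℕ) : cz g ≤ cz (g ^ k) := by
  intro x hx
  rw [mem_cz] at hx ⊢
  exact (show Commute x g from hx).pow_right k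

theorem ind_pow_dvd (g : G) (k : ℕ) : ind (g ^ k) ∣ ind g :=
  Subgroup.index_dvd_of_le (cz_le_cz_pow g k)

theorem eq_of_le_of_index_le [Finite G] {H K : Subgroup G} (h : H ≤ K) (hi : H.index ≤ K.index) :
    H = K := by
  apply le_antisymm h
  have h1 : H.relIndex K * K.index = H.index := Subgroup.relIndex_mul_index h
  have hK : 0 < K.index := Nat.pos_of_ne_zero Subgroup.index_ne_zero_of_finite
  have h2 : H.relIndex K = 1 := by
    have h3 : H.relIndex K * K.index ≤ 1 * K.index := by rw [h1, one_mul]; exact hi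
    have h4 : H.relIndex K ≤ 1 := Nat.le_of_mul_le_mul_right h3 hK
    have h5 : H.relIndex K ≠ 0 := by
      intro h0; rw [h0, zero_mul] at h1
      exact (Subgroup.index_ne_zero_of_finite (H := H)) h1.symm
    omega
  exact Subgroup.relIndex_eq_one.mp h2

theorem index_inf_of_coprime [Finite G] (H K : Subgroup G) (h : (H.index).Coprime K.index) :
    (H ⊓ K).index = H.index * K.index := by
  apply le_antisymm Subgroup.index_inf_le
  apply Nat.le_of_dvd
  · exact Nat.pos_of_ne_zero Subgroup.index_ne_zero_of_finite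
  · exact h.mul_dvd_of_dvd_of_dvd (Subgroup.index_dvd_of_le inf_le_left)
      (Subgroup.index_dvd_of_le inf_le_right)

theorem exists_mul_of_relIndex_eq [Finite G] (H K : Subgroup G) (h : H.relIndex K = H.index)
    (g : G) : ∃ k ∈ K, ∃ c ∈ H, g = k * c := by
  classical
  let f : (↥K ⧸ H.subgroupOf K) → (G ⧸ H) :=
    Quotient.map' (fun k : ↥K => (k : G)) (by
      intro a b hab
      rw [QuotientGroup.leftRel_apply] at hab ⊢
      exact hab)
  have hf : Function.Injective f := by
    intro q1 q2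
    refine Quotient.inductionOn₂' q1 q2 ?_
    intro a b hab
    apply Quotient.sound'
    rw [QuotientGroup.leftRel_apply]
    have h1 := Quotient.exact' hab
    rw [QuotientGroup.leftRel_apply] at h1
    exact h1
  have hcard : Nat.card (G ⧸ H) ≤ Nat.card (↥K ⧸ H.subgroupOf K) := by
    have h1 : Nat.card (↥K ⧸ H.subgroupOf K) = H.relIndex K := rfl
    have h2 : Nat.card (G ⧸ H) = H.index := rfl
    rw [h1, h2, h]
  have hb := hf.bijective_of_nat_card_le hcard
  obtain ⟨q, hq⟩ := hb.2 (g : G ⧸ H)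
  induction q using Quotient.inductionOn' with
  | h k =>
    have h3 : ((k : G) : G ⧸ H) = (g : G ⧸ H) := hq
    rw [QuotientGroup.eq] at h3
    exact ⟨k, k.2, _, h3, by group⟩

theorem exists_mul_of_coprime_index [Finite G] (H K : Subgroup G)
    (h : (H.index).Coprime K.index) (g : G) : ∃ k ∈ K, ∃ c ∈ H, g = k * c := by
  apply exists_mul_of_relIndex_eq
  have h1 := index_inf_of_coprime H K h
  have h2 : (H ⊓ K).relIndex K * K.index = (H ⊓ K).index :=
    Subgroup.relIndex_mul_index inf_le_right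
  rw [Subgroup.inf_relIndex_right, h1] at h2
  exact Nat.eq_of_mul_eq_mul_right (Nat.pos_of_ne_zero Subgroup.index_ne_zero_of_finite) h2

/-- for a normal subgroup `N`, `|H : H ∩ ... |`: `H.index = H.relIndex N * (H ⊔ N).index` -/
theorem index_eq_relIndex_mul_index_sup [Finite G] (H N : Subgroup G) [N.Normal] :
    H.index = H.relIndex N * (H ⊔ N).index := by
  have h1 : (H ⊓ N).relIndex N * N.index = (H ⊓ N).index :=
    Subgroup.relIndex_mul_index inf_le_right
  have h2 : (H ⊓ N).relIndex H * H.index = (H ⊓ N).index :=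
    Subgroup.relIndex_mul_index inf_le_left
  rw [Subgroup.inf_relIndex_right] at h1
  rw [Subgroup.inf_relIndex_left] at h2
  have h3 : N.relIndex (H ⊔ N) * (H ⊔ N).index = N.index :=
    Subgroup.relIndex_mul_index le_sup_right
  rw [Subgroup.relIndex_sup_right] at h3
  have h4 : N.relIndex H * H.index = N.relIndex H * (H.relIndex N * (H ⊔ N).index) := by
    rw [h2, ← h1, ← h3]; ring
  have h5 : 0 < N.relIndex H := by
    apply Nat.pos_of_ne_zero
    unfold Subgroup.relIndex
    exact Subgroup.index_ne_zero_of_finite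
  exact Nat.eq_of_mul_eq_mul_left h5 h4

theorem relIndex_dvd_index_of_normal_right [Finite G] (H N : Subgroup G) [N.Normal] :
    H.relIndex N ∣ H.index :=
  ⟨_, index_eq_relIndex_mul_index_sup H N⟩

theorem relIndex_mul_card [Finite G] {H K : Subgroup G} (h : H ≤ K) :
    H.relIndex K * Nat.card H = Nat.card K := by
  have h1 := Subgroup.card_mul_index (H.subgroupOf K)
  have h2 : Nat.card (H.subgroupOf K) = Nat.card H :=
    Nat.card_congr (Subgroup.subgroupOfEquivOfLe h).toEquiv
  rw [h2] at h1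
  rw [mul_comm]; exact h1

theorem relIndex_pos [Finite G] (H K : Subgroup G) : 0 < H.relIndex K := by
  apply Nat.pos_of_ne_zero
  unfold Subgroup.relIndex
  exact Subgroup.index_ne_zero_of_finite

/-- `C(xy) ≤ C(x)` for commuting `x, y` of coprime orders modulo the centre -/
theorem cz_mul_le_left {x y : G} (hxy : x * y = y * x) {i j : ℕ}
    (hi : x ^ i ∈ Subgroup.center G) (hj : y ^ j ∈ Subgroup.center G) (hc : i.Coprime j) :
    cz (x * y) ≤ cz x := by
  rcases Nat.lt_or_ge 1 i with h1 | h1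
  · obtain ⟨t, _, ht⟩ := Nat.exists_mul_mod_eq_one_of_coprime hc.symm h1
    obtain ⟨q, hq⟩ : ∃ q, j * t = i * q + 1 := ⟨j * t / i, by
      have := Nat.div_add_mod (j * t) i
      omega⟩
    have hcomm : Commute x y := hxy
    have e1 : x ^ (j * t) = (x ^ i) ^ q * x := by rw [hq, pow_succ, pow_mul]
    have e2 : y ^ (j * t) = (y ^ j) ^ t := pow_mul y j t
    have hz1 : (x ^ i) ^ q ∈ Subgroup.center G := Subgroup.pow_mem _ hi q
    have hz2 : (y ^ j) ^ t ∈ Subgroup.center G := Subgroup.pow_mem _ hj t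
    have e3 : (x * y) ^ (j * t) = ((x ^ i) ^ q * (y ^ j) ^ t) * x := by
      rw [hcomm.mul_pow, e1, e2]
      have := (Subgroup.mem_center_iff.mp hz2) x
      rw [mul_assoc, this, ← mul_assoc]
    intro g hg
    have hg' : g ∈ cz ((x * y) ^ (j * t)) := cz_le_cz_pow _ _ hg
    rw [e3, cz_central_mul (Subgroup.mul_mem _ hz1 hz2)] at hg'
    exact hg'
  · have hi' : i = 0 ∨ i = 1 := by omega
    rcases hi' with h0 | h0
    · subst h0
      have hj1 : j = 1 := (Nat.coprime_zero_left j).mp hc
      subst hj1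
      rw [pow_one] at hj
      rw [hxy, cz_central_mul hj]
    · subst h0
      rw [pow_one] at hi
      rw [cz_eq_top hi]
      exact le_top

theorem cz_mul_le_right {x y : G} (hxy : x * y = y * x) {i j : ℕ}
    (hi : x ^ i ∈ Subgroup.center G) (hj : y ^ j ∈ Subgroup.center G) (hc : i.Coprime j) :
    cz (x * y) ≤ cz y := by
  rw [hxy]
  exact cz_mul_le_left hxy.symm hj hi hc.symm

theorem mem_center_of_pow_of_pow {g : G} {i j : ℕ} (hi : g ^ i ∈ Subgroup.center G)
    (hj : g ^ j ∈ Subgroup.center G) (hc : i.Coprime j) : g ∈ Subgroup.center G := by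
  rw [← QuotientGroup.eq_one_iff] at hi hj ⊢
  rw [QuotientGroup.mk_pow] at hi hj
  have h1 := orderOf_dvd_of_pow_eq_one hi
  have h2 := orderOf_dvd_of_pow_eq_one hj
  have h3 : orderOf ((g : G) : G ⧸ Subgroup.center G) ∣ 1 := by
    have := Nat.dvd_gcd h1 h2
    rwa [Nat.Coprime.gcd_eq_one hc] at this
  rw [Nat.dvd_one] at h3
  exact orderOf_eq_one_iff.mp h3

theorem nat_split (k : ℕ) : ∀ o : ℕ, 0 < o →
    ∃ o₁ o₂ s : ℕ, o = o₁ * o₂ ∧ o₁ ∣ k ^ s ∧ o₂.Coprime k := by
  intro o
  induction o using Nat.strong_induction_on with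
  | _ o ih =>
    intro ho
    by_cases hg : Nat.gcd o k = 1
    · exact ⟨1, o, 0, by simp, by simp, hg⟩
    · obtain ⟨d, hd⟩ : ∃ d, d = Nat.gcd o k := ⟨_, rfl⟩
      have hd1 : d ∣ o := hd ▸ Nat.gcd_dvd_left o k
      have hd2 : d ∣ k := hd ▸ Nat.gcd_dvd_right o k
      have hdpos : 0 < d := hd ▸ Nat.gcd_pos_of_pos_left k ho
      have hd1' : 1 < d := by
        rcases Nat.lt_or_ge 1 d with h | h
        · exact h
        · exfalso; apply hg; rw [← hd]; omega
      obtain ⟨o', ho'⟩ := hd1
      have ho'pos : 0 < o' := by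
        rcases Nat.eq_zero_or_pos o' with h | h
        · rw [h, mul_zero] at ho'; omega
        · exact h
      have hlt : o' < o := by rw [ho']; nlinarith
      obtain ⟨o₁, o₂, s, h1, h2, h3⟩ := ih o' hlt ho'pos
      refine ⟨d * o₁, o₂, s + 1, ?_, ?_, h3⟩
      · rw [ho', h1, mul_assoc]
      · rw [pow_succ, mul_comm (k ^ s) k]
        exact Nat.mul_dvd_mul hd2 h2

/-- splitting an element into a part killed by a power of `k` and a part of order prime to `k` -/
theorem elt_split [Finite G] (g : G) (k : ℕ) :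
    ∃ (g₁ g₂ : G) (s e₁ e₂ : ℕ), g = g₁ * g₂ ∧ g₁ = g ^ e₁ ∧ g₂ = g ^ e₂ ∧
      g₁ ^ (k ^ s) = 1 ∧ (orderOf g₂).Coprime k := by
  obtain ⟨o₁, o₂, s, h1, h2, h3⟩ := nat_split k (orderOf g) (orderOf_pos g)
  have hco : o₁.Coprime o₂ := by
    have h4 : o₂.Coprime (k ^ s) := Nat.Coprime.pow_right s h3
    exact (Nat.Coprime.coprime_dvd_right h2 h4).symm
  obtain ⟨e₁, he₁a, he₁b⟩ := Nat.chineseRemainder hco 1 0
  obtain ⟨e₂, he₂a, he₂b⟩ := Nat.chineseRemainder hco 0 1
  refine ⟨g ^ e₁, g ^ e₂, s, e₁, e₂, ?_, rfl, rfl, ?_, ?_⟩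
  · rw [← pow_add]
    have h5 : e₁ + e₂ ≡ 1 [MOD o₁ * o₂] := by
      rw [← Nat.modEq_and_modEq_iff_modEq_mul hco]
      constructor
      · have := Nat.ModEq.add he₁a he₂a
        simpa using this
      · have := Nat.ModEq.add he₁b he₂b
        simpa using this
    rw [← h1] at h5
    have h6 : g ^ (e₁ + e₂) = g ^ 1 := pow_eq_pow_iff_modEq.mpr h5
    rw [h6, pow_one]
  · have h5 : o₂ ∣ e₁ := (Nat.modEq_zero_iff_dvd).mp he₁b
    have h6 : (g ^ e₁) ^ o₁ = 1 := by
      rw [← pow_mul]
      apply orderOf_dvd_iff_pow_eq_one.mp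
      rw [h1]
      obtain ⟨c, hc⟩ := h5
      exact ⟨c, by rw [hc]; ring⟩
    obtain ⟨c, hc⟩ := h2
    rw [hc, pow_mul, h6, one_pow]
  · have h5 : o₁ ∣ e₂ := (Nat.modEq_zero_iff_dvd).mp he₂a
    have h6 : (g ^ e₂) ^ o₂ = 1 := by
      rw [← pow_mul]
      apply orderOf_dvd_iff_pow_eq_one.mp
      rw [h1]
      obtain ⟨c, hc⟩ := h5
      exact ⟨c, by rw [hc]; ring⟩
    exact Nat.Coprime.coprime_dvd_left (orderOf_dvd_of_pow_eq_one h6) h3

/-- the conjugacy class as a set -/
def classSet (u : G) : Set G := {x | ∃ y : G, x = y * u * y⁻¹}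

theorem self_mem_classSet (u : G) : u ∈ classSet u := ⟨1, by group⟩

theorem conj_mem_classSet {u x : G} (hx : x ∈ classSet u) (g : G) : g * x * g⁻¹ ∈ classSet u := by
  obtain ⟨y, rfl⟩ := hx
  exact ⟨g * y, by group⟩

theorem card_classSet [Finite G] (u : G) : Nat.card (classSet u) = ind u := by
  classical
  let f : (G ⧸ cz u) → classSet u :=
    Quotient.lift (fun y : G => (⟨y * u * y⁻¹, y, rfl⟩ : classSet u)) (by
      intro a b hab
      have hab' : a⁻¹ * b ∈ cz u := QuotientGroup.leftRel_apply.mp hab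
      rw [mem_cz] at hab'
      apply Subtype.ext
      show a * u * a⁻¹ = b * u * b⁻¹
      have h1 : b * u * b⁻¹ = a * ((a⁻¹ * b) * u) * b⁻¹ := by group
      rw [h1, hab']; group)
  have hf : Function.Bijective f := by
    constructor
    · intro q1 q2
      refine Quotient.inductionOn₂' q1 q2 ?_
      intro a b hab
      apply Quotient.sound'
      rw [QuotientGroup.leftRel_apply, mem_cz]
      have h1 : a * u * a⁻¹ = b * u * b⁻¹ := congrArg Subtype.val hab
      calc a⁻¹ * b * u = a⁻¹ * (b * u * b⁻¹) * b := by group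
        _ = a⁻¹ * (a * u * a⁻¹) * b := by rw [h1]
        _ = u * (a⁻¹ * b) := by group
    · rintro ⟨x, y, rfl⟩
      exact ⟨Quotient.mk'' y, rfl⟩
  have h2 : Nat.card (G ⧸ cz u) = ind u := rfl
  rw [← h2]
  exact (Nat.card_congr (Equiv.ofBijective f hf)).symm

theorem classSet_conj (u y : G) : classSet (y * u * y⁻¹) = classSet u := by
  ext x; constructor
  · rintro ⟨w, rfl⟩; exact ⟨w * y, by group⟩
  · rintro ⟨w, rfl⟩; exact ⟨w * y⁻¹, by group⟩

theorem ind_conj [Finite G] (u y : G) : ind (y * u * y⁻¹) = ind u := by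
  rw [← card_classSet, ← card_classSet, classSet_conj]

theorem ind_of_mem_classSet [Finite G] {u x : G} (hx : x ∈ classSet u) : ind x = ind u := by
  obtain ⟨y, rfl⟩ := hx
  exact ind_conj u y

/-- a `p`-element modulo the centre fixes a point of a class of size prime to `p` -/
theorem exists_comm_in_class [Finite G] {g b : G} {r : ℕ} (hr : r.Prime)
    (hg : g ^ r ∈ Subgroup.center G) (hn : ¬ r ∣ ind b) :
    ∃ b' ∈ classSet b, g * b' = b' * g := by
  classical
  haveI : Fact r.Prime := ⟨hr⟩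
  haveI : Fintype (classSet b) := Fintype.ofFinite _
  let σ : Equiv.Perm (classSet b) :=
    { toFun := fun x => ⟨g * x.1 * g⁻¹, conj_mem_classSet x.2 g⟩
      invFun := fun x => ⟨g⁻¹ * x.1 * g, by
        have := conj_mem_classSet x.2 g⁻¹
        rwa [inv_inv] at this⟩
      left_inv := by intro x; apply Subtype.ext; show g⁻¹ * (g * x.1 * g⁻¹) * g = x.1; group
      right_inv := by intro x; apply Subtype.ext; show g * (g⁻¹ * x.1 * g) * g⁻¹ = x.1; group }
  have hpow : ∀ (k : ℕ) (x : classSet b), ((σ ^ k) x : G) = g ^ k * x.1 * (g ^ k)⁻¹ := by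
    intro k
    induction k with
    | zero => intro x; simp
    | succ k ih =>
      intro x
      rw [pow_succ', Equiv.Perm.mul_apply]
      show g * ((σ ^ k) x : G) * g⁻¹ = _
      rw [ih x, pow_succ']; group
  have hσ : σ ^ r ^ 1 = 1 := by
    rw [pow_one]
    ext x
    rw [hpow r x, Equiv.Perm.one_apply]
    have := (Subgroup.mem_center_iff.mp hg) x.1
    rw [← this]; group
  have hcard : ¬ r ∣ Fintype.card (classSet b) := by
    rw [← Nat.card_eq_fintype_card, card_classSet]; exact hn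
  obtain ⟨x, hx⟩ := Equiv.Perm.exists_fixed_point_of_prime hcard hσ
  refine ⟨x.1, x.2, ?_⟩
  have h1 : g * x.1 * g⁻¹ = x.1 := congrArg Subtype.val hx
  calc g * x.1 = (g * x.1 * g⁻¹) * g := by group
    _ = x.1 * g := by rw [h1]

end Cfsg.Agent.Lib.Helper26.QFrob
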