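import Mathlib
import Cfsg.Agent.Lib.Helper26.QFrobA

set_option autoImplicit false
set_option maxHeartbeats 1000000

/-!
Groups whose two largest class sizes are coprime (helper26): the right stabilizer of a class
and its consequences.
-/

namespace Cfsg.Agent.Lib.Helper26.QFrob

open Cfsg.Agent.Lib.Helper16.CentMax
open scoped Pointwise

variable {G : Type*} [Group G]

/-- right stabilizer of the class of `u` -/
def rstab (u : G) : Subgroup G where
  carrier := {t | ∀ x ∈ classSet u, x * t ∈ classSet u ∧ x * t⁻¹ ∈ classSet u}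
  one_mem' := by
    intro x hx
    rw [inv_one, mul_one]
    exact ⟨hx, hx⟩
  mul_mem' := by
    intro s t hs ht x hx
    constructor
    · rw [← mul_assoc]; exact (ht _ (hs x hx).1).1
    · rw [mul_inv_rev, ← mul_assoc]; exact (hs _ (ht x hx).2).2
  inv_mem' := by
    intro t ht x hx
    rw [inv_inv]
    exact ⟨(ht x hx).2, (ht x hx).1⟩

theorem mem_rstab {u t : G} :
    t ∈ rstab u ↔ ∀ x ∈ classSet u, x * t ∈ classSet u ∧ x * t⁻¹ ∈ classSet u := Iff.rfl

instance rstab_normal (u : G) : (rstab u).Normal := by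
  constructor
  intro t ht g
  rw [mem_rstab] at ht ⊢
  intro x hx
  have hx' : g⁻¹ * x * g⁻¹⁻¹ ∈ classSet u := conj_mem_classSet hx g⁻¹
  obtain ⟨h1, h2⟩ := ht _ hx'
  constructor
  · have := conj_mem_classSet h1 g
    have e : g * (g⁻¹ * x * g⁻¹⁻¹ * t) * g⁻¹ = x * (g * t * g⁻¹) := by group
    rwa [e] at this
  · have := conj_mem_classSet h2 g
    have e : g * (g⁻¹ * x * g⁻¹⁻¹ * t⁻¹) * g⁻¹ = x * (g * t * g⁻¹)⁻¹ := by group
    rwa [e] at this

theorem card_rstab_dvd [Finite G] (u : G) : Nat.card (rstab u) ∣ ind u := by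
  have h1 := Subgroup.card_mul_eq_card_subgroup_mul_card_quotient (rstab u) (classSet u)
  have h2 : (classSet u * (rstab u : Set G)) = classSet u := by
    ext x
    constructor
    · rintro ⟨s, hs, t, ht, rfl⟩
      exact ((mem_rstab.mp ht) s hs).1
    · intro hx
      exact ⟨x, hx, 1, (rstab u).one_mem, mul_one x⟩
  rw [h2, card_classSet] at h1
  exact ⟨_, h1⟩

theorem conj_mul_inv_mem_rstab [Finite G] {u g : G}
    (hfac : ∀ x : G, ∃ c ∈ cz g, x * u * x⁻¹ = c * u * c⁻¹)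
    (hle : ind (u * g) ≤ ind u) (y : G) : y * g * y⁻¹ * g⁻¹ ∈ rstab u := by
  classical
  have hsub : ∀ s ∈ classSet u, s * g ∈ classSet (u * g) := by
    rintro s ⟨x, rfl⟩
    obtain ⟨c, hc, hxc⟩ := hfac x
    rw [hxc]
    refine ⟨c, ?_⟩
    have hcg : c * g = g * c := mem_cz.mp hc
    have h1 : c⁻¹ * g = g * c⁻¹ := by
      calc c⁻¹ * g = c⁻¹ * (g * c) * c⁻¹ := by group
        _ = c⁻¹ * (c * g) * c⁻¹ := by rw [hcg]
        _ = g * c⁻¹ := by group
    calc c * u * c⁻¹ * g = c * u * (c⁻¹ * g) := by group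
      _ = c * u * (g * c⁻¹) := by rw [h1]
      _ = c * (u * g) * c⁻¹ := by group
  let f : classSet u → classSet (u * g) := fun s => ⟨s.1 * g, hsub s.1 s.2⟩
  have hf : Function.Injective f := by
    intro s t hst
    apply Subtype.ext
    have h1 : s.1 * g = t.1 * g := congrArg Subtype.val hst
    exact mul_right_cancel h1
  have hb : Function.Bijective f := hf.bijective_of_nat_card_le (by
    rw [card_classSet, card_classSet]; exact hle)
  have hsurj : ∀ w ∈ classSet (u * g), ∃ s ∈ classSet u, w = s * g := by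
    intro w hw
    obtain ⟨s, hs⟩ := hb.2 ⟨w, hw⟩
    exact ⟨s.1, s.2, (congrArg Subtype.val hs).symm⟩
  rw [mem_rstab]
  intro x hx
  constructor
  · have hx' : y⁻¹ * x * y⁻¹⁻¹ ∈ classSet u := conj_mem_classSet hx y⁻¹
    have h1 := hsub _ hx'
    have h2 := conj_mem_classSet h1 y
    obtain ⟨s, hs, hws⟩ := hsurj _ h2
    have e : x * (y * g * y⁻¹ * g⁻¹) = s := by
      have h3 : y * (y⁻¹ * x * y⁻¹⁻¹ * g) * y⁻¹ = x * (y * g * y⁻¹) := by group
      rw [h3] at hws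
      calc x * (y * g * y⁻¹ * g⁻¹) = (x * (y * g * y⁻¹)) * g⁻¹ := by group
        _ = s * g * g⁻¹ := by rw [hws]
        _ = s := by group
    rw [e]; exact hs
  · have h1 := hsub x hx
    have h2 := conj_mem_classSet h1 y⁻¹
    obtain ⟨s, hs, hws⟩ := hsurj _ h2
    have e : x * (y * g * y⁻¹ * g⁻¹)⁻¹ = y * s * y⁻¹ := by
      have h3 : x * g = y * (s * g) * y⁻¹ := by
        rw [← hws]; group
      calc x * (y * g * y⁻¹ * g⁻¹)⁻¹ = (x * g) * y * g⁻¹ * y⁻¹ := by group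
        _ = (y * (s * g) * y⁻¹) * y * g⁻¹ * y⁻¹ := by rw [h3]
        _ = y * s * y⁻¹ := by group
    rw [e]; exact conj_mem_classSet hs y

/-- consequences of `∀ y, y g y⁻¹ g⁻¹ ∈ T` for a normal subgroup `T` of order prime to `ind g` -/
theorem cons_of_ctrl [Finite G] {T : Subgroup G} [hTn : T.Normal] {g : G}
    (hT : ∀ y : G, y * g * y⁻¹ * g⁻¹ ∈ T) (hcop : (Nat.card T).Coprime (ind g)) :
    T ≤ cz g ∧ g ^ Nat.card T ∈ Subgroup.center G ∧
    (∀ y z : G, (y * g * y⁻¹) * (z * g * z⁻¹) = (z * g * z⁻¹) * (y * g * y⁻¹)) := by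
  have h1 : T ≤ cz g := by
    rw [← Subgroup.relIndex_eq_one]
    have d1 : (cz g).relIndex T ∣ Nat.card T := Subgroup.relIndex_dvd_card _ _
    have d2 : (cz g).relIndex T ∣ ind g := relIndex_dvd_index_of_normal_right _ _
    have := Nat.dvd_gcd d1 d2
    rwa [Nat.Coprime.gcd_eq_one hcop, Nat.dvd_one] at this
  have hg : ∀ s ∈ T, s * g = g * s := fun s hs => mem_cz.mp (h1 hs)
  have hconj : ∀ y : G, ∀ s ∈ T, s * (y * g * y⁻¹) = (y * g * y⁻¹) * s := by
    intro y s hs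
    have hs' : y⁻¹ * s * y⁻¹⁻¹ ∈ T := hTn.conj_mem s hs y⁻¹
    have h2 := hg _ hs'
    calc s * (y * g * y⁻¹) = y * ((y⁻¹ * s * y⁻¹⁻¹) * g) * y⁻¹ := by group
      _ = y * (g * (y⁻¹ * s * y⁻¹⁻¹)) * y⁻¹ := by rw [h2]
      _ = (y * g * y⁻¹) * s := by group
  refine ⟨h1, ?_, ?_⟩
  · rw [Subgroup.mem_center_iff]
    intro y
    have ht : y * g * y⁻¹ * g⁻¹ ∈ T := hT y
    obtain ⟨t, htdef⟩ : ∃ t, t = y * g * y⁻¹ * g⁻¹ := ⟨_, rfl⟩
    rw [← htdef] at ht
    have e1 : y * g * y⁻¹ = t * g := by rw [htdef]; group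
    have htk : t ^ Nat.card T = 1 :=
      orderOf_dvd_iff_pow_eq_one.mp (Subgroup.orderOf_dvd_natCard T ht)
    have hcomm : Commute t g := hg t ht
    have e2 : (y * g * y⁻¹) ^ Nat.card T = g ^ Nat.card T := by
      rw [e1, hcomm.mul_pow, htk, one_mul]
    rw [conj_pow] at e2
    calc y * g ^ Nat.card T = (y * g ^ Nat.card T * y⁻¹) * y := by group
      _ = g ^ Nat.card T * y := by rw [e2]
  · intro y z
    obtain ⟨t₁, ht₁⟩ : ∃ t, t = y * g * y⁻¹ * g⁻¹ := ⟨_, rfl⟩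
    obtain ⟨t₂, ht₂⟩ : ∃ t, t = z * g * z⁻¹ * g⁻¹ := ⟨_, rfl⟩
    have hm₁ : t₁ ∈ T := ht₁ ▸ hT y
    have hm₂ : t₂ ∈ T := ht₂ ▸ hT z
    have e1 : y * g * y⁻¹ = t₁ * g := by rw [ht₁]; group
    have e2 : z * g * z⁻¹ = t₂ * g := by rw [ht₂]; group
    have c1 : t₂ * g = g * t₂ := hg t₂ hm₂
    have c2 : t₁ * g = g * t₁ := hg t₁ hm₁
    have c3 : t₂ * (t₁ * g) = (t₁ * g) * t₂ := by
      rw [← e1]; exact hconj y t₂ hm₂
    -- t₁ t₂ = t₂ t₁
    have c4 : t₁ * t₂ = t₂ * t₁ := by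
      have : t₂ * t₁ * g = t₁ * t₂ * g := by
        calc t₂ * t₁ * g = t₂ * (t₁ * g) := by group
          _ = (t₁ * g) * t₂ := c3
          _ = t₁ * (g * t₂) := by group
          _ = t₁ * (t₂ * g) := by rw [c1]
          _ = t₁ * t₂ * g := by group
      exact (mul_right_cancel this).symm
    rw [e1, e2]
    calc t₁ * g * (t₂ * g) = t₁ * (g * t₂) * g := by group
      _ = t₁ * (t₂ * g) * g := by rw [c1]
      _ = (t₁ * t₂) * g * g := by group
      _ = (t₂ * t₁) * g * g := by rw [c4]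
      _ = t₂ * (t₁ * g) * g := by group
      _ = t₂ * (g * t₁) * g := by rw [c2]
      _ = t₂ * g * (t₁ * g) := by group

/-- the hypothesis: the two largest class sizes `m > n > 1` are coprime -/
structure Hyp (G : Type*) [Group G] (m n : ℕ) : Prop where
  hmn : n < m
  hn : 1 < n
  hcop : m.Coprime n
  htop : ∀ z : G, ind z ≤ m
  hsec : ∀ z : G, ind z < m → ind z ≤ n

theorem fac_of_coprime [Finite G] {u g : G} (hc : (ind u).Coprime (ind g)) (x : G) :
    ∃ c ∈ cz g, x * u * x⁻¹ = c * u * c⁻¹ := by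
  obtain ⟨k, hk, c, hc', hx⟩ := exists_mul_of_coprime_index (cz u) (cz g) hc x
  refine ⟨k, hk, ?_⟩
  have h1 : c * u = u * c := mem_cz.mp hc'
  rw [hx]
  calc k * c * u * (k * c)⁻¹ = k * (c * u) * c⁻¹ * k⁻¹ := by group
    _ = k * (u * c) * c⁻¹ * k⁻¹ := by rw [h1]
    _ = k * u * k⁻¹ := by group

variable {m n : ℕ}

theorem ctrl_of_coprime_m [Finite G] (h : Hyp G m n) {a g : G} (ha : ind a = m)
    (hg : (ind g).Coprime m) (y : G) : y * g * y⁻¹ * g⁻¹ ∈ rstab a := by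
  apply conj_mul_inv_mem_rstab
  · exact fac_of_coprime (by rw [ha]; exact hg.symm)
  · rw [ha]; exact h.htop _

/-- properties of elements of index prime to `m` -/
theorem L_props [Finite G] (h : Hyp G m n) {a g : G} (ha : ind a = m)
    (hg : (ind g).Coprime m) :
    rstab a ≤ cz g ∧ (∃ k, k ∣ m ∧ g ^ k ∈ Subgroup.center G) ∧
    (∀ y z : G, (y * g * y⁻¹) * (z * g * z⁻¹) = (z * g * z⁻¹) * (y * g * y⁻¹)) := by
  have hd : Nat.card (rstab a) ∣ m := ha ▸ card_rstab_dvd a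
  have hc : (Nat.card (rstab a)).Coprime (ind g) :=
    Nat.Coprime.coprime_dvd_left hd hg.symm
  obtain ⟨h1, h2, h3⟩ := cons_of_ctrl (ctrl_of_coprime_m h ha hg) hc
  exact ⟨h1, ⟨_, hd, h2⟩, h3⟩

theorem relIndex_zpowers_dvd [Finite G] (H : Subgroup G) {x : G} {k : ℕ} (hk : x ^ k ∈ H) :
    H.relIndex (Subgroup.zpowers x) ∣ k := by
  by_cases hk0 : k = 0
  · rw [hk0]; exact dvd_zero _
  have h1 : Subgroup.zpowers (x ^ k) ≤ H := Subgroup.zpowers_le.mpr hk
  have h2 : Subgroup.zpowers (x ^ k) ≤ Subgroup.zpowers x :=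
    Subgroup.zpowers_le.mpr (Subgroup.pow_mem _ (Subgroup.mem_zpowers x) k)
  have d1 := Subgroup.relIndex_dvd_of_le_left (Subgroup.zpowers x) h1
  apply dvd_trans d1
  have h3 := relIndex_mul_card h2
  rw [Nat.card_zpowers, Nat.card_zpowers, orderOf_pow' x hk0] at h3
  have ho : 0 < orderOf x := orderOf_pos x
  have hd : Nat.gcd (orderOf x) k ∣ orderOf x := Nat.gcd_dvd_left _ _
  have h4 : Nat.gcd (orderOf x) k * (orderOf x / Nat.gcd (orderOf x) k) = orderOf x :=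
    Nat.mul_div_cancel' hd
  have h5 : 0 < orderOf x / Nat.gcd (orderOf x) k := by
    apply Nat.div_pos (Nat.le_of_dvd ho hd) (Nat.gcd_pos_of_pos_left _ ho)
  have h6 : (Subgroup.zpowers (x ^ k)).relIndex (Subgroup.zpowers x) = Nat.gcd (orderOf x) k := by
    apply Nat.eq_of_mul_eq_mul_right h5
    rw [h3, h4]
  rw [h6]
  exact Nat.gcd_dvd_right _ _

/-- elements of index prime to `m` commute -/
theorem comm_of_coprime_m [Finite G] (h : Hyp G m n) {a g g' : G} (ha : ind a = m)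
    (hg : (ind g).Coprime m) (hg' : (ind g').Coprime m) : g * g' = g' * g := by
  obtain ⟨hT, -, -⟩ := L_props h ha hg
  obtain ⟨hT', ⟨k', hk'm, hk'⟩, -⟩ := L_props h ha hg'
  obtain ⟨N₀, hN₀⟩ : ∃ N₀ : Subgroup G, N₀ = rstab a ⊔ Subgroup.center G := ⟨_, rfl⟩
  haveI hN₀n : N₀.Normal := by rw [hN₀]; infer_instance
  have hN₀g : N₀ ≤ cz g := by
    rw [hN₀]; exact sup_le hT (center_le_cz g)
  obtain ⟨X, hX⟩ : ∃ X : Subgroup G, X = N₀ ⊔ Subgroup.zpowers g' := ⟨_, rfl⟩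
  have hg'X : g' ∈ X := by
    rw [hX]; exact (le_sup_right : Subgroup.zpowers g' ≤ _) (Subgroup.mem_zpowers g')
  have hN₀X : N₀ ≤ X := by rw [hX]; exact le_sup_left
  haveI hXn : X.Normal := by
    constructor
    intro x hx y
    rw [hX, Subgroup.mem_sup_of_normal_left] at hx
    obtain ⟨s, hs, w, hw, rfl⟩ := hx
    obtain ⟨j, rfl⟩ := Subgroup.mem_zpowers_iff.mp hw
    have e : y * (s * g' ^ j) * y⁻¹ = (y * s * y⁻¹) * (y * g' * y⁻¹) ^ j := by
      rw [conj_zpow]; group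
    rw [e]
    apply X.mul_mem (hN₀X (hN₀n.conj_mem s hs y))
    apply X.zpow_mem
    have h1 : y * g' * y⁻¹ * g'⁻¹ ∈ rstab a := ctrl_of_coprime_m h ha hg' y
    have h2 : y * g' * y⁻¹ = (y * g' * y⁻¹ * g'⁻¹) * g' := by group
    rw [h2]
    apply X.mul_mem _ hg'X
    apply hN₀X
    rw [hN₀]
    exact (le_sup_left : rstab a ≤ _) h1
  have d1 : (cz g).relIndex X ∣ ind g := relIndex_dvd_index_of_normal_right _ _
  have d2 : (cz g).relIndex X ∣ N₀.relIndex X := Subgroup.relIndex_dvd_of_le_left X hN₀g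
  have d3 : N₀.relIndex X ∣ k' := by
    rw [hX, Subgroup.relIndex_sup_left]
    apply relIndex_zpowers_dvd
    rw [hN₀]
    exact (le_sup_right : Subgroup.center G ≤ _) hk'
  have d4 : (cz g).relIndex X ∣ m := dvd_trans (dvd_trans d2 d3) hk'm
  have h1 : (cz g).relIndex X = 1 := by
    have := Nat.dvd_gcd d1 d4
    rwa [Nat.Coprime.gcd_eq_one hg, Nat.dvd_one] at this
  have h2 : X ≤ cz g := Subgroup.relIndex_eq_one.mp h1
  exact (mem_cz.mp (h2 hg'X)).symm

end Cfsg.Agent.Lib.Helper26.QFrob
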