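import Mathlib
import Cfsg.Agent.Lib.Helper26.QFrobB

set_option autoImplicit false
set_option maxHeartbeats 1000000

/-!
Groups whose two largest class sizes are coprime (helper26): elements of the two largest classes
do not commute, and their centralizers meet in the centre.
-/

namespace Cfsg.Agent.Lib.Helper26.QFrob

open Cfsg.Agent.Lib.Helper16.CentMax

variable {G : Type*} [Group G] {m n : ℕ}

theorem ind_eq_m_or_le [Finite G] (h : Hyp G m n) (g : G) : ind g = m ∨ ind g ≤ n := by
  rcases Nat.lt_or_ge (ind g) m with h1 | h1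
  · right; exact h.hsec g h1
  · left; exact le_antisymm (h.htop g) h1

theorem not_mem_center_of_ind [Finite G] {g : G} {k : ℕ} (hk : 1 < k) (hg : ind g = k) :
    g ∉ Subgroup.center G := by
  intro hc
  rw [← ind_eq_one_iff] at hc
  omega

theorem inf_le_cz_mul (b g : G) : cz b ⊓ cz g ≤ cz (b * g) := by
  intro x hx
  obtain ⟨h1, h2⟩ := Subgroup.mem_inf.mp hx
  rw [mem_cz] at h1 h2 ⊢
  calc x * (b * g) = (x * b) * g := by group
    _ = (b * x) * g := by rw [h1]
    _ = b * (x * g) := by group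
    _ = b * (g * x) := by rw [h2]
    _ = b * g * x := by group

theorem ctrl_of_comm_B [Finite G] (h : Hyp G m n) {b g : G} (hb : ind b = n)
    (hg : (ind g).Coprime n) (hgm : ind g < m) (y : G) : y * g * y⁻¹ * g⁻¹ ∈ rstab b := by
  have hcop : (ind b).Coprime (ind g) := by rw [hb]; exact hg.symm
  apply conj_mul_inv_mem_rstab
  · exact fac_of_coprime hcop
  · rw [hb]
    have e : (cz b ⊓ cz g).index = n * ind g := by
      rw [index_inf_of_coprime _ _ hcop]
      show ind b * ind g = n * ind g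
      rw [hb]
    have hd : ind (b * g) ∣ n * ind g := by
      rw [← e]; exact Subgroup.index_dvd_of_le (inf_le_cz_mul b g)
    rcases ind_eq_m_or_le h (b * g) with h1 | h1
    · exfalso
      rw [h1] at hd
      have h2 : m ∣ ind g := (h.hcop).dvd_of_dvd_mul_left hd
      have := Nat.le_of_dvd (ind_pos g) h2
      omega
    · exact h1

theorem no_comm [Finite G] (h : Hyp G m n) {a b : G} (ha : ind a = m) (hb : ind b = n) :
    a * b ≠ b * a := by
  intro hab
  have hbL : (ind b).Coprime m := by rw [hb]; exact h.hcop.symm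
  obtain ⟨-, ⟨k, hkm, hk⟩, -⟩ := L_props h ha hbL
  obtain ⟨a₁, a₂, s, e₁, e₂, hsplit, ha₁, ha₂, ha₁pow, ha₂ord⟩ := elt_split a m
  have ha₂b : b * a₂ = a₂ * b := by
    rw [ha₂]; exact ((show Commute a b from hab).pow_left e₂).symm
  have hkco : k.Coprime (orderOf a₂) := Nat.Coprime.coprime_dvd_left hkm ha₂ord.symm
  have ha₂one : a₂ ^ orderOf a₂ ∈ Subgroup.center G := by
    rw [pow_orderOf_eq_one]; exact Subgroup.one_mem _
  have hle1 : cz (b * a₂) ≤ cz b := cz_mul_le_left ha₂b hk ha₂one hkco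
  have hle2 : cz (b * a₂) ≤ cz a₂ := cz_mul_le_right ha₂b hk ha₂one hkco
  have hda₂ : ind a₂ ∣ m := by rw [ha₂, ← ha]; exact ind_pow_dvd a e₂
  have hco2 : (ind b).Coprime (ind a₂) := by
    rw [hb]; exact Nat.Coprime.coprime_dvd_right hda₂ h.hcop.symm
  have hidx : (cz b ⊓ cz a₂).index = n * ind a₂ := by
    rw [index_inf_of_coprime _ _ hco2]
    show ind b * ind a₂ = n * ind a₂
    rw [hb]
  have hdvd : n * ind a₂ ∣ ind (b * a₂) := by
    rw [← hidx]; exact Subgroup.index_dvd_of_le (le_inf hle1 hle2)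
  have ha₂Z : a₂ ∈ Subgroup.center G := by
    by_contra hnz
    have h1 : ind a₂ ≠ 1 := fun h1 => hnz (ind_eq_one_iff.mp h1)
    have h2 : 2 ≤ ind a₂ := by have := ind_pos a₂; omega
    have h3 : n * ind a₂ ≤ ind (b * a₂) := Nat.le_of_dvd (ind_pos _) hdvd
    rcases ind_eq_m_or_le h (b * a₂) with h4 | h4
    · rw [h4] at hdvd
      have h5 : n ∣ m := dvd_trans (dvd_mul_right n _) hdvd
      have h6 : n ∣ Nat.gcd m n := Nat.dvd_gcd h5 (dvd_refl n)
      rw [Nat.Coprime.gcd_eq_one h.hcop, Nat.dvd_one] at h6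
      have := h.hn; omega
    · have := h.hn; nlinarith
  have hapow : a ^ (m ^ s) ∈ Subgroup.center G := by
    have hc12 : Commute a₁ a₂ := by
      rw [ha₁, ha₂]; exact Commute.pow_pow_self a e₁ e₂
    have e : a ^ (m ^ s) = a₂ ^ (m ^ s) := by
      conv_lhs => rw [hsplit]
      rw [hc12.mul_pow, ha₁pow, one_mul]
    rw [e]
    exact Subgroup.pow_mem _ ha₂Z _
  obtain ⟨q, hq, hqn⟩ := Nat.exists_prime_and_dvd (show n ≠ 1 by have := h.hn; omega)
  haveI : Fact q.Prime := ⟨hq⟩
  have hqm : ¬ q ∣ m := by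
    intro hqm
    have := Nat.dvd_gcd hqm hqn
    rw [Nat.Coprime.gcd_eq_one h.hcop, Nat.dvd_one] at this
    exact hq.one_lt.ne' this
  obtain ⟨Q⟩ : Nonempty (Sylow q ↥(cz a)) := inferInstance
  have hQ : (Q : Subgroup ↥(cz a)) ≤ (cz b).subgroupOf (cz a) := by
    intro u hu
    rw [Subgroup.mem_subgroupOf, mem_cz]
    obtain ⟨e, he⟩ := Q.isPGroup' ⟨u, hu⟩
    have hue : (u : G) ^ (q ^ e) = 1 := by
      have h2 := congrArg (fun x : (Q : Subgroup ↥(cz a)) => ((x : ↥(cz a)) : G)) he
      simpa using h2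
    have hua : a * (u : G) = (u : G) * a := (mem_cz.mp u.2).symm
    have hco : (m ^ s).Coprime (q ^ e) := by
      apply Nat.Coprime.pow
      exact ((Nat.Prime.coprime_iff_not_dvd hq).mpr hqm).symm
    have hu1 : (u : G) ^ (q ^ e) ∈ Subgroup.center G := by rw [hue]; exact Subgroup.one_mem _
    have hl1 : cz (a * (u : G)) ≤ cz a := cz_mul_le_left hua hapow hu1 hco
    have hl2 : cz (a * (u : G)) ≤ cz (u : G) := cz_mul_le_right hua hapow hu1 hco
    have heq : cz (a * (u : G)) = cz a := by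
      apply eq_of_le_of_index_le hl1
      show ind (a * (u : G)) ≤ ind a
      rw [ha]; exact h.htop _
    have hbu : b ∈ cz (u : G) := by
      apply hl2
      rw [heq, mem_cz]
      exact hab.symm
    exact (mem_cz.mp hbu).symm
  have hidx2 : ((cz b).subgroupOf (cz a)).index = n := by
    show (cz b).relIndex (cz a) = n
    have hco3 : (ind b).Coprime (ind a) := by rw [hb, ha]; exact h.hcop.symm
    have h1 := index_inf_of_coprime (cz b) (cz a) hco3
    have h2 : (cz b ⊓ cz a).relIndex (cz a) * (cz a).index = (cz b ⊓ cz a).index :=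
      Subgroup.relIndex_mul_index inf_le_right
    rw [Subgroup.inf_relIndex_right, h1] at h2
    have h3 : (cz b).relIndex (cz a) * ind a = ind b * ind a := h2
    have h4 := Nat.eq_of_mul_eq_mul_right (ind_pos a) h3
    rw [h4, hb]
  have hd1 : ((cz b).subgroupOf (cz a)).index ∣ (Q : Subgroup ↥(cz a)).index :=
    Subgroup.index_dvd_of_le hQ
  have hd2 : ¬ q ∣ (Q : Subgroup ↥(cz a)).index := Q.not_dvd_index
  rw [hidx2] at hd1
  exact hd2 (dvd_trans hqn hd1)

theorem pow_mem_center_of_comm_B [Finite G] (h : Hyp G m n) {a b : G} (ha : ind a = m)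
    (hb : ind b = n) {x : G} (hx : b * x = x * b) : ∃ s, x ^ (m ^ s) ∈ Subgroup.center G := by
  have hbL : (ind b).Coprime m := by rw [hb]; exact h.hcop.symm
  obtain ⟨-, ⟨k, hkm, hk⟩, -⟩ := L_props h ha hbL
  obtain ⟨x₁, x₂, s, e₁, e₂, hsplit, hx₁, hx₂, hx₁pow, hx₂ord⟩ := elt_split x m
  have hbx₂ : b * x₂ = x₂ * b := by
    rw [hx₂]; exact ((show Commute b x from hx).pow_right e₂)
  have hkco : k.Coprime (orderOf x₂) := Nat.Coprime.coprime_dvd_left hkm hx₂ord.symm
  have hx₂one : x₂ ^ orderOf x₂ ∈ Subgroup.center G := by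
    rw [pow_orderOf_eq_one]; exact Subgroup.one_mem _
  have hle1 : cz (b * x₂) ≤ cz b := cz_mul_le_left hbx₂ hk hx₂one hkco
  have hle2 : cz (b * x₂) ≤ cz x₂ := cz_mul_le_right hbx₂ hk hx₂one hkco
  have hne : ind (b * x₂) ≠ m := by
    intro hm
    apply no_comm h hm hb
    calc b * x₂ * b = b * (x₂ * b) := by group
      _ = b * (b * x₂) := by rw [hbx₂]
  have hle : ind (b * x₂) ≤ n := by
    rcases ind_eq_m_or_le h (b * x₂) with h1 | h1
    · exact absurd h1 hne
    · exact h1
  have heq : cz (b * x₂) = cz b := by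
    apply eq_of_le_of_index_le hle1
    show ind (b * x₂) ≤ ind b
    rw [hb]; exact hle
  have hbx : cz b ≤ cz x₂ := by rw [← heq]; exact hle2
  have hdx₂ : ind x₂ ∣ n := by rw [← hb]; exact Subgroup.index_dvd_of_le hbx
  have hx₂L : (ind x₂).Coprime m := Nat.Coprime.coprime_dvd_left hdx₂ h.hcop.symm
  obtain ⟨-, ⟨k', hk'm, hk'⟩, -⟩ := L_props h ha hx₂L
  have hx₂Z : x₂ ∈ Subgroup.center G :=
    mem_center_of_pow_of_pow hk' hx₂one (Nat.Coprime.coprime_dvd_left hk'm hx₂ord.symm)
  refine ⟨s, ?_⟩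
  have hc12 : Commute x₁ x₂ := by rw [hx₁, hx₂]; exact Commute.pow_pow_self x e₁ e₂
  have e : x ^ (m ^ s) = x₂ ^ (m ^ s) := by
    conv_lhs => rw [hsplit]
    rw [hc12.mul_pow, hx₁pow, one_mul]
  rw [e]
  exact Subgroup.pow_mem _ hx₂Z _

theorem exists_coprime_pow_mem_center_A [Finite G] (h : Hyp G m n) {a b : G} (ha : ind a = m)
    (hb : ind b = n) : ∃ i : ℕ, i.Coprime m ∧ a ^ i ∈ Subgroup.center G := by
  obtain ⟨a₁, a₂, s, e₁, e₂, hsplit, ha₁, ha₂, ha₁pow, ha₂ord⟩ := elt_split a m
  have ha₁Z : a₁ ∈ Subgroup.center G := by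
    by_contra hnz
    obtain ⟨o, ho⟩ : ∃ o, o = orderOf ((a₁ : G) : G ⧸ Subgroup.center G) := ⟨_, rfl⟩
    have hq1 : ((a₁ : G) : G ⧸ Subgroup.center G) ^ (m ^ s) = 1 := by
      rw [← QuotientGroup.mk_pow, ha₁pow]; rfl
    have hom : o ∣ m ^ s := by rw [ho]; exact orderOf_dvd_of_pow_eq_one hq1
    have ho1 : o ≠ 1 := by
      intro h1
      rw [ho] at h1
      have := orderOf_eq_one_iff.mp h1
      exact hnz ((QuotientGroup.eq_one_iff a₁).mp this)
    obtain ⟨r, hr, hro⟩ := Nat.exists_prime_and_dvd ho1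
    have hrm : r ∣ m := hr.dvd_of_dvd_pow (dvd_trans hro hom)
    have hrn : ¬ r ∣ n := by
      intro hrn
      have := Nat.dvd_gcd hrm hrn
      rw [Nat.Coprime.gcd_eq_one h.hcop, Nat.dvd_one] at this
      exact hr.one_lt.ne' this
    obtain ⟨c, hc⟩ := hro
    obtain ⟨g, hg⟩ : ∃ g, g = a₁ ^ c := ⟨_, rfl⟩
    have hgr : g ^ r ∈ Subgroup.center G := by
      rw [hg, ← pow_mul, mul_comm, ← hc, ← QuotientGroup.eq_one_iff, QuotientGroup.mk_pow, ho]
      exact pow_orderOf_eq_one _
    have hopos : 0 < o := by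
      rw [ho]; exact orderOf_pos _
    have hgZ : g ∉ Subgroup.center G := by
      intro hgZ
      rw [hg, ← QuotientGroup.eq_one_iff, QuotientGroup.mk_pow] at hgZ
      have h1 : o ∣ c := by rw [ho]; exact orderOf_dvd_of_pow_eq_one hgZ
      have hcpos : 0 < c := by
        rcases Nat.eq_zero_or_pos c with h0 | h0
        · rw [h0, mul_zero] at hc; omega
        · exact h0
      have h2 := Nat.le_of_dvd hcpos h1
      have h3 : 2 * c ≤ r * c := Nat.mul_le_mul_right c hr.two_le
      rw [← hc] at h3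
      omega
    have hga : cz a ≤ cz g := by
      rw [hg, ha₁, ← pow_mul]; exact cz_le_cz_pow a _
    have hdg : ind g ∣ m := by rw [← ha]; exact Subgroup.index_dvd_of_le hga
    obtain ⟨b', hb'mem, hgb'⟩ := exists_comm_in_class hr hgr (by rw [hb]; exact hrn)
    have hb' : ind b' = n := by rw [ind_of_mem_classSet hb'mem, hb]
    have hgn : (ind g).Coprime n := Nat.Coprime.coprime_dvd_left hdg h.hcop
    rcases Nat.lt_or_ge (ind g) m with hlt | hge
    · have hctrl := ctrl_of_comm_B h hb' hgn hlt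
      have hd : Nat.card (rstab b') ∣ n := hb' ▸ card_rstab_dvd b'
      have hc2 : (Nat.card (rstab b')).Coprime (ind g) :=
        Nat.Coprime.coprime_dvd_left hd hgn.symm
      obtain ⟨-, h2, -⟩ := cons_of_ctrl hctrl hc2
      apply hgZ
      apply mem_center_of_pow_of_pow hgr h2
      have h3 : r.Coprime n := (Nat.Prime.coprime_iff_not_dvd hr).mpr hrn
      exact Nat.Coprime.coprime_dvd_right hd h3
    · have hgm : ind g = m := le_antisymm (h.htop g) hge
      exact no_comm h hgm hb' hgb'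
  refine ⟨orderOf a₂, ha₂ord, ?_⟩
  have hc12 : Commute a₁ a₂ := by rw [ha₁, ha₂]; exact Commute.pow_pow_self a e₁ e₂
  have e : a ^ orderOf a₂ = a₁ ^ orderOf a₂ := by
    conv_lhs => rw [hsplit]
    rw [hc12.mul_pow, pow_orderOf_eq_one, mul_one]
  rw [e]
  exact Subgroup.pow_mem _ ha₁Z _

theorem inter_le_center [Finite G] (h : Hyp G m n) {a b : G} (ha : ind a = m) (hb : ind b = n)
    {g : G} (hga : g * a = a * g) (hgb : g * b = b * g) : g ∈ Subgroup.center G := by
  obtain ⟨s, hs⟩ := pow_mem_center_of_comm_B h ha hb hgb.symm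
  obtain ⟨i, hi, hai⟩ := exists_coprime_pow_mem_center_A h ha hb
  have hco : i.Coprime (m ^ s) := Nat.Coprime.pow_right s hi
  have hag : a * g = g * a := hga.symm
  have hl1 : cz (a * g) ≤ cz a := cz_mul_le_left hag hai hs hco
  have hagm : ind (a * g) = m := by
    apply le_antisymm (h.htop _)
    rw [← ha]
    exact Nat.le_of_dvd (ind_pos _) (Subgroup.index_dvd_of_le hl1)
  obtain ⟨i', hi', hagi'⟩ := exists_coprime_pow_mem_center_A h hagm hb
  have hco' : i'.Coprime (m ^ s) := Nat.Coprime.pow_right s hi'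
  have hgpow : g ^ (i * i') ∈ Subgroup.center G := by
    have hc : Commute a g := hag
    have h1 : (a * g) ^ (i * i') = a ^ (i * i') * g ^ (i * i') := hc.mul_pow _
    have h2 : (a * g) ^ (i * i') ∈ Subgroup.center G := by
      rw [mul_comm i i', pow_mul]; exact Subgroup.pow_mem _ hagi' _
    have h3 : a ^ (i * i') ∈ Subgroup.center G := by
      rw [pow_mul]; exact Subgroup.pow_mem _ hai _
    have h4 : g ^ (i * i') = (a ^ (i * i'))⁻¹ * (a * g) ^ (i * i') := by rw [h1]; group
    rw [h4]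
    exact Subgroup.mul_mem _ (Subgroup.inv_mem _ h3) h2
  exact mem_center_of_pow_of_pow hgpow hs (Nat.Coprime.mul_right hco.symm hco'.symm).symm

theorem center_eq_inf [Finite G] (h : Hyp G m n) {a b : G} (ha : ind a = m) (hb : ind b = n) :
    Subgroup.center G = cz a ⊓ cz b := by
  apply le_antisymm (le_inf (center_le_cz a) (center_le_cz b))
  intro g hg
  obtain ⟨h1, h2⟩ := Subgroup.mem_inf.mp hg
  exact inter_le_center h ha hb (mem_cz.mp h1) (mem_cz.mp h2)

theorem index_center [Finite G] (h : Hyp G m n) {a b : G} (ha : ind a = m) (hb : ind b = n) :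
    (Subgroup.center G).index = m * n := by
  have hco : (ind a).Coprime (ind b) := by rw [ha, hb]; exact h.hcop
  rw [center_eq_inf h ha hb, index_inf_of_coprime _ _ hco]
  show ind a * ind b = m * n
  rw [ha, hb]

theorem relIndex_center_A [Finite G] (h : Hyp G m n) {a b : G} (ha : ind a = m) (hb : ind b = n) :
    (Subgroup.center G).relIndex (cz a) = n := by
  have h1 : (Subgroup.center G).relIndex (cz a) * (cz a).index = (Subgroup.center G).index :=
    Subgroup.relIndex_mul_index (center_le_cz a)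
  rw [index_center h ha hb] at h1
  have h1' : (Subgroup.center G).relIndex (cz a) * ind a = m * n := h1
  rw [ha] at h1'
  have hm : 0 < m := by have := h.hmn; omega
  have h2 : (Subgroup.center G).relIndex (cz a) * m = n * m := by rw [h1']; ring
  exact Nat.eq_of_mul_eq_mul_right hm h2

theorem relIndex_center_B [Finite G] (h : Hyp G m n) {a b : G} (ha : ind a = m) (hb : ind b = n) :
    (Subgroup.center G).relIndex (cz b) = m := by
  have h1 : (Subgroup.center G).relIndex (cz b) * (cz b).index = (Subgroup.center G).index :=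
    Subgroup.relIndex_mul_index (center_le_cz b)
  rw [index_center h ha hb] at h1
  have h1' : (Subgroup.center G).relIndex (cz b) * ind b = m * n := h1
  rw [hb] at h1'
  have hn : 0 < n := by have := h.hn; omega
  exact Nat.eq_of_mul_eq_mul_right hn h1'

theorem pow_mem_center_of_relIndex [Finite G] {K : Subgroup G} {k : ℕ}
    (hk : (Subgroup.center G).relIndex K = k) {x : G} (hx : x ∈ K) :
    x ^ k ∈ Subgroup.center G := by
  have h1 : ((⟨x, hx⟩ : K) : K ⧸ (Subgroup.center G).subgroupOf K) ^ k = 1 := by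
    have h2 : Nat.card (K ⧸ (Subgroup.center G).subgroupOf K) = k := hk
    rw [← h2]; exact pow_card_eq_one'
  rw [← QuotientGroup.mk_pow, QuotientGroup.eq_one_iff, Subgroup.mem_subgroupOf] at h1
  exact h1

end Cfsg.Agent.Lib.Helper26.QFrob
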