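import Mathlib
import Cfsg.Agent.Lib.Helper26.QFrobC

set_option autoImplicit false
set_option maxHeartbeats 1000000

/-!
Groups whose two largest class sizes are coprime (helper26): the counting lemma for a group `K`
acting coprimely on an abelian normal subgroup `V` generated by a regular orbit.
-/

namespace Cfsg.Agent.Lib.Helper26.QFrob

open Cfsg.Agent.Lib.Helper16.CentMax

variable {G : Type*} [Group G]

structure Setup (V K : Subgroup G) (E N : ℕ) : Prop where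
  vnorm : V.Normal
  vab : ∀ v ∈ V, ∀ w ∈ V, v * w = w * v
  vexp : ∀ v ∈ V, v ^ E = 1
  kpow : ∀ x ∈ K, x ^ N ∈ Subgroup.center G
  cop : E.Coprime N
  kcard : Nat.card K = N * Nat.card (Subgroup.center G)
  zk : Subgroup.center G ≤ K
  vk : ∀ v, v ∈ V → v ∈ K → v ∈ Subgroup.center G

theorem eq_one_of_pow_pow {c : G} {i j : ℕ} (hi : c ^ i = 1) (hj : c ^ j = 1) (hc : i.Coprime j) :
    c = 1 := by
  have h1 := orderOf_dvd_of_pow_eq_one hi
  have h2 := orderOf_dvd_of_pow_eq_one hj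
  have h3 := Nat.dvd_gcd h1 h2
  rw [Nat.Coprime.gcd_eq_one hc, Nat.dvd_one] at h3
  exact orderOf_eq_one_iff.mp h3

variable {V K : Subgroup G} {E N : ℕ}

/-- the commutator map `v ↦ x v x⁻¹ v⁻¹` on the abelian normal subgroup `V` -/
def kap (S : Setup V K E N) (x : G) : ↥V →* ↥V where
  toFun v := ⟨x * v.1 * x⁻¹ * v.1⁻¹, V.mul_mem (S.vnorm.conj_mem v.1 v.2 x) (V.inv_mem v.2)⟩
  map_one' := by apply Subtype.ext; simp
  map_mul' := by
    intro v w
    apply Subtype.ext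
    show x * (v.1 * w.1) * x⁻¹ * (v.1 * w.1)⁻¹
      = (x * v.1 * x⁻¹ * v.1⁻¹) * (x * w.1 * x⁻¹ * w.1⁻¹)
    have hB : x * w.1 * x⁻¹ ∈ V := S.vnorm.conj_mem w.1 w.2 x
    have hc : v.1⁻¹ * (x * w.1 * x⁻¹ * w.1⁻¹) = (x * w.1 * x⁻¹ * w.1⁻¹) * v.1⁻¹ :=
      S.vab _ (V.inv_mem v.2) _ (V.mul_mem hB (V.inv_mem w.2))
    calc x * (v.1 * w.1) * x⁻¹ * (v.1 * w.1)⁻¹
        = (x * v.1 * x⁻¹) * ((x * w.1 * x⁻¹ * w.1⁻¹) * v.1⁻¹) := by group
      _ = (x * v.1 * x⁻¹) * (v.1⁻¹ * (x * w.1 * x⁻¹ * w.1⁻¹)) := by rw [hc]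
      _ = (x * v.1 * x⁻¹ * v.1⁻¹) * (x * w.1 * x⁻¹ * w.1⁻¹) := by group

theorem kap_val (S : Setup V K E N) (x : G) (v : ↥V) :
    ((kap S x v : ↥V) : G) = x * v.1 * x⁻¹ * v.1⁻¹ := rfl

theorem mem_ker_kap (S : Setup V K E N) (x : G) (v : ↥V) :
    v ∈ (kap S x).ker ↔ x * v.1 = v.1 * x := by
  rw [MonoidHom.mem_ker]
  constructor
  · intro h1
    have h2 : x * v.1 * x⁻¹ * v.1⁻¹ = 1 := by
      rw [← kap_val S x v, h1]; rfl
    calc x * v.1 = (x * v.1 * x⁻¹ * v.1⁻¹) * v.1 * x := by group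
      _ = v.1 * x := by rw [h2]; group
  · intro h1
    apply Subtype.ext
    rw [kap_val]
    show x * v.1 * x⁻¹ * v.1⁻¹ = 1
    rw [h1]; group

theorem comm_elt_eq_one (S : Setup V K E N) {x : G} (hx : x ∈ K) {v : G} (hv : v ∈ V)
    (hr : x * (x * v * x⁻¹ * v⁻¹) = (x * v * x⁻¹ * v⁻¹) * x) : x * v * x⁻¹ * v⁻¹ = 1 := by
  obtain ⟨c, hc⟩ : ∃ c, c = x * v * x⁻¹ * v⁻¹ := ⟨_, rfl⟩
  rw [← hc] at hr ⊢
  have hcV : c ∈ V := by
    rw [hc]; exact V.mul_mem (S.vnorm.conj_mem v hv x) (V.inv_mem hv)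
  have e0 : x * v * x⁻¹ = c * v := by rw [hc]; group
  have hcomm : Commute x c := hr
  have hpow : ∀ j : ℕ, x ^ j * v * (x ^ j)⁻¹ = c ^ j * v := by
    intro j
    induction j with
    | zero => simp
    | succ j ih =>
      have hcj : x * c ^ j * x⁻¹ = c ^ j := by
        have := hcomm.pow_right j
        calc x * c ^ j * x⁻¹ = (x * c ^ j) * x⁻¹ := by group
          _ = (c ^ j * x) * x⁻¹ := by rw [this.eq]
          _ = c ^ j := by group
      calc x ^ (j + 1) * v * (x ^ (j + 1))⁻¹ = x * (x ^ j * v * (x ^ j)⁻¹) * x⁻¹ := by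
            rw [pow_succ']; group
        _ = x * (c ^ j * v) * x⁻¹ := by rw [ih]
        _ = (x * c ^ j * x⁻¹) * (x * v * x⁻¹) := by group
        _ = c ^ j * (c * v) := by rw [hcj, e0]
        _ = c ^ (j + 1) * v := by rw [pow_succ]; group
  have hN := hpow N
  have hz := S.kpow x hx
  have h1 : x ^ N * v * (x ^ N)⁻¹ = v := by
    have := (Subgroup.mem_center_iff.mp hz) v
    rw [← this]; group
  rw [h1] at hN
  have hcN : c ^ N = 1 := by
    have : c ^ N * v = 1 * v := by rw [one_mul]; exact hN.symm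
    exact mul_right_cancel this
  exact eq_one_of_pow_pow (S.vexp c hcV) hcN S.cop

theorem disjoint_kap (S : Setup V K E N) {x : G} (hx : x ∈ K) (t : ↥V)
    (h1 : t ∈ (kap S x).ker) (h2 : t ∈ (kap S x).range) : t = 1 := by
  obtain ⟨v, rfl⟩ := h2
  rw [mem_ker_kap, kap_val] at h1
  apply Subtype.ext
  rw [kap_val]
  exact comm_elt_eq_one S hx v.2 h1

theorem isComplement_kap [Finite G] (S : Setup V K E N) {x : G} (hx : x ∈ K) :
    Subgroup.IsComplement' (kap S x).ker (kap S x).range := by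
  apply Subgroup.isComplement'_of_card_mul_and_disjoint
  · rw [← Subgroup.index_ker]; exact Subgroup.card_mul_index _
  · rw [Subgroup.disjoint_def]
    intro t h1 h2
    exact disjoint_kap S hx t h1 h2

/-- the main counting lemma -/
theorem main_count [Finite G] (S : Setup V K E N) {x c w : G}
    (hx : x ∈ K) (hc : c ∈ V) (hxc : x * c = c * x) (hw : w ∈ V)
    (hwr : (⟨w, hw⟩ : V) ∈ (kap S x).range) (hw1 : w ≠ 1)
    (hstab : ∀ d ∈ K, d * x = x * d → d * c = c * d → d * w = w * d → d ∈ Subgroup.center G) :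
    N < ind (x * c) := by
  classical
  haveI := S.vnorm
  obtain ⟨y, hy⟩ : ∃ y, y = x * c := ⟨_, rfl⟩
  obtain ⟨D, hD⟩ : ∃ D : Subgroup G, D = K ⊓ cz x ⊓ cz c := ⟨_, rfl⟩
  have hDmem : ∀ d, d ∈ D ↔ d ∈ K ∧ d * x = x * d ∧ d * c = c * d := by
    intro d; rw [hD, Subgroup.mem_inf, Subgroup.mem_inf, mem_cz, mem_cz]; tauto
  have hDK : D ≤ K := fun d hd => ((hDmem d).mp hd).1
  have hker : (cz y).subgroupOf V = (kap S x).ker := by
    ext v
    rw [Subgroup.mem_subgroupOf, mem_cz, mem_ker_kap, hy]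
    have hvc : (v : G) * c = c * v := S.vab _ v.2 _ hc
    constructor
    · intro h1
      have h2 : (v : G) * x * c = x * v * c := by
        calc (v : G) * x * c = v * (x * c) := by group
          _ = (x * c) * v := h1
          _ = x * (c * v) := by group
          _ = x * (v * c) := by rw [hvc]
          _ = x * v * c := by group
      exact (mul_right_cancel h2).symm
    · intro h1
      calc (v : G) * (x * c) = (v * x) * c := by group
        _ = (x * v) * c := by rw [h1]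
        _ = x * (v * c) := by group
        _ = x * (c * v) := by rw [hvc]
        _ = x * c * v := by group
  have hrel : (cz y).relIndex V = Nat.card (kap S x).range := by
    show ((cz y).subgroupOf V).index = _
    rw [hker, Subgroup.index_ker]
  have hidx : ind y = Nat.card (kap S x).range * (cz y ⊔ V).index := by
    rw [← hrel]; exact index_eq_relIndex_mul_index_sup (cz y) V
  have hSK : (cz y ⊔ V) ⊓ K ≤ D := by
    intro d hd
    obtain ⟨hd1, hdK⟩ := Subgroup.mem_inf.mp hd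
    rw [Subgroup.mem_sup_of_normal_right] at hd1
    obtain ⟨c', hc', v, hv, rfl⟩ := hd1
    have hc'y : c' * y = y * c' := mem_cz.mp hc'
    -- r := x⁻¹ v⁻¹ x v
    obtain ⟨r, hr⟩ : ∃ r, r = x⁻¹ * v⁻¹ * x * v := ⟨_, rfl⟩
    have hrV : r ∈ V := by
      rw [hr]
      have h1 : x⁻¹ * v⁻¹ * x⁻¹⁻¹ ∈ V := S.vnorm.conj_mem _ (V.inv_mem hv) x⁻¹
      rw [inv_inv] at h1
      exact V.mul_mem h1 hv
    obtain ⟨cc, hcc⟩ : ∃ cc, cc = (c' * v)⁻¹ * c * (c' * v) := ⟨_, rfl⟩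
    have hccV : cc ∈ V := by
      rw [hcc]
      have h1 := S.vnorm.conj_mem c hc (c' * v)⁻¹
      rwa [inv_inv] at h1
    obtain ⟨x', hx'⟩ : ∃ x', x' = (c' * v)⁻¹ * x * (c' * v) := ⟨_, rfl⟩
    have hvc : v⁻¹ * c * v = c := by
      have := S.vab _ hv _ hc
      calc v⁻¹ * c * v = v⁻¹ * (c * v) := by group
        _ = v⁻¹ * (v * c) := by rw [this]
        _ = c := by group
    have e1 : x' * cc = x * r * c := by
      have h1 : (c' * v)⁻¹ * y * (c' * v) = v⁻¹ * y * v := by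
        calc (c' * v)⁻¹ * y * (c' * v) = v⁻¹ * (c'⁻¹ * (y * c')) * v := by group
          _ = v⁻¹ * (c'⁻¹ * (c' * y)) * v := by rw [hc'y]
          _ = v⁻¹ * y * v := by group
      calc x' * cc = (c' * v)⁻¹ * y * (c' * v) := by rw [hx', hcc, hy]; group
        _ = v⁻¹ * y * v := h1
        _ = (v⁻¹ * x * v) * (v⁻¹ * c * v) := by rw [hy]; group
        _ = (v⁻¹ * x * v) * c := by rw [hvc]
        _ = x * r * c := by rw [hr]; group
    -- z₀ := x⁻¹ x'
    obtain ⟨z₀, hz₀⟩ : ∃ z₀, z₀ = x⁻¹ * x' := ⟨_, rfl⟩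
    have hz₀V : z₀ ∈ V := by
      have h1 : z₀ = r * c * cc⁻¹ := by
        rw [hz₀]
        calc x⁻¹ * x' = x⁻¹ * (x' * cc) * cc⁻¹ := by group
          _ = x⁻¹ * (x * r * c) * cc⁻¹ := by rw [e1]
          _ = r * c * cc⁻¹ := by group
      rw [h1]
      exact V.mul_mem (V.mul_mem hrV hc) (V.inv_mem hccV)
    have hz₀K : z₀ ∈ K := by
      rw [hz₀, hx']
      exact K.mul_mem (K.inv_mem hx) (K.mul_mem (K.mul_mem (K.inv_mem hdK) hx) hdK)
    have hz₀Z : z₀ ∈ Subgroup.center G := S.vk z₀ hz₀V hz₀K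
    have hx'z : x' = x * z₀ := by rw [hz₀]; group
    have hz₀N : z₀ ^ N = 1 := by
      have hzc : Commute x z₀ := ((Subgroup.mem_center_iff.mp hz₀Z) x)
      have h1 : x' ^ N = x ^ N * z₀ ^ N := by rw [hx'z, hzc.mul_pow]
      have h2 : x' ^ N = x ^ N := by
        have h3 : x' = (c' * v)⁻¹ * x * ((c' * v)⁻¹)⁻¹ := by rw [hx', inv_inv]
        rw [h3, conj_pow]
        have := (Subgroup.mem_center_iff.mp (S.kpow x hx)) (c' * v)⁻¹
        rw [this]; group
      rw [h2] at h1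
      have h4 : x ^ N * 1 = x ^ N * z₀ ^ N := by rw [mul_one]; exact h1
      exact (mul_left_cancel h4).symm
    have hz₀1 : z₀ = 1 := eq_one_of_pow_pow (S.vexp z₀ hz₀V) hz₀N S.cop
    have hx'x : x' = x := by rw [hx'z, hz₀1, mul_one]
    -- d commutes with x
    have hdx : (c' * v) * x = x * (c' * v) := by
      have h1 : (c' * v)⁻¹ * x * (c' * v) = x := by rw [← hx', hx'x]
      calc (c' * v) * x = (c' * v) * ((c' * v)⁻¹ * x * (c' * v)) := by rw [h1]
        _ = x * (c' * v) := by group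
    -- cc = r * c
    have e2 : cc = r * c := by
      rw [hx'x] at e1
      have : x * cc = x * (r * c) := by rw [e1]; group
      exact mul_left_cancel this
    -- r commutes with x
    have hccx : x * cc = cc * x := by
      rw [hcc]
      calc x * ((c' * v)⁻¹ * c * (c' * v))
          = (c' * v)⁻¹ * (((c' * v) * x) * ((c' * v)⁻¹ * c * (c' * v))) := by group
        _ = (c' * v)⁻¹ * ((x * (c' * v)) * ((c' * v)⁻¹ * c * (c' * v))) := by rw [hdx]
        _ = (c' * v)⁻¹ * ((x * c) * (c' * v)) := by group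
        _ = (c' * v)⁻¹ * ((c * x) * (c' * v)) := by rw [hxc]
        _ = (c' * v)⁻¹ * (c * (x * (c' * v))) := by group
        _ = (c' * v)⁻¹ * (c * ((c' * v) * x)) := by rw [hdx]
        _ = (c' * v)⁻¹ * c * (c' * v) * x := by group
    have hrx : x * r = r * x := by
      have h1 : r = cc * c⁻¹ := by rw [e2]; group
      have hxc' : x * c⁻¹ = c⁻¹ * x := by
        calc x * c⁻¹ = c⁻¹ * (c * x) * c⁻¹ := by group
          _ = c⁻¹ * (x * c) * c⁻¹ := by rw [hxc]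
          _ = c⁻¹ * x := by group
      rw [h1]
      calc x * (cc * c⁻¹) = (x * cc) * c⁻¹ := by group
        _ = (cc * x) * c⁻¹ := by rw [hccx]
        _ = cc * (x * c⁻¹) := by group
        _ = cc * (c⁻¹ * x) := by rw [hxc']
        _ = cc * c⁻¹ * x := by group
    -- r⁻¹ = x v' x⁻¹ v'⁻¹ with v' = x⁻¹ v⁻¹ x
    obtain ⟨v', hv'⟩ : ∃ v', v' = x⁻¹ * v⁻¹ * x := ⟨_, rfl⟩
    have hv'V : v' ∈ V := by
      rw [hv']
      have h1 : x⁻¹ * v⁻¹ * x⁻¹⁻¹ ∈ V := S.vnorm.conj_mem _ (V.inv_mem hv) x⁻¹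
      rwa [inv_inv] at h1
    have hrinv : r⁻¹ = x * v' * x⁻¹ * v'⁻¹ := by rw [hr, hv']; group
    have hrinvx : x * r⁻¹ = r⁻¹ * x := by
      calc x * r⁻¹ = r⁻¹ * (r * x) * r⁻¹ := by group
        _ = r⁻¹ * (x * r) * r⁻¹ := by rw [hrx]
        _ = r⁻¹ * x := by group
    have hr1 : r⁻¹ = 1 := by
      rw [hrinv] at hrinvx ⊢
      exact comm_elt_eq_one S hx hv'V hrinvx
    have hr1' : r = 1 := inv_eq_one.mp hr1
    have hccc : cc = c := by rw [e2, hr1', one_mul]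
    have hdc : (c' * v) * c = c * (c' * v) := by
      have h1 : (c' * v)⁻¹ * c * (c' * v) = c := by rw [← hcc, hccc]
      calc (c' * v) * c = (c' * v) * ((c' * v)⁻¹ * c * (c' * v)) := by rw [h1]
        _ = c * (c' * v) := by group
    exact (hDmem _).mpr ⟨hdK, hdx, hdc⟩
  have h4 : D.relIndex K ≤ (cz y ⊔ V).index := by
    have h5 : (cz y ⊔ V).relIndex K ≤ (cz y ⊔ V).index := by
      have h6 := Subgroup.relIndex_le_of_le_right (H := cz y ⊔ V) (le_top : K ≤ ⊤)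
        (by rw [Subgroup.relIndex_top_right]; exact Subgroup.index_ne_zero_of_finite)
      rwa [Subgroup.relIndex_top_right] at h6
    have h7 : D.relIndex K ≤ ((cz y ⊔ V) ⊓ K).relIndex K :=
      Subgroup.relIndex_le_of_le_left hSK (relIndex_pos _ _).ne'
    rw [Subgroup.inf_relIndex_right] at h7
    exact le_trans h7 h5
  -- the orbit of w
  obtain ⟨v₀, hv₀⟩ := hwr
  have hwv : w = x * v₀.1 * x⁻¹ * v₀.1⁻¹ := (congrArg Subtype.val hv₀).symm
  obtain ⟨Z', hZ'⟩ : ∃ Z' : Subgroup ↥D, Z' = (Subgroup.center G).subgroupOf D := ⟨_, rfl⟩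
  let g₀ : ↥D → ↥(kap S x).range := fun d =>
    ⟨kap S x ⟨d.1 * v₀.1 * d.1⁻¹, S.vnorm.conj_mem v₀.1 v₀.2 d.1⟩, ⟨_, rfl⟩⟩
  have hg₀ : ∀ d : ↥D, (((g₀ d : ↥(kap S x).range) : ↥V) : G) = d.1 * w * d.1⁻¹ := by
    intro d
    have hdx : d.1 * x = x * d.1 := ((hDmem d.1).mp d.2).2.1
    show x * (d.1 * v₀.1 * d.1⁻¹) * x⁻¹ * (d.1 * v₀.1 * d.1⁻¹)⁻¹ = d.1 * w * d.1⁻¹
    rw [hwv]
    have h1 : x * d.1 = d.1 * x := hdx.symm
    have h2 : d.1⁻¹ * x⁻¹ = x⁻¹ * d.1⁻¹ := by rw [← mul_inv_rev, ← mul_inv_rev, h1]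
    calc x * (d.1 * v₀.1 * d.1⁻¹) * x⁻¹ * (d.1 * v₀.1 * d.1⁻¹)⁻¹
        = (x * d.1) * v₀.1 * (d.1⁻¹ * x⁻¹) * d.1 * v₀.1⁻¹ * d.1⁻¹ := by group
      _ = (d.1 * x) * v₀.1 * (x⁻¹ * d.1⁻¹) * d.1 * v₀.1⁻¹ * d.1⁻¹ := by rw [h1, h2]
      _ = d.1 * (x * v₀.1 * x⁻¹ * v₀.1⁻¹) * d.1⁻¹ := by group
  let f : (↥D ⧸ Z') → ↥(kap S x).range := Quotient.lift g₀ (by
    intro d d' hdd
    have h1 : d⁻¹ * d' ∈ Z' := QuotientGroup.leftRel_apply.mp hdd
    rw [hZ', Subgroup.mem_subgroupOf] at h1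
    have h2 : (d.1)⁻¹ * d'.1 ∈ Subgroup.center G := h1
    apply Subtype.ext; apply Subtype.ext
    rw [hg₀, hg₀]
    have h3 := (Subgroup.mem_center_iff.mp h2) w
    calc d.1 * w * d.1⁻¹ = d.1 * (w * (d.1⁻¹ * d'.1)) * d'.1⁻¹ := by group
      _ = d.1 * ((d.1⁻¹ * d'.1) * w) * d'.1⁻¹ := by rw [h3]
      _ = d'.1 * w * d'.1⁻¹ := by group)
  have hf : Function.Injective f := by
    intro q1 q2
    refine Quotient.inductionOn₂' q1 q2 ?_
    intro d d' hdd
    apply Quotient.sound'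
    rw [QuotientGroup.leftRel_apply, hZ', Subgroup.mem_subgroupOf]
    have h1 : g₀ d = g₀ d' := hdd
    have h2 : d.1 * w * d.1⁻¹ = d'.1 * w * d'.1⁻¹ := by
      have e1 := hg₀ d
      have e2 := hg₀ d'
      rw [h1] at e1
      exact e1.symm.trans e2
    have hm : d.1⁻¹ * d'.1 ∈ D := D.mul_mem (D.inv_mem d.2) d'.2
    obtain ⟨k1, k2, k3⟩ := (hDmem _).mp hm
    show d.1⁻¹ * d'.1 ∈ Subgroup.center G
    apply hstab _ k1 k2 k3
    calc d.1⁻¹ * d'.1 * w = d.1⁻¹ * (d'.1 * w * d'.1⁻¹) * d'.1 := by group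
      _ = d.1⁻¹ * (d.1 * w * d.1⁻¹) * d'.1 := by rw [h2]
      _ = w * (d.1⁻¹ * d'.1) := by group
  have hone : (1 : ↥(kap S x).range) ∉ Set.range f := by
    rintro ⟨q, hq⟩
    induction q using Quotient.inductionOn' with
    | h d =>
      have h1 : g₀ d = 1 := hq
      have h2 := hg₀ d
      rw [h1] at h2
      apply hw1
      have h3 : d.1 * w * d.1⁻¹ = 1 := by rw [← h2]; rfl
      calc w = d.1⁻¹ * (d.1 * w * d.1⁻¹) * d.1 := by group
        _ = 1 := by rw [h3]; group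
  haveI : Fintype (↥D ⧸ Z') := Fintype.ofFinite _
  haveI : Fintype ↥(kap S x).range := Fintype.ofFinite _
  have hlt : Nat.card (↥D ⧸ Z') < Nat.card ↥(kap S x).range := by
    rw [Nat.card_eq_fintype_card, Nat.card_eq_fintype_card]
    exact Fintype.card_lt_of_injective_of_notMem f hf hone
  have hZD : Subgroup.center G ≤ D := by
    intro z hz
    rw [hDmem]
    refine ⟨S.zk hz, ?_, ?_⟩
    · exact ((Subgroup.mem_center_iff.mp hz) x).symm
    · exact ((Subgroup.mem_center_iff.mp hz) c).symm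
  have hDcard : Nat.card D = Nat.card (↥D ⧸ Z') * Nat.card (Subgroup.center G) := by
    have h1 := Subgroup.card_eq_card_quotient_mul_card_subgroup Z'
    have h2 : Nat.card Z' = Nat.card (Subgroup.center G) := by
      rw [hZ']; exact Nat.card_congr (Subgroup.subgroupOfEquivOfLe hZD).toEquiv
    rw [h2] at h1; exact h1
  have e1 := relIndex_mul_card hDK
  rw [S.kcard, hDcard] at e1
  have hZpos : 0 < Nat.card (Subgroup.center G) := Nat.card_pos
  have e2 : D.relIndex K * Nat.card (↥D ⧸ Z') = N := by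
    apply Nat.eq_of_mul_eq_mul_right hZpos
    rw [← e1]; ring
  have hρ : 0 < D.relIndex K := relIndex_pos D K
  rw [← hy, hidx]
  calc N = D.relIndex K * Nat.card (↥D ⧸ Z') := e2.symm
    _ < D.relIndex K * Nat.card ↥(kap S x).range := mul_lt_mul_of_pos_left hlt hρ
    _ ≤ (cz y ⊔ V).index * Nat.card ↥(kap S x).range := Nat.mul_le_mul_right _ h4
    _ = Nat.card ↥(kap S x).range * (cz y ⊔ V).index := mul_comm _ _

end Cfsg.Agent.Lib.Helper26.QFrob
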