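import Mathlib
import Cfsg.Agent.Lib.Helper26.QFrobD

set_option autoImplicit false
set_option maxHeartbeats 1000000

/-!
Groups whose two largest class sizes are coprime (helper26): every non-central element has
class size `m` or `n`.
-/

namespace Cfsg.Agent.Lib.Helper26.QFrob

open Cfsg.Agent.Lib.Helper16.CentMax

variable {G : Type*} [Group G] {V K : Subgroup G} {E N : ℕ}

/-- a generating regular orbit -/
structure Orbit (V K : Subgroup G) (N : ℕ) (b : G) : Prop where
  bV : b ∈ V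
  gen : V ≤ Subgroup.closure {g | ∃ u ∈ K, g = u * b * u⁻¹}
  stab : ∀ u ∈ K, ∀ d ∈ K, d * (u * b * u⁻¹) = (u * b * u⁻¹) * d → d ∈ Subgroup.center G
  small : ∀ x ∈ K, x ∉ Subgroup.center G → ∀ c ∈ V, c ∉ Subgroup.center G → x * c = c * x →
    ind (x * c) ≤ N

theorem no_comm_VK [Finite G] (S : Setup V K E N) {b : G} (O : Orbit V K N b) {x : G}
    (hx : x ∈ K) (hxZ : x ∉ Subgroup.center G) {c₀ : G} (hc₀ : c₀ ∈ V)
    (hxc₀ : x * c₀ = c₀ * x) : c₀ ∈ Subgroup.center G := by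
  by_contra hc₀Z
  haveI := S.vnorm
  have hcompl := isComplement_kap S hx
  have hex : ∃ u ∈ K, ∃ c₁ ∈ V, ∃ w₁ : ↥V, w₁ ∈ (kap S x).range ∧ x * c₁ = c₁ * x ∧
      c₁ ∉ Subgroup.center G ∧ u * b * u⁻¹ = c₁ * w₁.1 := by
    by_contra hno
    push Not at hno
    obtain ⟨Sub, hSub⟩ : ∃ Sub : Subgroup G,
      Sub = (Subgroup.center G ⊓ V) ⊔ ((kap S x).range).map V.subtype := ⟨_, rfl⟩
    have hgenSub : V ≤ Sub := by
      apply le_trans O.gen
      rw [Subgroup.closure_le]
      rintro g ⟨u, hu, rfl⟩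
      have hbu : u * b * u⁻¹ ∈ V := S.vnorm.conj_mem b O.bV u
      obtain ⟨⟨k, r⟩, hkr⟩ := hcompl.2 ⟨u * b * u⁻¹, hbu⟩
      have hkr' : u * b * u⁻¹ = (k.1 : G) * (r.1 : G) := (congrArg Subtype.val hkr).symm
      have hkx : x * (k.1 : G) = (k.1 : G) * x := (mem_ker_kap S x k.1).mp k.2
      have hkZ : (k.1 : G) ∈ Subgroup.center G := by
        by_contra hkZ
        exact hno u hu k.1.1 k.1.2 r.1 r.2 hkx hkZ hkr'
      rw [hSub, SetLike.mem_coe, hkr']
      apply Subgroup.mul_mem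
      · exact (le_sup_left : Subgroup.center G ⊓ V ≤ _) (Subgroup.mem_inf.mpr ⟨hkZ, k.1.2⟩)
      · apply (le_sup_right : ((kap S x).range).map V.subtype ≤ _)
        exact Subgroup.mem_map.mpr ⟨r.1, r.2, rfl⟩
    have hc₀Sub := hgenSub hc₀
    rw [hSub, Subgroup.mem_sup_of_normal_left] at hc₀Sub
    obtain ⟨z, hz, w', hw', hzw⟩ := hc₀Sub
    obtain ⟨hzZ, hzV⟩ := Subgroup.mem_inf.mp hz
    obtain ⟨r, hr, hrw⟩ := Subgroup.mem_map.mp hw'
    have hrw' : (r : G) = w' := hrw
    have hw'eq : w' = z⁻¹ * c₀ := by rw [← hzw]; group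
    have hzx : z⁻¹ * x = x * z⁻¹ := (Subgroup.mem_center_iff.mp (Subgroup.inv_mem _ hzZ)) x |>.symm
    have hrx : x * (r : G) = (r : G) * x := by
      rw [hrw', hw'eq]
      calc x * (z⁻¹ * c₀) = (x * z⁻¹) * c₀ := by group
        _ = (z⁻¹ * x) * c₀ := by rw [hzx]
        _ = z⁻¹ * (x * c₀) := by group
        _ = z⁻¹ * (c₀ * x) := by rw [hxc₀]
        _ = z⁻¹ * c₀ * x := by group
    have hr1 : r = 1 := disjoint_kap S hx r ((mem_ker_kap S x r).mpr hrx) hr
    apply hc₀Z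
    have : c₀ = z := by
      rw [← hzw, ← hrw', hr1]; simp
    rw [this]; exact hzZ
  obtain ⟨u, hu, c₁, hc₁, w₁, hw₁r, hxc₁, hc₁Z, hdec⟩ := hex
  have hw1 : w₁.1 ≠ 1 := by
    intro h1
    apply hxZ
    apply O.stab u hu x hx
    rw [hdec, h1, mul_one]; exact hxc₁
  have hmain : N < ind (x * c₁) := by
    apply main_count S hx hc₁ hxc₁ w₁.2 hw₁r hw1
    intro d hd _ hdc hdw
    apply O.stab u hu d hd
    rw [hdec]
    calc d * (c₁ * w₁.1) = (d * c₁) * w₁.1 := by group
      _ = (c₁ * d) * w₁.1 := by rw [hdc]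
      _ = c₁ * (d * w₁.1) := by group
      _ = c₁ * (w₁.1 * d) := by rw [hdw]
      _ = c₁ * w₁.1 * d := by group
  have := O.small x hx hxZ c₁ hc₁ hc₁Z hxc₁
  omega

theorem ind_gt [Finite G] (S : Setup V K E N) {b : G} (O : Orbit V K N b) {x : G}
    (hx : x ∈ K) (hxZ : x ∉ Subgroup.center G) : N < ind x := by
  haveI := S.vnorm
  have hb1 : ∀ d ∈ K, d * b = b * d → d ∈ Subgroup.center G := by
    intro d hd hdb
    apply O.stab 1 K.one_mem d hd
    simpa using hdb
  obtain ⟨w, hw⟩ : ∃ w, w = x * b * x⁻¹ * b⁻¹ := ⟨_, rfl⟩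
  have hwV : w ∈ V := by
    rw [hw]; exact V.mul_mem (S.vnorm.conj_mem b O.bV x) (V.inv_mem O.bV)
  have hwr : (⟨w, hwV⟩ : V) ∈ (kap S x).range :=
    ⟨⟨b, O.bV⟩, by apply Subtype.ext; rw [kap_val]; exact hw.symm⟩
  have hw1 : w ≠ 1 := by
    intro h1
    apply hxZ
    apply hb1 x hx
    rw [hw] at h1
    calc x * b = (x * b * x⁻¹ * b⁻¹) * b * x := by group
      _ = b * x := by rw [h1]; group
  have hmain := main_count S hx V.one_mem (by simp) hwV hwr hw1 (by
    intro d hd hdx _ hdw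
    obtain ⟨t, ht⟩ : ∃ t, t = d * b * d⁻¹ * b⁻¹ := ⟨_, rfl⟩
    have hdbV : d * b * d⁻¹ ∈ V := S.vnorm.conj_mem b O.bV d
    have htV : t ∈ V := by rw [ht]; exact V.mul_mem hdbV (V.inv_mem O.bV)
    have e1 : (⟨d * b * d⁻¹, hdbV⟩ : V) = ⟨t, htV⟩ * ⟨b, O.bV⟩ := by
      apply Subtype.ext
      show d * b * d⁻¹ = t * b
      rw [ht]; group
    have e2 : kap S x ⟨d * b * d⁻¹, hdbV⟩ = kap S x ⟨b, O.bV⟩ := by
      apply Subtype.ext
      rw [kap_val, kap_val]
      show x * (d * b * d⁻¹) * x⁻¹ * (d * b * d⁻¹)⁻¹ = x * b * x⁻¹ * b⁻¹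
      have h1 : x * d = d * x := hdx.symm
      have h2 : d⁻¹ * x⁻¹ = x⁻¹ * d⁻¹ := by rw [← mul_inv_rev, ← mul_inv_rev, h1]
      calc x * (d * b * d⁻¹) * x⁻¹ * (d * b * d⁻¹)⁻¹
          = (x * d) * b * (d⁻¹ * x⁻¹) * d * b⁻¹ * d⁻¹ := by group
        _ = (d * x) * b * (x⁻¹ * d⁻¹) * d * b⁻¹ * d⁻¹ := by rw [h1, h2]
        _ = d * (x * b * x⁻¹ * b⁻¹) * d⁻¹ := by group
        _ = (d * w) * d⁻¹ := by rw [← hw]
        _ = (w * d) * d⁻¹ := by rw [hdw]
        _ = x * b * x⁻¹ * b⁻¹ := by rw [hw]; group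
    rw [e1, map_mul] at e2
    have e3 : kap S x ⟨t, htV⟩ = 1 := by
      apply mul_right_cancel (b := kap S x ⟨b, O.bV⟩)
      rw [one_mul]; exact e2
    have htx : x * t = t * x := (mem_ker_kap S x ⟨t, htV⟩).mp (MonoidHom.mem_ker.mpr e3)
    have htZ : t ∈ Subgroup.center G := no_comm_VK S O hx hxZ htV htx
    have ht1 : d * b * d⁻¹ * b⁻¹ = 1 := by
      apply comm_elt_eq_one S hd O.bV
      rw [← ht]
      exact ((Subgroup.mem_center_iff.mp htZ) d)
    apply hb1 d hd
    calc d * b = (d * b * d⁻¹ * b⁻¹) * b * d := by group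
      _ = b * d := by rw [ht1]; group)
  rwa [mul_one] at hmain

variable {m n : ℕ}

theorem exists_setup [Finite G] (h : Hyp G m n) {a b : G} (ha : ind a = m) (hb : ind b = n) :
    ∃ (b₁ : G) (V : Subgroup G) (E : ℕ), Setup V (cz a) E n ∧ Orbit V (cz a) n b₁ := by
  obtain ⟨s', hs'⟩ := pow_mem_center_of_comm_B h ha hb (rfl : b * b = b * b)
  obtain ⟨b₁, b₂, s, e₁, e₂, hsplit, hb₁, hb₂, hb₁pow, hb₂ord⟩ := elt_split b m
  have hb₂Z : b₂ ∈ Subgroup.center G := by
    have h1 : b₂ ^ (m ^ s') ∈ Subgroup.center G := by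
      rw [hb₂, ← pow_mul, mul_comm, pow_mul]
      exact Subgroup.pow_mem _ hs' _
    have h2 : b₂ ^ orderOf b₂ ∈ Subgroup.center G := by
      rw [pow_orderOf_eq_one]; exact Subgroup.one_mem _
    exact mem_center_of_pow_of_pow h1 h2 (Nat.Coprime.pow_left s' hb₂ord.symm)
  have hczb : cz b = cz b₁ := by
    have h1 : b = b₂ * b₁ := by
      rw [hsplit]; exact ((Subgroup.mem_center_iff.mp hb₂Z) b₁)
    conv_lhs => rw [h1]
    exact cz_central_mul hb₂Z
  have hb₁n : ind b₁ = n := by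
    show (cz b₁).index = n
    rw [← hczb]; exact hb
  have hb₁L : (ind b₁).Coprime m := by rw [hb₁n]; exact h.hcop.symm
  obtain ⟨-, -, hconj⟩ := L_props h ha hb₁L
  obtain ⟨V, hV⟩ : ∃ V : Subgroup G, V = Subgroup.closure (classSet b₁) := ⟨_, rfl⟩
  have hsubV : ∀ t ∈ classSet b₁, t ∈ V := by
    intro t ht; rw [hV]; exact Subgroup.subset_closure ht
  have hVn : V.Normal := by
    constructor
    intro v hv g
    rw [hV] at hv
    induction hv using Subgroup.closure_induction with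
    | mem t ht => exact hsubV _ (conj_mem_classSet ht g)
    | one => simp
    | mul v w _ _ ihv ihw =>
      have : g * (v * w) * g⁻¹ = (g * v * g⁻¹) * (g * w * g⁻¹) := by group
      rw [this]; exact V.mul_mem ihv ihw
    | inv v _ ihv =>
      have : g * v⁻¹ * g⁻¹ = (g * v * g⁻¹)⁻¹ := by group
      rw [this]; exact V.inv_mem ihv
  have hgen : ∀ t₁ ∈ classSet b₁, ∀ t₂ ∈ classSet b₁, t₁ * t₂ = t₂ * t₁ := by
    rintro _ ⟨y, rfl⟩ _ ⟨z, rfl⟩
    exact hconj y z
  have h1 : ∀ t ∈ classSet b₁, V ≤ cz t := by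
    intro t ht
    rw [hV, Subgroup.closure_le]
    intro t' ht'
    exact mem_cz.mpr (hgen t' ht' t ht)
  have h2 : ∀ v ∈ V, V ≤ cz v := by
    intro v hv
    rw [hV, Subgroup.closure_le]
    intro t ht
    exact mem_cz.mpr (mem_cz.mp (h1 t ht hv)).symm
  have hVab : ∀ v ∈ V, ∀ w ∈ V, v * w = w * v := by
    intro v hv w hw
    exact mem_cz.mp (h2 w hw hv)
  have hVexp : ∀ v ∈ V, v ^ (m ^ s) = 1 := by
    intro v hv
    have hv' := hv
    rw [hV] at hv'
    induction hv' using Subgroup.closure_induction with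
    | mem t ht =>
      obtain ⟨y, rfl⟩ := ht
      rw [conj_pow, hb₁pow]; group
    | one => simp
    | mul v w hv₁ hw₁ ihv ihw =>
      have hvV : v ∈ V := by rw [hV]; exact hv₁
      have hwV : w ∈ V := by rw [hV]; exact hw₁
      have hc : Commute v w := hVab v hvV w hwV
      rw [hc.mul_pow, ihv hvV, ihw hwV, one_mul]
    | inv v hv₁ ihv =>
      have hvV : v ∈ V := by rw [hV]; exact hv₁
      rw [inv_pow, ihv hvV, inv_one]
  have hb₁V : b₁ ∈ V := hsubV _ (self_mem_classSet b₁)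
  have hS : Setup V (cz a) (m ^ s) n :=
    { vnorm := hVn
      vab := hVab
      vexp := hVexp
      kpow := fun x hx => pow_mem_center_of_relIndex (relIndex_center_A h ha hb) hx
      cop := Nat.Coprime.pow_left s h.hcop
      kcard := by
        have := relIndex_mul_card (center_le_cz a)
        rw [relIndex_center_A h ha hb] at this
        exact this.symm
      zk := center_le_cz a
      vk := by
        intro v hvV hvK
        exact inter_le_center h ha hb₁n (mem_cz.mp hvK) (hVab v hvV b₁ hb₁V) }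
  refine ⟨b₁, V, m ^ s, hS, ?_⟩
  have hcop1 : (ind b₁).Coprime (ind a) := by rw [hb₁n, ha]; exact h.hcop.symm
  exact
    { bV := hb₁V
      gen := by
        rw [hV]
        apply Subgroup.closure_mono
        rintro _ ⟨y, rfl⟩
        obtain ⟨c, hc, hyc⟩ := fac_of_coprime hcop1 y
        exact ⟨c, hc, hyc⟩
      stab := by
        intro u _ d hd hcomm
        have hb' : ind (u * b₁ * u⁻¹) = n := by rw [ind_conj, hb₁n]
        exact inter_le_center h ha hb' (mem_cz.mp hd) hcomm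
      small := by
        intro x _ _ c hcV hcZ hxc
        rcases ind_eq_m_or_le h (x * c) with h3 | h3
        · exfalso
          apply hcZ
          have hcmem : c ∈ cz (x * c) := by
            rw [mem_cz]
            calc c * (x * c) = (c * x) * c := by group
              _ = (x * c) * c := by rw [hxc]
          have h4 := pow_mem_center_of_relIndex (relIndex_center_A h h3 hb) hcmem
          have h5 : c ^ (m ^ s) ∈ Subgroup.center G := by
            rw [hVexp c hcV]; exact Subgroup.one_mem _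
          exact mem_center_of_pow_of_pow h4 h5 (Nat.Coprime.pow_right s h.hcop.symm)
        · exact h3 }

theorem ind_eq_m_of_comm_A [Finite G] (h : Hyp G m n) {a b : G} (ha : ind a = m) (hb : ind b = n)
    {x : G} (hx : x * a = a * x) (hxZ : x ∉ Subgroup.center G) : ind x = m := by
  obtain ⟨b₁, V, E, hS, hO⟩ := exists_setup h ha hb
  have h1 := ind_gt hS hO (mem_cz.mpr hx) hxZ
  rcases ind_eq_m_or_le h x with h2 | h2
  · exact h2
  · omega

theorem ind_eq_m_or_n [Finite G] (h : Hyp G m n) {a b : G} (ha : ind a = m) (hb : ind b = n)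
    {g : G} (hg : g ∉ Subgroup.center G) : ind g = m ∨ ind g = n := by
  rcases ind_eq_m_or_le h g with h1 | h1
  · left; exact h1
  · right
    by_contra hne
    have hlt : ind g < n := lt_of_le_of_ne h1 hne
    have hex : ∃ x, x ∈ cz g ⊓ cz a ∧ x ∉ Subgroup.center G := by
      by_contra hno
      push Not at hno
      have heq : cz g ⊓ cz a = Subgroup.center G :=
        le_antisymm (fun x hx => hno x hx) (le_inf (center_le_cz g) (center_le_cz a))
      have h2 : (cz g ⊓ cz a).index ≤ ind g * ind a := Subgroup.index_inf_le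
      rw [heq, index_center h ha hb, ha] at h2
      have hm : 0 < m := by have := h.hmn; omega
      nlinarith
    obtain ⟨x, hx, hxZ⟩ := hex
    obtain ⟨hxg, hxa⟩ := Subgroup.mem_inf.mp hx
    have hxm : ind x = m := ind_eq_m_of_comm_A h ha hb (mem_cz.mp hxa) hxZ
    have hgm : ind g = m := ind_eq_m_of_comm_A h hxm hb (mem_cz.mp hxg).symm hg
    have := h.hmn
    omega

end Cfsg.Agent.Lib.Helper26.QFrob
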