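import Mathlib
import Cfsg.Agent.S0034
import Cfsg.Agent.Lib.Helper26.QFrobE

set_option autoImplicit false
set_option maxHeartbeats 1000000

/-!
Groups whose two largest class sizes are coprime (helper26): the Frobenius structure of `G/Z(G)`.
-/

namespace Cfsg.Agent.Lib.Helper26.QFrob

open Cfsg.Agent.Lib.Helper16.CentMax
open scoped Pointwise

variable {G : Type*} [Group G] {m n : ℕ}

theorem eq_one_of_conj_central {u h z : G} (hz : z ∈ Subgroup.center G)
    (hconj : h⁻¹ * u * h = u * z) {i j : ℕ} (hu : u ^ i ∈ Subgroup.center G)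
    (hh : h ^ j ∈ Subgroup.center G) (hc : i.Coprime j) : z = 1 := by
  have hzc : ∀ g : G, g * z = z * g := Subgroup.mem_center_iff.mp hz
  have hzi : z ^ i = 1 := by
    have h1 : (h⁻¹ * u * h) ^ i = u ^ i := by
      have e : h⁻¹ * u * h = h⁻¹ * u * h⁻¹⁻¹ := by rw [inv_inv]
      rw [e, conj_pow]
      have := (Subgroup.mem_center_iff.mp hu) h⁻¹
      rw [this]; group
    rw [hconj, (show Commute u z from hzc u).mul_pow] at h1
    have h2 : u ^ i * z ^ i = u ^ i * 1 := by rw [mul_one]; exact h1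
    exact mul_left_cancel h2
  have hpow : ∀ k : ℕ, (h ^ k)⁻¹ * u * h ^ k = u * z ^ k := by
    intro k
    induction k with
    | zero => simp
    | succ k ih =>
      have hzk : ∀ g : G, g * z ^ k = z ^ k * g :=
        Subgroup.mem_center_iff.mp (Subgroup.pow_mem _ hz k)
      calc (h ^ (k + 1))⁻¹ * u * h ^ (k + 1) = h⁻¹ * ((h ^ k)⁻¹ * u * h ^ k) * h := by
            rw [pow_succ]; group
        _ = h⁻¹ * (u * z ^ k) * h := by rw [ih]
        _ = (h⁻¹ * u * h) * z ^ k := by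
            have := hzk h
            calc h⁻¹ * (u * z ^ k) * h = h⁻¹ * u * (z ^ k * h) := by group
              _ = h⁻¹ * u * (h * z ^ k) := by rw [this]
              _ = (h⁻¹ * u * h) * z ^ k := by group
        _ = u * z * z ^ k := by rw [hconj]
        _ = u * z ^ (k + 1) := by rw [pow_succ']; group
  have hzj : z ^ j = 1 := by
    have h1 := hpow j
    have h2 : (h ^ j)⁻¹ * u * h ^ j = u := by
      have := (Subgroup.mem_center_iff.mp hh) u
      calc (h ^ j)⁻¹ * u * h ^ j = (h ^ j)⁻¹ * (u * h ^ j) := by group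
        _ = (h ^ j)⁻¹ * (h ^ j * u) := by rw [this]
        _ = u := by group
    rw [h2] at h1
    have h3 : u * 1 = u * z ^ j := by rw [mul_one]; exact h1
    exact (mul_left_cancel h3).symm
  exact eq_one_of_pow_pow hzi hzj hc

theorem comm_in_czB [Finite G] (h : Hyp G m n) {a b : G} (ha : ind a = m) (hb : ind b = n)
    {u v : G} (hu : u * b = b * u) (hv : v * b = b * v) : u * v = v * u := by
  by_cases huZ : u ∈ Subgroup.center G
  · exact ((Subgroup.mem_center_iff.mp huZ) v).symm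
  by_cases hvZ : v ∈ Subgroup.center G
  · exact (Subgroup.mem_center_iff.mp hvZ) u
  have hun : ind u = n := by
    rcases ind_eq_m_or_n h ha hb huZ with h1 | h1
    · exact absurd hu (no_comm h h1 hb)
    · exact h1
  have hvn : ind v = n := by
    rcases ind_eq_m_or_n h ha hb hvZ with h1 | h1
    · exact absurd hv (no_comm h h1 hb)
    · exact h1
  exact comm_of_coprime_m h ha (by rw [hun]; exact h.hcop.symm) (by rw [hvn]; exact h.hcop.symm)

theorem normal_czB [Finite G] (h : Hyp G m n) {a b : G} (ha : ind a = m) (hb : ind b = n)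
    (g u : G) (hu : u ∈ cz b) : g * u * g⁻¹ ∈ cz b := by
  by_cases huZ : u ∈ Subgroup.center G
  · have h1 : g * u * g⁻¹ = u := by
      have := (Subgroup.mem_center_iff.mp huZ) g
      rw [this]; group
    rw [h1]; exact hu
  have hun : ind u = n := by
    rcases ind_eq_m_or_n h ha hb huZ with h1 | h1
    · exact absurd (mem_cz.mp hu) (no_comm h h1 hb)
    · exact h1
  have h1 : ind (g * u * g⁻¹) = n := by rw [ind_conj, hun]
  rw [mem_cz]
  exact comm_of_coprime_m h ha (by rw [h1]; exact h.hcop.symm) (by rw [hb]; exact h.hcop.symm)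

theorem key [Finite G] (h : Hyp G m n) {a b : G} (ha : ind a = m) (hb : ind b = n)
    {x hh : G} (hx : x ∈ cz a) (hxZ : x ∉ Subgroup.center G) (hhb : hh ∈ cz b)
    (hconj : hh⁻¹ * x * hh ∈ cz a) : hh ∈ Subgroup.center G := by
  obtain ⟨z, hz⟩ : ∃ z, z = x⁻¹ * (hh⁻¹ * x * hh) := ⟨_, rfl⟩
  have hza : z ∈ cz a := by rw [hz]; exact (cz a).mul_mem ((cz a).inv_mem hx) hconj
  have hzb : z ∈ cz b := by
    have h1 : x⁻¹ * hh⁻¹ * x⁻¹⁻¹ ∈ cz b := normal_czB h ha hb x⁻¹ hh⁻¹ ((cz b).inv_mem hhb)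
    have h2 : z = (x⁻¹ * hh⁻¹ * x⁻¹⁻¹) * hh := by rw [hz]; group
    rw [h2]; exact (cz b).mul_mem h1 hhb
  have hzZ : z ∈ Subgroup.center G := inter_le_center h ha hb (mem_cz.mp hza) (mem_cz.mp hzb)
  have hconj' : hh⁻¹ * x * hh = x * z := by rw [hz]; group
  have hxn := pow_mem_center_of_relIndex (relIndex_center_A h ha hb) hx
  have hhm := pow_mem_center_of_relIndex (relIndex_center_B h ha hb) hhb
  have hz1 : z = 1 := eq_one_of_conj_central hzZ hconj' hxn hhm h.hcop.symm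
  have hcomm : hh * x = x * hh := by
    rw [hz1, mul_one] at hconj'
    calc hh * x = hh * (hh⁻¹ * x * hh) := by rw [hconj']
      _ = x * hh := by group
  by_contra hhZ
  have hxm : ind x = m := ind_eq_m_of_comm_A h ha hb (mem_cz.mp hx) hxZ
  rcases ind_eq_m_or_n h ha hb hhZ with h1 | h1
  · exact no_comm h h1 hb (mem_cz.mp hhb)
  · exact no_comm h hxm h1 hcomm.symm

theorem fac_AB [Finite G] (h : Hyp G m n) {a b : G} (ha : ind a = m) (hb : ind b = n) (g : G) :
    ∃ hh ∈ cz b, ∃ k ∈ cz a, g = hh * k := by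
  have hco : (ind a).Coprime (ind b) := by rw [ha, hb]; exact h.hcop
  exact exists_mul_of_coprime_index (cz a) (cz b) hco g

theorem cz_eq_of_mem_A [Finite G] (h : Hyp G m n) {a b : G} (ha : ind a = m) (hb : ind b = n)
    {x : G} (hx : x ∈ cz a) (hxZ : x ∉ Subgroup.center G) : cz x = cz a := by
  have hle : cz x ≤ cz a := by
    intro g hg
    obtain ⟨hh, hhb, k, hk, hgk⟩ := fac_AB h ha hb g
    have hgx : (hh * k) * x = x * (hh * k) := by rw [← hgk]; exact mem_cz.mp hg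
    have hconj : hh⁻¹ * x * hh = k * x * k⁻¹ := by
      calc hh⁻¹ * x * hh = hh⁻¹ * (x * (hh * k)) * k⁻¹ := by group
        _ = hh⁻¹ * ((hh * k) * x) * k⁻¹ := by rw [hgx]
        _ = k * x * k⁻¹ := by group
    have hmem : hh⁻¹ * x * hh ∈ cz a := by
      rw [hconj]; exact (cz a).mul_mem ((cz a).mul_mem hk hx) ((cz a).inv_mem hk)
    have hhZ := key h ha hb hx hxZ hhb hmem
    rw [hgk]
    exact (cz a).mul_mem (center_le_cz a hhZ) hk
  apply eq_of_le_of_index_le hle
  show ind x ≤ ind a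
  rw [ha]; exact h.htop x

theorem comm_in_czA [Finite G] (h : Hyp G m n) {a b : G} (ha : ind a = m) (hb : ind b = n)
    {u v : G} (hu : u ∈ cz a) (hv : v ∈ cz a) : u * v = v * u := by
  by_cases huZ : u ∈ Subgroup.center G
  · exact ((Subgroup.mem_center_iff.mp huZ) v).symm
  have h1 := cz_eq_of_mem_A h ha hb hu huZ
  have h2 : v ∈ cz u := by rw [h1]; exact hv
  exact (mem_cz.mp h2).symm

/-- the commutator map on an abelian normal subgroup -/
def kapH (H : Subgroup G) (hHn : ∀ g u : G, u ∈ H → g * u * g⁻¹ ∈ H)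
    (hHab : ∀ v ∈ H, ∀ w ∈ H, v * w = w * v) (x : G) : ↥H →* ↥H where
  toFun v := ⟨x * v.1 * x⁻¹ * v.1⁻¹, H.mul_mem (hHn x v.1 v.2) (H.inv_mem v.2)⟩
  map_one' := by apply Subtype.ext; simp
  map_mul' := by
    intro v w
    apply Subtype.ext
    show x * (v.1 * w.1) * x⁻¹ * (v.1 * w.1)⁻¹
      = (x * v.1 * x⁻¹ * v.1⁻¹) * (x * w.1 * x⁻¹ * w.1⁻¹)
    have hB : x * w.1 * x⁻¹ ∈ H := hHn x w.1 w.2
    have hc : v.1⁻¹ * (x * w.1 * x⁻¹ * w.1⁻¹) = (x * w.1 * x⁻¹ * w.1⁻¹) * v.1⁻¹ :=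
      hHab _ (H.inv_mem v.2) _ (H.mul_mem hB (H.inv_mem w.2))
    calc x * (v.1 * w.1) * x⁻¹ * (v.1 * w.1)⁻¹
        = (x * v.1 * x⁻¹) * ((x * w.1 * x⁻¹ * w.1⁻¹) * v.1⁻¹) := by group
      _ = (x * v.1 * x⁻¹) * (v.1⁻¹ * (x * w.1 * x⁻¹ * w.1⁻¹)) := by rw [hc]
      _ = (x * v.1 * x⁻¹ * v.1⁻¹) * (x * w.1 * x⁻¹ * w.1⁻¹) := by group

theorem exists_conj_decomp [Finite G] (h : Hyp G m n) {a b : G} (ha : ind a = m)
    (hb : ind b = n) {k : G} (hk : k ∈ cz a) (hkZ : k ∉ Subgroup.center G) {hh : G}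
    (hhb : hh ∈ cz b) :
    ∃ u ∈ cz b, ∃ z ∈ Subgroup.center G, hh = z * (k * u * k⁻¹ * u⁻¹) := by
  have hHn := normal_czB h ha hb
  have hHab : ∀ v ∈ cz b, ∀ w ∈ cz b, v * w = w * v :=
    fun v hv w hw => comm_in_czB h ha hb (mem_cz.mp hv) (mem_cz.mp hw)
  obtain ⟨f, hf⟩ : ∃ f : ↥(cz b) →* ↥(cz b), f = kapH (cz b) hHn hHab k := ⟨_, rfl⟩
  have hfval : ∀ v : ↥(cz b), ((f v : ↥(cz b)) : G) = k * v.1 * k⁻¹ * v.1⁻¹ := by
    intro v; rw [hf]; rfl
  have hkm : ind k = m := ind_eq_m_of_comm_A h ha hb (mem_cz.mp hk) hkZ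
  obtain ⟨Z', hZ'⟩ : ∃ Z' : Subgroup ↥(cz b), Z' = (Subgroup.center G).subgroupOf (cz b) :=
    ⟨_, rfl⟩
  have hker : f.ker = Z' := by
    ext v
    rw [MonoidHom.mem_ker, hZ', Subgroup.mem_subgroupOf]
    constructor
    · intro h1
      have h2 : k * v.1 * k⁻¹ * v.1⁻¹ = 1 := by rw [← hfval, h1]; rfl
      have hkv : k * v.1 = v.1 * k := by
        calc k * v.1 = (k * v.1 * k⁻¹ * v.1⁻¹) * v.1 * k := by group
          _ = v.1 * k := by rw [h2]; group
      by_contra hvZ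
      rcases ind_eq_m_or_n h ha hb hvZ with h3 | h3
      · exact no_comm h h3 hb (mem_cz.mp v.2)
      · exact no_comm h hkm h3 hkv
    · intro h1
      apply Subtype.ext
      rw [hfval]
      show k * v.1 * k⁻¹ * v.1⁻¹ = 1
      have := (Subgroup.mem_center_iff.mp h1) k
      rw [this]; group
  have hdisj : Disjoint Z' f.range := by
    rw [Subgroup.disjoint_def]
    intro t ht1 ht2
    obtain ⟨v, rfl⟩ := ht2
    rw [hZ', Subgroup.mem_subgroupOf, hfval] at ht1
    obtain ⟨c, hc⟩ : ∃ c, c = k * v.1 * k⁻¹ * v.1⁻¹ := ⟨_, rfl⟩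
    rw [← hc] at ht1
    have hconj : (k⁻¹)⁻¹ * v.1 * k⁻¹ = v.1 * c := by
      have := (Subgroup.mem_center_iff.mp ht1) v.1
      rw [this, hc]; group
    have hvm := pow_mem_center_of_relIndex (relIndex_center_B h ha hb) v.2
    have hkn : (k⁻¹) ^ n ∈ Subgroup.center G :=
      pow_mem_center_of_relIndex (relIndex_center_A h ha hb) ((cz a).inv_mem hk)
    have hc1 : c = 1 := eq_one_of_conj_central ht1 hconj hvm hkn h.hcop
    apply Subtype.ext
    rw [hfval, ← hc, hc1]; rfl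
  have hcard : Nat.card Z' * Nat.card f.range = Nat.card ↥(cz b) := by
    rw [← hker, ← Subgroup.index_ker]; exact Subgroup.card_mul_index _
  have hcompl : Subgroup.IsComplement' Z' f.range :=
    Subgroup.isComplement'_of_card_mul_and_disjoint hcard hdisj
  obtain ⟨⟨z, r⟩, hzr⟩ := hcompl.2 ⟨hh, hhb⟩
  obtain ⟨u, hu⟩ := r.2
  refine ⟨u.1, u.2, z.1.1, ?_, ?_⟩
  · have hz' : ∀ t : ↥(cz b), t ∈ Z' → (t : G) ∈ Subgroup.center G := by
      intro t ht
      rw [hZ'] at ht
      exact Subgroup.mem_subgroupOf.mp ht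
    exact hz' z.1 z.2
  · have h1 : hh = (z.1 : G) * ((r.1 : ↥(cz b)) : G) := (congrArg Subtype.val hzr).symm
    rw [h1, ← hu, hfval]

theorem main [Finite G] (h : Hyp G m n) {a b : G} (ha : ind a = m) (hb : ind b = n) :
    IsMulCommutative (cz b) ∧ IsMulCommutative (cz a) ∧
    Cfsg.IsFrobeniusComplement ((cz a).map (QuotientGroup.mk' (Subgroup.center G))) ∧
    Cfsg.frobeniusKernel ((cz a).map (QuotientGroup.mk' (Subgroup.center G))) =
      ((cz b).map (QuotientGroup.mk' (Subgroup.center G)) : Set (G ⧸ Subgroup.center G)) := by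
  obtain ⟨π, hπ⟩ : ∃ π : G →* G ⧸ Subgroup.center G, π = QuotientGroup.mk' (Subgroup.center G) :=
    ⟨_, rfl⟩
  rw [← hπ]
  have hπs : Function.Surjective π := hπ ▸ QuotientGroup.mk'_surjective (Subgroup.center G)
  have hπ1 : ∀ g : G, π g = 1 ↔ g ∈ Subgroup.center G := by
    intro g; rw [hπ]; exact QuotientGroup.eq_one_iff g
  have hπeq : ∀ g g' : G, π g = π g' → g⁻¹ * g' ∈ Subgroup.center G := by
    intro g g' hgg
    rw [← hπ1, map_mul, map_inv, hgg]; group
  have hmemK : ∀ g : G, π g ∈ (cz a).map π ↔ g ∈ cz a := by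
    intro g
    constructor
    · rintro ⟨k, hk, hkg⟩
      have h1 := center_le_cz a (hπeq k g hkg)
      have h2 : g = k * (k⁻¹ * g) := by group
      rw [h2]; exact (cz a).mul_mem hk h1
    · intro hg; exact ⟨g, hg, rfl⟩
  have hmemH : ∀ g : G, π g ∈ (cz b).map π ↔ g ∈ cz b := by
    intro g
    constructor
    · rintro ⟨k, hk, hkg⟩
      have h1 := center_le_cz b (hπeq k g hkg)
      have h2 : g = k * (k⁻¹ * g) := by group
      rw [h2]; exact (cz b).mul_mem hk h1
    · intro hg; exact ⟨g, hg, rfl⟩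
  have hconjK : ∀ g w : G, π w ∈ MulAut.conj (π g) • (cz a).map π ↔ g⁻¹ * w * g ∈ cz a := by
    intro g w
    rw [Cfsg.Agent.S0034.mem_conj_smul, ← map_inv, ← map_mul, ← map_mul, hmemK]
  have haZ : a ∉ Subgroup.center G := not_mem_center_of_ind (by have := h.hmn; have := h.hn; omega) ha
  refine ⟨⟨⟨fun u v => ?_⟩⟩, ⟨⟨fun u v => ?_⟩⟩, ⟨?_, ?_, ?_⟩, ?_⟩
  · apply Subtype.ext
    exact comm_in_czB h ha hb (mem_cz.mp u.2) (mem_cz.mp v.2)
  · apply Subtype.ext
    exact comm_in_czA h ha hb u.2 v.2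
  · intro hbot
    apply haZ
    rw [← hπ1]
    have h1 : π a ∈ (cz a).map π := (hmemK a).mpr (self_mem_cz a)
    rw [hbot, Subgroup.mem_bot] at h1
    exact h1
  · intro htop
    have h1 : π b ∈ (cz a).map π := by rw [htop]; exact Subgroup.mem_top _
    rw [hmemK] at h1
    exact no_comm h ha hb (mem_cz.mp h1).symm
  · intro q hq
    obtain ⟨g, rfl⟩ := hπs q
    rw [hmemK] at hq
    rw [eq_bot_iff]
    intro w' hw'
    obtain ⟨w, rfl⟩ := hπs w'
    obtain ⟨hw1, hw2⟩ := Subgroup.mem_inf.mp hw'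
    rw [hmemK] at hw1
    rw [hconjK] at hw2
    rw [Subgroup.mem_bot, hπ1]
    by_contra hwZ
    apply hq
    obtain ⟨hh, hhb, k, hk, hgk⟩ := fac_AB h ha hb g
    have hmem : hh⁻¹ * w * hh ∈ cz a := by
      have e : hh⁻¹ * w * hh = k * (g⁻¹ * w * g) * k⁻¹ := by rw [hgk]; group
      rw [e]; exact (cz a).mul_mem ((cz a).mul_mem hk hw2) ((cz a).inv_mem hk)
    have hhZ := key h ha hb hw1 hwZ hhb hmem
    rw [hgk]
    exact (cz a).mul_mem (center_le_cz a hhZ) hk
  · ext q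
    obtain ⟨g, rfl⟩ := hπs q
    rw [SetLike.mem_coe, hmemH]
    constructor
    · rintro (h1 | h1)
      · exact center_le_cz b ((hπ1 g).mp h1)
      · obtain ⟨hh, hhb, k, hk, hgk⟩ := fac_AB h ha hb g
        by_cases hkZ : k ∈ Subgroup.center G
        · rw [hgk]; exact (cz b).mul_mem hhb (center_le_cz b hkZ)
        · exfalso
          obtain ⟨u, hu, z, hz, hdec⟩ := exists_conj_decomp h ha hb hk hkZ hhb
          apply h1 (π u⁻¹)
          rw [hconjK]
          have hab : ∀ v ∈ cz b, ∀ w ∈ cz b, v * w = w * v :=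
            fun v hv w hw => comm_in_czB h ha hb (mem_cz.mp hv) (mem_cz.mp hw)
          have hkuk : k * u * k⁻¹ ∈ cz b := normal_czB h ha hb k u hu
          have e1 : (k * u * k⁻¹) * u⁻¹ = u⁻¹ * (k * u * k⁻¹) :=
            hab _ hkuk _ ((cz b).inv_mem hu)
          have hzc := (Subgroup.mem_center_iff.mp hz)
          have e : u⁻¹⁻¹ * g * u⁻¹ = z * k := by
            rw [hgk, hdec, inv_inv]
            calc u * (z * (k * u * k⁻¹ * u⁻¹) * k) * u⁻¹
                = (u * z) * ((k * u * k⁻¹) * u⁻¹) * k * u⁻¹ := by group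
              _ = (z * u) * (u⁻¹ * (k * u * k⁻¹)) * k * u⁻¹ := by rw [hzc u, e1]
              _ = z * k := by group
          rw [e]
          exact (cz a).mul_mem (center_le_cz a hz) hk
    · intro hg
      by_cases hgZ : g ∈ Subgroup.center G
      · left; exact (hπ1 g).mpr hgZ
      · right
        intro q' hq'
        obtain ⟨g', rfl⟩ := hπs q'
        rw [hconjK] at hq'
        apply hgZ
        have h1 : g'⁻¹ * g * g'⁻¹⁻¹ ∈ cz b := normal_czB h ha hb g'⁻¹ g hg
        rw [inv_inv] at h1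
        have h2 := inter_le_center h ha hb (mem_cz.mp hq') (mem_cz.mp h1)
        have h4 : g' * (g'⁻¹ * g * g') = (g'⁻¹ * g * g') * g' :=
          (Subgroup.mem_center_iff.mp h2) g'
        have e : g = g'⁻¹ * g * g' := by
          calc g = (g' * (g'⁻¹ * g * g')) * g'⁻¹ := by group
            _ = ((g'⁻¹ * g * g') * g') * g'⁻¹ := by rw [h4]
            _ = g'⁻¹ * g * g' := by group
        rw [e]; exact h2

end Cfsg.Agent.Lib.Helper26.QFrob
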