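import Mathlib

/-!
# A counting lemma for matrices of the form `r x + c y` (helper26)
-/

namespace Cfsg.Agent.Lib.Helper26

/-- Let `M x y = r x + c y` on a `P × Q` rectangle with `m ≤ |P|` and `m + 2 ≤ |Q|`. If fewer than
`2 m` entries are nonzero then `M` vanishes, or is supported on one column where it is constant, or
is supported on one row where it is constant. -/
theorem rect_trichotomy {P Q : Type*} [Fintype P] [Fintype Q] [DecidableEq P] [DecidableEq Q]
    (r : P → ℂ) (c : Q → ℂ) (m : ℕ)
    (hP : m ≤ Nat.card P) (hQ : m + 2 ≤ Nat.card Q)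
    (hN : Nat.card {p : P × Q // r p.1 + c p.2 ≠ 0} < 2 * m) :
    (∀ x y, r x + c y = 0) ∨ (∃ y₀ a₀, ∀ x y, r x + c y = if y = y₀ then a₀ else 0) ∨
      (∃ x₀ a₀, ∀ x y, r x + c y = if x = x₀ then a₀ else 0) := by
  classical
  by_cases hr : ∀ x x', r x = r x'
  · -- `r` constant: columns are constant
    by_cases h0 : ∀ y x, r x + c y = 0
    · left; intro x y; exact h0 y x
    · push Not at h0
      obtain ⟨y₀, x₀, hy₀⟩ := h0
      have hcol : ∀ x, r x + c y₀ ≠ 0 := fun x => by rw [hr x x₀]; exact hy₀
      by_cases h1 : ∃ y₁, y₁ ≠ y₀ ∧ ∃ x₁, r x₁ + c y₁ ≠ 0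
      · exfalso
        obtain ⟨y₁, hne, x₁, hy₁⟩ := h1
        have hcol1 : ∀ x, r x + c y₁ ≠ 0 := fun x => by rw [hr x x₁]; exact hy₁
        let f : P × Bool → {p : P × Q // r p.1 + c p.2 ≠ 0} := fun p =>
          ⟨(p.1, if p.2 then y₀ else y₁), by
            rcases p with ⟨x, b⟩
            cases b
            · simpa using hcol1 x
            · simpa using hcol x⟩
        have hf : Function.Injective f := by
          rintro ⟨x, b⟩ ⟨x', b'⟩ h
          have h' := congrArg Subtype.val h
          simp only [f, Prod.mk.injEq] at h'
          obtain ⟨hx, hb⟩ := h'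
          subst hx
          cases b <;> cases b' <;> simp_all
        have hle := Nat.card_le_card_of_injective f hf
        rw [Nat.card_prod, Nat.card_eq_fintype_card (α := Bool), Fintype.card_bool] at hle
        omega
      · right; left
        refine ⟨y₀, r x₀ + c y₀, ?_⟩
        intro x y
        by_cases hy : y = y₀
        · rw [if_pos hy, hy, hr x x₀]
        · rw [if_neg hy]
          by_contra hne
          exact h1 ⟨y, hy, x, hne⟩
  · by_cases hc : ∀ y y', c y = c y'
    · -- `c` constant: rows are constant
      by_cases h0 : ∀ x y, r x + c y = 0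
      · left; exact h0
      · push Not at h0
        obtain ⟨x₀, y₀, hx₀⟩ := h0
        have hrow : ∀ y, r x₀ + c y ≠ 0 := fun y => by rw [hc y y₀]; exact hx₀
        by_cases h1 : ∃ x₁, x₁ ≠ x₀ ∧ ∃ y₁, r x₁ + c y₁ ≠ 0
        · exfalso
          obtain ⟨x₁, hne, y₁, hx₁⟩ := h1
          have hrow1 : ∀ y, r x₁ + c y ≠ 0 := fun y => by rw [hc y y₁]; exact hx₁
          let f : Q × Bool → {p : P × Q // r p.1 + c p.2 ≠ 0} := fun p =>
            ⟨(if p.2 then x₀ else x₁, p.1), by
              rcases p with ⟨y, b⟩
              cases b
              · simpa using hrow1 y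
              · simpa using hrow y⟩
          have hf : Function.Injective f := by
            rintro ⟨y, b⟩ ⟨y', b'⟩ h
            have h' := congrArg Subtype.val h
            simp only [f, Prod.mk.injEq] at h'
            obtain ⟨hb, hy⟩ := h'
            subst hy
            cases b <;> cases b' <;> simp_all
          have hle := Nat.card_le_card_of_injective f hf
          rw [Nat.card_prod, Nat.card_eq_fintype_card (α := Bool), Fintype.card_bool] at hle
          omega
        · right; right
          refine ⟨x₀, r x₀ + c y₀, ?_⟩
          intro x y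
          by_cases hx : x = x₀
          · rw [if_pos hx, hx, hc y y₀]
          · rw [if_neg hx]
            by_contra hne
            exact h1 ⟨x, hx, y, hne⟩
    · -- both nonconstant: at least `|P| + |Q| - 2` nonzero entries
      exfalso
      push Not at hr hc
      obtain ⟨x₁, x₂, hx⟩ := hr
      obtain ⟨y₁, y₂, hy⟩ := hc
      let D : Finset P := Finset.univ \ {x₁, x₂}
      have hD : ∀ x : P, x ∈ D ↔ (x ≠ x₁ ∧ x ≠ x₂) := by
        intro x
        simp [D]
      have hcol : ∀ y, ¬ (r x₁ + c y ≠ 0) → r x₂ + c y ≠ 0 := by
        intro y h1 h2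
        rw [not_not] at h1
        apply hx
        have : r x₁ + c y = r x₂ + c y := by rw [h1, h2]
        exact add_right_cancel this
      have hrow : ∀ x, ¬ (r x + c y₁ ≠ 0) → r x + c y₂ ≠ 0 := by
        intro x h1 h2
        rw [not_not] at h1
        apply hy
        have : r x + c y₁ = r x + c y₂ := by rw [h1, h2]
        exact add_left_cancel this
      let f : Q ⊕ ↥D → {p : P × Q // r p.1 + c p.2 ≠ 0} := fun s =>
        match s with
        | Sum.inl y => if h : r x₁ + c y ≠ 0 then ⟨(x₁, y), h⟩ else ⟨(x₂, y), hcol y h⟩
        | Sum.inr x => if h : r x.1 + c y₁ ≠ 0 then ⟨(x.1, y₁), h⟩ else ⟨(x.1, y₂), hrow x.1 h⟩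
      have hfl : ∀ y : Q, ((f (Sum.inl y)).1.2 = y ∧ ((f (Sum.inl y)).1.1 = x₁ ∨
          (f (Sum.inl y)).1.1 = x₂)) := by
        intro y
        by_cases h : r x₁ + c y ≠ 0
        · simp [f, h]
        · simp only [f, h]
          simp
      have hfr : ∀ x : ↥D, (f (Sum.inr x)).1.1 = x.1 := by
        intro x
        by_cases h : r x.1 + c y₁ ≠ 0
        · simp [f, h]
        · simp only [f, h]
          simp
      have hf : Function.Injective f := by
        intro s s' h
        rcases s with y | x <;> rcases s' with y' | x'
        · have := (hfl y).1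
          rw [h, (hfl y').1] at this
          rw [this]
        · exfalso
          have h1 := (hfl y).2
          rw [h, hfr x'] at h1
          have := (hD x'.1).1 x'.2
          rcases h1 with h1 | h1
          · exact this.1 h1
          · exact this.2 h1
        · exfalso
          have h1 := (hfl y').2
          rw [← h, hfr x] at h1
          have := (hD x.1).1 x.2
          rcases h1 with h1 | h1
          · exact this.1 h1
          · exact this.2 h1
        · have := hfr x
          rw [h, hfr x'] at this
          rw [Subtype.ext this.symm]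
      have hle := Nat.card_le_card_of_injective f hf
      rw [Nat.card_sum, Nat.card_eq_fintype_card (α := ↥D), Fintype.card_coe] at hle
      have hDcard : Fintype.card P ≤ D.card + 2 := by
        show Fintype.card P ≤ (Finset.univ \ {x₁, x₂}).card + 2
        have h1 : (Finset.univ : Finset P).card ≤ (Finset.univ \ {x₁, x₂}).card + ({x₁, x₂} : Finset P).card :=
          Finset.card_le_card_sdiff_add_card
        have h2 : ({x₁, x₂} : Finset P).card ≤ 2 := Finset.card_le_two
        rw [Finset.card_univ] at h1
        omega
      rw [Nat.card_eq_fintype_card] at hP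
      omega

end Cfsg.Agent.Lib.Helper26
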