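import Mathlib
import Cfsg.Agent.Lib.Helper16.CentMaxA
import Cfsg.Agent.Lib.Helper16.CentMaxB
import Cfsg.Agent.Lib.Helper16.CentMaxC

set_option autoImplicit false
set_option maxHeartbeats 1000000

/-!
Normal subgroups `N` of `G` such that `C_G(x)` is a maximal subgroup of `G` for every
`x ∈ N` outside `Z(N)` (helper26): basic lemmas, the case of all these centralizers normal,
abelian normal subgroups, and the nilpotent case.
-/

namespace Cfsg.Agent.Lib.Helper26.RelCent

open scoped commutatorElement Pointwise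
open Cfsg.Agent.Lib.Helper16.CentMax

variable {G : Type*} [Group G]

/-- the relative hypothesis -/
def RHyp (N : Subgroup G) : Prop :=
  ∀ x : G, x ∈ N → x ∉ Subgroup.centralizer (N : Set G) →
    IsCoatom (Subgroup.centralizer ({x} : Set G))

/-- the centralizer of `N` in `G` -/
abbrev CN (N : Subgroup G) : Subgroup G := Subgroup.centralizer (N : Set G)

theorem mem_CN {N : Subgroup G} {g : G} : g ∈ CN N ↔ ∀ n ∈ N, n * g = g * n := by
  rw [Subgroup.mem_centralizer_iff]; rfl

theorem cz_ne_top_of {N : Subgroup G} {a : G} (ha : a ∉ CN N) : cz a ≠ ⊤ := by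
  intro h
  apply ha
  rw [mem_CN]
  intro n _
  have : n ∈ cz a := h ▸ Subgroup.mem_top n
  exact mem_cz.mp this

theorem rcz_eq_of_le {N : Subgroup G} (h : RHyp N) {x a : G} (hx : x ∈ N) (hx' : x ∉ CN N)
    (ha' : a ∉ CN N) (hle : cz x ≤ cz a) : cz a = cz x := by
  rcases (h x hx hx').le_iff.mp hle with h1 | h1
  · exact absurd h1 (cz_ne_top_of ha')
  · exact h1

theorem exists_not_comm {N : Subgroup G} {x : G} (hx' : x ∉ CN N) :
    ∃ n ∈ N, n * x ≠ x * n := by
  by_contra hcon
  push Not at hcon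
  exact hx' (mem_CN.mpr hcon)

theorem sup_cz_eq_top {N : Subgroup G} (h : RHyp N) {x : G} (hx : x ∈ N) (hx' : x ∉ CN N) :
    N ⊔ cz x = ⊤ := by
  obtain ⟨n, hn, hnx⟩ := exists_not_comm hx'
  apply (h x hx hx').2
  apply lt_of_le_of_ne le_sup_right
  intro heq
  apply hnx
  have : n ∈ cz x := by
    show n ∈ Subgroup.centralizer {x}
    rw [heq]; exact (le_sup_left : N ≤ N ⊔ cz x) hn
  exact mem_cz.mp this

theorem rdecomp {N : Subgroup G} [N.Normal] (h : RHyp N) {x : G} (hx : x ∈ N) (hx' : x ∉ CN N)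
    (g : G) : ∃ n ∈ N, ∃ m ∈ cz x, g = n * m := by
  have hg : g ∈ ((N ⊔ cz x : Subgroup G) : Set G) := by
    rw [sup_cz_eq_top h hx hx']; exact Subgroup.mem_top g
  rw [Subgroup.normal_mul] at hg
  obtain ⟨n, hn, m, hm, rfl⟩ := Set.mem_mul.mp hg
  exact ⟨n, hn, m, hm, rfl⟩

/-- class two with prime orders modulo the centre gives an elementary abelian central quotient -/
theorem elemAb_of_class_two {H : Type*} [Group H] [Finite H]
    (hc2 : ∀ a b : H, ⁅a, b⁆ ∈ Subgroup.center H)
    (hprime : ∀ x : H, x ∉ Subgroup.center H → (om x).Prime) :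
    ∃ p : ℕ, p.Prime ∧ Cfsg.IsElementaryAbelian p (⊤ : Subgroup (H ⧸ Subgroup.center H)) := by
  have hcomm : ∀ a b : H ⧸ Subgroup.center H, a * b = b * a := by
    intro a b
    obtain ⟨a0, rfl⟩ := QuotientGroup.mk_surjective a
    obtain ⟨b0, rfl⟩ := QuotientGroup.mk_surjective b
    rw [← QuotientGroup.mk_mul, ← QuotientGroup.mk_mul, QuotientGroup.eq]
    have := hc2 b0⁻¹ a0⁻¹
    rw [commutatorElement_def] at this
    convert this using 1
    group
  have hcommT : IsMulCommutative ↥(⊤ : Subgroup (H ⧸ Subgroup.center H)) := by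
    rw [isMulCommutative_iff]
    intro u v
    exact Subtype.ext (hcomm u v)
  by_cases hna : ∃ a : H, a ∉ Subgroup.center H
  · obtain ⟨a, hx0⟩ := hna
    refine ⟨om a, hprime a hx0, ?_⟩
    unfold Cfsg.IsElementaryAbelian
    refine ⟨hcommT, ?_⟩
    intro gb _
    obtain ⟨g, rfl⟩ := QuotientGroup.mk_surjective gb
    by_cases hg : g ∈ Subgroup.center H
    · rw [(QuotientGroup.eq_one_iff g).mpr hg, one_pow]
    · by_cases hpe : om g = om a
      · have : (QuotientGroup.mk' (Subgroup.center H) g) ^ om g = 1 := pow_orderOf_eq_one _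
        rw [hpe] at this
        exact this
      · exfalso
        have hcop : Nat.Coprime (om g) (om a) :=
          (Nat.coprime_primes (hprime g hg) (hprime a hx0)).mpr hpe
        have hcm : Commute (QuotientGroup.mk' (Subgroup.center H) g)
            (QuotientGroup.mk' (Subgroup.center H) a) := hcomm _ _
        have h1 := hcm.orderOf_mul_eq_mul_orderOf_of_coprime hcop
        have h2 : om (g * a) = om g * om a := by
          show orderOf (QuotientGroup.mk' (Subgroup.center H) (g * a)) = _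
          rw [map_mul]; exact h1
        have hga : g * a ∉ Subgroup.center H := by
          intro hz
          have h3 := (pow_mem_center_iff (g * a) 1).mp (by rwa [pow_one])
          rw [h2] at h3
          have h4 := Nat.eq_one_of_mul_eq_one_right (Nat.dvd_one.mp h3)
          exact (hprime g hg).one_lt.ne' h4
        have h3 := hprime (g * a) hga
        rw [h2] at h3
        exact Nat.not_prime_mul (hprime g hg).one_lt.ne' (hprime a hx0).one_lt.ne' h3
  · push Not at hna
    refine ⟨2, Nat.prime_two, ?_⟩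
    unfold Cfsg.IsElementaryAbelian
    refine ⟨hcommT, ?_⟩
    intro gb _
    obtain ⟨g, rfl⟩ := QuotientGroup.mk_surjective gb
    rw [(QuotientGroup.eq_one_iff g).mpr (hna g), one_pow]

/-- all relative centralizers normal: the central quotient of `N` is elementary abelian -/
theorem caseA_rel {N : Subgroup G} [N.Normal] [Finite G] (h : RHyp N)
    (hall : ∀ x : G, x ∈ N → x ∉ CN N → (cz x).Normal) :
    ∃ p : ℕ, p.Prime ∧
      Cfsg.IsElementaryAbelian p (⊤ : Subgroup (↥N ⧸ Subgroup.center ↥N)) := by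
  have hcoe : ∀ x : ↥N, x ∉ Subgroup.center ↥N → (x : G) ∉ CN N := by
    intro x hx hc
    apply hx
    rw [Subgroup.mem_center_iff]
    intro g
    apply Subtype.ext
    exact mem_CN.mp hc g g.2
  have hc2 : ∀ a b : ↥N, ⁅a, b⁆ ∈ Subgroup.center ↥N := by
    intro a b
    rw [Subgroup.mem_center_iff]
    intro g
    apply Subtype.ext
    show (g : G) * ⁅(a : G), (b : G)⁆ = ⁅(a : G), (b : G)⁆ * (g : G)
    by_cases hg : (g : G) ∈ CN N
    · have := mem_CN.mp hg (⁅a, b⁆ : ↥N) (⁅a, b⁆ : ↥N).2
      exact this.symm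
    · have := hall g g.2 hg
      have h1 := commutator_mem_of_normal_coatom (h g g.2 hg) (a : G) (b : G)
      exact (mem_cz.mp h1).symm
  have hprime : ∀ x : ↥N, x ∉ Subgroup.center ↥N → (om x).Prime := by
    intro x hx
    have hxC := hcoe x hx
    have := hall x x.2 hxC
    have hr := index_prime_of_normal_coatom (h x x.2 hxC)
    have hpow : ∀ g : ↥N, g ^ (cz (x : G)).index ∈ cz x := by
      intro g
      rw [mem_cz]
      apply Subtype.ext
      have h1 : (g : G) ^ (cz (x : G)).index ∈ cz (x : G) := Subgroup.pow_index_mem _ _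
      have h2 := mem_cz.mp h1
      show ((g ^ (cz (x : G)).index : ↥N) : G) * (x : G)
        = (x : G) * ((g ^ (cz (x : G)).index : ↥N) : G)
      rw [Subgroup.coe_pow]
      exact h2
    have h1 := pow_mem_center_of_class_two hc2 hpow
    rw [om_eq_of_prime hx hr h1]
    exact hr
  exact elemAb_of_class_two hc2 hprime

/-- an abelian normal subgroup of `G` inside `N` but not inside `Z(N)` contains `[G, N]` -/
theorem comm_mem_of_abelian_normal {N : Subgroup G} [N.Normal] (h : RHyp N)
    (X : Subgroup G) [hXn : X.Normal] (hXN : X ≤ N)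
    (hXZ : ¬ X ≤ CN N) : ∀ g : G, ∀ k ∈ N, g * k * g⁻¹ * k⁻¹ ∈ X := by
  have step : ∀ k ∈ N, (∃ a ∈ X, a * k ≠ k * a) → ∀ g : G, g * k * g⁻¹ * k⁻¹ ∈ X := by
    intro k hk ⟨a, ha, hak⟩ g
    have hk' : k ∉ CN N := by
      intro hc
      exact hak (mem_CN.mp hc a (hXN ha))
    have hsup : X ⊔ cz k = ⊤ := by
      apply (h k hk hk').2
      apply lt_of_le_of_ne le_sup_right
      intro heq
      apply hak
      have : a ∈ cz k := by
        show a ∈ Subgroup.centralizer {k}
        rw [heq]; exact (le_sup_left : X ≤ X ⊔ cz k) ha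
      exact mem_cz.mp this
    have hg : g ∈ ((X ⊔ cz k : Subgroup G) : Set G) := by
      rw [hsup]; exact Subgroup.mem_top g
    rw [Subgroup.normal_mul] at hg
    obtain ⟨b, hb, m, hm, rfl⟩ := Set.mem_mul.mp hg
    have hmk : m * k = k * m := mem_cz.mp hm
    have e : b * m * k * (b * m)⁻¹ * k⁻¹ = b * (k * b⁻¹ * k⁻¹) := by
      have : m * k * m⁻¹ = k := by rw [hmk]; group
      calc b * m * k * (b * m)⁻¹ * k⁻¹ = b * (m * k * m⁻¹) * b⁻¹ * k⁻¹ := by group
        _ = b * k * b⁻¹ * k⁻¹ := by rw [this]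
        _ = b * (k * b⁻¹ * k⁻¹) := by group
    rw [e]
    exact X.mul_mem hb (hXn.conj_mem b⁻¹ (X.inv_mem hb) k)
  have hex : ∃ k₀ ∈ N, ∃ a ∈ X, a * k₀ ≠ k₀ * a := by
    by_contra hcon
    push Not at hcon
    apply hXZ
    intro a ha
    rw [mem_CN]
    intro n hn
    exact (hcon n hn a ha).symm
  obtain ⟨k₀, hk₀, hk₀X⟩ := hex
  intro g k hk
  by_cases hkX : ∃ a ∈ X, a * k ≠ k * a
  · exact step k hk hkX g
  · push Not at hkX
    have hkk : ∃ a ∈ X, a * (k * k₀) ≠ k * k₀ * a := by
      obtain ⟨a, ha, hak⟩ := hk₀X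
      refine ⟨a, ha, ?_⟩
      intro heq
      apply hak
      have h1 := hkX a ha
      have : k * (a * k₀) = k * (k₀ * a) := by
        calc k * (a * k₀) = a * k * k₀ := by rw [← mul_assoc, ← h1]
          _ = a * (k * k₀) := mul_assoc _ _ _
          _ = k * k₀ * a := heq
          _ = k * (k₀ * a) := mul_assoc _ _ _
      exact mul_left_cancel this
    have h1 := step (k * k₀) (N.mul_mem hk hk₀) hkk g
    have h2 := step k₀ hk₀ hk₀X g
    have e : g * k * g⁻¹ * k⁻¹ = (g * (k * k₀) * g⁻¹ * (k * k₀)⁻¹) *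
        (k * (g * k₀ * g⁻¹ * k₀⁻¹)⁻¹ * k⁻¹) := by group
    rw [e]
    exact X.mul_mem h1 (hXn.conj_mem _ (X.inv_mem h2) k)

/-- elements of an abelian normal subgroup of `G` inside `N` have normal centralizers -/
theorem normal_of_mem_abelian_normal {N : Subgroup G} [N.Normal] (h : RHyp N)
    (X : Subgroup G) [X.Normal] (hXN : X ≤ N) (hXab : ∀ a ∈ X, ∀ b ∈ X, a * b = b * a)
    (hXZ : ¬ X ≤ CN N) {y : G} (hy : y ∈ X) (hy' : y ∉ CN N) : (cz y).Normal := by
  have hcm := comm_mem_of_abelian_normal h X hXN hXZ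
  have key : ∀ n ∈ N, ∀ m ∈ cz y, n * m * n⁻¹ ∈ cz y := by
    intro n hn m hm
    have hc : n * m * n⁻¹ * m⁻¹ ∈ X := by
      have := X.inv_mem (hcm m n hn)
      convert this using 1; group
    have e : n * m * n⁻¹ = (n * m * n⁻¹ * m⁻¹) * m := by group
    rw [e]
    exact (cz y).mul_mem (mem_cz.mpr (hXab _ hc y hy)) hm
  have hnorm : Subgroup.normalizer ((cz y : Subgroup G) : Set G) = ⊤ := by
    rw [eq_top_iff, ← sup_cz_eq_top h (hXN hy) hy']
    apply sup_le
    · intro n hn
      rw [Subgroup.mem_normalizer_iff]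
      intro m
      constructor
      · intro hm; exact key n hn m hm
      · intro hm
        have := key n⁻¹ (N.inv_mem hn) _ hm
        convert this using 1; group
    · exact Subgroup.le_normalizer
  exact Subgroup.normalizer_eq_top_iff.mp hnorm

end Cfsg.Agent.Lib.Helper26.RelCent
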