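import Mathlib
import Cfsg.Agent.Lib.Helper26.RelCentA

set_option autoImplicit false
set_option maxHeartbeats 1000000

/-!
Relative centralizer-maximal normal subgroups (helper26): the nilpotent case.
-/

namespace Cfsg.Agent.Lib.Helper26.RelCent

open scoped commutatorElement Pointwise
open Cfsg.Agent.Lib.Helper16.CentMax

variable {G : Type*} [Group G]

theorem comm_central_left {N : Subgroup G} {z a b : G} (hz : z ∈ CN N) (ha : a ∈ N)
    (hb : b ∈ N) : (z * a) * b * (z * a)⁻¹ * b⁻¹ = a * b * a⁻¹ * b⁻¹ := by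
  have h1 : a * b * a⁻¹ * z = z * (a * b * a⁻¹) :=
    mem_CN.mp hz _ (N.mul_mem (N.mul_mem ha hb) (N.inv_mem ha))
  calc (z * a) * b * (z * a)⁻¹ * b⁻¹ = z * (a * b * a⁻¹) * z⁻¹ * b⁻¹ := by group
    _ = (a * b * a⁻¹ * z) * z⁻¹ * b⁻¹ := by rw [h1]
    _ = a * b * a⁻¹ * b⁻¹ := by group

theorem comm_central_right {N : Subgroup G} {z a b : G} (hz : z ∈ CN N) (ha : a ∈ N)
    (hb : b ∈ N) : a * (z * b) * a⁻¹ * (z * b)⁻¹ = a * b * a⁻¹ * b⁻¹ := by
  have h1 : a * z = z * a := mem_CN.mp hz a ha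
  have h2 : a * b * a⁻¹ * b⁻¹ * z = z * (a * b * a⁻¹ * b⁻¹) :=
    mem_CN.mp hz _ (N.mul_mem (N.mul_mem (N.mul_mem ha hb) (N.inv_mem ha)) (N.inv_mem hb))
  calc a * (z * b) * a⁻¹ * (z * b)⁻¹ = (a * z) * b * a⁻¹ * b⁻¹ * z⁻¹ := by group
    _ = (z * a) * b * a⁻¹ * b⁻¹ * z⁻¹ := by rw [h1]
    _ = z * (a * b * a⁻¹ * b⁻¹) * z⁻¹ := by group
    _ = (a * b * a⁻¹ * b⁻¹ * z) * z⁻¹ := by rw [h2]
    _ = a * b * a⁻¹ * b⁻¹ := by group

/-- for a non-normal centralizer `cz x` and nilpotent `N`, commutators of `N` lie in `cz x` -/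
theorem comm_mem_cz_of_nilpotent {N : Subgroup G} [hNn : N.Normal] [Finite G] (h : RHyp N)
    [Group.IsNilpotent ↥N] {x : G} (hx : x ∈ N) (hx' : x ∉ CN N) (hn : ¬ (cz x).Normal)
    {a b : G} (ha : a ∈ N) (hb : b ∈ N) : a * b * a⁻¹ * b⁻¹ ∈ cz x := by
  obtain ⟨D, hD⟩ : ∃ D : Subgroup G, D = N ⊓ cz x := ⟨_, rfl⟩
  have hDmem : ∀ d, d ∈ D ↔ d ∈ N ∧ d ∈ cz x := by
    intro d; rw [hD]; exact Subgroup.mem_inf
  have hczD : ∀ m ∈ cz x, ∀ d ∈ D, m * d * m⁻¹ ∈ D := by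
    intro m hm d hd
    rw [hDmem] at hd ⊢
    exact ⟨hNn.conj_mem d hd.1 m,
      (cz x).mul_mem ((cz x).mul_mem hm hd.2) ((cz x).inv_mem hm)⟩
  obtain ⟨n0, hn0N, hn0x⟩ := exists_not_comm hx'
  have hlt : (cz x).subgroupOf N < ⊤ := by
    rw [lt_top_iff_ne_top]
    intro htop
    apply hn0x
    have : (⟨n0, hn0N⟩ : ↥N) ∈ (cz x).subgroupOf N := by rw [htop]; exact Subgroup.mem_top _
    exact mem_cz.mp (Subgroup.mem_subgroupOf.mp this)
  have hnc := (normalizerCondition_of_isNilpotent (G := ↥N)) _ hlt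
  obtain ⟨n', hn'1, hn'2⟩ := SetLike.exists_of_lt hnc
  rw [Subgroup.mem_normalizer_iff] at hn'1
  have hn'x : (n' : G) ∉ cz x := fun hc => hn'2 (Subgroup.mem_subgroupOf.mpr hc)
  have hnD : (n' : G) ∈ Subgroup.normalizer ((D : Subgroup G) : Set G) := by
    rw [Subgroup.mem_normalizer_iff]
    intro d
    constructor
    · intro hd
      have hd' := (hDmem d).mp hd
      have h1 := (hn'1 ⟨d, hd'.1⟩).mp (Subgroup.mem_subgroupOf.mpr hd'.2)
      exact (hDmem _).mpr ⟨hNn.conj_mem d hd'.1 n', Subgroup.mem_subgroupOf.mp h1⟩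
    · intro hd
      have hd' := (hDmem _).mp hd
      have hdN : d ∈ N := by
        have := hNn.conj_mem _ hd'.1 (n' : G)⁻¹
        convert this using 1; group
      have h1 := (hn'1 ⟨d, hdN⟩).mpr (Subgroup.mem_subgroupOf.mpr hd'.2)
      exact (hDmem _).mpr ⟨hdN, Subgroup.mem_subgroupOf.mp h1⟩
  have hczle : cz x ≤ Subgroup.normalizer ((D : Subgroup G) : Set G) := by
    intro m hm
    rw [Subgroup.mem_normalizer_iff]
    intro d
    constructor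
    · intro hd; exact hczD m hm d hd
    · intro hd
      have := hczD m⁻¹ ((cz x).inv_mem hm) _ hd
      convert this using 1; group
  have hDtop : Subgroup.normalizer ((D : Subgroup G) : Set G) = ⊤ := by
    apply (h x hx hx').2
    apply lt_of_le_of_ne hczle
    intro heq
    exact hn'x (heq.ge hnD)
  have hDn : D.Normal := Subgroup.normalizer_eq_top_iff.mp hDtop
  -- an element of the next term of the upper central series
  obtain ⟨w, hwN, hwD, hw⟩ : ∃ w ∈ N, w ∉ D ∧ ∀ k ∈ N, w * k * w⁻¹ * k⁻¹ ∈ D := by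
    obtain ⟨c, hc⟩ := (Group.IsNilpotent.nilpotent' : ∃ n, Subgroup.upperCentralSeries ↥N n = ⊤)
    have hP : ∃ i, ¬ Subgroup.upperCentralSeries ↥N i ≤ (cz x).subgroupOf N := by
      refine ⟨c, ?_⟩
      rw [hc]
      intro hle
      exact (lt_top_iff_ne_top.mp hlt) (top_le_iff.mp hle)
    classical
    have hmin := @Nat.find_min _ _ hP
    have hspec := Nat.find_spec hP
    obtain ⟨j, hj⟩ : ∃ j, Nat.find hP = j + 1 := by
      apply Nat.exists_eq_succ_of_ne_zero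
      intro h0
      rw [h0, Subgroup.upperCentralSeries_zero] at hspec
      exact hspec bot_le
    rw [hj] at hspec
    have hjle : Subgroup.upperCentralSeries ↥N j ≤ (cz x).subgroupOf N := by
      by_contra hcon
      exact hmin (by omega : j < Nat.find hP) hcon
    obtain ⟨w', hw'1, hw'2⟩ := SetLike.not_le_iff_exists.mp hspec
    refine ⟨w', w'.2, ?_, ?_⟩
    · intro hd
      exact hw'2 (Subgroup.mem_subgroupOf.mpr ((hDmem _).mp hd).2)
    · intro k hk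
      have h1 := Subgroup.mem_upperCentralSeries_succ_iff.mp hw'1 ⟨k, hk⟩
      have h2 := hjle h1
      rw [hDmem]
      refine ⟨N.mul_mem (N.mul_mem (N.mul_mem w'.2 hk) (N.inv_mem w'.2)) (N.inv_mem hk), ?_⟩
      exact Subgroup.mem_subgroupOf.mp h2
  obtain ⟨W, hW⟩ : ∃ W : Subgroup G,
      ∀ n, n ∈ W ↔ (n ∈ N ∧ ∀ k ∈ N, n * k * n⁻¹ * k⁻¹ ∈ D) :=
    ⟨{ carrier := {n | n ∈ N ∧ ∀ k ∈ N, n * k * n⁻¹ * k⁻¹ ∈ D}
       one_mem' := ⟨N.one_mem, fun k _ => by simpa using D.one_mem⟩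
       mul_mem' := by
         rintro n₁ n₂ ⟨h1, h1'⟩ ⟨h2, h2'⟩
         refine ⟨N.mul_mem h1 h2, fun k hk => ?_⟩
         have e : n₁ * n₂ * k * (n₁ * n₂)⁻¹ * k⁻¹ =
             (n₁ * (n₂ * k * n₂⁻¹ * k⁻¹) * n₁⁻¹) * (n₁ * k * n₁⁻¹ * k⁻¹) := by group
         rw [e]
         exact D.mul_mem (hDn.conj_mem _ (h2' k hk) n₁) (h1' k hk)
       inv_mem' := by
         rintro n ⟨h1, h1'⟩
         refine ⟨N.inv_mem h1, fun k hk => ?_⟩
         have e : n⁻¹ * k * n⁻¹⁻¹ * k⁻¹ = n⁻¹ * (n * k * n⁻¹ * k⁻¹)⁻¹ * n⁻¹⁻¹ := by group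
         rw [e]
         exact hDn.conj_mem _ (D.inv_mem (h1' k hk)) n⁻¹ }, fun n => Iff.rfl⟩
  have hWn : W.Normal := by
    refine ⟨fun n hn g => ?_⟩
    rw [hW] at hn ⊢
    refine ⟨hNn.conj_mem n hn.1 g, fun k hk => ?_⟩
    have hk' : g⁻¹ * k * g ∈ N := by
      have := hNn.conj_mem k hk g⁻¹
      rwa [inv_inv] at this
    have e : g * n * g⁻¹ * k * (g * n * g⁻¹)⁻¹ * k⁻¹ =
        g * (n * (g⁻¹ * k * g) * n⁻¹ * (g⁻¹ * k * g)⁻¹) * g⁻¹ := by group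
    rw [e]
    exact hDn.conj_mem _ (hn.2 _ hk') g
  have hDW : D ≤ W := by
    intro d hd
    rw [hW]
    have hdN := ((hDmem d).mp hd).1
    refine ⟨hdN, fun k hk => ?_⟩
    have e : d * k * d⁻¹ * k⁻¹ = d * (k * d⁻¹ * k⁻¹) := by group
    rw [e]
    exact D.mul_mem hd (hDn.conj_mem _ (D.inv_mem hd) k)
  have hwW : w ∈ W := (hW w).mpr ⟨hwN, hw⟩
  have hwx : w ∉ cz x := fun hc => hwD ((hDmem w).mpr ⟨hwN, hc⟩)
  have hsup : W ⊔ cz x = ⊤ := by
    apply (h x hx hx').2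
    apply lt_of_le_of_ne le_sup_right
    intro heq
    exact hwx (heq.ge ((le_sup_left : W ≤ W ⊔ cz x) hwW))
  have hNW : ∀ k ∈ N, k ∈ W := by
    intro k hk
    have hg : k ∈ ((W ⊔ cz x : Subgroup G) : Set G) := by
      rw [hsup]; exact Subgroup.mem_top k
    rw [Subgroup.normal_mul] at hg
    obtain ⟨w1, hw1, m, hm, rfl⟩ := Set.mem_mul.mp hg
    have hw1N : w1 ∈ N := ((hW w1).mp hw1).1
    have hmN : m ∈ N := by
      have := N.mul_mem (N.inv_mem hw1N) hk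
      convert this using 1; group
    exact W.mul_mem hw1 (hDW ((hDmem m).mpr ⟨hmN, hm⟩))
  have := ((hW a).mp (hNW a ha)).2 b hb
  exact ((hDmem _).mp this).2

/-- if `N` is nilpotent, all the relative centralizers are normal -/
theorem normal_of_nilpotent {N : Subgroup G} [hNn : N.Normal] [Finite G] (h : RHyp N)
    [Group.IsNilpotent ↥N] : ∀ x : G, x ∈ N → x ∉ CN N → (cz x).Normal := by
  have N1 : ∀ x : G, x ∈ N → x ∉ CN N → ∀ a ∈ N, ∀ b ∈ N, a * b * a⁻¹ * b⁻¹ ∈ cz x := by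
    intro x hx hx' a ha b hb
    by_cases hn : (cz x).Normal
    · have := commutator_mem_of_normal_coatom (h x hx hx') a b
      rwa [commutatorElement_def] at this
    · exact comm_mem_cz_of_nilpotent h hx hx' hn ha hb
  have N2 : ∀ a ∈ N, ∀ b ∈ N, a * b * a⁻¹ * b⁻¹ ∈ CN N := by
    intro a ha b hb
    rw [mem_CN]
    intro n hn
    have hcN : a * b * a⁻¹ * b⁻¹ ∈ N :=
      N.mul_mem (N.mul_mem (N.mul_mem ha hb) (N.inv_mem ha)) (N.inv_mem hb)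
    by_cases hnC : n ∈ CN N
    · exact (mem_CN.mp hnC _ hcN).symm
    · exact (mem_cz.mp (N1 n hn hnC a ha b hb)).symm
  have N3 : ∀ g : G, ∀ x ∈ N, g * x * g⁻¹ * x⁻¹ ∈ CN N := by
    intro g x hx
    by_cases hxC : x ∈ CN N
    · have h1 : g * x * g⁻¹ ∈ CN N := (inferInstance : (CN N).Normal).conj_mem x hxC g
      exact (CN N).mul_mem h1 ((CN N).inv_mem hxC)
    · obtain ⟨n, hn, m, hm, rfl⟩ := rdecomp h hx hxC g
      have hmx : m * x = x * m := mem_cz.mp hm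
      have e : n * m * x * (n * m)⁻¹ * x⁻¹ = n * x * n⁻¹ * x⁻¹ := by
        have : m * x * m⁻¹ = x := by rw [hmx]; group
        calc n * m * x * (n * m)⁻¹ * x⁻¹ = n * (m * x * m⁻¹) * n⁻¹ * x⁻¹ := by group
          _ = n * x * n⁻¹ * x⁻¹ := by rw [this]
      rw [e]
      exact N2 n hn x hx
  have N4 : ∀ a ∈ N, ∀ b ∈ N, a * b * a⁻¹ * b⁻¹ ∈ Subgroup.center G := by
    intro a ha b hb
    rw [Subgroup.mem_center_iff]
    intro g
    have hz1 := N3 g a ha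
    have hz2 := N3 g b hb
    have hgb : g * b * g⁻¹ ∈ N := hNn.conj_mem b hb g
    have e1 : g * (a * b * a⁻¹ * b⁻¹) * g⁻¹ = (g * a * g⁻¹ * a⁻¹ * a) * (g * b * g⁻¹) *
        (g * a * g⁻¹ * a⁻¹ * a)⁻¹ * (g * b * g⁻¹)⁻¹ := by group
    have h1 : (g * a * g⁻¹ * a⁻¹ * a) * (g * b * g⁻¹) * (g * a * g⁻¹ * a⁻¹ * a)⁻¹ *
        (g * b * g⁻¹)⁻¹ = a * (g * b * g⁻¹) * a⁻¹ * (g * b * g⁻¹)⁻¹ :=
      comm_central_left hz1 ha hgb
    have e4 : a * (g * b * g⁻¹) * a⁻¹ * (g * b * g⁻¹)⁻¹ =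
        a * (g * b * g⁻¹ * b⁻¹ * b) * a⁻¹ * (g * b * g⁻¹ * b⁻¹ * b)⁻¹ := by group
    have h2 : a * (g * b * g⁻¹ * b⁻¹ * b) * a⁻¹ * (g * b * g⁻¹ * b⁻¹ * b)⁻¹ =
        a * b * a⁻¹ * b⁻¹ := comm_central_right hz2 ha hb
    have h3 : g * (a * b * a⁻¹ * b⁻¹) * g⁻¹ = a * b * a⁻¹ * b⁻¹ := by
      rw [e1, h1, e4, h2]
    calc g * (a * b * a⁻¹ * b⁻¹) = (g * (a * b * a⁻¹ * b⁻¹) * g⁻¹) * g := by group
      _ = a * b * a⁻¹ * b⁻¹ * g := by rw [h3]
  intro x hx hx'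
  have hnorm : Subgroup.normalizer ((cz x : Subgroup G) : Set G) = ⊤ := by
    rw [eq_top_iff, ← sup_cz_eq_top h hx hx']
    apply sup_le
    · intro n hn
      rw [Subgroup.mem_normalizer_iff]
      intro m
      have hc : n⁻¹ * x * n * x⁻¹ ∈ Subgroup.center G := by
        have := N4 n⁻¹ (N.inv_mem hn) x hx
        rwa [inv_inv] at this
      have e : n⁻¹ * x * n = (n⁻¹ * x * n * x⁻¹) * x := by group
      have h3 : n * m * n⁻¹ ∈ cz x ↔ m ∈ cz x := by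
        rw [conj_mem_cz_iff, e, cz_central_mul hc]
      exact h3.symm
    · exact Subgroup.le_normalizer
  exact Subgroup.normalizer_eq_top_iff.mp hnorm

end Cfsg.Agent.Lib.Helper26.RelCent
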