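import Mathlib
import Cfsg.Agent.Lib.Helper26.RelCentB

set_option autoImplicit false
set_option maxHeartbeats 1000000

/-!
Relative centralizer-maximal normal subgroups (helper26): if some relative centralizer is not
normal then the second centre of `N` equals its centre.
-/

namespace Cfsg.Agent.Lib.Helper26.RelCent

open scoped commutatorElement Pointwise
open Cfsg.Agent.Lib.Helper16.CentMax

variable {G : Type*} [Group G]

theorem z2_mul {N : Subgroup G} [N.Normal] {g₁ g₂ : G}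
    (h1 : ∀ n ∈ N, g₁ * n * g₁⁻¹ * n⁻¹ ∈ CN N) (h2 : ∀ n ∈ N, g₂ * n * g₂⁻¹ * n⁻¹ ∈ CN N) :
    ∀ n ∈ N, (g₁ * g₂) * n * (g₁ * g₂)⁻¹ * n⁻¹ ∈ CN N := by
  intro n hn
  have e : (g₁ * g₂) * n * (g₁ * g₂)⁻¹ * n⁻¹ =
      (g₁ * (g₂ * n * g₂⁻¹ * n⁻¹) * g₁⁻¹) * (g₁ * n * g₁⁻¹ * n⁻¹) := by group
  rw [e]
  exact (CN N).mul_mem ((inferInstance : (CN N).Normal).conj_mem _ (h2 n hn) g₁) (h1 n hn)

theorem z2_pow {N : Subgroup G} [N.Normal] {g : G}
    (h1 : ∀ n ∈ N, g * n * g⁻¹ * n⁻¹ ∈ CN N) (k : ℕ) :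
    ∀ n ∈ N, g ^ k * n * (g ^ k)⁻¹ * n⁻¹ ∈ CN N := by
  induction k with
  | zero =>
    intro n _
    have e : g ^ 0 * n * (g ^ 0)⁻¹ * n⁻¹ = 1 := by group
    rw [e]; exact (CN N).one_mem
  | succ k ih =>
    rw [pow_succ]; exact z2_mul ih h1

theorem conj_pow_left {g n c : G} (hc : g * n * g⁻¹ = c * n) (hcg : g * c = c * g) (k : ℕ) :
    g ^ k * n * (g ^ k)⁻¹ = c ^ k * n := by
  induction k with
  | zero => simp
  | succ k ih =>
    have hck : g * c ^ k = c ^ k * g := (Commute.pow_right (show Commute g c from hcg) k).eq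
    calc g ^ (k + 1) * n * (g ^ (k + 1))⁻¹ = g * (g ^ k * n * (g ^ k)⁻¹) * g⁻¹ := by
          rw [pow_succ']; group
      _ = g * (c ^ k * n) * g⁻¹ := by rw [ih]
      _ = (g * c ^ k) * (n * g⁻¹) := by group
      _ = (c ^ k * g) * (n * g⁻¹) := by rw [hck]
      _ = c ^ k * (g * n * g⁻¹) := by group
      _ = c ^ k * (c * n) := by rw [hc]
      _ = c ^ (k + 1) * n := by rw [pow_succ, mul_assoc]

theorem mem_of_pow_mem_coprime {K : Subgroup G} [K.Normal] {g : G} {q r : ℕ}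
    (hcop : Nat.Coprime q r) (hq : g ^ q ∈ K) (hr : g ^ r ∈ K) : g ∈ K := by
  have hq1 : ((g : G ⧸ K)) ^ q = 1 := by
    rw [← QuotientGroup.mk_pow]; exact (QuotientGroup.eq_one_iff _).mpr hq
  have hr1 : ((g : G ⧸ K)) ^ r = 1 := by
    rw [← QuotientGroup.mk_pow]; exact (QuotientGroup.eq_one_iff _).mpr hr
  have h1 := Nat.dvd_gcd (orderOf_dvd_of_pow_eq_one hq1) (orderOf_dvd_of_pow_eq_one hr1)
  have h2 : Nat.gcd q r = 1 := hcop
  rw [h2, Nat.dvd_one, orderOf_eq_one_iff] at h1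
  exact (QuotientGroup.eq_one_iff g).mp h1

/-- if some relative centralizer is not normal, the second centre of `N` equals its centre -/
theorem z2_le {N : Subgroup G} [hNn : N.Normal] [Finite G] (h : RHyp N)
    {x₀ : G} (hx₀ : x₀ ∈ N) (hx₀' : x₀ ∉ CN N) (hx₀n : ¬ (cz x₀).Normal) :
    ∀ g ∈ N, (∀ n ∈ N, g * n * g⁻¹ * n⁻¹ ∈ CN N) → g ∈ CN N := by
  by_contra hcon
  push Not at hcon
  have hex : ∃ k : ℕ, ∃ g ∈ N, (∀ n ∈ N, g * n * g⁻¹ * n⁻¹ ∈ CN N) ∧ g ∉ CN N ∧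
      orderOf g = k := by
    obtain ⟨g, hg, h2, h3⟩ := hcon
    exact ⟨orderOf g, g, hg, h2, h3, rfl⟩
  classical
  obtain ⟨g, hgN, hgZ2, hgC, hgo⟩ := Nat.find_spec hex
  have hmin : ∀ g' ∈ N, (∀ n ∈ N, g' * n * g'⁻¹ * n⁻¹ ∈ CN N) → orderOf g' < orderOf g →
      g' ∈ CN N := by
    intro g' hg' h2 hlt
    by_contra h3
    have hlt' : orderOf g' < Nat.find hex := by rw [← hgo]; exact hlt
    exact Nat.find_min hex hlt' ⟨g', hg', h2, h3, rfl⟩
  have hgpos : 0 < orderOf g := orderOf_pos g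
  have hg1 : orderOf g ≠ 1 := by
    intro h1; apply hgC; rw [orderOf_eq_one_iff.mp h1]; exact (CN N).one_mem
  have hpowC : ∀ r : ℕ, r.Prime → r ∣ orderOf g → g ^ r ∈ CN N := by
    intro r hr hdvd
    apply hmin (g ^ r) (N.pow_mem hgN r) (z2_pow hgZ2 r)
    rw [orderOf_pow' g hr.ne_zero, Nat.gcd_eq_right hdvd]
    exact Nat.div_lt_self hgpos hr.one_lt
  obtain ⟨r, hr⟩ : ∃ r, r = (orderOf g).minFac := ⟨_, rfl⟩
  have hrp : r.Prime := hr ▸ Nat.minFac_prime hg1
  have hrdvd : r ∣ orderOf g := hr ▸ Nat.minFac_dvd _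
  have hgr : g ^ r ∈ CN N := hpowC r hrp hrdvd
  have huniq : ∀ q : ℕ, q.Prime → q ∣ orderOf g → q = r := by
    intro q hq hqd
    by_contra hne
    have hcop : Nat.Coprime q r := (Nat.coprime_primes hq hrp).mpr hne
    exact hgC (mem_of_pow_mem_coprime hcop (hpowC q hq hqd) hgr)
  obtain ⟨a, ha⟩ : ∃ a, orderOf g = r ^ a :=
    ⟨_, Nat.eq_prime_pow_of_unique_prime_dvd hgpos.ne' (fun {d} hd hdd => huniq d hd hdd)⟩
  have hcr : ∀ n ∈ N, (g * n * g⁻¹ * n⁻¹) ^ r = 1 := by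
    intro n hn
    have hc : g * n * g⁻¹ = (g * n * g⁻¹ * n⁻¹) * n := by group
    have hcg : g * (g * n * g⁻¹ * n⁻¹) = (g * n * g⁻¹ * n⁻¹) * g :=
      mem_CN.mp (hgZ2 n hn) g hgN
    have h1 := conj_pow_left hc hcg r
    have h2 : g ^ r * n * (g ^ r)⁻¹ = n := by
      have := mem_CN.mp hgr n hn
      rw [← this]; group
    rw [h2] at h1
    have : (g * n * g⁻¹ * n⁻¹) ^ r * n = 1 * n := by rw [one_mul]; exact h1.symm
    exact mul_right_cancel this
  have hcomm : ∀ v ∈ N, ¬ r ∣ orderOf v → g * v = v * g := by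
    intro v hv hrv
    obtain ⟨c, hc⟩ : ∃ c, c = g * v * g⁻¹ * v⁻¹ := ⟨_, rfl⟩
    have hcC : c ∈ CN N := hc ▸ hgZ2 v hv
    have hcv : c * v = v * c := (mem_CN.mp hcC v hv).symm
    have hgv : g * v * g⁻¹ = c * v := by rw [hc]; group
    have h1 : g * v ^ orderOf v * g⁻¹ = c ^ orderOf v * v ^ orderOf v := by
      rw [← conj_pow, hgv, (show Commute c v from hcv).mul_pow]
    rw [pow_orderOf_eq_one] at h1
    have h2 : c ^ orderOf v = 1 := by
      have : g * 1 * g⁻¹ = c ^ orderOf v * 1 := h1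
      simpa using this.symm
    have h3 : c ^ r = 1 := hc ▸ hcr v hv
    have h4 : orderOf c ∣ Nat.gcd (orderOf v) r :=
      Nat.dvd_gcd (orderOf_dvd_of_pow_eq_one h2) (orderOf_dvd_of_pow_eq_one h3)
    have h5 : Nat.gcd (orderOf v) r = 1 := by
      rw [Nat.gcd_comm]; exact (Nat.Prime.coprime_iff_not_dvd hrp).mpr hrv
    rw [h5, Nat.dvd_one, orderOf_eq_one_iff] at h4
    rw [h4, one_mul] at hgv
    calc g * v = (g * v * g⁻¹) * g := by group
      _ = v * g := by rw [hgv]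
  have hczv : ∀ v ∈ N, ¬ r ∣ orderOf v → v ∉ CN N → cz v = cz g := by
    intro v hv hrv hvC
    have hgv := hcomm v hv hrv
    have hcop : Nat.Coprime (orderOf g) (orderOf v) := by
      rw [ha]; exact Nat.Coprime.pow_left a ((Nat.Prime.coprime_iff_not_dvd hrp).mpr hrv)
    obtain ⟨w, hw⟩ : ∃ w, w = g * v := ⟨_, rfl⟩
    have hwg : ∃ k : ℕ, w ^ k = g := by
      have h1lt : 1 < orderOf g := by omega
      obtain ⟨m, -, hm⟩ := Nat.exists_mul_mod_eq_one_of_coprime hcop.symm h1lt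
      refine ⟨orderOf v * m, ?_⟩
      rw [hw, (show Commute g v from hgv).mul_pow, pow_mul v, pow_orderOf_eq_one, one_pow,
        mul_one, ← pow_mod_orderOf, hm, pow_one]
    have hwv : ∃ k : ℕ, w ^ k = v := by
      have hv1 : orderOf v ≠ 1 := by
        intro h1; apply hvC; rw [orderOf_eq_one_iff.mp h1]; exact (CN N).one_mem
      have h1lt : 1 < orderOf v := by have := orderOf_pos v; omega
      obtain ⟨m, -, hm⟩ := Nat.exists_mul_mod_eq_one_of_coprime hcop h1lt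
      refine ⟨orderOf g * m, ?_⟩
      rw [hw, (show Commute g v from hgv).mul_pow, pow_mul g, pow_orderOf_eq_one, one_pow,
        one_mul, ← pow_mod_orderOf, hm, pow_one]
    obtain ⟨k1, hk1⟩ := hwg
    obtain ⟨k2, hk2⟩ := hwv
    have hwN : w ∈ N := hw ▸ N.mul_mem hgN hv
    have hwC : w ∉ CN N := by
      intro hc; apply hgC; rw [← hk1]; exact (CN N).pow_mem hc k1
    have hle1 : cz w ≤ cz g := by
      intro m hm
      rw [← hk1]
      exact mem_cz.mpr ((show Commute m w from mem_cz.mp hm).pow_right k1).eq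
    have hle2 : cz w ≤ cz v := by
      intro m hm
      rw [← hk2]
      exact mem_cz.mpr ((show Commute m w from mem_cz.mp hm).pow_right k2).eq
    have e1 := rcz_eq_of_le h hwN hwC hgC hle1
    have e2 := rcz_eq_of_le h hwN hwC hvC hle2
    rw [e2, e1]
  by_cases hR : ∃ v₀ ∈ N, ¬ r ∣ orderOf v₀ ∧ v₀ ∉ CN N
  · obtain ⟨v₀, hv₀N, hv₀r, hv₀C⟩ := hR
    have hgn : (cz g).Normal := by
      rw [← hczv v₀ hv₀N hv₀r hv₀C]
      have hnorm : Subgroup.normalizer ((cz v₀ : Subgroup G) : Set G) = ⊤ := by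
        rw [eq_top_iff]
        intro t _
        rw [Subgroup.mem_normalizer_iff]
        intro m
        have hconj : t⁻¹ * v₀ * t ∈ N := by
          have := hNn.conj_mem v₀ hv₀N t⁻¹; rwa [inv_inv] at this
        have hord : orderOf (t⁻¹ * v₀ * t) = orderOf v₀ := by
          have := MulEquiv.orderOf_eq (MulAut.conj t⁻¹) v₀
          rwa [MulAut.conj_apply, inv_inv] at this
        have hC : t⁻¹ * v₀ * t ∉ CN N := by
          intro hc
          apply hv₀C
          have := (inferInstance : (CN N).Normal).conj_mem _ hc t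
          convert this using 1; group
        have e : cz (t⁻¹ * v₀ * t) = cz v₀ := by
          rw [hczv _ hconj (by rw [hord]; exact hv₀r) hC, hczv v₀ hv₀N hv₀r hv₀C]
        have h3 : t * m * t⁻¹ ∈ cz v₀ ↔ m ∈ cz v₀ := by rw [conj_mem_cz_iff, e]
        exact h3.symm
      exact Subgroup.normalizer_eq_top_iff.mp hnorm
    have hcent : ∀ n ∈ N, g * n * g⁻¹ * n⁻¹ ∈ Subgroup.center G := by
      intro n hn
      rw [Subgroup.mem_center_iff]
      intro t
      obtain ⟨n', hn', m, hm, rfl⟩ := rdecomp h hgN hgC t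
      have hmg : m * g = g * m := mem_cz.mp hm
      obtain ⟨d, hd⟩ : ∃ d, d = n⁻¹ * (m * n * m⁻¹) := ⟨_, rfl⟩
      have hdg : d ∈ cz g := by
        rw [hd]
        have e : n⁻¹ * (m * n * m⁻¹) = (n⁻¹ * m * n⁻¹⁻¹) * m⁻¹ := by group
        rw [e]
        exact (cz g).mul_mem (hgn.conj_mem m hm n⁻¹) ((cz g).inv_mem hm)
      have hdg' : d * g = g * d := mem_cz.mp hdg
      have hmc : m * (g * n * g⁻¹ * n⁻¹) * m⁻¹ = g * n * g⁻¹ * n⁻¹ := by
        have e1 : m * (g * n * g⁻¹ * n⁻¹) * m⁻¹ =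
            (m * g * m⁻¹) * (m * n * m⁻¹) * (m * g * m⁻¹)⁻¹ * (m * n * m⁻¹)⁻¹ := by group
        have e2 : m * g * m⁻¹ = g := by rw [hmg]; group
        have e3 : m * n * m⁻¹ = n * d := by rw [hd]; group
        have e4 : d * g⁻¹ * d⁻¹ = g⁻¹ := by
          have : d * g⁻¹ = g⁻¹ * d := ((show Commute d g from hdg').inv_right).eq
          rw [this]; group
        rw [e1, e2, e3]
        calc g * (n * d) * g⁻¹ * (n * d)⁻¹ = g * n * (d * g⁻¹ * d⁻¹) * n⁻¹ := by group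
          _ = g * n * g⁻¹ * n⁻¹ := by rw [e4]
      have hcC := hgZ2 n hn
      have hn'c : n' * (g * n * g⁻¹ * n⁻¹) = (g * n * g⁻¹ * n⁻¹) * n' := mem_CN.mp hcC n' hn'
      calc n' * m * (g * n * g⁻¹ * n⁻¹) = n' * (m * (g * n * g⁻¹ * n⁻¹) * m⁻¹) * m := by group
        _ = n' * (g * n * g⁻¹ * n⁻¹) * m := by rw [hmc]
        _ = (g * n * g⁻¹ * n⁻¹) * n' * m := by rw [hn'c]
        _ = g * n * g⁻¹ * n⁻¹ * (n' * m) := by group
    obtain ⟨A, hA⟩ : ∃ A : Subgroup G, A = N ⊓ Subgroup.centralizer (commutatorSet G) :=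
      ⟨_, rfl⟩
    obtain ⟨B, hB⟩ : ∃ B : Subgroup G, B = N ⊓ cz g := ⟨_, rfl⟩
    have hx₀A : x₀ ∉ A := by
      intro hmem
      rw [hA] at hmem
      apply hx₀n
      apply normal_of_commutators_mem
      intro a b
      have := Subgroup.mem_centralizer_iff.mp (Subgroup.mem_inf.mp hmem).2 ⁅a, b⁆ ⟨a, b, rfl⟩
      exact mem_cz.mpr this
    obtain ⟨n1, hn1N, hn1g⟩ := exists_not_comm hgC
    have hn1B : n1 ∉ B := by
      intro hmem; rw [hB] at hmem
      exact hn1g (mem_cz.mp (Subgroup.mem_inf.mp hmem).2)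
    obtain ⟨x', hx'N, hx'A, hx'B⟩ : ∃ x' ∈ N, x' ∉ A ∧ x' ∉ B := by
      by_cases h1 : x₀ ∈ B
      · by_cases h2 : n1 ∈ A
        · refine ⟨x₀ * n1, N.mul_mem hx₀ hn1N, ?_, ?_⟩
          · intro hmem; apply hx₀A
            have := A.mul_mem hmem (A.inv_mem h2)
            convert this using 1; group
          · intro hmem; apply hn1B
            have := B.mul_mem (B.inv_mem h1) hmem
            convert this using 1; group
        · exact ⟨n1, hn1N, h2, hn1B⟩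
      · exact ⟨x₀, hx₀, hx₀A, h1⟩
    have hx'g : ¬ (x' * g = g * x') := by
      intro hc; apply hx'B; rw [hB]; exact Subgroup.mem_inf.mpr ⟨hx'N, mem_cz.mpr hc⟩
    have hx'C : x' ∉ CN N := by
      intro hc; apply hx'g; exact (mem_CN.mp hc g hgN).symm
    have hx'n : ¬ (cz x').Normal := by
      intro hn
      apply hx'A
      rw [hA]
      refine Subgroup.mem_inf.mpr ⟨hx'N, ?_⟩
      rw [Subgroup.mem_centralizer_iff]
      rintro _ ⟨a, b, rfl⟩
      exact mem_cz.mp (commutator_mem_of_normal_coatom (h x' hx'N hx'C) a b)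
    have hself := normalizer_eq_of_not_normal (h x' hx'N hx'C) hx'n
    have hc := hcent x' hx'N
    have hgnorm : g ∈ Subgroup.normalizer ((cz x' : Subgroup G) : Set G) := by
      rw [Subgroup.mem_normalizer_iff]
      intro m
      have e : g⁻¹ * x' * g = (g * x' * g⁻¹ * x'⁻¹)⁻¹ * x' := by
        have hcg := Subgroup.mem_center_iff.mp hc g⁻¹
        calc g⁻¹ * x' * g = (g * x' * g⁻¹ * x'⁻¹)⁻¹ * ((g * x' * g⁻¹ * x'⁻¹) * g⁻¹) * x' * g := by
              group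
          _ = (g * x' * g⁻¹ * x'⁻¹)⁻¹ * (g⁻¹ * (g * x' * g⁻¹ * x'⁻¹)) * x' * g := by rw [hcg]
          _ = (g * x' * g⁻¹ * x'⁻¹)⁻¹ * x' := by group
      have h3 : g * m * g⁻¹ ∈ cz x' ↔ m ∈ cz x' := by
        rw [conj_mem_cz_iff, e, cz_central_mul ((Subgroup.center G).inv_mem hc)]
      exact h3.symm
    rw [hself] at hgnorm
    exact hx'g (mem_cz.mp hgnorm).symm
  · push Not at hR
    have : Fact r.Prime := ⟨hrp⟩
    have hP : IsPGroup r (↥N ⧸ Subgroup.center ↥N) := by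
      intro nb
      obtain ⟨n, rfl⟩ := QuotientGroup.mk_surjective nb
      obtain ⟨e, m, hm, hnm⟩ :=
        Nat.exists_eq_pow_mul_and_not_dvd (orderOf_pos (n : G)).ne' r hrp.ne_one
      refine ⟨e, ?_⟩
      rw [← QuotientGroup.mk_pow, QuotientGroup.eq_one_iff, Subgroup.mem_center_iff]
      intro k
      apply Subtype.ext
      have hord : orderOf ((n : G) ^ r ^ e) = m := by
        rw [orderOf_pow' _ (pow_ne_zero e hrp.ne_zero), hnm, Nat.gcd_mul_right_left,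
          Nat.mul_div_cancel_left m (pow_pos hrp.pos e)]
      have hC : (n : G) ^ r ^ e ∈ CN N :=
        hR _ (N.pow_mem n.2 _) (by rw [hord]; exact hm)
      have := mem_CN.mp hC k k.2
      simp only [Subgroup.coe_mul, Subgroup.coe_pow]
      exact this
    haveI : Group.IsNilpotent (↥N ⧸ Subgroup.center ↥N) := hP.isNilpotent
    haveI : Group.IsNilpotent ↥N :=
      Subgroup.isNilpotent_of_ker_le_center (QuotientGroup.mk' (Subgroup.center ↥N))
        (by rw [QuotientGroup.ker_mk'])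
    exact hx₀n (normal_of_nilpotent h x₀ hx₀ hx₀')

end Cfsg.Agent.Lib.Helper26.RelCent
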