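import Mathlib
import Cfsg.Agent.Lib.Helper26.RelCentC
import Cfsg.Agent.Lib.Helper13.FrobStruct
import Cfsg.Agent.S0034
import Cfsg.Agent.S1992

set_option autoImplicit false
set_option maxHeartbeats 1000000

/-!
Relative centralizer-maximal normal subgroups (helper26): the case `Z(N) = 1`; existence of a
nontrivial abelian normal subgroup of `G` inside `N`.
-/

namespace Cfsg.Agent.Lib.Helper26.RelCent

open scoped commutatorElement Pointwise
open Cfsg.Agent.Lib.Helper16.CentMax

variable {G : Type*} [Group G]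

theorem not_mem_CN_of_ne_one {N : Subgroup G} (hZ : N ⊓ CN N = ⊥) {t : G} (ht : t ∈ N)
    (ht1 : t ≠ 1) : t ∉ CN N := by
  intro hc
  have : t ∈ N ⊓ CN N := Subgroup.mem_inf.mpr ⟨ht, hc⟩
  rw [hZ, Subgroup.mem_bot] at this
  exact ht1 this

theorem order_dvd_of_comm {N : Subgroup G} [Finite G] (h : RHyp N) (hZ : N ⊓ CN N = ⊥)
    {u v : G} (hu : u ∈ N) (hv : v ∈ N) (hu1 : u ≠ 1) (hv1 : v ≠ 1) (hc : u * v = v * u)
    (hne : cz u ≠ cz v) : orderOf u ∣ orderOf v := by
  have hnC : ∀ t ∈ N, t ≠ 1 → t ∉ CN N := fun t ht ht1 => not_mem_CN_of_ne_one hZ ht ht1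
  rw [orderOf_dvd_iff_pow_eq_one]
  by_contra hne1
  have hw : (u * v) ^ orderOf v = u ^ orderOf v := by
    rw [(show Commute u v from hc).mul_pow, pow_orderOf_eq_one, mul_one]
  have hwN : u * v ∈ N := N.mul_mem hu hv
  have hw1 : u * v ≠ 1 := by
    intro h1; apply hne1; rw [← hw, h1, one_pow]
  have hupN : u ^ orderOf v ∈ N := N.pow_mem hu _
  have e1 : cz (u ^ orderOf v) = cz u := by
    apply rcz_eq_of_le h hu (hnC u hu hu1) (hnC _ hupN hne1)
    intro m hm
    exact mem_cz.mpr ((show Commute m u from mem_cz.mp hm).pow_right _).eq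
  have e2 : cz (u ^ orderOf v) = cz (u * v) := by
    apply rcz_eq_of_le h hwN (hnC _ hwN hw1) (hnC _ hupN hne1)
    intro m hm
    rw [← hw]
    exact mem_cz.mpr ((show Commute m (u * v) from mem_cz.mp hm).pow_right _).eq
  apply hne
  symm
  apply rcz_eq_of_le h hu (hnC u hu hu1) (hnC v hv hv1)
  intro m hm
  have hm2 : m ∈ cz (u * v) := by rw [← e2, e1]; exact hm
  exact mem_cz.mpr (comm_right_of_comm_mul (mem_cz.mp hm2) (mem_cz.mp hm))

theorem order_eq_of_comm {N : Subgroup G} [Finite G] (h : RHyp N) (hZ : N ⊓ CN N = ⊥)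
    {u v : G} (hu : u ∈ N) (hv : v ∈ N) (hu1 : u ≠ 1) (hv1 : v ≠ 1) (hc : u * v = v * u)
    (hne : cz u ≠ cz v) : orderOf u = orderOf v :=
  Nat.dvd_antisymm (order_dvd_of_comm h hZ hu hv hu1 hv1 hc hne)
    (order_dvd_of_comm h hZ hv hu hv1 hu1 hc.symm hne.symm)

/-- with `Z(N) = 1` and `N ≠ 1`, there is a nontrivial abelian normal subgroup of `G` in `N` -/
theorem exists_abelian_normal {N : Subgroup G} [hNn : N.Normal] [Finite G] (h : RHyp N)
    (hZ : N ⊓ CN N = ⊥) (hN1 : N ≠ ⊥) :
    ∃ X : Subgroup G, X.Normal ∧ X ≤ N ∧ X ≠ ⊥ ∧ ∀ a ∈ X, ∀ b ∈ X, a * b = b * a := by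
  have hnC : ∀ t ∈ N, t ≠ 1 → t ∉ CN N := fun t ht ht1 => not_mem_CN_of_ne_one hZ ht ht1
  by_cases hi : ∃ u ∈ N, u ≠ 1 ∧ (N ⊓ cz u).Normal
  · obtain ⟨u, hu, hu1, hDn⟩ := hi
    haveI := hDn
    refine ⟨(N ⊓ cz u) ⊓ Subgroup.centralizer ((N ⊓ cz u : Subgroup G) : Set G), inferInstance,
      inf_le_left.trans inf_le_left, ?_, ?_⟩
    · intro hbot
      have : u ∈ (N ⊓ cz u) ⊓ Subgroup.centralizer ((N ⊓ cz u : Subgroup G) : Set G) := by
        refine Subgroup.mem_inf.mpr ⟨Subgroup.mem_inf.mpr ⟨hu, self_mem_cz u⟩, ?_⟩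
        rw [Subgroup.mem_centralizer_iff]
        intro d hd
        exact mem_cz.mp (Subgroup.mem_inf.mp hd).2
      rw [hbot, Subgroup.mem_bot] at this
      exact hu1 this
    · intro a ha b hb
      have h1 := Subgroup.mem_centralizer_iff.mp (Subgroup.mem_inf.mp ha).2 b
        (Subgroup.mem_inf.mp hb).1
      exact h1.symm
  · push Not at hi
    have hnn : ∀ u ∈ N, u ≠ 1 → ¬ (cz u).Normal := by
      intro u hu hu1 hn
      haveI := hn
      exact hi u hu hu1 inferInstance
    have hnormD : ∀ u ∈ N, u ≠ 1 →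
        Subgroup.normalizer ((N ⊓ cz u : Subgroup G) : Set G) = cz u := by
      intro u hu hu1
      have hle : cz u ≤ Subgroup.normalizer ((N ⊓ cz u : Subgroup G) : Set G) := by
        have key : ∀ m ∈ cz u, ∀ d ∈ N ⊓ cz u, m * d * m⁻¹ ∈ N ⊓ cz u := by
          intro m hm d hd
          have hd' := Subgroup.mem_inf.mp hd
          exact Subgroup.mem_inf.mpr ⟨hNn.conj_mem d hd'.1 m,
            (cz u).mul_mem ((cz u).mul_mem hm hd'.2) ((cz u).inv_mem hm)⟩
        intro m hm
        rw [Subgroup.mem_normalizer_iff]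
        intro d
        constructor
        · intro hd; exact key m hm d hd
        · intro hd
          have := key m⁻¹ ((cz u).inv_mem hm) _ hd
          convert this using 1; group
      rcases (h u hu (hnC u hu hu1)).le_iff.mp hle with h1 | h1
      · exact absurd (Subgroup.normalizer_eq_top_iff.mp h1) (hi u hu hu1)
      · exact h1
    by_cases hα : ∃ u ∈ N, u ≠ 1 ∧ ∀ v ∈ N, v ∈ cz u → v ≠ 1 → cz v = cz u
    · obtain ⟨u, hu, hu1, hαu⟩ := hα
      have huC := hnC u hu hu1
      have hself := normalizer_eq_of_not_normal (h u hu huC) (hnn u hu hu1)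
      obtain ⟨Q, hQ⟩ : ∃ Q : Subgroup ↥N, Q = (cz u).subgroupOf N := ⟨_, rfl⟩
      have hQmem : ∀ w : ↥N, w ∈ Q ↔ (w : G) ∈ cz u := by
        intro w; rw [hQ]; exact Subgroup.mem_subgroupOf
      have hFC : Cfsg.IsFrobeniusComplement Q := by
        refine ⟨?_, ?_, ?_⟩
        · intro hbot
          have : (⟨u, hu⟩ : ↥N) ∈ Q := (hQmem _).mpr (self_mem_cz u)
          rw [hbot, Subgroup.mem_bot] at this
          exact hu1 (congrArg Subtype.val this)
        · intro htop
          obtain ⟨n, hn, hnu⟩ := exists_not_comm huC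
          have : (⟨n, hn⟩ : ↥N) ∈ Q := by rw [htop]; exact Subgroup.mem_top _
          exact hnu (mem_cz.mp ((hQmem _).mp this))
        · intro g hg
          rw [eq_bot_iff]
          intro w hw
          rw [Subgroup.mem_bot]
          by_contra hw1
          have hw1' : (w : G) ≠ 1 := fun h1 => hw1 (Subtype.ext h1)
          have hwQ := (hQmem w).mp (Subgroup.mem_inf.mp hw).1
          have hw2 := (Subgroup.mem_inf.mp hw).2
          rw [Cfsg.Agent.S0034.mem_conj_smul] at hw2
          have hw2' : (g : G)⁻¹ * (w : G) * (g : G) ∈ cz u := (hQmem _).mp hw2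
          have hc1 := hαu (w : G) w.2 hwQ hw1'
          have hconj1 : (g : G)⁻¹ * (w : G) * (g : G) ≠ 1 := by
            intro h1
            apply hw1'
            have : (w : G) = (g : G) * ((g : G)⁻¹ * (w : G) * (g : G)) * (g : G)⁻¹ := by group
            rw [this, h1]; group
          have hc2 := hαu _ (N.mul_mem (N.mul_mem (N.inv_mem g.2) w.2) g.2) hw2' hconj1
          have hgN : (g : G) ∈ Subgroup.normalizer ((cz u : Subgroup G) : Set G) := by
            rw [Subgroup.mem_normalizer_iff]
            intro m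
            have h3 : (g : G) * m * (g : G)⁻¹ ∈ cz u ↔ m ∈ cz u := by
              rw [← hc1, conj_mem_cz_iff, hc2, hc1]
            exact h3.symm
          rw [hself] at hgN
          exact hg ((hQmem g).mpr hgN)
      obtain ⟨K, hF⟩ := Cfsg.Agent.Lib.Helper13.exists_frobData Q hFC
      have hKn : K.Normal := hF.normal
      have hKbot : K ≠ ⊥ := by
        intro hbot
        have h1 := hF.isCompl
        rw [hbot] at h1
        exact hFC.2.1 (Subgroup.isComplement'_bot_left.mp h1)
      have hKtop : K ≠ ⊤ := by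
        intro htop
        have h1 := hF.isCompl
        rw [htop] at h1
        exact hFC.1 (Subgroup.isComplement'_top_left.mp h1)
      have PM : ∀ m ∈ cz u, ∀ k : ↥N, k ∈ K → ∀ hmem : m * (k : G) * m⁻¹ ∈ N,
          (⟨m * k * m⁻¹, hmem⟩ : ↥N) ∈ K := by
        intro m hm k hk hmem
        rw [hF.mem]
        rcases (hF.mem k).mp hk with h1 | h1
        · left
          apply Subtype.ext
          show m * (k : G) * m⁻¹ = 1
          rw [h1]; simp
        · right
          intro g hg
          rw [Cfsg.Agent.S0034.mem_conj_smul] at hg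
          have hg' : (g : G)⁻¹ * (m * (k : G) * m⁻¹) * (g : G) ∈ cz u := (hQmem _).mp hg
          have hg'N : m⁻¹ * (g : G) * m ∈ N := by
            have := hNn.conj_mem (g : G) g.2 m⁻¹
            rwa [inv_inv] at this
          apply h1 ⟨m⁻¹ * (g : G) * m, hg'N⟩
          rw [Cfsg.Agent.S0034.mem_conj_smul, hQmem]
          show (m⁻¹ * (g : G) * m)⁻¹ * (k : G) * (m⁻¹ * (g : G) * m) ∈ cz u
          have e : (m⁻¹ * (g : G) * m)⁻¹ * (k : G) * (m⁻¹ * (g : G) * m) =
              m⁻¹ * ((g : G)⁻¹ * (m * (k : G) * m⁻¹) * (g : G)) * m⁻¹⁻¹ := by group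
          rw [e]
          exact (cz u).mul_mem ((cz u).mul_mem ((cz u).inv_mem hm) hg')
            (by rw [inv_inv]; exact hm)
      obtain ⟨X, hX⟩ : ∃ X : Subgroup G, X = K.map N.subtype := ⟨_, rfl⟩
      have hXmem : ∀ x : G, x ∈ X ↔ ∃ hx : x ∈ N, (⟨x, hx⟩ : ↥N) ∈ K := by
        intro x
        rw [hX, Subgroup.mem_map]
        constructor
        · rintro ⟨k, hk, rfl⟩
          exact ⟨k.2, hk⟩
        · rintro ⟨hx, hk⟩
          exact ⟨⟨x, hx⟩, hk, rfl⟩
      have hXN : X ≤ N := fun x hx => ((hXmem x).mp hx).1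
      have hXn : X.Normal := by
        refine ⟨fun x hx g => ?_⟩
        obtain ⟨hxN, hxK⟩ := (hXmem x).mp hx
        obtain ⟨n, hn, m, hm, rfl⟩ := rdecomp h hu huC g
        have hmem1 : m * x * m⁻¹ ∈ N := hNn.conj_mem x hxN m
        have h1 := PM m hm ⟨x, hxN⟩ hxK hmem1
        have h2 := hKn.conj_mem _ h1 ⟨n, hn⟩
        rw [hXmem]
        have e : n * m * x * (n * m)⁻¹ = n * (m * x * m⁻¹) * n⁻¹ := by group
        have hmemE : n * m * x * (n * m)⁻¹ ∈ N := by rw [e]; exact hNn.conj_mem _ hmem1 n
        refine ⟨hmemE, ?_⟩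
        have e' : (⟨n * m * x * (n * m)⁻¹, hmemE⟩ : ↥N) =
            ⟨n, hn⟩ * ⟨m * x * m⁻¹, hmem1⟩ * (⟨n, hn⟩ : ↥N)⁻¹ := Subtype.ext e
        rw [e']; exact h2
      have hXbot : X ≠ ⊥ := by
        intro hbot
        apply hKbot
        rw [eq_bot_iff]
        intro k hk
        have : (k : G) ∈ X := (hXmem _).mpr ⟨k.2, hk⟩
        rw [hbot, Subgroup.mem_bot] at this
        exact Subgroup.mem_bot.mpr (Subtype.ext this)
      have hXcz : ∀ v ∈ X, v ≠ 1 → X ≤ cz v := by
        intro v hv hv1
        obtain ⟨hvN, hvK⟩ := (hXmem v).mp hv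
        by_contra hle
        have hsup : X ⊔ cz v = ⊤ := by
          apply (h v hvN (hnC v hvN hv1)).2
          apply lt_of_le_of_ne le_sup_right
          intro heq
          apply hle
          intro x hx
          exact heq.ge ((le_sup_left : X ≤ X ⊔ cz v) hx)
        apply hKtop
        rw [eq_top_iff]
        intro n _
        have hg : (n : G) ∈ ((X ⊔ cz v : Subgroup G) : Set G) := by
          rw [hsup]; exact Subgroup.mem_top _
        rw [Subgroup.normal_mul] at hg
        obtain ⟨k', hk', m, hm, hnm⟩ := Set.mem_mul.mp hg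
        obtain ⟨hk'N, hk'K⟩ := (hXmem k').mp hk'
        have hmN : m ∈ N := by
          have := N.mul_mem (N.inv_mem hk'N) n.2
          rw [← hnm] at this
          convert this using 1; group
        have hmK : (⟨m, hmN⟩ : ↥N) ∈ K := by
          apply frob_kernel_commute hF hvK (fun h1 => hv1 (congrArg Subtype.val h1))
          apply Subtype.ext
          exact mem_cz.mp hm
        have e : n = ⟨k', hk'N⟩ * ⟨m, hmN⟩ := Subtype.ext hnm.symm
        rw [e]
        exact K.mul_mem hk'K hmK
      refine ⟨X, hXn, hXN, hXbot, ?_⟩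
      intro a ha b hb
      by_cases hb1 : b = 1
      · rw [hb1]; simp
      · exact mem_cz.mp (hXcz b hb hb1 ha)
    · push Not at hα
      exfalso
      have hprime : ∀ u ∈ N, u ≠ 1 → (orderOf u).Prime ∧
          ∀ w ∈ N, w ∈ cz u → w ≠ 1 → orderOf w = orderOf u := by
        intro u hu hu1
        obtain ⟨v, hv, hvu, hv1, hvne⟩ := hα u hu hu1
        have huv : u * v = v * u := (mem_cz.mp hvu).symm
        have hpowj : ∀ j : ℕ, u ^ j ≠ 1 → orderOf (u ^ j) = orderOf v := by
          intro j hj
          have hujN : u ^ j ∈ N := N.pow_mem hu j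
          have e : cz (u ^ j) = cz u := by
            apply rcz_eq_of_le h hu (hnC u hu hu1) (hnC _ hujN hj)
            intro m hm
            exact mem_cz.mpr ((show Commute m u from mem_cz.mp hm).pow_right _).eq
          apply order_eq_of_comm h hZ hujN hv hj hv1
            ((show Commute u v from huv).pow_left j).eq
          rw [e]; exact hvne.symm
        have houv : orderOf u = orderOf v := by
          have := hpowj 1 (by rwa [pow_one]); rwa [pow_one] at this
        have ho1 : orderOf u ≠ 1 := fun h1 => hu1 (orderOf_eq_one_iff.mp h1)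
        have hp := Nat.minFac_prime ho1
        have hdvd := Nat.minFac_dvd (orderOf u)
        have hord : orderOf (u ^ (orderOf u / (orderOf u).minFac)) = (orderOf u).minFac :=
          orderOf_pow_orderOf_div (orderOf_pos u).ne' hdvd
        have hne1 : u ^ (orderOf u / (orderOf u).minFac) ≠ 1 := by
          intro h1
          rw [h1, orderOf_one] at hord
          exact hp.one_lt.ne hord
        have h2 := hpowj _ hne1
        have hup : orderOf u = (orderOf u).minFac := by
          calc orderOf u = orderOf v := houv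
            _ = orderOf (u ^ (orderOf u / (orderOf u).minFac)) := h2.symm
            _ = (orderOf u).minFac := hord
        refine ⟨by rw [hup]; exact hp, ?_⟩
        intro w hw hwu hw1
        have hwu' : w * u = u * w := mem_cz.mp hwu
        by_cases hcw : cz w = cz u
        · have hvw : v ∈ cz w := by rw [hcw]; exact hvu
          have hwv : w * v = v * w := (mem_cz.mp hvw).symm
          have := order_eq_of_comm h hZ hw hv hw1 hv1 hwv (by rw [hcw]; exact hvne.symm)
          rw [this, houv]
        · exact order_eq_of_comm h hZ hw hu hw1 hu1 hwu' hcw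
      have hSyl : ∀ p : ℕ, p.Prime → p ∣ Nat.card ↥N → ∀ P : Sylow p ↥N,
          Subgroup.normalizer ((P : Subgroup ↥N) : Set ↥N) = P := by
        intro p hp hpd P
        haveI : Fact p.Prime := ⟨hp⟩
        have hPbot := P.ne_bot_of_dvd_card hpd
        haveI : Nontrivial ↥(P : Subgroup ↥N) := (Subgroup.nontrivial_iff_ne_bot _).mpr hPbot
        haveI := IsPGroup.center_nontrivial P.2
        obtain ⟨⟨z, hz⟩, hz1⟩ := exists_ne (1 : ↥(Subgroup.center ↥(P : Subgroup ↥N)))
        have hz1' : z ≠ 1 := fun h1 => hz1 (Subtype.ext h1)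
        have hzG1 : ((z : ↥N) : G) ≠ 1 := by
          intro h1
          apply hz1'
          apply Subtype.ext; apply Subtype.ext; exact h1
        obtain ⟨zg, hzg⟩ : ∃ zg : G, zg = ((z : ↥N) : G) := ⟨_, rfl⟩
        have hzgN : zg ∈ N := hzg ▸ (z : ↥N).2
        have hzg1 : zg ≠ 1 := hzg ▸ hzG1
        obtain ⟨hzp, hzall⟩ := hprime zg hzgN hzg1
        have hop : orderOf zg = p := by
          obtain ⟨k, hk⟩ := (IsPGroup.iff_orderOf.mp P.2) z
          have h1 : orderOf zg = orderOf z := by
            rw [hzg, Subgroup.orderOf_coe, Subgroup.orderOf_coe]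
          have hzp' : (p ^ k).Prime := by rw [← hk, ← h1]; exact hzp
          have hk0 : k ≠ 0 := by
            intro h0; rw [h0, pow_zero] at hzp'; exact Nat.not_prime_one hzp'
          rcases (Nat.Prime.eq_one_or_self_of_dvd hzp' p (dvd_pow_self p hk0)) with h2 | h2
          · exact absurd h2 hp.one_lt.ne'
          · rw [h1, hk, ← h2]
        obtain ⟨D, hD⟩ : ∃ D : Subgroup ↥N, D = (cz zg).subgroupOf N := ⟨_, rfl⟩
        have hDmem : ∀ w : ↥N, w ∈ D ↔ (w : G) ∈ cz zg := by
          intro w; rw [hD]; exact Subgroup.mem_subgroupOf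
        have hPD : (P : Subgroup ↥N) ≤ D := by
          intro x hx
          rw [hDmem, mem_cz, hzg]
          have := Subgroup.mem_center_iff.mp hz ⟨x, hx⟩
          have h2 := congrArg (fun t : ↥(P : Subgroup ↥N) => ((t : ↥N) : G)) this
          exact h2
        have hDp : IsPGroup p ↥D := by
          intro w
          refine ⟨1, ?_⟩
          rw [pow_one]
          by_cases hw1 : w = 1
          · rw [hw1, one_pow]
          · have hwG1 : ((w : ↥N) : G) ≠ 1 := fun h1 =>
              hw1 (by apply Subtype.ext; apply Subtype.ext; exact h1)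
            have ho := hzall _ (w : ↥N).2 ((hDmem _).mp w.2) hwG1
            rw [hop] at ho
            apply Subtype.ext; apply Subtype.ext
            show ((w : ↥N) : G) ^ p = 1
            rw [← ho]; exact pow_orderOf_eq_one _
        have hDP : D = P := P.is_maximal' hDp hPD
        apply le_antisymm
        · intro n hn
          rw [Subgroup.mem_normalizer_iff] at hn
          have hnG : (n : G) ∈ Subgroup.normalizer ((N ⊓ cz zg : Subgroup G) : Set G) := by
            rw [Subgroup.mem_normalizer_iff]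
            intro d
            constructor
            · intro hd
              have hd' := Subgroup.mem_inf.mp hd
              have h1 : (⟨d, hd'.1⟩ : ↥N) ∈ (P : Subgroup ↥N) := by
                rw [← hDP, hDmem]; exact hd'.2
              have h2 := (hn ⟨d, hd'.1⟩).mp h1
              rw [← SetLike.mem_coe, SetLike.mem_coe, ← hDP, hDmem] at h2
              exact Subgroup.mem_inf.mpr ⟨hNn.conj_mem d hd'.1 n, h2⟩
            · intro hd
              have hd' := Subgroup.mem_inf.mp hd
              have hdN : d ∈ N := by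
                have := hNn.conj_mem _ hd'.1 (n : G)⁻¹
                convert this using 1; group
              have h1 : n * (⟨d, hdN⟩ : ↥N) * n⁻¹ ∈ (P : Subgroup ↥N) := by
                rw [← hDP, hDmem]; exact hd'.2
              have h2 := (hn ⟨d, hdN⟩).mpr h1
              rw [← SetLike.mem_coe, SetLike.mem_coe, ← hDP, hDmem] at h2
              exact Subgroup.mem_inf.mpr ⟨hdN, h2⟩
          rw [hnormD zg hzgN hzg1] at hnG
          show n ∈ (P : Subgroup ↥N)
          rw [← hDP, hDmem]; exact hnG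
        · exact Subgroup.le_normalizer
      obtain ⟨q, hq, hNq⟩ := Cfsg.Agent.S1992.result (G := ↥N) hSyl
      haveI : Fact q.Prime := ⟨hq⟩
      haveI : Nontrivial ↥N := (Subgroup.nontrivial_iff_ne_bot N).mpr hN1
      haveI := IsPGroup.center_nontrivial hNq
      obtain ⟨⟨z, hz⟩, hz1⟩ := exists_ne (1 : ↥(Subgroup.center ↥N))
      have hz1' : z ≠ 1 := fun h1 => hz1 (Subtype.ext h1)
      have hzC : (z : G) ∈ CN N := by
        rw [mem_CN]
        intro n hn
        have := Subgroup.mem_center_iff.mp hz ⟨n, hn⟩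
        exact congrArg Subtype.val this
      have : (z : G) ∈ N ⊓ CN N := Subgroup.mem_inf.mpr ⟨z.2, hzC⟩
      rw [hZ, Subgroup.mem_bot] at this
      exact hz1' (Subtype.ext this)

end Cfsg.Agent.Lib.Helper26.RelCent
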