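import Mathlib
import Cfsg.Agent.Lib.Helper26.RelCentD

set_option autoImplicit false
set_option maxHeartbeats 1000000

/-!
Relative centralizer-maximal normal subgroups (helper26): the case `Z(N) = 1`; `N` is a
Frobenius group with elementary abelian kernel and complement of prime order.
-/

namespace Cfsg.Agent.Lib.Helper26.RelCent

open scoped commutatorElement Pointwise
open Cfsg.Agent.Lib.Helper16.CentMax

variable {G : Type*} [Group G]

theorem frobenius_structure {N : Subgroup G} [hNn : N.Normal] [Finite G] (h : RHyp N)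
    (hZ : N ⊓ CN N = ⊥) (hN1 : N ≠ ⊥) :
    ∃ (Q K : Subgroup ↥N) (p : ℕ), p.Prime ∧ Cfsg.IsFrobeniusComplement Q ∧
      (Nat.card ↥Q).Prime ∧ K.Normal ∧ (K : Set ↥N) = Cfsg.frobeniusKernel Q ∧
      Cfsg.IsElementaryAbelian p K := by
  have hnC : ∀ t ∈ N, t ≠ 1 → t ∉ CN N := fun t ht ht1 => not_mem_CN_of_ne_one hZ ht ht1
  obtain ⟨X0, hX0n, hX0N, hX0bot, hX0ab⟩ := exists_abelian_normal h hZ hN1
  have hex : ∃ k : ℕ, ∃ X : Subgroup G, X.Normal ∧ X ≤ N ∧ X ≠ ⊥ ∧
      (∀ a ∈ X, ∀ b ∈ X, a * b = b * a) ∧ Nat.card X = k :=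
    ⟨_, X0, hX0n, hX0N, hX0bot, hX0ab, rfl⟩
  classical
  obtain ⟨X, hXn, hXN, hXbot, hXab, hXcard⟩ := Nat.find_spec hex
  have hmin : ∀ X₁ : Subgroup G, X₁.Normal → X₁ ≤ X → X₁ ≠ X → X₁ = ⊥ := by
    intro X₁ h1 h2 h3
    by_contra hb
    have hlt : Nat.card X₁ < Nat.card X := by
      by_contra hge
      push Not at hge
      exact h3 (Subgroup.eq_of_le_of_card_ge h2 hge)
    rw [hXcard] at hlt
    exact Nat.find_min hex hlt
      ⟨X₁, h1, h2.trans hXN, hb, fun a ha b hb' => hXab a (h2 ha) b (h2 hb'), rfl⟩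
  haveI := hXn
  have hXZ : ¬ X ≤ CN N := by
    intro hle
    apply hXbot
    rw [eq_bot_iff, ← hZ]
    exact le_inf hXN hle
  have hcm := comm_mem_of_abelian_normal h X hXN hXZ
  have hfree : ∀ w ∈ N, (∃ a ∈ X, a * w ≠ w * a) → ∀ c ∈ X, c * w = w * c → c = 1 := by
    intro w hw ⟨a, ha, haw⟩ c hc hcw
    have hwC : w ∉ CN N := fun hC => haw (mem_CN.mp hC a (hXN ha))
    have hsup : X ⊔ cz w = ⊤ := by
      apply (h w hw hwC).2
      apply lt_of_le_of_ne le_sup_right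
      intro heq
      exact haw (mem_cz.mp (heq.ge ((le_sup_left : X ≤ X ⊔ cz w) ha)))
    have hX1n : (X ⊓ cz w).Normal := by
      refine ⟨fun d hd g => ?_⟩
      have hd' := Subgroup.mem_inf.mp hd
      have hg : g ∈ ((X ⊔ cz w : Subgroup G) : Set G) := by
        rw [hsup]; exact Subgroup.mem_top g
      rw [Subgroup.normal_mul] at hg
      obtain ⟨b, hb, m, hm, rfl⟩ := Set.mem_mul.mp hg
      have h1 : m * d * m⁻¹ ∈ X := hXn.conj_mem d hd'.1 m
      have h2 : m * d * m⁻¹ ∈ cz w :=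
        (cz w).mul_mem ((cz w).mul_mem hm hd'.2) ((cz w).inv_mem hm)
      have e : b * m * d * (b * m)⁻¹ = m * d * m⁻¹ := by
        have hbc : b * (m * d * m⁻¹) = (m * d * m⁻¹) * b := hXab b hb _ h1
        calc b * m * d * (b * m)⁻¹ = b * (m * d * m⁻¹) * b⁻¹ := by group
          _ = (m * d * m⁻¹) * b * b⁻¹ := by rw [hbc]
          _ = m * d * m⁻¹ := by group
      rw [e]
      exact Subgroup.mem_inf.mpr ⟨h1, h2⟩
    have hne : X ⊓ cz w ≠ X := by
      intro heq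
      apply haw
      have : a ∈ X ⊓ cz w := by rw [heq]; exact ha
      exact mem_cz.mp (Subgroup.mem_inf.mp this).2
    have hb := hmin _ hX1n inf_le_left hne
    have : c ∈ X ⊓ cz w := Subgroup.mem_inf.mpr ⟨hc, mem_cz.mpr hcw⟩
    rw [hb, Subgroup.mem_bot] at this
    exact this
  obtain ⟨x, hx, a0, ha0, hax⟩ : ∃ x ∈ N, ∃ a ∈ X, a * x ≠ x * a := by
    by_contra hcon
    push Not at hcon
    apply hXZ
    intro a ha
    rw [mem_CN]
    intro n hn
    exact (hcon n hn a ha).symm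
  have hxC : x ∉ CN N := fun hC => hax (mem_CN.mp hC a0 (hXN ha0))
  have hx1 : x ≠ 1 := by
    intro h1; apply hax; rw [h1]; simp
  have hsupx : X ⊔ cz x = ⊤ := by
    apply (h x hx hxC).2
    apply lt_of_le_of_ne le_sup_right
    intro heq
    exact hax (mem_cz.mp (heq.ge ((le_sup_left : X ≤ X ⊔ cz x) ha0)))
  have hdec : ∀ n ∈ N, ∃ b ∈ X, ∃ d ∈ N ⊓ cz x, n = b * d := by
    intro n hn
    have hg : n ∈ ((X ⊔ cz x : Subgroup G) : Set G) := by
      rw [hsupx]; exact Subgroup.mem_top n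
    rw [Subgroup.normal_mul] at hg
    obtain ⟨b, hb, m, hm, rfl⟩ := Set.mem_mul.mp hg
    have hmN : m ∈ N := by
      have := N.mul_mem (N.inv_mem (hXN hb)) hn
      convert this using 1; group
    exact ⟨b, hb, m, Subgroup.mem_inf.mpr ⟨hmN, hm⟩, rfl⟩
  have hDab : ∀ d₁ ∈ N ⊓ cz x, ∀ d₂ ∈ N ⊓ cz x, d₁ * d₂ = d₂ * d₁ := by
    intro d₁ h1 d₂ h2
    have h1' := Subgroup.mem_inf.mp h1
    have h2' := Subgroup.mem_inf.mp h2
    have hc : d₁ * d₂ * d₁⁻¹ * d₂⁻¹ ∈ X := hcm d₁ d₂ h2'.1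
    have hcx : d₁ * d₂ * d₁⁻¹ * d₂⁻¹ ∈ cz x :=
      (cz x).mul_mem ((cz x).mul_mem ((cz x).mul_mem h1'.2 h2'.2) ((cz x).inv_mem h1'.2))
        ((cz x).inv_mem h2'.2)
    have := hfree x hx ⟨a0, ha0, hax⟩ _ hc (mem_cz.mp hcx)
    calc d₁ * d₂ = (d₁ * d₂ * d₁⁻¹ * d₂⁻¹) * (d₂ * d₁) := by group
      _ = d₂ * d₁ := by rw [this, one_mul]
  have hCX : ∀ e ∈ N, (∀ a ∈ X, a * e = e * a) → e ∈ X := by
    intro e he hea
    obtain ⟨b, hb, m, hm, rfl⟩ := hdec e he
    have hm' := Subgroup.mem_inf.mp hm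
    have hmX : ∀ a ∈ X, a * m = m * a := by
      intro a ha
      have h1 := hea a ha
      have h2 : a * b = b * a := hXab a ha b hb
      have : b * (a * m) = b * (m * a) := by
        calc b * (a * m) = a * b * m := by rw [← mul_assoc, ← h2]
          _ = a * (b * m) := mul_assoc _ _ _
          _ = b * m * a := h1
          _ = b * (m * a) := mul_assoc _ _ _
      exact mul_left_cancel this
    have hmC : m ∈ CN N := by
      rw [mem_CN]
      intro n hn
      obtain ⟨b', hb', d', hd', rfl⟩ := hdec n hn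
      have h1 := hmX b' hb'
      have h2 := hDab d' hd' m hm
      calc b' * d' * m = b' * (d' * m) := mul_assoc _ _ _
        _ = b' * (m * d') := by rw [h2]
        _ = (b' * m) * d' := (mul_assoc _ _ _).symm
        _ = (m * b') * d' := by rw [h1]
        _ = m * (b' * d') := mul_assoc _ _ _
    have : m ∈ N ⊓ CN N := Subgroup.mem_inf.mpr ⟨hm'.1, hmC⟩
    rw [hZ, Subgroup.mem_bot] at this
    rw [this, mul_one]; exact hb
  have hfree' : ∀ w ∈ N, w ∉ X → ∀ c ∈ X, c * w = w * c → c = 1 := by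
    intro w hw hwX
    apply hfree w hw
    by_contra hcon
    push Not at hcon
    exact hwX (hCX w hw hcon)
  have hxX : x ∉ X := fun hxX => hax (hXab a0 ha0 x hxX)
  have hDX : ∀ d ∈ N ⊓ cz x, d ∈ X → d = 1 := by
    intro d hd hdX
    exact hfree' x hx hxX d hdX (mem_cz.mp (Subgroup.mem_inf.mp hd).2)
  -- the prime p
  have hcard1 : Nat.card X ≠ 1 := fun h1 => hXbot (Subgroup.card_eq_one.mp h1)
  obtain ⟨p, hp⟩ : ∃ p, p = (Nat.card X).minFac := ⟨_, rfl⟩
  have hpp : p.Prime := hp ▸ Nat.minFac_prime hcard1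
  have hpd : p ∣ Nat.card X := hp ▸ Nat.minFac_dvd _
  haveI : Fact p.Prime := ⟨hpp⟩
  obtain ⟨t, ht⟩ := exists_prime_orderOf_dvd_card' p hpd
  obtain ⟨Xp, hXp⟩ : ∃ Xp : Subgroup G, ∀ a, a ∈ Xp ↔ (a ∈ X ∧ a ^ p = 1) :=
    ⟨{ carrier := {a | a ∈ X ∧ a ^ p = 1}
       one_mem' := ⟨X.one_mem, one_pow p⟩
       mul_mem' := by
         rintro a b ⟨ha, ha'⟩ ⟨hb, hb'⟩
         refine ⟨X.mul_mem ha hb, ?_⟩
         rw [(show Commute a b from hXab a ha b hb).mul_pow, ha', hb', one_mul]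
       inv_mem' := by
         rintro a ⟨ha, ha'⟩
         exact ⟨X.inv_mem ha, by rw [inv_pow, ha', inv_one]⟩ }, fun a => Iff.rfl⟩
  have hXpn : Xp.Normal := by
    refine ⟨fun a ha g => ?_⟩
    rw [hXp] at ha ⊢
    exact ⟨hXn.conj_mem a ha.1 g, by rw [conj_pow, ha.2]; group⟩
  have hXpX : Xp = X := by
    by_contra hne
    have hb := hmin Xp hXpn (fun a ha => ((hXp a).mp ha).1) hne
    have htp : t ^ p = 1 := by rw [← ht]; exact pow_orderOf_eq_one t
    have htp' : (t : G) ^ p = 1 := by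
      have := congrArg Subtype.val htp
      simpa using this
    have : (t : G) ∈ Xp := (hXp _).mpr ⟨t.2, htp'⟩
    rw [hb, Subgroup.mem_bot] at this
    have ht1 : t = 1 := Subtype.ext this
    rw [ht1, orderOf_one] at ht
    exact hpp.one_lt.ne ht
  have hXexp : ∀ a ∈ X, a ^ p = 1 := by
    intro a ha
    have : a ∈ Xp := by rw [hXpX]; exact ha
    exact ((hXp a).mp this).2
  -- the complement has prime order
  obtain ⟨y, hyX, hy1⟩ : ∃ y ∈ X, y ≠ 1 := by
    by_contra hcon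
    push Not at hcon
    exact hXbot ((Subgroup.eq_bot_iff_forall X).mpr hcon)
  have hyC : y ∉ CN N := hnC y (hXN hyX) hy1
  haveI hyn : (cz y).Normal := normal_of_mem_abelian_normal h X hXN hXab hXZ hyX hyC
  have hq := index_prime_of_normal_coatom (h y (hXN hyX) hyC)
  have hNy : ∀ w ∈ N, w ∈ cz y → w ∈ X := by
    intro w hw hwy
    by_contra hwX
    exact hy1 (hfree' w hw hwX y hyX (mem_cz.mp hwy).symm)
  obtain ⟨Q, hQ⟩ : ∃ Q : Subgroup ↥N, Q = (cz x).subgroupOf N := ⟨_, rfl⟩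
  have hQmem : ∀ w : ↥N, w ∈ Q ↔ (w : G) ∈ cz x := by
    intro w; rw [hQ]; exact Subgroup.mem_subgroupOf
  have hcardQ : Nat.card ↥Q = (cz y).index := by
    rw [Subgroup.index_eq_card]
    apply Nat.card_congr
    refine Equiv.ofBijective
      (fun d : ↥Q => (QuotientGroup.mk ((d : ↥N) : G) : G ⧸ cz y)) ⟨?_, ?_⟩
    · intro d₁ d₂ heq
      have h1 : ((d₁ : ↥N) : G)⁻¹ * ((d₂ : ↥N) : G) ∈ cz y := QuotientGroup.eq.mp heq
      have hd₁ : ((d₁ : ↥N) : G) ∈ N ⊓ cz x :=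
        Subgroup.mem_inf.mpr ⟨(d₁ : ↥N).2, (hQmem _).mp d₁.2⟩
      have hd₂ : ((d₂ : ↥N) : G) ∈ N ⊓ cz x :=
        Subgroup.mem_inf.mpr ⟨(d₂ : ↥N).2, (hQmem _).mp d₂.2⟩
      have h2 : ((d₁ : ↥N) : G)⁻¹ * ((d₂ : ↥N) : G) ∈ N ⊓ cz x :=
        (N ⊓ cz x).mul_mem ((N ⊓ cz x).inv_mem hd₁) hd₂
      have h3 := hDX _ h2 (hNy _ (Subgroup.mem_inf.mp h2).1 h1)
      apply Subtype.ext; apply Subtype.ext
      exact inv_mul_eq_one.mp h3
    · intro gb
      obtain ⟨g, rfl⟩ := QuotientGroup.mk_surjective gb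
      obtain ⟨n, hn, m', hm', rfl⟩ := rdecomp h (hXN hyX) hyC g
      obtain ⟨b, hb, d, hd, rfl⟩ := hdec n hn
      have hd' := Subgroup.mem_inf.mp hd
      refine ⟨⟨⟨d, hd'.1⟩, (hQmem _).mpr hd'.2⟩, ?_⟩
      apply QuotientGroup.eq.mpr
      show d⁻¹ * (b * d * m') ∈ cz y
      have hbX : d⁻¹ * b * d ∈ X := by
        have := hXn.conj_mem b hb d⁻¹
        rwa [inv_inv] at this
      have e : d⁻¹ * (b * d * m') = (d⁻¹ * b * d) * m' := by group
      rw [e]
      exact (cz y).mul_mem (mem_cz.mpr (hXab _ hbX y hyX)) hm'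
  have hFC : Cfsg.IsFrobeniusComplement Q := by
    refine ⟨?_, ?_, ?_⟩
    · intro hbot
      have : (⟨x, hx⟩ : ↥N) ∈ Q := (hQmem _).mpr (self_mem_cz x)
      rw [hbot, Subgroup.mem_bot] at this
      exact hx1 (congrArg Subtype.val this)
    · intro htop
      have : (⟨a0, hXN ha0⟩ : ↥N) ∈ Q := by rw [htop]; exact Subgroup.mem_top _
      exact hax (mem_cz.mp ((hQmem _).mp this))
    · intro g hg
      rw [eq_bot_iff]
      intro w hw
      rw [Subgroup.mem_bot]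
      by_contra hw1
      have hw1' : (w : G) ≠ 1 := fun h1 => hw1 (Subtype.ext h1)
      have hwQ : (w : G) ∈ cz x := (hQmem w).mp (Subgroup.mem_inf.mp hw).1
      have hw2 := (Subgroup.mem_inf.mp hw).2
      rw [Cfsg.Agent.S0034.mem_conj_smul] at hw2
      have hw2' : (g : G)⁻¹ * (w : G) * (g : G) ∈ cz x := (hQmem _).mp hw2
      obtain ⟨b, hb, m, hm, hgbm⟩ := hdec (g : G) g.2
      have hm' := Subgroup.mem_inf.mp hm
      have hb1 : b ≠ 1 := by
        intro h1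
        apply hg
        rw [hQmem, hgbm, h1, one_mul]; exact hm'.2
      have hw' : b⁻¹ * (w : G) * b ∈ cz x := by
        have e : b⁻¹ * (w : G) * b = m * ((g : G)⁻¹ * (w : G) * (g : G)) * m⁻¹ := by
          rw [hgbm]; group
        rw [e]
        exact (cz x).mul_mem ((cz x).mul_mem hm'.2 hw2') ((cz x).inv_mem hm'.2)
      have h1 : b⁻¹ * (w : G) * b * (w : G)⁻¹ ∈ X := by
        have := hXn.conj_mem b hb (w : G)
        have e : b⁻¹ * (w : G) * b * (w : G)⁻¹ = b⁻¹ * ((w : G) * b * (w : G)⁻¹) := by group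
        rw [e]; exact X.mul_mem (X.inv_mem hb) this
      have h2 : b⁻¹ * (w : G) * b * (w : G)⁻¹ ∈ N ⊓ cz x :=
        Subgroup.mem_inf.mpr ⟨hXN h1, (cz x).mul_mem hw' ((cz x).inv_mem hwQ)⟩
      have h3 := hDX _ h2 h1
      have hbw : b * (w : G) = (w : G) * b := by
        have : b⁻¹ * (w : G) * b = (w : G) := by
          calc b⁻¹ * (w : G) * b = (b⁻¹ * (w : G) * b * (w : G)⁻¹) * (w : G) := by group
            _ = (w : G) := by rw [h3, one_mul]
        calc b * (w : G) = b * (b⁻¹ * (w : G) * b) := by rw [this]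
          _ = (w : G) * b := by group
      have hwX : (w : G) ∉ X := fun hwX =>
        hw1' (hDX _ (Subgroup.mem_inf.mpr ⟨w.2, hwQ⟩) hwX)
      exact hb1 (hfree' (w : G) w.2 hwX b hb hbw)
  obtain ⟨K, hK⟩ : ∃ K : Subgroup ↥N, K = X.subgroupOf N := ⟨_, rfl⟩
  have hKmem : ∀ w : ↥N, w ∈ K ↔ (w : G) ∈ X := by
    intro w; rw [hK]; exact Subgroup.mem_subgroupOf
  have hKn : K.Normal := by rw [hK]; exact hXn.subgroupOf N
  obtain ⟨K', hF⟩ := Cfsg.Agent.Lib.Helper13.exists_frobData Q hFC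
  have hKK' : K ≤ K' := by
    intro a ha
    rw [hF.mem]
    by_cases ha1 : a = 1
    · left; exact ha1
    · right
      intro g hg
      rw [Cfsg.Agent.S0034.mem_conj_smul, hQmem] at hg
      have hg' : (g : G)⁻¹ * (a : G) * (g : G) ∈ cz x := hg
      have haX : (g : G)⁻¹ * (a : G) * (g : G) ∈ X := by
        have := hXn.conj_mem (a : G) ((hKmem a).mp ha) (g : G)⁻¹
        rwa [inv_inv] at this
      have h1 := hDX _ (Subgroup.mem_inf.mpr ⟨hXN haX, hg'⟩) haX
      apply ha1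
      apply Subtype.ext
      have : (a : G) = (g : G) * ((g : G)⁻¹ * (a : G) * (g : G)) * (g : G)⁻¹ := by group
      rw [this, h1]; simp
  have hcompl : Subgroup.IsComplement' K Q := by
    apply Subgroup.isComplement'_of_disjoint_and_mul_eq_univ
    · rw [Subgroup.disjoint_def]
      intro w hwK hwQ
      apply Subtype.ext
      exact hDX _ (Subgroup.mem_inf.mpr ⟨w.2, (hQmem w).mp hwQ⟩) ((hKmem w).mp hwK)
    · rw [Set.eq_univ_iff_forall]
      intro n
      obtain ⟨b, hb, d, hd, hn⟩ := hdec (n : G) n.2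
      have hd' := Subgroup.mem_inf.mp hd
      refine Set.mem_mul.mpr ⟨⟨b, hXN hb⟩, (hKmem _).mpr hb, ⟨d, hd'.1⟩,
        (hQmem _).mpr hd'.2, ?_⟩
      exact Subtype.ext hn.symm
  have hcardeq : Nat.card K = Nat.card K' := by
    have h1 := hcompl.card_mul_card
    have h2 := hF.isCompl.card_mul_card
    have hQpos : 0 < Nat.card Q := Nat.card_pos
    have : Nat.card K * Nat.card Q = Nat.card K' * Nat.card Q := by rw [h1, h2]
    exact Nat.eq_of_mul_eq_mul_right hQpos this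
  have hKeq : K = K' := Subgroup.eq_of_le_of_card_ge hKK' (le_of_eq hcardeq.symm)
  have hKset : (K : Set ↥N) = Cfsg.frobeniusKernel Q := by
    ext w
    rw [SetLike.mem_coe, hKeq, hF.mem]
    rfl
  have hKea : Cfsg.IsElementaryAbelian p K := by
    unfold Cfsg.IsElementaryAbelian
    refine ⟨?_, ?_⟩
    · rw [isMulCommutative_iff]
      intro a b
      apply Subtype.ext; apply Subtype.ext
      exact hXab _ ((hKmem a).mp a.2) _ ((hKmem b).mp b.2)
    · intro a ha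
      apply Subtype.ext
      have := hXexp _ ((hKmem a).mp ha)
      simpa using this
  exact ⟨Q, K, p, hpp, hFC, by rw [hcardQ]; exact hq, hKn, hKset, hKea⟩

end Cfsg.Agent.Lib.Helper26.RelCent
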