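import Mathlib
import Cfsg.Agent.Lib.Helper26.RelCentE

set_option autoImplicit false
set_option maxHeartbeats 1000000

/-!
Relative centralizer-maximal normal subgroups (helper26): reduction to the quotient by
`C_G(N)` and the main theorem.
-/

namespace Cfsg.Agent.Lib.Helper26.RelCent

open scoped commutatorElement Pointwise
open Cfsg.Agent.Lib.Helper16.CentMax

/-- transport of a Frobenius structure along a group isomorphism -/
theorem transport_frob {A B : Type*} [Group A] [Group B] (e : A ≃* B) (Qb Kb : Subgroup B)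
    (p : ℕ) (hFC : Cfsg.IsFrobeniusComplement Qb) (hcard : (Nat.card ↥Qb).Prime)
    (hKn : Kb.Normal) (hKset : (Kb : Set B) = Cfsg.frobeniusKernel Qb)
    (hea : Cfsg.IsElementaryAbelian p Kb) :
    Cfsg.IsFrobeniusComplement (Qb.comap e.toMonoidHom) ∧
    (Nat.card ↥(Qb.comap e.toMonoidHom)).Prime ∧ (Kb.comap e.toMonoidHom).Normal ∧
    ((Kb.comap e.toMonoidHom : Subgroup A) : Set A) =
      Cfsg.frobeniusKernel (Qb.comap e.toMonoidHom) ∧
    Cfsg.IsElementaryAbelian p (Kb.comap e.toMonoidHom) := by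
  have hQ' : ∀ a : A, a ∈ Qb.comap e.toMonoidHom ↔ e a ∈ Qb := fun a => Iff.rfl
  have hK' : ∀ a : A, a ∈ Kb.comap e.toMonoidHom ↔ e a ∈ Kb := fun a => Iff.rfl
  have hconj : ∀ g w : A, w ∈ MulAut.conj g • (Qb.comap e.toMonoidHom) ↔
      e w ∈ MulAut.conj (e g) • Qb := by
    intro g w
    rw [Cfsg.Agent.S0034.mem_conj_smul, Cfsg.Agent.S0034.mem_conj_smul, hQ', map_mul, map_mul,
      map_inv]
  refine ⟨⟨?_, ?_, ?_⟩, ?_, hKn.comap _, ?_, ?_⟩
  · intro hbot
    apply hFC.1
    rw [eq_bot_iff]
    intro b hb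
    have : e.symm b ∈ Qb.comap e.toMonoidHom := by rw [hQ', e.apply_symm_apply]; exact hb
    rw [hbot, Subgroup.mem_bot] at this
    rw [Subgroup.mem_bot, ← e.apply_symm_apply b, this, map_one]
  · intro htop
    apply hFC.2.1
    rw [eq_top_iff]
    intro b _
    have : e.symm b ∈ Qb.comap e.toMonoidHom := by rw [htop]; exact Subgroup.mem_top _
    rw [hQ', e.apply_symm_apply] at this
    exact this
  · intro g hg
    rw [eq_bot_iff]
    intro w hw
    have hw' := Subgroup.mem_inf.mp hw
    have h1 : e w ∈ Qb ⊓ MulAut.conj (e g) • Qb :=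
      Subgroup.mem_inf.mpr ⟨(hQ' w).mp hw'.1, (hconj g w).mp hw'.2⟩
    rw [hFC.2.2 (e g) (fun hc => hg ((hQ' g).mpr hc)), Subgroup.mem_bot] at h1
    rw [Subgroup.mem_bot]
    exact e.injective (by rw [h1, map_one])
  · have : Nat.card ↥(Qb.comap e.toMonoidHom) = Nat.card ↥Qb :=
      Nat.card_congr (Equiv.subtypeEquiv e.toEquiv (fun a => Iff.rfl))
    rw [this]; exact hcard
  · ext w
    rw [SetLike.mem_coe, hK', ← SetLike.mem_coe, hKset]
    constructor
    · rintro (h1 | h1)
      · left
        exact e.injective (by rw [h1, map_one])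
      · right
        intro g hg
        exact h1 (e g) ((hconj g w).mp hg)
    · rintro (h1 | h1)
      · left
        rw [h1, map_one]
      · right
        intro gb hgb
        apply h1 (e.symm gb)
        rw [hconj, e.apply_symm_apply]
        exact hgb
  · unfold Cfsg.IsElementaryAbelian at hea ⊢
    obtain ⟨hc, hpow⟩ := hea
    refine ⟨?_, ?_⟩
    · rw [isMulCommutative_iff] at hc ⊢
      intro a b
      apply Subtype.ext
      apply e.injective
      have := hc ⟨e a, a.2⟩ ⟨e b, b.2⟩
      have h2 : e (a : A) * e (b : A) = e (b : A) * e (a : A) := congrArg Subtype.val this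
      show e ((a : A) * (b : A)) = e ((b : A) * (a : A))
      rw [map_mul, map_mul]; exact h2
    · intro a ha
      apply e.injective
      rw [map_pow, map_one]
      exact hpow (e a) ha

variable {G : Type*} [Group G]

/-- the main theorem -/
theorem main_rel {N : Subgroup G} [hNn : N.Normal] [Finite G] (h : RHyp N) :
    (∃ p : ℕ, p.Prime ∧
      Cfsg.IsElementaryAbelian p (⊤ : Subgroup (↥N ⧸ Subgroup.center ↥N))) ∨
    (∃ (Q K : Subgroup (↥N ⧸ Subgroup.center ↥N)) (p : ℕ), p.Prime ∧
      Cfsg.IsFrobeniusComplement Q ∧ (Nat.card ↥Q).Prime ∧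
      K.Normal ∧ (K : Set (↥N ⧸ Subgroup.center ↥N)) = Cfsg.frobeniusKernel Q ∧
      Cfsg.IsElementaryAbelian p K) := by
  by_cases hall : ∀ x : G, x ∈ N → x ∉ CN N → (cz x).Normal
  · left; exact caseA_rel h hall
  · right
    push Not at hall
    obtain ⟨x₀, hx₀, hx₀', hx₀n⟩ := hall
    have hz2 := z2_le h hx₀ hx₀' hx₀n
    obtain ⟨π, hπ⟩ : ∃ π : G →* G ⧸ CN N, π = QuotientGroup.mk' (CN N) := ⟨_, rfl⟩
    have hπs : Function.Surjective π := hπ ▸ QuotientGroup.mk'_surjective (CN N)
    have hπ1 : ∀ g : G, π g = 1 ↔ g ∈ CN N := by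
      intro g; rw [hπ]; exact QuotientGroup.eq_one_iff g
    obtain ⟨Nb, hNb⟩ : ∃ Nb : Subgroup (G ⧸ CN N), Nb = N.map π := ⟨_, rfl⟩
    have hNbmem : ∀ xb, xb ∈ Nb ↔ ∃ x ∈ N, π x = xb := by
      intro xb; rw [hNb]; exact Subgroup.mem_map
    have hNbn : Nb.Normal := by rw [hNb]; exact hNn.map π hπs
    have hRb : RHyp Nb := by
      intro xb hxb hxbC
      obtain ⟨x, hx, rfl⟩ := (hNbmem xb).mp hxb
      have hxC : x ∉ CN N := by
        intro hc
        apply hxbC
        rw [(hπ1 x).mpr hc]
        exact Subgroup.one_mem _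
      have hco := h x hx hxC
      have hle : cz x ≤ (cz (π x)).comap π := by
        intro m hm
        rw [Subgroup.mem_comap, mem_cz, ← map_mul, ← map_mul, mem_cz.mp hm]
      rcases hco.le_iff.mp hle with h1 | h1
      · exfalso
        apply hxbC
        rw [Subgroup.mem_centralizer_iff]
        intro nb _
        obtain ⟨n, rfl⟩ := hπs nb
        have : n ∈ (cz (π x)).comap π := by rw [h1]; exact Subgroup.mem_top n
        exact mem_cz.mp (Subgroup.mem_comap.mp this)
      · have h1' : (cz (π x)).comap π = cz x := h1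
        refine ⟨?_, ?_⟩
        · intro htop
          apply hco.1
          have h2 : (cz (π x)).comap π = ⊤ := by
            show (Subgroup.centralizer {π x}).comap π = ⊤
            rw [htop, Subgroup.comap_top]
          exact h1'.symm.trans h2
        · intro S hS
          have hlt : cz x < S.comap π := by
            apply lt_of_le_of_ne
            · rw [← h1']; exact Subgroup.comap_mono hS.le
            · intro heq
              have h3 : (cz (π x)).comap π = S.comap π := h1'.trans heq
              exact hS.ne (Subgroup.comap_injective hπs h3)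
          have h4 := hco.2 _ hlt
          apply Subgroup.comap_injective hπs
          rw [h4, Subgroup.comap_top]
    have hZb : Nb ⊓ CN Nb = ⊥ := by
      rw [eq_bot_iff]
      intro xb hxb
      obtain ⟨hxb1, hxb2⟩ := Subgroup.mem_inf.mp hxb
      obtain ⟨x, hx, rfl⟩ := (hNbmem xb).mp hxb1
      rw [Subgroup.mem_bot, hπ1]
      apply hz2 x hx
      intro n hn
      rw [← hπ1, map_mul, map_mul, map_mul, map_inv, map_inv]
      have hc : π n * π x = π x * π n := mem_CN.mp hxb2 (π n) ((hNbmem _).mpr ⟨n, hn, rfl⟩)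
      calc π x * π n * (π x)⁻¹ * (π n)⁻¹ = (π x * π n) * (π x)⁻¹ * (π n)⁻¹ := by group
        _ = (π n * π x) * (π x)⁻¹ * (π n)⁻¹ := by rw [hc]
        _ = 1 := by group
    have hNb1 : Nb ≠ ⊥ := by
      intro hbot
      apply hx₀'
      rw [← hπ1]
      have : π x₀ ∈ Nb := (hNbmem _).mpr ⟨x₀, hx₀, rfl⟩
      rw [hbot, Subgroup.mem_bot] at this
      exact this
    obtain ⟨Qb, Kb, p, hp, hFC, hcard, hKn, hKset, hea⟩ := frobenius_structure hRb hZb hNb1
    -- the isomorphism
    obtain ⟨ψ, hψ⟩ : ∃ ψ : ↥N →* ↥(N.map π), ψ = π.subgroupMap N := ⟨_, rfl⟩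
    have hψs : Function.Surjective ψ := hψ ▸ π.subgroupMap_surjective N
    have hker : ψ.ker = Subgroup.center ↥N := by
      ext n
      rw [MonoidHom.mem_ker, Subgroup.mem_center_iff]
      have h1 : ψ n = 1 ↔ π (n : G) = 1 := by
        rw [hψ]
        constructor
        · intro h2
          exact congrArg Subtype.val h2
        · intro h2
          exact Subtype.ext h2
      rw [h1, hπ1, mem_CN]
      constructor
      · intro h2 g
        exact Subtype.ext (h2 g g.2)
      · intro h2 m hm
        exact congrArg Subtype.val (h2 ⟨m, hm⟩)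
    subst hNb
    obtain ⟨e, -⟩ : ∃ e : (↥N ⧸ Subgroup.center ↥N) ≃* ↥(N.map π), True :=
      ⟨(QuotientGroup.quotientMulEquivOfEq hker.symm).trans
        (QuotientGroup.quotientKerEquivOfSurjective ψ hψs), trivial⟩
    obtain ⟨t1, t2, t3, t4, t5⟩ := transport_frob e Qb Kb p hFC hcard hKn hKset hea
    exact ⟨_, _, p, hp, t1, t2, t3, t4, t5⟩

end Cfsg.Agent.Lib.Helper26.RelCent
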