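import Mathlib
import Cfsg.Prelude.Def_Characters
import Cfsg.Agent.Lib.Helper26.SL2OddCount
import Cfsg.Agent.Lib.Helper26.SL2Cliff
import Cfsg.Agent.Lib.Helper26.PSL2Odd
import Cfsg.Agent.Lib.Helper4.CharOrtho

/-!
# The characters of `SL₂(q)`, `q` odd, of degrees `(q ± 1) / 2` at the unipotent elements (helper26)

The orthogonality of the columns of the two classes of transvections and of their negatives
determines `|χ(u) - χ(u')|² = q` for the four characters of degree `(q ± 1) / 2`.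
-/

set_option autoImplicit false

namespace Cfsg.Agent.Lib.Helper26.PSR
open Cfsg Cfsg.Agent.Lib.Helper26 Cfsg.Agent.Lib.Helper12
open scoped ComplexConjugate

local notation "GLt" => Matrix.GeneralLinearGroup (Fin 2)
local notation "SLt" => Matrix.SpecialLinearGroup (Fin 2)

section general

/-- translation by a central involution multiplies an irreducible character by a sign -/
theorem center_mul_sign {G : Type*} [Group G] {χ : G → ℂ} (hχ : IsIrrCharacter G χ) (z : G)
    (hz : z ∈ Subgroup.center G) (hzz : z * z = 1) :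
    ∃ c : ℂ, (c = 1 ∨ c = -1) ∧ ∀ g : G, χ (z * g) = c * χ g := by
  obtain ⟨d, hd0, hd⟩ := irr_degree hχ
  obtain ⟨n, ρ, hirr, rfl⟩ := hχ
  obtain ⟨c, hc⟩ := Cfsg.Agent.Lib.Helper4.exists_scalar_of_mem_center ρ hirr z hz
  have hmul : ∀ g : G, ρ.character (z * g) = c * ρ.character g := by
    intro g
    show LinearMap.trace ℂ (Fin n → ℂ) (ρ (z * g)) = c * LinearMap.trace ℂ (Fin n → ℂ) (ρ g)
    rw [map_mul, hc]
    have h1 : (c • (LinearMap.id : (Fin n → ℂ) →ₗ[ℂ] (Fin n → ℂ))) * ρ g = c • ρ g := by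
      apply LinearMap.ext
      intro v
      simp only [Module.End.mul_apply, LinearMap.smul_apply, LinearMap.id_apply]
    rw [h1, map_smul, smul_eq_mul]
  refine ⟨c, ?_, hmul⟩
  have h3 := hmul z
  rw [hzz] at h3
  have h4 := hmul 1
  rw [mul_one] at h4
  have hd' : (d : ℂ) ≠ 0 := Nat.cast_ne_zero.2 (by omega)
  have h5 : (c - 1) * (c + 1) * (d : ℂ) = 0 := by
    rw [← hd]
    linear_combination (-1 : ℂ) * h3 - c * h4
  rcases mul_eq_zero.1 h5 with h6 | h6
  · rcases mul_eq_zero.1 h6 with h7 | h7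
    · exact Or.inl (sub_eq_zero.1 h7)
    · exact Or.inr (eq_neg_of_add_eq_zero_left h7)
  · exact absurd h6 hd'

theorem sum_four_elements {ι : Type*} [Fintype ι] [DecidableEq ι] (a b c d : ι) (hab : a ≠ b)
    (hac : a ≠ c) (had : a ≠ d) (hbc : b ≠ c) (hbd : b ≠ d) (hcd : c ≠ d) (f : ι → ℂ)
    (h : ∀ i, i ≠ a → i ≠ b → i ≠ c → i ≠ d → f i = 0) :
    ∑ i, f i = f a + f b + f c + f d := by
  have h1 : ∑ i ∈ ({a, b, c, d} : Finset ι), f i = ∑ i, f i := by
    apply Finset.sum_subset (Finset.subset_univ _)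
    intro i _ hi
    simp only [Finset.mem_insert, Finset.mem_singleton, not_or] at hi
    exact h i hi.1 hi.2.1 hi.2.2.1 hi.2.2.2
  have ha : a ∉ ({b, c, d} : Finset ι) := by
    simp only [Finset.mem_insert, Finset.mem_singleton, not_or]
    exact ⟨hab, hac, had⟩
  have hb : b ∉ ({c, d} : Finset ι) := by
    simp only [Finset.mem_insert, Finset.mem_singleton, not_or]
    exact ⟨hbc, hbd⟩
  have hc : c ∉ ({d} : Finset ι) := by
    simp only [Finset.mem_singleton]
    exact hcd
  rw [← h1, Finset.sum_insert ha, Finset.sum_insert hb, Finset.sum_insert hc,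
    Finset.sum_singleton]
  ring

end general

section field
variable {F : Type*} [Field F]

/-- the central element `-1` of `SL₂` -/
def zS : SLt F := SL2.mk (-1) 0 0 (-1) (by ring)

theorem zS_mem_center : (zS : SLt F) ∈ Subgroup.center (SLt F) := by
  rw [Subgroup.mem_center_iff]
  intro g
  apply SL2.ext4 <;> simp [SL2.mul_apply', zS]

theorem zS_mul_self : (zS : SLt F) * zS = 1 := by
  apply SL2.ext4 <;> simp [SL2.mul_apply', zS]

theorem toGL_zS : (Matrix.SpecialLinearGroup.toGL (zS : SLt F) : GLt F) = PS.zEl (-1) := by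
  apply GL2.ext4
  · show (-1 : F) = ((-1 : Fˣ) : F)
    simp
  · rfl
  · rfl
  · show (-1 : F) = ((-1 : Fˣ) : F)
    simp

theorem not_isConj_up_nonsquare {ε : F} (hε : ¬ IsSquare ε) :
    ¬ IsConj (SL2.up (1 : F)) (SL2.up ε) := by
  intro h
  obtain ⟨y, hy⟩ := isConj_iff.1 h
  have h1 : y * SL2.up 1 = SL2.up ε * y := by
    rw [← hy]
    group
  have e00 := congrArg (fun g : SLt F => g 0 0) h1
  have e01 := congrArg (fun g : SLt F => g 0 1) h1
  simp only [SL2.mul_apply', SL2.up, SL2.mk_00, SL2.mk_01, SL2.mk_10, SL2.mk_11] at e00 e01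
  have hε0 : ε ≠ 0 := by
    rintro rfl
    exact hε ⟨0, (mul_zero 0).symm⟩
  have hy10 : y 1 0 = 0 := by
    have h2 : ε * y 1 0 = 0 := by linear_combination (-1 : F) * e00
    exact (mul_eq_zero.1 h2).resolve_left hε0
  have h00 : y 0 0 = ε * y 1 1 := by linear_combination e01
  have hdet := SL2.det_eq y
  rw [h00, hy10, mul_zero, sub_zero] at hdet
  have hy11 : y 1 1 ≠ 0 := by
    intro h0
    rw [h0, mul_zero] at hdet
    exact zero_ne_one hdet
  apply hε
  refine ⟨(y 1 1)⁻¹, ?_⟩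
  have h3 : ε * (y 1 1 * y 1 1) = 1 := by linear_combination hdet
  calc ε = ε * (y 1 1 * y 1 1) * ((y 1 1)⁻¹ * (y 1 1)⁻¹) := by
        rw [mul_assoc, mul_mul_mul_comm, mul_inv_cancel₀ hy11, mul_one, mul_one]
    _ = (y 1 1)⁻¹ * (y 1 1)⁻¹ := by rw [h3, one_mul]

theorem not_isConj_up_zS (hchar : (2 : F) ≠ 0) (s t : F) :
    ¬ IsConj (SL2.up s) (zS * SL2.up t) := by
  intro h
  obtain ⟨y, hy⟩ := isConj_iff.1 h
  have h1 : y * SL2.up s = zS * SL2.up t * y := by
    rw [← hy]
    group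
  have e00 := congrArg (fun g : SLt F => g 0 0) h1
  have e10 := congrArg (fun g : SLt F => g 1 0) h1
  simp only [SL2.mul_apply', SL2.up, zS, SL2.mk_00, SL2.mk_01, SL2.mk_10, SL2.mk_11] at e00 e10
  have hy10 : y 1 0 = 0 := by
    have h2 : (2 : F) * y 1 0 = 0 := by linear_combination e10
    exact (mul_eq_zero.1 h2).resolve_left hchar
  have hy00 : y 0 0 = 0 := by
    rw [hy10] at e00
    have h2 : (2 : F) * y 0 0 = 0 := by linear_combination e00
    exact (mul_eq_zero.1 h2).resolve_left hchar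
  have hdet := SL2.det_eq y
  rw [hy00, hy10, zero_mul, mul_zero, sub_zero] at hdet
  exact zero_ne_one hdet

/-- `±1` -/
def sgB (F : Type*) [Field F] (b : Bool) : F := if b then -1 else 1

theorem sgB_false : sgB F false = 1 := rfl
theorem sgB_true : sgB F true = -1 := rfl

theorem sgB_mul_self (b : Bool) : sgB F b * sgB F b = 1 := by
  cases b
  · rw [sgB_false, mul_one]
  · rw [sgB_true, neg_mul_neg, mul_one]

/-- the elements of the centralizer of a transvection -/
def cEl (p : Bool × F) : SLt F :=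
  SL2.mk (sgB F p.1) (sgB F p.1 * p.2) 0 (sgB F p.1) (by
    rw [mul_zero, sub_zero]
    exact sgB_mul_self p.1)

theorem cEl_injective (hchar : (2 : F) ≠ 0) : Function.Injective (cEl (F := F)) := by
  rintro ⟨b, t⟩ ⟨b', t'⟩ h
  have h00 : sgB F b = sgB F b' := congrArg (fun g : SLt F => g 0 0) h
  have h01 : sgB F b * t = sgB F b' * t' := congrArg (fun g : SLt F => g 0 1) h
  have hne : (1 : F) ≠ -1 := by
    intro h'
    apply hchar
    linear_combination h'
  have hb : b = b' := by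
    cases b <;> cases b'
    · rfl
    · rw [sgB_false, sgB_true] at h00
      exact absurd h00 hne
    · rw [sgB_false, sgB_true] at h00
      exact absurd h00.symm hne
    · rfl
  subst hb
  have h0 : sgB F b ≠ 0 := by
    intro h'
    have h2 := sgB_mul_self (F := F) b
    rw [h', mul_zero] at h2
    exact zero_ne_one h2
  rw [mul_left_cancel₀ h0 h01]

theorem centralizer_up_eq_range :
    ((Subgroup.centralizer ({SL2.up (1 : F)} : Set (SLt F)) : Subgroup (SLt F)) : Set (SLt F)) =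
      Set.range (cEl (F := F)) := by
  ext x
  rw [SetLike.mem_coe, SL2.mem_centralizer_up one_ne_zero]
  constructor
  · rintro ⟨h10, h00⟩
    have hdet := SL2.det_eq x
    rw [h10, mul_zero, sub_zero, ← h00] at hdet
    have hp : (x 0 0 - 1) * (x 0 0 + 1) = 0 := by linear_combination hdet
    rcases mul_eq_zero.1 hp with h | h
    · have hp1 : x 0 0 = 1 := sub_eq_zero.1 h
      refine ⟨(false, x 0 1), ?_⟩
      apply SL2.ext4
      · show sgB F false = x 0 0
        rw [sgB_false, hp1]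
      · show sgB F false * x 0 1 = x 0 1
        rw [sgB_false, one_mul]
      · show (0 : F) = x 1 0
        rw [h10]
      · show sgB F false = x 1 1
        rw [sgB_false, ← h00, hp1]
    · have hp1 : x 0 0 = -1 := eq_neg_of_add_eq_zero_left h
      refine ⟨(true, -x 0 1), ?_⟩
      apply SL2.ext4
      · show sgB F true = x 0 0
        rw [sgB_true, hp1]
      · show sgB F true * -x 0 1 = x 0 1
        rw [sgB_true]
        ring
      · show (0 : F) = x 1 0
        rw [h10]
      · show sgB F true = x 1 1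
        rw [sgB_true, ← h00, hp1]
  · rintro ⟨p, rfl⟩
    exact ⟨rfl, rfl⟩

theorem card_centralizer_up [Fintype F] (hchar : (2 : F) ≠ 0) :
    Nat.card (Subgroup.centralizer ({SL2.up (1 : F)} : Set (SLt F))) = 2 * Fintype.card F := by
  have h1 : Nat.card (Subgroup.centralizer ({SL2.up (1 : F)} : Set (SLt F))) =
      Nat.card (Set.range (cEl (F := F))) :=
    Nat.card_congr (Equiv.setCongr (centralizer_up_eq_range (F := F)))
  rw [h1, Nat.card_range_of_injective (cEl_injective hchar), Nat.card_eq_fintype_card,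
    Fintype.card_prod, Fintype.card_bool]

theorem up_of_isSquare {χ : SLt F → ℂ} (hχ : IsClassFunction (SLt F) χ) {t : F} (ht : t ≠ 0)
    (hs : IsSquare t) (b : F) : χ (SL2.up (t * b)) = χ (SL2.up b) := by
  obtain ⟨s, hs⟩ := hs
  have hs0 : s ≠ 0 := by
    rintro rfl
    apply ht
    rw [hs, mul_zero]
  obtain ⟨c, hc⟩ := isConj_iff.1 (SL2.isConj_up_of_sq s hs0 b)
  rw [hs, ← pow_two, ← hc]
  exact hχ _ _

end field

section finite
variable {F : Type*} [Field F] [Fintype F] [DecidableEq F]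

attribute [local instance] Cfsg.Agent.Lib.Helper26.PS.instFintypeMulCharAux
attribute [local instance] Cfsg.Agent.Lib.Helper26.PS.instFintypeIrrAux
attribute [local instance] Cfsg.Agent.Lib.Helper26.PSR.instFintypeIrrSLAux

theorem two_ne_zero_of_odd (hodd : Odd (Fintype.card F)) : (2 : F) ≠ 0 :=
  Ring.two_ne_zero (char_ne_two hodd)

theorem up_of_not_isSquare {χ : SLt F → ℂ} (hχ : IsClassFunction (SLt F) χ) {t ε : F}
    (ht : ¬ IsSquare t) (hε : ¬ IsSquare ε) : χ (SL2.up t) = χ (SL2.up ε) := by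
  have hε0 : ε ≠ 0 := by
    rintro rfl
    exact hε ⟨0, (mul_zero 0).symm⟩
  have ht0 : t ≠ 0 := by
    rintro rfl
    exact ht ⟨0, (mul_zero 0).symm⟩
  have hsq : IsSquare (t * ε) := by
    rw [← quadraticChar_one_iff_isSquare (mul_ne_zero ht0 hε0), map_mul,
      quadraticChar_neg_one_iff_not_isSquare.2 ht, quadraticChar_neg_one_iff_not_isSquare.2 hε]
    norm_num
  obtain ⟨r, hr⟩ := hsq
  have hr0 : r ≠ 0 := by
    rintro rfl
    rw [mul_zero] at hr
    exact mul_ne_zero ht0 hε0 hr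
  have hT : (r * ε⁻¹) * (r * ε⁻¹) * ε = t := by
    calc (r * ε⁻¹) * (r * ε⁻¹) * ε = (r * r) * (ε⁻¹ * (ε⁻¹ * ε)) := by ring
      _ = t * ε * (ε⁻¹ * 1) := by rw [← hr, inv_mul_cancel₀ hε0]
      _ = t * (ε * ε⁻¹) := by ring
      _ = t := by rw [mul_inv_cancel₀ hε0, mul_one]
  rw [← hT]
  exact up_of_isSquare hχ (mul_ne_zero (mul_ne_zero hr0 (inv_ne_zero hε0))
    (mul_ne_zero hr0 (inv_ne_zero hε0))) ⟨r * ε⁻¹, rfl⟩ ε

/-- the sum over the upper unitriangular subgroup in terms of the two values -/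
theorem usum_half {χ : SLt F → ℂ} (hχ : IsClassFunction (SLt F) χ)
    (hodd : Odd (Fintype.card F)) {ε : F} (hε : ¬ IsSquare ε) :
    2 * ∑ t : F, χ (SL2.up t) =
      2 * χ 1 + ((Fintype.card F : ℂ) - 1) * (χ (SL2.up 1) + χ (SL2.up ε)) := by
  have hval : ∀ t : F, 2 * χ (SL2.up t) =
      (if t = 0 then 2 * χ 1 - (χ (SL2.up 1) + χ (SL2.up ε)) else 0) +
        (χ (SL2.up 1) + χ (SL2.up ε)) + sgnC F t * (χ (SL2.up 1) - χ (SL2.up ε)) := by
    intro t
    by_cases ht : t = 0
    · rw [if_pos ht, ht, SL2.up_zero, MulChar.map_zero]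
      ring
    · rw [if_neg ht]
      by_cases hs : IsSquare t
      · have h1 := up_of_isSquare hχ ht hs 1
        rw [mul_one] at h1
        rw [sgnC_of_isSquare ht hs, h1]
        ring
      · rw [sgnC_of_not_isSquare hs, up_of_not_isSquare hχ hs hε]
        ring
  have h1 : ∑ t : F, (if t = 0 then 2 * χ 1 - (χ (SL2.up 1) + χ (SL2.up ε)) else 0) =
      2 * χ 1 - (χ (SL2.up 1) + χ (SL2.up ε)) := by
    simp
  have h2 : ∑ t : F, sgnC F t * (χ (SL2.up 1) - χ (SL2.up ε)) = 0 := by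
    rw [← Finset.sum_mul, MulChar.sum_eq_zero_of_ne_one (sgnC_ne_one hodd), zero_mul]
  rw [Finset.mul_sum, Finset.sum_congr rfl (fun t _ => hval t), Finset.sum_add_distrib,
    Finset.sum_add_distrib, h1, h2, Finset.sum_const, Finset.card_univ, nsmul_eq_mul]
  ring

/-- every irreducible character of `SL₂(q)` is a restriction or half of a restriction -/
theorem above_cases (hodd : Odd (Fintype.card F)) {χ : SLt F → ℂ}
    (hχ : IsIrrCharacter (SLt F) χ) :
    ∃ Θ : GLt F → ℂ, IsIrrCharacter (GLt F) Θ ∧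
      ((¬ isII Θ ∧ Θ ∘ (Matrix.SpecialLinearGroup.toGL : SLt F →* GLt F) = χ) ∨
       (isII Θ ∧ ∃ χ' : SLt F → ℂ, IsIrrCharacter (SLt F) χ' ∧ χ' ≠ χ ∧
          Θ ∘ (Matrix.SpecialLinearGroup.toGL : SLt F →* GLt F) = χ + χ' ∧ χ' 1 = χ 1)) := by
  obtain ⟨Θ, hΘ, hne⟩ := CH.exists_above (Matrix.SpecialLinearGroup.toGL : SLt F →* GLt F)
    Matrix.SpecialLinearGroup.toGL_injective hχ
  refine ⟨Θ, hΘ, ?_⟩
  by_cases hII : isII Θ
  · right
    refine ⟨hII, ?_⟩
    obtain ⟨χ₁, χ₂, h₁, h₂, hne12, hsum, hdeg⟩ := res_split_of_isII hodd hΘ hII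
    rw [hsum, classInner_add_left] at hne
    by_cases e1 : χ₁ = χ
    · refine ⟨χ₂, h₂, ?_, ?_, ?_⟩
      · rw [← e1]
        exact hne12.symm
      · rw [hsum, e1]
      · rw [← hdeg, e1]
    · by_cases e2 : χ₂ = χ
      · refine ⟨χ₁, h₁, e1, ?_, ?_⟩
        · rw [hsum, e2, add_comm]
        · rw [hdeg, e2]
      · exfalso
        apply hne
        rw [classInner_irr h₁ hχ, classInner_irr h₂ hχ, if_neg e1, if_neg e2, add_zero]
  · left
    exact ⟨hII, eq_of_classInner_ne_zero (res_irr_of_not_isII hodd hΘ hII) hχ hne⟩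

/-- an irreducible character whose degree is not `(q ± 1) / 2` is a restriction -/
theorem typeI_of_degree (hodd : Odd (Fintype.card F)) {χ : SLt F → ℂ}
    (hχ : IsIrrCharacter (SLt F) χ)
    (h1 : χ 1 ≠ (((Fintype.card F + 1) / 2 : ℕ) : ℂ))
    (h2 : χ 1 ≠ (((Fintype.card F - 1) / 2 : ℕ) : ℂ)) :
    ∃ Θ : GLt F → ℂ, IsIrrCharacter (GLt F) Θ ∧
      Θ ∘ (Matrix.SpecialLinearGroup.toGL : SLt F →* GLt F) = χ := by
  obtain ⟨Θ, hΘ, h | ⟨hII, χ', hχ', -, hsum, hdeg⟩⟩ := above_cases hodd hχ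
  · exact ⟨Θ, hΘ, h.2⟩
  · exfalso
    obtain ⟨n, hn, hn1⟩ := irr_degree hχ
    have hΘ1 : Θ 1 = ((2 * n : ℕ) : ℂ) := by
      have h3 := congrFun hsum 1
      simp only [Function.comp_apply, map_one, Pi.add_apply] at h3
      rw [h3, hdeg, hn1]
      push_cast
      ring
    obtain ⟨k, hk⟩ := hodd
    rcases isII_degree' ⟨k, hk⟩ hΘ hII with h3 | h3
    · apply h1
      rw [hΘ1] at h3
      have h4 : ((2 * n : ℕ) : ℂ) = ((Fintype.card F + 1 : ℕ) : ℂ) := by
        rw [h3]
        push_cast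
        ring
      have h5 : 2 * n = Fintype.card F + 1 := by exact_mod_cast h4
      have h6 : n = (Fintype.card F + 1) / 2 := by omega
      rw [hn1, h6]
    · apply h2
      rw [hΘ1] at h3
      have h4 : ((2 * n + 1 : ℕ) : ℂ) = (Fintype.card F : ℂ) := by
        push_cast
        push_cast at h3
        rw [h3]
        ring
      have h5 : 2 * n + 1 = Fintype.card F := by exact_mod_cast h4
      have h6 : n = (Fintype.card F - 1) / 2 := by omega
      rw [hn1, h6]

end finite

end Cfsg.Agent.Lib.Helper26.PSR
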