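import Mathlib
import Cfsg.Prelude.Def_Characters
import Cfsg.Agent.Lib.Helper26.SL2Half

/-!
# The values at the transvections of the characters of `SL₂(q)` of degrees `(q ± 1) / 2` (helper26)
-/

set_option autoImplicit false

namespace Cfsg.Agent.Lib.Helper26.PSR
open Cfsg Cfsg.Agent.Lib.Helper26 Cfsg.Agent.Lib.Helper12
open scoped ComplexConjugate

local notation "GLt" => Matrix.GeneralLinearGroup (Fin 2)
local notation "SLt" => Matrix.SpecialLinearGroup (Fin 2)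

section finite
variable {F : Type*} [Field F] [Fintype F] [DecidableEq F]

attribute [local instance] Cfsg.Agent.Lib.Helper26.PS.instFintypeMulCharAux
attribute [local instance] Cfsg.Agent.Lib.Helper26.PS.instFintypeIrrAux
attribute [local instance] Cfsg.Agent.Lib.Helper26.PSR.instFintypeIrrSLAux

/-- the two characters of degree `(q + 1) / 2` (resp. `(q - 1) / 2`) -/
theorem pair_data (hodd : Odd (Fintype.card F)) (hq : 5 ≤ Fintype.card F) {ε : F}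
    (hε : ¬ IsSquare ε) (e : ℕ) (v : ℂ)
    (he : (e = (Fintype.card F + 1) / 2 ∧ v = 1) ∨ (e = (Fintype.card F - 1) / 2 ∧ v = -1)) :
    ∃ χ₁ χ₂ : SLt F → ℂ, IsIrrCharacter (SLt F) χ₁ ∧ IsIrrCharacter (SLt F) χ₂ ∧ χ₁ ≠ χ₂ ∧
      χ₁ 1 = (e : ℂ) ∧ χ₂ 1 = (e : ℂ) ∧
      (∀ χ : SLt F → ℂ, IsIrrCharacter (SLt F) χ → χ 1 = (e : ℂ) → χ = χ₁ ∨ χ = χ₂) ∧
      χ₁ (SL2.up 1) + χ₁ (SL2.up ε) = v ∧ χ₂ (SL2.up 1) = χ₁ (SL2.up ε) ∧
      χ₂ (SL2.up ε) = χ₁ (SL2.up 1) ∧ χ₁ (SL2.up 1) + χ₂ (SL2.up 1) = v ∧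
      ∃ c : ℂ, (c = 1 ∨ c = -1) ∧
        ∀ g : SLt F, χ₁ (zS * g) = c * χ₁ g ∧ χ₂ (zS * g) = c * χ₂ g := by
  obtain ⟨-, -, -, -, c5, c6⟩ := sl_odd_counts hodd hq
  obtain ⟨k, hk⟩ := id hodd
  have hε0 : ε ≠ 0 := by
    rintro rfl
    exact hε ⟨0, (mul_zero 0).symm⟩
  have hcard : Nat.card {χ : IrrCharacter (SLt F) // (χ : SLt F → ℂ) 1 = (e : ℂ)} = 2 := by
    rcases he with ⟨he1, -⟩ | ⟨he1, -⟩
    · rw [he1]
      exact c5
    · rw [he1]
      exact c6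
  have he2 : 2 ≤ e := by
    rcases he with ⟨he1, -⟩ | ⟨he1, -⟩ <;> omega
  have he0 : (e : ℂ) ≠ 0 := Nat.cast_ne_zero.2 (by omega)
  have hq1 : (Fintype.card F : ℂ) - 1 ≠ 0 := by
    have h : ((Fintype.card F : ℕ) : ℂ) ≠ ((1 : ℕ) : ℂ) :=
      (Nat.cast_injective (R := ℂ)).ne (by omega)
    rw [Nat.cast_one] at h
    exact sub_ne_zero.2 h
  -- the sum of the two values
  have hv : ∀ χ : SLt F → ℂ, IsIrrCharacter (SLt F) χ → χ 1 = (e : ℂ) →
      χ (SL2.up 1) + χ (SL2.up ε) = v := by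
    intro χ hχ hd
    have hu := usum_half (isClassFunction_of_isIrrCharacter hχ) hodd hε
    obtain ⟨-, -, -, u4, u5⟩ := sl_usum hodd hq hχ
    rcases he with ⟨he1, hv1⟩ | ⟨he1, hv1⟩
    · rw [he1] at hd
      rw [u4 hd, hd] at hu
      have h2e : (2 : ℂ) * (((Fintype.card F + 1) / 2 : ℕ) : ℂ) = (Fintype.card F : ℂ) + 1 := by
        have h : 2 * ((Fintype.card F + 1) / 2) = Fintype.card F + 1 := by omega
        exact_mod_cast h
      rw [hv1]
      apply mul_left_cancel₀ hq1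
      linear_combination (-1 : ℂ) * hu - h2e
    · rw [he1] at hd
      rw [u5 hd, hd] at hu
      have h2e : (2 : ℂ) * (((Fintype.card F - 1) / 2 : ℕ) : ℂ) + 1 = (Fintype.card F : ℂ) := by
        have h : 2 * ((Fintype.card F - 1) / 2) + 1 = Fintype.card F := by omega
        exact_mod_cast h
      rw [hv1]
      apply mul_left_cancel₀ hq1
      linear_combination (-1 : ℂ) * hu - h2e
  -- existence
  obtain ⟨⟨χ₀, hd₀⟩⟩ := (Nat.card_pos_iff.1 (by omega : 0 < Nat.card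
    {χ : IrrCharacter (SLt F) // (χ : SLt F → ℂ) 1 = (e : ℂ)})).1
  obtain ⟨Θ, hΘ, ⟨-, hres⟩ | ⟨hII, χ', hχ', hne', hsum, hdeg⟩⟩ := above_cases hodd χ₀.2
  · exfalso
    have h1 : Θ 1 = (e : ℂ) := by
      rw [← hd₀, ← hres]
      show Θ 1 = Θ ((Matrix.SpecialLinearGroup.toGL : SLt F →* GLt F) 1)
      rw [map_one]
    rcases PS.gl2_degrees hΘ with h3 | h3 | h3 | h3
    · rw [h1] at h3
      have h4 : e = 1 := by exact_mod_cast h3
      omega
    · rw [h1] at h3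
      have h4 : ((e + 1 : ℕ) : ℂ) = (Fintype.card F : ℂ) := by
        push_cast
        rw [h3]
        ring
      have h5 : e + 1 = Fintype.card F := by exact_mod_cast h4
      rcases he with ⟨he1, -⟩ | ⟨he1, -⟩ <;> omega
    · rw [h1] at h3
      have h4 : e = Fintype.card F := by exact_mod_cast h3
      rcases he with ⟨he1, -⟩ | ⟨he1, -⟩ <;> omega
    · rw [h1] at h3
      have h4 : e = Fintype.card F + 1 := by exact_mod_cast h3
      rcases he with ⟨he1, -⟩ | ⟨he1, -⟩ <;> omega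
  · have hd' : χ' 1 = (e : ℂ) := by rw [hdeg, hd₀]
    have hall : ∀ χ : SLt F → ℂ, IsIrrCharacter (SLt F) χ → χ 1 = (e : ℂ) →
        χ = (χ₀ : SLt F → ℂ) ∨ χ = χ' := by
      intro χ hχ hd
      obtain ⟨y, -, huniq⟩ := (Nat.card_eq_two_iff' (⟨χ₀, hd₀⟩ :
        {χ : IrrCharacter (SLt F) // (χ : SLt F → ℂ) 1 = (e : ℂ)})).1 hcard
      by_cases h0 : χ = (χ₀ : SLt F → ℂ)
      · exact Or.inl h0
      · right
        have h1 : (⟨⟨χ, hχ⟩, hd⟩ : {χ : IrrCharacter (SLt F) // (χ : SLt F → ℂ) 1 = (e : ℂ)}) = y :=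
          huniq _ (fun h => h0 (congrArg (fun z => ((z.1 : IrrCharacter (SLt F)) : SLt F → ℂ)) h))
        have h2 : (⟨⟨χ', hχ'⟩, hd'⟩ :
            {χ : IrrCharacter (SLt F) // (χ : SLt F → ℂ) 1 = (e : ℂ)}) = y :=
          huniq _ (fun h => hne' (congrArg (fun z => ((z.1 : IrrCharacter (SLt F)) : SLt F → ℂ)) h))
        exact congrArg (fun z => ((z.1 : IrrCharacter (SLt F)) : SLt F → ℂ)) (h1.trans h2.symm)
    have hcl := isClassFunction_of_isIrrCharacter hΘ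
    have hA : (χ₀ : SLt F → ℂ) (SL2.up 1) + χ' (SL2.up 1) = Θ (GL2.um 1) := by
      have h := congrFun hsum (SL2.up 1)
      simp only [Function.comp_apply, Pi.add_apply, toGL_up] at h
      exact h.symm
    have hB : (χ₀ : SLt F → ℂ) (SL2.up ε) + χ' (SL2.up ε) = Θ (GL2.um 1) := by
      have h := congrFun hsum (SL2.up ε)
      simp only [Function.comp_apply, Pi.add_apply, toGL_up] at h
      rw [← PS.class_um hcl ε hε0]
      exact h.symm
    have E2 := hv χ₀ χ₀.2 hd₀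
    have E3 := hv χ' hχ' hd'
    have hb : χ' (SL2.up 1) = (χ₀ : SLt F → ℂ) (SL2.up ε) := by
      linear_combination (1 / 2 : ℂ) * hA - (1 / 2 : ℂ) * hB - (1 / 2 : ℂ) * E2 + (1 / 2 : ℂ) * E3
    have hb' : χ' (SL2.up ε) = (χ₀ : SLt F → ℂ) (SL2.up 1) := by
      linear_combination E3 - E2 - hb
    -- central signs
    obtain ⟨c₁, hc₁, hm₁⟩ := center_mul_sign χ₀.2 zS zS_mem_center zS_mul_self
    obtain ⟨c₂, hc₂, hm₂⟩ := center_mul_sign hχ' zS zS_mem_center zS_mul_self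
    have hΘ1 : Θ 1 = 2 * (e : ℂ) := by
      have h := congrFun hsum 1
      simp only [Function.comp_apply, Pi.add_apply, map_one] at h
      rw [h, hd', hd₀]
      ring
    have hΘz : Θ (PS.zEl (-1)) = (c₁ + c₂) * (e : ℂ) := by
      have h := congrFun hsum zS
      simp only [Function.comp_apply, Pi.add_apply] at h
      rw [toGL_zS] at h
      have h1 := hm₁ 1
      have h2 := hm₂ 1
      rw [mul_one] at h1 h2
      rw [h, h1, h2, hd', hd₀]
      ring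
    have hkey : (c₁ + c₂) * (e : ℂ) = 2 * (e : ℂ) ∨ (c₁ + c₂) * (e : ℂ) = -(2 * (e : ℂ)) := by
      rcases center_sign hΘ (PS.zEl (-1)) (PS.zEl_mem_center _) zz_mul with h | h
      · left
        rw [← hΘz, h, hΘ1]
      · right
        rw [← hΘz, h, hΘ1]
    have hcc : c₁ = c₂ := by
      rcases hc₁ with rfl | rfl <;> rcases hc₂ with rfl | rfl
      · rfl
      · exfalso
        apply he0
        rcases hkey with h | h
        · linear_combination (-1 / 2 : ℂ) * h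
        · linear_combination (1 / 2 : ℂ) * h
      · exfalso
        apply he0
        rcases hkey with h | h
        · linear_combination (-1 / 2 : ℂ) * h
        · linear_combination (1 / 2 : ℂ) * h
      · rfl
    refine ⟨χ₀, χ', χ₀.2, hχ', hne'.symm, hd₀, hd', hall, E2, hb, hb', ?_, c₁, hc₁, ?_⟩
    · rw [hb]
      exact E2
    · intro g
      refine ⟨hm₁ g, ?_⟩
      rw [hcc]
      exact hm₂ g

/-- the orthogonality relations of the columns of the transvections -/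
theorem ortho_sums (hodd : Odd (Fintype.card F)) {ε : F} (hε : ¬ IsSquare ε) :
    ∑ x : IrrCharacter (SLt F), (x : SLt F → ℂ) (SL2.up 1) *
      conj ((x : SLt F → ℂ) (SL2.up 1) - (x : SLt F → ℂ) (SL2.up ε)) =
        2 * (Fintype.card F : ℂ) ∧
    ∑ x : IrrCharacter (SLt F), (x : SLt F → ℂ) (SL2.up 1) *
      conj ((x : SLt F → ℂ) (zS * SL2.up 1) - (x : SLt F → ℂ) (zS * SL2.up ε)) = 0 := by
  have h2 := two_ne_zero_of_odd hodd
  constructor
  · simp only [map_sub, mul_sub, Finset.sum_sub_distrib]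
    rw [Cfsg.Agent.Lib.Helper4.column_orthogonality, Cfsg.Agent.Lib.Helper4.column_orthogonality,
      if_pos (IsConj.refl _), if_neg (not_isConj_up_nonsquare hε), sub_zero,
      card_centralizer_up h2, Nat.cast_mul, Nat.cast_ofNat]
  · simp only [map_sub, mul_sub, Finset.sum_sub_distrib]
    rw [Cfsg.Agent.Lib.Helper4.column_orthogonality, Cfsg.Agent.Lib.Helper4.column_orthogonality,
      if_neg (not_isConj_up_zS h2 1 1), if_neg (not_isConj_up_zS h2 1 ε), sub_zero]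

/-- `|χ(u) - χ(u')|² = q` for the characters of degree `(q ± 1) / 2` -/
theorem half_norm (hodd : Odd (Fintype.card F)) (hq : 5 ≤ Fintype.card F) {ε : F}
    (hε : ¬ IsSquare ε) {χ : SLt F → ℂ} (hχ : IsIrrCharacter (SLt F) χ)
    (hdeg : χ 1 = (((Fintype.card F + 1) / 2 : ℕ) : ℂ) ∨
      χ 1 = (((Fintype.card F - 1) / 2 : ℕ) : ℂ)) :
    (χ (SL2.up 1) - χ (SL2.up ε)) * conj (χ (SL2.up 1) - χ (SL2.up ε)) =
      (Fintype.card F : ℂ) := by
  classical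
  obtain ⟨χ₁, χ₂, h₁, h₂, hne12, hd₁, hd₂, hall12, -, hb12, hb12', -, c, hc, hcm⟩ :=
    pair_data hodd hq hε ((Fintype.card F + 1) / 2) 1 (Or.inl ⟨rfl, rfl⟩)
  obtain ⟨χ₃, χ₄, h₃, h₄, hne34, hd₃, hd₄, hall34, -, hb34, hb34', -, c', hc', hcm'⟩ :=
    pair_data hodd hq hε ((Fintype.card F - 1) / 2) (-1) (Or.inr ⟨rfl, rfl⟩)
  obtain ⟨S1, S2⟩ := ortho_sums hodd hε
  have hε0 : ε ≠ 0 := by
    rintro rfl
    exact hε ⟨0, (mul_zero 0).symm⟩
  have hdne : (((Fintype.card F + 1) / 2 : ℕ) : ℂ) ≠ (((Fintype.card F - 1) / 2 : ℕ) : ℂ) := by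
    intro h
    have h' : (Fintype.card F + 1) / 2 = (Fintype.card F - 1) / 2 := by exact_mod_cast h
    obtain ⟨k, hk⟩ := hodd
    omega
  have n12 : (⟨χ₁, h₁⟩ : IrrCharacter (SLt F)) ≠ ⟨χ₂, h₂⟩ :=
    fun h => hne12 (congrArg Subtype.val h)
  have n34 : (⟨χ₃, h₃⟩ : IrrCharacter (SLt F)) ≠ ⟨χ₄, h₄⟩ :=
    fun h => hne34 (congrArg Subtype.val h)
  have n13 : (⟨χ₁, h₁⟩ : IrrCharacter (SLt F)) ≠ ⟨χ₃, h₃⟩ := by
    intro h
    have e : χ₁ = χ₃ := congrArg Subtype.val h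
    apply hdne
    rw [← hd₁, ← hd₃, e]
  have n14 : (⟨χ₁, h₁⟩ : IrrCharacter (SLt F)) ≠ ⟨χ₄, h₄⟩ := by
    intro h
    have e : χ₁ = χ₄ := congrArg Subtype.val h
    apply hdne
    rw [← hd₁, ← hd₄, e]
  have n23 : (⟨χ₂, h₂⟩ : IrrCharacter (SLt F)) ≠ ⟨χ₃, h₃⟩ := by
    intro h
    have e : χ₂ = χ₃ := congrArg Subtype.val h
    apply hdne
    rw [← hd₂, ← hd₃, e]
  have n24 : (⟨χ₂, h₂⟩ : IrrCharacter (SLt F)) ≠ ⟨χ₄, h₄⟩ := by
    intro h
    have e : χ₂ = χ₄ := congrArg Subtype.val h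
    apply hdne
    rw [← hd₂, ← hd₄, e]
  -- the other characters are restrictions
  have hother : ∀ x : IrrCharacter (SLt F), x ≠ ⟨χ₁, h₁⟩ → x ≠ ⟨χ₂, h₂⟩ → x ≠ ⟨χ₃, h₃⟩ →
      x ≠ ⟨χ₄, h₄⟩ →
      (x : SLt F → ℂ) (SL2.up ε) = (x : SLt F → ℂ) (SL2.up 1) ∧
      (x : SLt F → ℂ) (zS * SL2.up ε) = (x : SLt F → ℂ) (zS * SL2.up 1) := by
    intro x x1 x2 x3 x4
    have hx1 : (x : SLt F → ℂ) 1 ≠ (((Fintype.card F + 1) / 2 : ℕ) : ℂ) := by
      intro h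
      rcases hall12 x x.2 h with h' | h'
      · exact x1 (Subtype.ext h')
      · exact x2 (Subtype.ext h')
    have hx2 : (x : SLt F → ℂ) 1 ≠ (((Fintype.card F - 1) / 2 : ℕ) : ℂ) := by
      intro h
      rcases hall34 x x.2 h with h' | h'
      · exact x3 (Subtype.ext h')
      · exact x4 (Subtype.ext h')
    obtain ⟨Θ, hΘ, hres⟩ := typeI_of_degree hodd x.2 hx1 hx2
    have e1 : (x : SLt F → ℂ) (SL2.up ε) = (x : SLt F → ℂ) (SL2.up 1) := by
      rw [← hres]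
      show Θ ((Matrix.SpecialLinearGroup.toGL : SLt F →* GLt F) (SL2.up ε)) =
        Θ ((Matrix.SpecialLinearGroup.toGL : SLt F →* GLt F) (SL2.up 1))
      rw [toGL_up, toGL_up, PS.class_um (isClassFunction_of_isIrrCharacter hΘ) ε hε0]
    refine ⟨e1, ?_⟩
    obtain ⟨cx, -, hcx⟩ := center_mul_sign x.2 zS zS_mem_center zS_mul_self
    rw [hcx, hcx, e1]
  have S1' := sum_four_elements (⟨χ₁, h₁⟩ : IrrCharacter (SLt F)) ⟨χ₂, h₂⟩ ⟨χ₃, h₃⟩ ⟨χ₄, h₄⟩
    n12 n13 n14 n23 n24 n34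
    (fun x : IrrCharacter (SLt F) => (x : SLt F → ℂ) (SL2.up 1) *
      conj ((x : SLt F → ℂ) (SL2.up 1) - (x : SLt F → ℂ) (SL2.up ε)))
    (by
      intro x a1 a2 a3 a4
      show (x : SLt F → ℂ) (SL2.up 1) *
        conj ((x : SLt F → ℂ) (SL2.up 1) - (x : SLt F → ℂ) (SL2.up ε)) = 0
      rw [(hother x a1 a2 a3 a4).1, sub_self, map_zero, mul_zero])
  have S2' := sum_four_elements (⟨χ₁, h₁⟩ : IrrCharacter (SLt F)) ⟨χ₂, h₂⟩ ⟨χ₃, h₃⟩ ⟨χ₄, h₄⟩
    n12 n13 n14 n23 n24 n34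
    (fun x : IrrCharacter (SLt F) => (x : SLt F → ℂ) (SL2.up 1) *
      conj ((x : SLt F → ℂ) (zS * SL2.up 1) - (x : SLt F → ℂ) (zS * SL2.up ε)))
    (by
      intro x a1 a2 a3 a4
      show (x : SLt F → ℂ) (SL2.up 1) *
        conj ((x : SLt F → ℂ) (zS * SL2.up 1) - (x : SLt F → ℂ) (zS * SL2.up ε)) = 0
      rw [(hother x a1 a2 a3 a4).2, sub_self, map_zero, mul_zero])
  rw [S1] at S1'
  rw [S2] at S2'
  dsimp only at S1' S2'
  have hcc : conj c = c := by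
    rcases hc with rfl | rfl
    · exact map_one _
    · rw [map_neg, map_one]
  have hcc' : conj c' = c' := by
    rcases hc' with rfl | rfl
    · exact map_one _
    · rw [map_neg, map_one]
  rw [hb12, hb12', hb34, hb34'] at S1'
  rw [(hcm _).1, (hcm _).1, (hcm _).2, (hcm _).2, (hcm' _).1, (hcm' _).1, (hcm' _).2,
    (hcm' _).2, hb12, hb12', hb34, hb34'] at S2'
  simp only [map_sub, map_mul, hcc, hcc'] at S1' S2'
  have e1 : (χ₁ (SL2.up 1) - χ₁ (SL2.up ε)) * conj (χ₁ (SL2.up 1) - χ₁ (SL2.up ε)) +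
      (χ₃ (SL2.up 1) - χ₃ (SL2.up ε)) * conj (χ₃ (SL2.up 1) - χ₃ (SL2.up ε)) =
      2 * (Fintype.card F : ℂ) := by
    rw [map_sub, map_sub]
    linear_combination (-1 : ℂ) * S1'
  have e2 : c * ((χ₁ (SL2.up 1) - χ₁ (SL2.up ε)) * conj (χ₁ (SL2.up 1) - χ₁ (SL2.up ε))) +
      c' * ((χ₃ (SL2.up 1) - χ₃ (SL2.up ε)) * conj (χ₃ (SL2.up 1) - χ₃ (SL2.up ε))) = 0 := by
    rw [map_sub, map_sub]
    linear_combination (-1 : ℂ) * S2'
  have hq0 : (Fintype.card F : ℂ) ≠ 0 := Nat.cast_ne_zero.2 (by omega)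
  have hXY : (χ₁ (SL2.up 1) - χ₁ (SL2.up ε)) * conj (χ₁ (SL2.up 1) - χ₁ (SL2.up ε)) =
      (Fintype.card F : ℂ) ∧
      (χ₃ (SL2.up 1) - χ₃ (SL2.up ε)) * conj (χ₃ (SL2.up 1) - χ₃ (SL2.up ε)) =
      (Fintype.card F : ℂ) := by
    rcases hc with rfl | rfl <;> rcases hc' with rfl | rfl
    · exfalso
      apply hq0
      linear_combination (1 / 2 : ℂ) * e2 - (1 / 2 : ℂ) * e1
    · constructor
      · linear_combination (1 / 2 : ℂ) * e1 + (1 / 2 : ℂ) * e2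
      · linear_combination (1 / 2 : ℂ) * e1 - (1 / 2 : ℂ) * e2
    · constructor
      · linear_combination (1 / 2 : ℂ) * e1 - (1 / 2 : ℂ) * e2
      · linear_combination (1 / 2 : ℂ) * e1 + (1 / 2 : ℂ) * e2
    · exfalso
      apply hq0
      linear_combination (-1 / 2 : ℂ) * e2 - (1 / 2 : ℂ) * e1
  rcases hdeg with hd | hd
  · rcases hall12 χ hχ hd with h | h
    · rw [h]
      exact hXY.1
    · rw [h, hb12, hb12', map_sub]
      have h3 := hXY.1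
      rw [map_sub] at h3
      linear_combination h3
  · rcases hall34 χ hχ hd with h | h
    · rw [h]
      exact hXY.2
    · rw [h, hb34, hb34', map_sub]
      have h3 := hXY.2
      rw [map_sub] at h3
      linear_combination h3

theorem half_sum (hodd : Odd (Fintype.card F)) (hq : 5 ≤ Fintype.card F) {ε : F}
    (hε : ¬ IsSquare ε) (e : ℕ) (v : ℂ)
    (he : (e = (Fintype.card F + 1) / 2 ∧ v = 1) ∨ (e = (Fintype.card F - 1) / 2 ∧ v = -1))
    {χ : SLt F → ℂ} (hχ : IsIrrCharacter (SLt F) χ) (hd : χ 1 = (e : ℂ)) :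
    χ (SL2.up 1) + χ (SL2.up ε) = v := by
  obtain ⟨χ₁, χ₂, -, -, -, -, -, hall, hs, hb, hb', -, -⟩ := pair_data hodd hq hε e v he
  rcases hall χ hχ hd with h | h
  · rw [h]
    exact hs
  · rw [h, hb, hb', add_comm]
    exact hs

theorem half_sq (hodd : Odd (Fintype.card F)) (hq : 5 ≤ Fintype.card F) {χ : SLt F → ℂ}
    (hχ : IsIrrCharacter (SLt F) χ) (e : ℕ) (v : ℂ)
    (he : (e = (Fintype.card F + 1) / 2 ∧ v = 1) ∨ (e = (Fintype.card F - 1) / 2 ∧ v = -1))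
    (hd : χ 1 = (e : ℂ)) :
    (2 * χ (SL2.up 1) - v) ^ 2 =
      (-1 : ℂ) ^ ((Fintype.card F - 1) / 2) * (Fintype.card F : ℂ) := by
  have hdeg : χ 1 = (((Fintype.card F + 1) / 2 : ℕ) : ℂ) ∨
      χ 1 = (((Fintype.card F - 1) / 2 : ℕ) : ℂ) := by
    rcases he with ⟨he1, -⟩ | ⟨he1, -⟩
    · left
      rw [hd, he1]
    · right
      rw [hd, he1]
  have hchar := isCharacter_of_isIrrCharacter hχ
  have hcl := isClassFunction_of_isIrrCharacter hχ
  have hinv : ∀ t : F, (SL2.up t)⁻¹ = SL2.up (-1 * t) := by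
    intro t
    apply inv_eq_of_mul_eq_one_right
    rw [← SL2.up_add, neg_one_mul, add_neg_cancel, SL2.up_zero]
  have hconj : ∀ t : F, conj (χ (SL2.up t)) = χ (SL2.up (-1 * t)) := by
    intro t
    rw [isCharacter_conj_eq_inv hchar, hinv]
  obtain ⟨k, hk⟩ := id hodd
  by_cases hsq : IsSquare (-1 : F)
  · obtain ⟨ε, hε⟩ := FiniteField.exists_nonsquare (char_ne_two hodd)
    have hs := half_sum hodd hq hε e v he hχ hd
    have hn := half_norm hodd hq hε hχ hdeg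
    have hm1 : (-1 : F) ≠ 0 := neg_ne_zero.2 one_ne_zero
    have c1 : conj (χ (SL2.up 1)) = χ (SL2.up 1) := by
      rw [hconj, up_of_isSquare hcl hm1 hsq]
    have c2 : conj (χ (SL2.up ε)) = χ (SL2.up ε) := by
      rw [hconj, up_of_isSquare hcl hm1 hsq]
    rw [map_sub, c1, c2] at hn
    have hpow : (-1 : ℂ) ^ ((Fintype.card F - 1) / 2) = 1 := by
      apply Even.neg_one_pow
      have h4 := FiniteField.isSquare_neg_one_iff.1 hsq
      rw [Nat.even_iff]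
      omega
    rw [hpow, one_mul]
    have hv' : v = χ (SL2.up 1) + χ (SL2.up ε) := hs.symm
    rw [hv']
    linear_combination hn
  · have hs := half_sum hodd hq hsq e v he hχ hd
    have hn := half_norm hodd hq hsq hχ hdeg
    have c1 : conj (χ (SL2.up 1)) = χ (SL2.up (-1)) := by
      rw [hconj, mul_one]
    have c2 : conj (χ (SL2.up (-1))) = χ (SL2.up 1) := by
      rw [hconj, neg_one_mul, neg_neg]
    rw [map_sub, c1, c2] at hn
    have hpow : (-1 : ℂ) ^ ((Fintype.card F - 1) / 2) = -1 := by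
      apply Odd.neg_one_pow
      have h4 : Fintype.card F % 4 = 3 := by
        by_contra h
        exact hsq (FiniteField.isSquare_neg_one_iff.2 h)
      rw [Nat.odd_iff]
      omega
    rw [hpow]
    have hv' : v = χ (SL2.up 1) + χ (SL2.up (-1)) := hs.symm
    rw [hv']
    linear_combination (-1 : ℂ) * hn

/-- the values at a transvection of the characters of degree `(q ± 1) / 2` -/
theorem half_values (hodd : Odd (Fintype.card F)) (hq : 5 ≤ Fintype.card F) :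
    (∀ χ : SLt F → ℂ, IsIrrCharacter (SLt F) χ →
      χ 1 = (((Fintype.card F + 1) / 2 : ℕ) : ℂ) → (2 * χ (SL2.up 1) - 1) ^ 2 =
        (-1 : ℂ) ^ ((Fintype.card F - 1) / 2) * (Fintype.card F : ℂ)) ∧
    (∀ χ : SLt F → ℂ, IsIrrCharacter (SLt F) χ →
      χ 1 = (((Fintype.card F - 1) / 2 : ℕ) : ℂ) → (2 * χ (SL2.up 1) + 1) ^ 2 =
        (-1 : ℂ) ^ ((Fintype.card F - 1) / 2) * (Fintype.card F : ℂ)) ∧
    (∀ χ₁ χ₂ : SLt F → ℂ, IsIrrCharacter (SLt F) χ₁ → IsIrrCharacter (SLt F) χ₂ → χ₁ ≠ χ₂ →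
      χ₁ 1 = (((Fintype.card F + 1) / 2 : ℕ) : ℂ) →
      χ₂ 1 = (((Fintype.card F + 1) / 2 : ℕ) : ℂ) → χ₁ (SL2.up 1) + χ₂ (SL2.up 1) = 1) ∧
    (∀ χ₁ χ₂ : SLt F → ℂ, IsIrrCharacter (SLt F) χ₁ → IsIrrCharacter (SLt F) χ₂ → χ₁ ≠ χ₂ →
      χ₁ 1 = (((Fintype.card F - 1) / 2 : ℕ) : ℂ) →
      χ₂ 1 = (((Fintype.card F - 1) / 2 : ℕ) : ℂ) → χ₁ (SL2.up 1) + χ₂ (SL2.up 1) = -1) := by
  obtain ⟨ε, hε⟩ := FiniteField.exists_nonsquare (char_ne_two hodd)
  have pair : ∀ (e : ℕ) (v : ℂ), ((e = (Fintype.card F + 1) / 2 ∧ v = 1) ∨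
      (e = (Fintype.card F - 1) / 2 ∧ v = -1)) → ∀ χ₁ χ₂ : SLt F → ℂ,
      IsIrrCharacter (SLt F) χ₁ → IsIrrCharacter (SLt F) χ₂ → χ₁ ≠ χ₂ → χ₁ 1 = (e : ℂ) →
      χ₂ 1 = (e : ℂ) → χ₁ (SL2.up 1) + χ₂ (SL2.up 1) = v := by
    intro e v he χ₁ χ₂ h₁ h₂ hne d₁ d₂
    obtain ⟨ψ₁, ψ₂, -, -, -, -, -, hall, -, -, -, hsum, -⟩ := pair_data hodd hq hε e v he
    rcases hall χ₁ h₁ d₁ with a | a <;> rcases hall χ₂ h₂ d₂ with b | b
    · exact absurd (a.trans b.symm) hne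
    · rw [a, b]
      exact hsum
    · rw [a, b, add_comm]
      exact hsum
    · exact absurd (a.trans b.symm) hne
  refine ⟨?_, ?_, ?_, ?_⟩
  · intro χ hχ hd
    exact half_sq hodd hq hχ _ 1 (Or.inl ⟨rfl, rfl⟩) hd
  · intro χ hχ hd
    have h := half_sq hodd hq hχ _ (-1) (Or.inr ⟨rfl, rfl⟩) hd
    rw [sub_neg_eq_add] at h
    exact h
  · exact pair _ 1 (Or.inl ⟨rfl, rfl⟩)
  · exact pair _ (-1) (Or.inr ⟨rfl, rfl⟩)

end finite

end Cfsg.Agent.Lib.Helper26.PSR
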