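import Mathlib
import Cfsg.Prelude.Def_Characters
import Cfsg.Agent.Lib.Helper26.SL2HalfB
import Cfsg.Agent.Lib.Helper4.Deflate
import Cfsg.Agent.Lib.Helper4.BurnsideClass

/-!
# Vanishing of the irreducible characters of `SL₂(q)`, `q` odd, on the tori (helper26)
-/

set_option autoImplicit false

namespace Cfsg.Agent.Lib.Helper26.PSR
open Cfsg Cfsg.Agent.Lib.Helper26 Cfsg.Agent.Lib.Helper12
open scoped ComplexConjugate

local notation "GLt" => Matrix.GeneralLinearGroup (Fin 2)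
local notation "SLt" => Matrix.SpecialLinearGroup (Fin 2)

section general

theorem sum_ge_of_three {ι : Type*} [Fintype ι] [DecidableEq ι] (p : ι → Prop)
    (inst : DecidablePred p) (f : ι → ℂ) (N : ℕ)
    (h : ∑ i ∈ @Finset.filter ι p inst Finset.univ, f i = (N : ℂ)) (d : ι → ℕ)
    (hf : ∀ i, f i = (d i : ℂ) ^ 2) (a b c : ι) (ha : p a) (hb : p b) (hc : p c)
    (hab : a ≠ b) (hac : a ≠ c) (hbc : b ≠ c) :
    (d a) ^ 2 + (d b) ^ 2 + (d c) ^ 2 ≤ N := by
  have hnat : ∑ i ∈ @Finset.filter ι p inst Finset.univ, (d i) ^ 2 = N := by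
    apply Nat.cast_injective (R := ℂ)
    push_cast
    rw [← h]
    exact Finset.sum_congr rfl (fun i _ => (hf i).symm)
  have hT : ({a, b, c} : Finset ι) ⊆ @Finset.filter ι p inst Finset.univ := by
    intro i hi
    simp only [Finset.mem_insert, Finset.mem_singleton] at hi
    rw [Finset.mem_filter]
    rcases hi with rfl | rfl | rfl
    · exact ⟨Finset.mem_univ _, ha⟩
    · exact ⟨Finset.mem_univ _, hb⟩
    · exact ⟨Finset.mem_univ _, hc⟩
  have ha' : a ∉ ({b, c} : Finset ι) := by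
    simp only [Finset.mem_insert, Finset.mem_singleton, not_or]
    exact ⟨hab, hac⟩
  have hb' : b ∉ ({c} : Finset ι) := by
    simp only [Finset.mem_singleton]
    exact hbc
  calc (d a) ^ 2 + (d b) ^ 2 + (d c) ^ 2 = ∑ i ∈ ({a, b, c} : Finset ι), (d i) ^ 2 := by
        rw [Finset.sum_insert ha', Finset.sum_insert hb', Finset.sum_singleton]
        ring
    _ ≤ ∑ i ∈ @Finset.filter ι p inst Finset.univ, (d i) ^ 2 := Finset.sum_le_sum_of_subset hT
    _ = N := hnat

end general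

section field
variable {F : Type*} [Field F]

/-- a solution of the norm equation gives a centralizing element of prescribed determinant -/
theorem centralizer_det_of_norm (g : SLt F) (d : Fˣ) (α β : F)
    (h : α ^ 2 + α * β * (g 0 0 + g 1 1) + β ^ 2 = (d : F)) :
    ∃ c : GLt F, c * Matrix.SpecialLinearGroup.toGL g = Matrix.SpecialLinearGroup.toGL g * c ∧
      Matrix.GeneralLinearGroup.det c = d := by
  have hdet := SL2.det_eq g
  have hval : (α + β * g 0 0) * (α + β * g 1 1) - (β * g 0 1) * (β * g 1 0) = (d : F) := by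
    rw [← h]
    linear_combination β ^ 2 * hdet
  have hne : (α + β * g 0 0) * (α + β * g 1 1) - (β * g 0 1) * (β * g 1 0) ≠ 0 := by
    rw [hval]
    exact d.ne_zero
  refine ⟨GL2.mk (α + β * g 0 0) (β * g 0 1) (β * g 1 0) (α + β * g 1 1) hne, ?_, ?_⟩
  · apply GL2.ext4
    · rw [GL2.mul_apply', GL2.mul_apply']
      show (α + β * g 0 0) * g 0 0 + (β * g 0 1) * g 1 0 =
        g 0 0 * (α + β * g 0 0) + g 0 1 * (β * g 1 0)
      ring
    · rw [GL2.mul_apply', GL2.mul_apply']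
      show (α + β * g 0 0) * g 0 1 + (β * g 0 1) * g 1 1 =
        g 0 0 * (β * g 0 1) + g 0 1 * (α + β * g 1 1)
      ring
    · rw [GL2.mul_apply', GL2.mul_apply']
      show (β * g 1 0) * g 0 0 + (α + β * g 1 1) * g 1 0 =
        g 1 0 * (α + β * g 0 0) + g 1 1 * (β * g 1 0)
      ring
    · rw [GL2.mul_apply', GL2.mul_apply']
      show (β * g 1 0) * g 0 1 + (α + β * g 1 1) * g 1 1 =
        g 1 0 * (β * g 0 1) + g 1 1 * (α + β * g 1 1)
      ring
  · apply Units.ext
    have h1 := PS.dU_coe (GL2.mk (α + β * g 0 0) (β * g 0 1) (β * g 1 0) (α + β * g 1 1) hne)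
    simp only [GL2.mk_00, GL2.mk_01, GL2.mk_10, GL2.mk_11] at h1
    rw [hval] at h1
    exact h1

theorem centralizer_det_of_diag (g : SLt F) (h01 : g 0 1 = 0) (h10 : g 1 0 = 0) (d : Fˣ) :
    ∃ c : GLt F, c * Matrix.SpecialLinearGroup.toGL g = Matrix.SpecialLinearGroup.toGL g * c ∧
      Matrix.GeneralLinearGroup.det c = d := by
  refine ⟨SL2.diagUnit2 d, ?_, SL2.det_diagUnit2 d⟩
  apply GL2.ext4
  · rw [GL2.mul_apply', GL2.mul_apply']
    show (d : F) * g 0 0 + 0 * g 1 0 = g 0 0 * (d : F) + g 0 1 * 0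
    ring
  · rw [GL2.mul_apply', GL2.mul_apply']
    show (d : F) * g 0 1 + 0 * g 1 1 = g 0 0 * 0 + g 0 1 * 1
    rw [h01]
    ring
  · rw [GL2.mul_apply', GL2.mul_apply']
    show 0 * g 0 0 + 1 * g 1 0 = g 1 0 * (d : F) + g 1 1 * 0
    rw [h10]
    ring
  · rw [GL2.mul_apply', GL2.mul_apply']
    show 0 * g 0 1 + 1 * g 1 1 = g 1 0 * 0 + g 1 1 * 1
    ring

/-- the characteristic polynomial of an element without eigenvectors has no root -/
theorem charpoly_ne_zero_of_no_eigen (g : SLt F)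
    (hno : ∀ (c : F) (v : Fin 2 → F), v ≠ 0 →
      (g : Matrix (Fin 2) (Fin 2) F).mulVec v ≠ c • v) (c : F) :
    c ^ 2 - (g 0 0 + g 1 1) * c + 1 ≠ 0 := by
  intro h
  have hM : (!![g 0 0 - c, g 0 1; g 1 0, g 1 1 - c] : Matrix (Fin 2) (Fin 2) F).det = 0 := by
    rw [Matrix.det_fin_two_of]
    linear_combination h + SL2.det_eq g
  obtain ⟨v, hv, hMv⟩ := Matrix.exists_mulVec_eq_zero_iff.2 hM
  have e0 : (g 0 0 - c) * v 0 + g 0 1 * v 1 = 0 := by
    have h0 := congrFun hMv 0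
    simpa [Matrix.mulVec, dotProduct, Fin.sum_univ_two] using h0
  have e1 : g 1 0 * v 0 + (g 1 1 - c) * v 1 = 0 := by
    have h1 := congrFun hMv 1
    simpa [Matrix.mulVec, dotProduct, Fin.sum_univ_two] using h1
  apply hno c v hv
  funext i
  fin_cases i
  · show ((g : Matrix (Fin 2) (Fin 2) F).mulVec v) 0 = (c • v) 0
    simp only [Matrix.mulVec, dotProduct, Fin.sum_univ_two, Pi.smul_apply, smul_eq_mul]
    linear_combination e0
  · show ((g : Matrix (Fin 2) (Fin 2) F).mulVec v) 1 = (c • v) 1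
    simp only [Matrix.mulVec, dotProduct, Fin.sum_univ_two, Pi.smul_apply, smul_eq_mul]
    linear_combination e1

theorem disc_ne_zero_of_no_eigen (h2 : (2 : F) ≠ 0) (g : SLt F)
    (hno : ∀ (c : F) (v : Fin 2 → F), v ≠ 0 →
      (g : Matrix (Fin 2) (Fin 2) F).mulVec v ≠ c • v) :
    (g 0 0 + g 1 1) ^ 2 - 4 ≠ 0 := by
  intro h
  have hc : 2 * ((g 0 0 + g 1 1) / 2) = g 0 0 + g 1 1 := by
    field_simp
  have h4 : (4 : F) ≠ 0 := by
    have e : (4 : F) = 2 * 2 := by norm_num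
    rw [e]
    exact mul_ne_zero h2 h2
  apply charpoly_ne_zero_of_no_eigen g hno ((g 0 0 + g 1 1) / 2)
  apply mul_left_cancel₀ h4
  rw [mul_zero]
  linear_combination (2 * ((g 0 0 + g 1 1) / 2) - (g 0 0 + g 1 1)) * hc - h

end field

section finite
variable {F : Type*} [Field F] [Fintype F] [DecidableEq F]

attribute [local instance] Cfsg.Agent.Lib.Helper26.PS.instFintypeMulCharAux
attribute [local instance] Cfsg.Agent.Lib.Helper26.PS.instFintypeIrrAux
attribute [local instance] Cfsg.Agent.Lib.Helper26.PSR.instFintypeIrrSLAux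

theorem exists_norm_eq (hodd : Odd (Fintype.card F)) (t : F) (hΔ : t ^ 2 - 4 ≠ 0) (d : F) :
    ∃ α β : F, α ^ 2 + α * β * t + β ^ 2 = d := by
  have hf : (Polynomial.X ^ 2 : Polynomial F).degree = 2 := Polynomial.degree_X_pow 2
  have hg : (Polynomial.C (-(t ^ 2 - 4)) * Polynomial.X ^ 2 + Polynomial.C 0 * Polynomial.X +
      Polynomial.C (-d) : Polynomial F).degree = 2 :=
    Polynomial.degree_quadratic (neg_ne_zero.2 hΔ)
  obtain ⟨a, b, hab⟩ := FiniteField.exists_root_sum_quadratic hf hg (Nat.odd_iff.1 hodd)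
  simp only [Polynomial.eval_pow, Polynomial.eval_X, Polynomial.eval_add, Polynomial.eval_mul,
    Polynomial.eval_C] at hab
  refine ⟨a - b * t, 2 * b, ?_⟩
  linear_combination hab

theorem centralizer_det_of_no_eigen (hodd : Odd (Fintype.card F)) (g : SLt F)
    (hno : ∀ (c : F) (v : Fin 2 → F), v ≠ 0 →
      (g : Matrix (Fin 2) (Fin 2) F).mulVec v ≠ c • v) (d : Fˣ) :
    ∃ c : GLt F, c * Matrix.SpecialLinearGroup.toGL g = Matrix.SpecialLinearGroup.toGL g * c ∧
      Matrix.GeneralLinearGroup.det c = d := by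
  obtain ⟨α, β, h⟩ := exists_norm_eq hodd (g 0 0 + g 1 1)
    (disc_ne_zero_of_no_eigen (two_ne_zero_of_odd hodd) g hno) (d : F)
  exact centralizer_det_of_norm g d α β h

/-- fusion: the two constituents agree where the centralizer has all determinants -/
theorem fusion {Θ : GLt F → ℂ} (hΘ : IsIrrCharacter (GLt F) Θ) {χ χ' : SLt F → ℂ}
    (hχ : IsIrrCharacter (SLt F) χ) (hχ' : IsIrrCharacter (SLt F) χ') (hne : χ' ≠ χ)
    (hsum : Θ ∘ (Matrix.SpecialLinearGroup.toGL : SLt F →* GLt F) = χ + χ') (g : SLt F)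
    (hc : ∀ d : Fˣ, ∃ c : GLt F,
      c * Matrix.SpecialLinearGroup.toGL g = Matrix.SpecialLinearGroup.toGL g * c ∧
      Matrix.GeneralLinearGroup.det c = d) : χ' g = χ g := by
  obtain ⟨x, hx⟩ := exists_conj_of_restrict
    (Matrix.SpecialLinearGroup.toGL : SLt F →* GLt F) Matrix.SpecialLinearGroup.toGL_injective
    hΘ hχ hχ' hne.symm (fun s => congrFun hsum s)
  obtain ⟨c, hcomm, hdet⟩ := hc (Matrix.GeneralLinearGroup.det x)⁻¹
  have hy : x * c ∈ (Matrix.SpecialLinearGroup.toGL : SLt F →* GLt F).range := by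
    rw [mem_range_iff, map_mul, hdet, mul_inv_cancel]
  obtain ⟨y₀, hy₀⟩ := MonoidHom.mem_range.1 hy
  have h1 : (Matrix.SpecialLinearGroup.toGL : SLt F →* GLt F) (y₀ * g * y₀⁻¹) =
      x * (Matrix.SpecialLinearGroup.toGL : SLt F →* GLt F) g * x⁻¹ := by
    rw [map_mul, map_mul, map_inv, hy₀, mul_inv_rev, mul_assoc x c, hcomm]
    group
  have h2 := hx g (y₀ * g * y₀⁻¹) h1
  rw [← h2]
  exact (isClassFunction_of_isIrrCharacter hχ' g y₀).symm

end finite

end Cfsg.Agent.Lib.Helper26.PSR
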