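import Mathlib
import Cfsg.Prelude.Def_Characters
import Cfsg.Agent.Lib.Helper26.SL2Vanish

/-!
# Vanishing of the irreducible characters of `SL₂(q)`, `q` odd, on the tori: the theorem (helper26)
-/

set_option autoImplicit false

namespace Cfsg.Agent.Lib.Helper26.PSR
open Cfsg Cfsg.Agent.Lib.Helper26 Cfsg.Agent.Lib.Helper12
open scoped ComplexConjugate

local notation "GLt" => Matrix.GeneralLinearGroup (Fin 2)
local notation "SLt" => Matrix.SpecialLinearGroup (Fin 2)

section finite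
variable {F : Type*} [Field F] [Fintype F] [DecidableEq F]

attribute [local instance] Cfsg.Agent.Lib.Helper26.PS.instFintypeMulCharAux
attribute [local instance] Cfsg.Agent.Lib.Helper26.PS.instFintypeIrrAux
attribute [local instance] Cfsg.Agent.Lib.Helper26.PSR.instFintypeIrrSLAux

/-- for `q = 3` an irreducible character of degree `2` is not trivial at `-1` -/
theorem three_sign (h3 : Fintype.card F = 3) {χ : SLt F → ℂ} (hχ : IsIrrCharacter (SLt F) χ)
    (hd : χ 1 = 2) : χ zS ≠ χ 1 := by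
  classical
  intro hz1
  have hodd : Odd (Fintype.card F) := ⟨1, by omega⟩
  have hzne : (zS : SLt F) ≠ 1 := by
    intro h
    have h00 := congrArg (fun x : SLt F => x 0 0) h
    have h' : (-1 : F) = 1 := by simpa [zS] using h00
    exact neg_one_ne_one' hodd h'
  have hker : ∀ n ∈ Subgroup.center (SLt F), χ n = χ 1 := by
    intro n hn
    obtain ⟨r, hr1, hr⟩ := Matrix.SpecialLinearGroup.mem_center_iff.1 hn
    have hr2 : (r - 1) * (r + 1) = 0 := by
      have h : r ^ 2 = 1 := by simpa using hr1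
      linear_combination h
    rcases mul_eq_zero.1 hr2 with h | h
    · have hr' : r = 1 := sub_eq_zero.1 h
      have hn1 : n = 1 := by
        apply Matrix.SpecialLinearGroup.ext
        intro i j
        rw [← hr, hr']
        simp
      rw [hn1]
    · have hr' : r = -1 := eq_neg_of_add_eq_zero_left h
      have hn1 : n = zS := by
        apply Matrix.SpecialLinearGroup.ext
        intro i j
        rw [← hr, hr']
        fin_cases i <;> fin_cases j <;> simp [zS, SL2.mk]
      rw [hn1, hz1]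
  have hdeg : ∀ x : IrrCharacter (SLt F), ∃ n : ℕ, (x : SLt F → ℂ) 1 = n := fun x => by
    obtain ⟨n, -, hn⟩ := irr_degree x.2
    exact ⟨n, hn⟩
  choose dg hdg using hdeg
  have hsum := Cfsg.Agent.Lib.Helper4.sum_sq_degree_ker (Subgroup.center (SLt F))
  have i0 : IsIrrCharacter (SLt F) (fun _ => (1 : ℂ)) := Cfsg.Agent.Lib.Helper4.isIrrCharacter_one
  have i1 : IsIrrCharacter (SLt F) (PS2.slSt (F := F)) := PS2.sl_one_decomp.1
  have hd0 : dg ⟨_, i0⟩ = 1 := by
    have h := hdg ⟨_, i0⟩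
    have h' : ((dg ⟨_, i0⟩ : ℕ) : ℂ) = ((1 : ℕ) : ℂ) := by
      rw [← h, Nat.cast_one]
    exact_mod_cast h'
  have hd1 : dg ⟨_, i1⟩ = 3 := by
    have h := hdg ⟨_, i1⟩
    have h' : ((dg ⟨_, i1⟩ : ℕ) : ℂ) = ((3 : ℕ) : ℂ) := by
      rw [← h, ← h3]
      exact slSt_one
    exact_mod_cast h'
  have hd2 : dg ⟨χ, hχ⟩ = 2 := by
    have h := hdg ⟨χ, hχ⟩
    have h' : ((dg ⟨χ, hχ⟩ : ℕ) : ℂ) = ((2 : ℕ) : ℂ) := by
      rw [← h, Nat.cast_ofNat]
      exact hd
    exact_mod_cast h'
  have n01 : (⟨_, i0⟩ : IrrCharacter (SLt F)) ≠ ⟨_, i1⟩ := by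
    intro h
    rw [h, hd1] at hd0
    omega
  have n02 : (⟨_, i0⟩ : IrrCharacter (SLt F)) ≠ ⟨χ, hχ⟩ := by
    intro h
    rw [h, hd2] at hd0
    omega
  have n12 : (⟨_, i1⟩ : IrrCharacter (SLt F)) ≠ ⟨χ, hχ⟩ := by
    intro h
    rw [h, hd2] at hd1
    omega
  have h14 := sum_ge_of_three _ _ _ _ hsum dg
    (fun x => by
      show (x : SLt F → ℂ) 1 ^ 2 = _
      rw [hdg x])
    ⟨_, i0⟩ ⟨_, i1⟩ ⟨χ, hχ⟩ (fun n _ => rfl) (fun n hn => slSt_center n hn) hker n01 n02 n12
  rw [hd0, hd1, hd2] at h14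
  -- the index of the centre is at most 12
  have hcard : Nat.card (SLt F) = 24 := by
    have hu : Fintype.card Fˣ = 2 := by
      rw [Fintype.card_units, h3]
    rw [PS2.card_SL2', hu]
  have hc2 : 1 < Nat.card (Subgroup.center (SLt F)) := by
    rw [Subgroup.one_lt_card_iff_ne_bot]
    intro h
    have hm : (zS : SLt F) ∈ Subgroup.center (SLt F) := zS_mem_center
    rw [h, Subgroup.mem_bot] at hm
    exact hzne hm
  have hidx := Subgroup.index_mul_card (Subgroup.center (SLt F))
  rw [hcard] at hidx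
  have h5 : (Subgroup.center (SLt F)).index * 2 ≤
      (Subgroup.center (SLt F)).index * Nat.card (Subgroup.center (SLt F)) :=
    Nat.mul_le_mul_left _ hc2
  omega

/-- the corner case `q = 3`: an irreducible character of degree `2` which is a restriction
vanishes at the elements without eigenvectors -/
theorem corner_three (h3 : Fintype.card F = 3) {χ : SLt F → ℂ} (hχ : IsIrrCharacter (SLt F) χ)
    (hd : χ 1 = 2) {Θ : GLt F → ℂ} (hΘ : IsIrrCharacter (GLt F) Θ)
    (hres : Θ ∘ (Matrix.SpecialLinearGroup.toGL : SLt F →* GLt F) = χ) (g : SLt F)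
    (hno : ∀ (c : F) (v : Fin 2 → F), v ≠ 0 →
      (g : Matrix (Fin 2) (Fin 2) F).mulVec v ≠ c • v) : χ g = 0 := by
  have hodd : Odd (Fintype.card F) := ⟨1, by omega⟩
  have h2 : (2 : F) ≠ 0 := two_ne_zero_of_odd hodd
  have h3F : (3 : F) = 0 := by
    have h := Nat.cast_card_eq_zero F
    rw [h3] at h
    exact_mod_cast h
  have hΘ1 : Θ 1 = χ 1 := by
    rw [← hres]
    show Θ 1 = Θ ((Matrix.SpecialLinearGroup.toGL : SLt F →* GLt F) 1)
    rw [map_one]
  have hΘz : Θ (PS.zEl (-1)) = χ zS := by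
    rw [← hres, ← toGL_zS]
    rfl
  have hΘg : Θ (Matrix.SpecialLinearGroup.toGL g) = χ g := by
    rw [← hres]
    rfl
  -- the central sign of `Θ`
  obtain ⟨c, hc, hcm⟩ := center_mul_sign hΘ (PS.zEl (-1)) (PS.zEl_mem_center _) zz_mul
  have hcneg : c = -1 := by
    rcases hc with hc1 | hc1
    · exfalso
      apply three_sign h3 hχ hd
      have h := hcm 1
      rw [mul_one, hc1, one_mul, hΘz, hΘ1] at h
      exact h
    · exact hc1
  -- the trace vanishes
  have htr : g 0 0 + g 1 1 = 0 := by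
    by_contra ht
    have ht2 : (g 0 0 + g 1 1) ^ 2 = 1 := by
      have h := FiniteField.pow_card_sub_one_eq_one (g 0 0 + g 1 1) ht
      rw [h3] at h
      exact h
    apply charpoly_ne_zero_of_no_eigen g hno (-(g 0 0 + g 1 1))
    linear_combination (2 : F) * ht2 + h3F
  -- conjugacy of `g` and `-g` in `GL₂`
  have hns : ¬ PS.IsScalarEl (Matrix.SpecialLinearGroup.toGL g : GLt F) := by
    rintro ⟨s01, s10, s00⟩
    have s01' : g 0 1 = 0 := s01
    have s10' : g 1 0 = 0 := s10
    apply hno (g 0 0) ![1, 0] (by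
      intro h
      have h0 := congrFun h 0
      simp at h0)
    funext i
    fin_cases i
    · show ((g : Matrix (Fin 2) (Fin 2) F).mulVec ![1, 0]) 0 = (g 0 0 • ![1, 0]) 0
      simp [Matrix.mulVec, dotProduct, Fin.sum_univ_two]
    · show ((g : Matrix (Fin 2) (Fin 2) F).mulVec ![1, 0]) 1 = (g 0 0 • ![1, 0]) 1
      simp [Matrix.mulVec, dotProduct, Fin.sum_univ_two, s10']
  have hns' : ¬ PS.IsScalarEl (PS.zEl (-1) * (Matrix.SpecialLinearGroup.toGL g : GLt F)) := by
    rintro ⟨s01, s10, s00⟩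
    apply hns
    rw [GL2.mul_apply'] at s01 s10 s00
    rw [GL2.mul_apply'] at s00
    simp only [PS.zEl, GL2.mk_00, GL2.mk_01, GL2.mk_10, GL2.mk_11, Units.val_neg, Units.val_one,
      zero_mul, add_zero, zero_add, neg_mul, one_mul, neg_eq_zero, neg_inj] at s01 s10 s00
    exact ⟨s01, s10, s00⟩
  have hconj : IsConj (PS.zEl (-1) * (Matrix.SpecialLinearGroup.toGL g : GLt F))
      (Matrix.SpecialLinearGroup.toGL g : GLt F) := by
    apply PS.isConj_of_clsInv_eq
    rw [PS.clsInv_of_not_scalar hns, PS.clsInv_of_not_scalar hns']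
    congr 1
    apply Prod.ext
    · show PS.trEl (PS.zEl (-1) * (Matrix.SpecialLinearGroup.toGL g : GLt F)) =
        PS.trEl (Matrix.SpecialLinearGroup.toGL g : GLt F)
      unfold PS.trEl
      rw [GL2.mul_apply', GL2.mul_apply']
      show ((-1 : Fˣ) : F) * g 0 0 + 0 * g 1 0 + (0 * g 0 1 + ((-1 : Fˣ) : F) * g 1 1) =
        g 0 0 + g 1 1
      rw [Units.val_neg, Units.val_one]
      linear_combination (-2 : F) * htr
    · show PS.dU (PS.zEl (-1) * (Matrix.SpecialLinearGroup.toGL g : GLt F)) =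
        PS.dU (Matrix.SpecialLinearGroup.toGL g : GLt F)
      unfold PS.dU
      rw [map_mul, det_zEl, neg_mul_neg, one_mul, one_mul]
  have h5 := Cfsg.Agent.Lib.Helper4.char_eq_of_isConj (isClassFunction_of_isIrrCharacter hΘ) hconj
  rw [hcm, hcneg, hΘg] at h5
  have h6 : (2 : ℂ) * χ g = 0 := by linear_combination (-1 : ℂ) * h5
  rcases mul_eq_zero.1 h6 with h7 | h7
  · norm_num at h7
  · exact h7

end finite

end Cfsg.Agent.Lib.Helper26.PSR
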