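import Mathlib
import Cfsg.Prelude.Def_Characters
import Cfsg.Agent.Lib.Helper26.SL2VanishB

/-!
# Vanishing of the irreducible characters of `SL₂(q)`, `q` odd, on the tori: the statement
(helper26)
-/

set_option autoImplicit false

namespace Cfsg.Agent.Lib.Helper26.PSR
open Cfsg Cfsg.Agent.Lib.Helper26 Cfsg.Agent.Lib.Helper12
open scoped ComplexConjugate

local notation "GLt" => Matrix.GeneralLinearGroup (Fin 2)
local notation "SLt" => Matrix.SpecialLinearGroup (Fin 2)

section finite
variable {F : Type*} [Field F] [Fintype F] [DecidableEq F]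

attribute [local instance] Cfsg.Agent.Lib.Helper26.PS.instFintypeMulCharAux
attribute [local instance] Cfsg.Agent.Lib.Helper26.PS.instFintypeIrrAux
attribute [local instance] Cfsg.Agent.Lib.Helper26.PSR.instFintypeIrrSLAux

theorem sl_vanish (hodd : Odd (Fintype.card F)) {χ : SLt F → ℂ}
    (hχ : IsIrrCharacter (SLt F) χ) (g : SLt F) :
    ((χ 1 = (Fintype.card F : ℂ) - 1 ∨ χ 1 = (((Fintype.card F - 1) / 2 : ℕ) : ℂ)) →
      (g : Matrix (Fin 2) (Fin 2) F) 0 1 = 0 → (g : Matrix (Fin 2) (Fin 2) F) 1 0 = 0 →
      (g : Matrix (Fin 2) (Fin 2) F) 0 0 ^ 2 ≠ 1 → χ g = 0) ∧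
    ((χ 1 = (Fintype.card F : ℂ) + 1 ∨ χ 1 = (((Fintype.card F + 1) / 2 : ℕ) : ℂ)) →
      (∀ (c : F) (v : Fin 2 → F), v ≠ 0 →
        (g : Matrix (Fin 2) (Fin 2) F).mulVec v ≠ c • v) → χ g = 0) := by
  obtain ⟨k, hk⟩ := id hodd
  have hq3 : 3 ≤ Fintype.card F := by
    have h := Fintype.one_lt_card (α := F)
    omega
  obtain ⟨n, hn0, hn⟩ := irr_degree hχ
  obtain ⟨Θ, hΘ, hcase⟩ := above_cases hodd hχ
  obtain ⟨D, hD0, hD⟩ := irr_degree hΘ
  have toM : ∀ m : ℕ, m + 1 = Fintype.card F → (m : ℂ) = (Fintype.card F : ℂ) - 1 := by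
    intro m h
    rw [← h, Nat.cast_add, Nat.cast_one]
    ring
  have toP : ∀ m : ℕ, m = Fintype.card F + 1 → (m : ℂ) = (Fintype.card F : ℂ) + 1 := by
    intro m h
    rw [h, Nat.cast_add, Nat.cast_one]
  have hDcases : D = 1 ∨ D + 1 = Fintype.card F ∨ D = Fintype.card F ∨
      D = Fintype.card F + 1 := by
    rcases PS.gl2_degrees hΘ with h | h | h | h
    · left
      rw [hD] at h
      exact_mod_cast h
    · right; left
      rw [hD] at h
      have h' : ((D + 1 : ℕ) : ℂ) = (Fintype.card F : ℂ) := by
        rw [Nat.cast_add, Nat.cast_one, h]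
        ring
      exact_mod_cast h'
    · right; right; left
      rw [hD] at h
      exact_mod_cast h
    · right; right; right
      rw [hD] at h
      exact_mod_cast h
  have hΘg : ∀ s : SLt F, Θ (Matrix.SpecialLinearGroup.toGL s) =
      (Θ ∘ (Matrix.SpecialLinearGroup.toGL : SLt F →* GLt F)) s := fun s => rfl
  constructor
  · intro hdeg h01 h10 hsq
    have h01' : g 0 1 = 0 := h01
    have h10' : g 1 0 = 0 := h10
    have hdet := SL2.det_eq g
    rw [h01', zero_mul, sub_zero] at hdet
    have hg00 : g 0 0 ≠ 0 := by
      intro h0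
      rw [h0, zero_mul] at hdet
      exact zero_ne_one hdet
    have hq5 : 5 ≤ Fintype.card F := by
      by_contra hlt
      have h3 : Fintype.card F = 3 := by omega
      apply hsq
      have h := FiniteField.pow_card_sub_one_eq_one (g 0 0) hg00
      rw [h3] at h
      exact h
    have hne : g 0 0 ≠ g 1 1 := by
      intro h
      apply hsq
      linear_combination hdet + g 0 0 * h
    have hvan : Θ 1 = (Fintype.card F : ℂ) - 1 → Θ (Matrix.SpecialLinearGroup.toGL g) = 0 := by
      intro hd
      have hC := ((PS.deg_iff hq3 ⟨Θ, hΘ⟩).2.2.2).1 hd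
      exact PS.value_split_zero hΘ hC (Matrix.SpecialLinearGroup.toGL g) h01' h10' hne
    rcases hcase with ⟨-, hres⟩ | ⟨hII, χ', hχ', hne', hsum, hdeg'⟩
    · have hDn : D = n := by
        have h : Θ 1 = χ 1 := by
          rw [← hres]
          show Θ 1 = Θ ((Matrix.SpecialLinearGroup.toGL : SLt F →* GLt F) 1)
          rw [map_one]
        rw [hD, hn] at h
        exact_mod_cast h
      rcases hdeg with hd | hd
      · have h1 : χ g = Θ (Matrix.SpecialLinearGroup.toGL g) := by rw [hΘg, hres]
        rw [h1]
        apply hvan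
        rw [hD, hDn, ← hn, hd]
      · exfalso
        rw [hn] at hd
        have h1 : n = (Fintype.card F - 1) / 2 := by exact_mod_cast hd
        rcases hDcases with h | h | h | h <;> omega
    · have hDn : D = 2 * n := by
        have h := congrFun hsum 1
        simp only [Function.comp_apply, Pi.add_apply, map_one] at h
        rw [hdeg', hD, hn] at h
        have h' : ((D : ℕ) : ℂ) = ((2 * n : ℕ) : ℂ) := by
          rw [h]
          push_cast
          ring
        exact_mod_cast h'
      rcases hdeg with hd | hd
      · exfalso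
        rw [hn] at hd
        have h1 : n + 1 = Fintype.card F := by
          have h' : ((n + 1 : ℕ) : ℂ) = (Fintype.card F : ℂ) := by
            rw [Nat.cast_add, Nat.cast_one, hd]
            ring
          exact_mod_cast h'
        rcases hDcases with h | h | h | h <;> omega
      · rw [hn] at hd
        have h1 : n = (Fintype.card F - 1) / 2 := by exact_mod_cast hd
        have h2 : D + 1 = Fintype.card F := by omega
        have h3 := hvan (by rw [hD]; exact toM D h2)
        rw [hΘg, hsum] at h3
        have h4 : χ' g = χ g :=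
          fusion hΘ hχ hχ' hne' hsum g (centralizer_det_of_diag g h01' h10')
        have h5 : (2 : ℂ) * χ g = 0 := by
          have h6 : χ g + χ' g = 0 := h3
          rw [h4] at h6
          linear_combination h6
        rcases mul_eq_zero.1 h5 with h7 | h7
        · norm_num at h7
        · exact h7
  · intro hdeg hno
    have hvan : Θ 1 = (Fintype.card F : ℂ) + 1 → Θ (Matrix.SpecialLinearGroup.toGL g) = 0 := by
      intro hd
      obtain ⟨α, β, -, hP⟩ := ((PS.deg_iff hq3 ⟨Θ, hΘ⟩).2.2.1).1 hd
      have hP' : Θ = indFun (Cfsg.upperTriangularGL 2 F) (PS.psFun α β) := hP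
      rw [hP']
      exact PS.ps_value_elliptic _ _ hno
    rcases hcase with ⟨-, hres⟩ | ⟨hII, χ', hχ', hne', hsum, hdeg'⟩
    · have hDn : D = n := by
        have h : Θ 1 = χ 1 := by
          rw [← hres]
          show Θ 1 = Θ ((Matrix.SpecialLinearGroup.toGL : SLt F →* GLt F) 1)
          rw [map_one]
        rw [hD, hn] at h
        exact_mod_cast h
      rcases hdeg with hd | hd
      · have h1 : χ g = Θ (Matrix.SpecialLinearGroup.toGL g) := by rw [hΘg, hres]
        rw [h1]
        apply hvan
        rw [hD, hDn, ← hn, hd]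
      · rw [hn] at hd
        have h1 : n = (Fintype.card F + 1) / 2 := by exact_mod_cast hd
        have h3 : Fintype.card F = 3 := by
          rcases hDcases with h | h | h | h <;> omega
        have hχ2 : χ 1 = 2 := by
          rw [hn, h1, h3]
          norm_num
        exact corner_three h3 hχ hχ2 hΘ hres g hno
    · have hDn : D = 2 * n := by
        have h := congrFun hsum 1
        simp only [Function.comp_apply, Pi.add_apply, map_one] at h
        rw [hdeg', hD, hn] at h
        have h' : ((D : ℕ) : ℂ) = ((2 * n : ℕ) : ℂ) := by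
          rw [h]
          push_cast
          ring
        exact_mod_cast h'
      rcases hdeg with hd | hd
      · exfalso
        rw [hn] at hd
        have h1 : n = Fintype.card F + 1 := by
          have h' : ((n : ℕ) : ℂ) = ((Fintype.card F + 1 : ℕ) : ℂ) := by
            rw [hd, Nat.cast_add, Nat.cast_one]
          exact_mod_cast h'
        rcases hDcases with h | h | h | h <;> omega
      · rw [hn] at hd
        have h1 : n = (Fintype.card F + 1) / 2 := by exact_mod_cast hd
        have h2 : D = Fintype.card F + 1 := by omega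
        have h3 := hvan (by rw [hD]; exact toP D h2)
        rw [hΘg, hsum] at h3
        have h4 : χ' g = χ g :=
          fusion hΘ hχ hχ' hne' hsum g (centralizer_det_of_no_eigen hodd g hno)
        have h5 : (2 : ℂ) * χ g = 0 := by
          have h6 : χ g + χ' g = 0 := h3
          rw [h4] at h6
          linear_combination h6
        rcases mul_eq_zero.1 h5 with h7 | h7
        · norm_num at h7
        · exact h7

end finite

end Cfsg.Agent.Lib.Helper26.PSR
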