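import Mathlib
import Cfsg.Prelude.Def_Characters
import Cfsg.Agent.Lib.Helper26.SL2VanishC

/-!
# Elements of `SL₂(q)` without eigenvectors (helper26)

Centralizers (abelian, cyclic, of order `q + 1`), conjugacy with the inverse, and the elements of
a subgroup of order `q + 1`.
-/

set_option autoImplicit false

namespace Cfsg.Agent.Lib.Helper26.PSR
open Cfsg Cfsg.Agent.Lib.Helper26 Cfsg.Agent.Lib.Helper12
open scoped ComplexConjugate

local notation "GLt" => Matrix.GeneralLinearGroup (Fin 2)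
local notation "SLt" => Matrix.SpecialLinearGroup (Fin 2)

section field
variable {F : Type*} [Field F]

/-- elements without eigenvectors -/
def IsEll (g : SLt F) : Prop :=
  ∀ (c : F) (v : Fin 2 → F), v ≠ 0 → (g : Matrix (Fin 2) (Fin 2) F).mulVec v ≠ c • v

theorem ell_10 {g : SLt F} (h : IsEll g) : g 1 0 ≠ 0 := by
  intro h0
  apply h (g 0 0) ![1, 0]
  · intro hv
    have := congrFun hv 0
    simp at this
  · funext i
    fin_cases i
    · simp [Matrix.mulVec, dotProduct, Fin.sum_univ_two]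
    · simp [Matrix.mulVec, dotProduct, Fin.sum_univ_two, h0]

/-- the norm form of `F[g]` -/
def nF (t a b : F) : F := a ^ 2 + a * b * t + b ^ 2

theorem nF_ne_zero {t : F} (ht : ∀ c : F, c ^ 2 - t * c + 1 ≠ 0) {a b : F}
    (hab : ¬ (a = 0 ∧ b = 0)) : nF t a b ≠ 0 := by
  intro h
  unfold nF at h
  by_cases hb : b = 0
  · apply hab
    refine ⟨?_, hb⟩
    rw [hb] at h
    have h1 : a ^ 2 = 0 := by linear_combination h
    exact (pow_eq_zero_iff two_ne_zero).1 h1
  · apply ht (-(a / b))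
    have hb2 : b ^ 2 ≠ 0 := pow_ne_zero 2 hb
    apply mul_left_cancel₀ hb2
    rw [mul_zero]
    have e : b ^ 2 * ((-(a / b)) ^ 2 - t * (-(a / b)) + 1) = a ^ 2 + a * b * t + b ^ 2 := by
      field_simp
      ring
    rw [e]
    exact h

theorem comm_entries {g x : SLt F} (h10 : g 1 0 ≠ 0) (hx : x * g = g * x) :
    x 0 1 = x 1 0 / g 1 0 * g 0 1 ∧ x 1 1 = x 0 0 + x 1 0 / g 1 0 * (g 1 1 - g 0 0) := by
  have e00 : (x * g) 0 0 = (g * x) 0 0 := by rw [hx]
  have e10 : (x * g) 1 0 = (g * x) 1 0 := by rw [hx]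
  rw [SL2.mul_apply', SL2.mul_apply'] at e00 e10
  have a1 : x 0 1 * g 1 0 = x 1 0 * g 0 1 := by linear_combination e00
  have a2 : (x 1 1 - x 0 0) * g 1 0 = x 1 0 * (g 1 1 - g 0 0) := by linear_combination e10
  constructor
  · rw [div_mul_eq_mul_div, eq_div_iff h10]
    exact a1
  · rw [div_mul_eq_mul_div, ← sub_eq_iff_eq_add', eq_div_iff h10]
    exact a2

/-- the coordinates of a centralizing element -/
def bC (g x : SLt F) : F := x 1 0 / g 1 0
def aC (g x : SLt F) : F := x 0 0 - bC g x * g 0 0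

theorem cent_form {g x : SLt F} (h10 : g 1 0 ≠ 0) (hx : x * g = g * x) :
    x 0 0 = aC g x + bC g x * g 0 0 ∧ x 0 1 = bC g x * g 0 1 ∧ x 1 0 = bC g x * g 1 0 ∧
      x 1 1 = aC g x + bC g x * g 1 1 := by
  obtain ⟨h01, h11⟩ := comm_entries h10 hx
  refine ⟨?_, h01, ?_, ?_⟩
  · unfold aC
    ring
  · unfold bC
    exact (div_mul_cancel₀ _ h10).symm
  · rw [h11]
    unfold aC bC
    ring

theorem cent_norm {g x : SLt F} (h10 : g 1 0 ≠ 0) (hx : x * g = g * x) :
    nF (g 0 0 + g 1 1) (aC g x) (bC g x) = 1 := by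
  obtain ⟨x00, x01, x10, x11⟩ := cent_form h10 hx
  have hdx := SL2.det_eq x
  have hdg := SL2.det_eq g
  rw [x01, x10, x11] at hdx
  unfold nF
  generalize aC g x = a at *
  generalize bC g x = b at *
  rw [x00] at hdx
  linear_combination hdx - b ^ 2 * hdg

/-- the element `a + b g` -/
def pEl (g : SLt F) (a b : F) (h : nF (g 0 0 + g 1 1) a b = 1) : SLt F :=
  SL2.mk (a + b * g 0 0) (b * g 0 1) (b * g 1 0) (a + b * g 1 1) (by
    unfold nF at h
    linear_combination h + b ^ 2 * SL2.det_eq g)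

theorem pEl_comm (g : SLt F) (a b : F) (h : nF (g 0 0 + g 1 1) a b = 1) :
    pEl g a b h * g = g * pEl g a b h := by
  apply SL2.ext4 <;>
    simp only [SL2.mul_apply', pEl, SL2.mk_00, SL2.mk_01, SL2.mk_10, SL2.mk_11] <;> ring

theorem centralizer_ell_eq_range {g : SLt F} (h10 : g 1 0 ≠ 0) :
    ((Subgroup.centralizer ({g} : Set (SLt F)) : Subgroup (SLt F)) : Set (SLt F)) =
      Set.range (fun p : {p : F × F // nF (g 0 0 + g 1 1) p.1 p.2 = 1} =>
        pEl g p.1.1 p.1.2 p.2) := by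
  ext x
  rw [SetLike.mem_coe, Subgroup.mem_centralizer_singleton_iff]
  constructor
  · intro hx
    refine ⟨⟨(aC g x, bC g x), cent_norm h10 hx⟩, ?_⟩
    obtain ⟨x00, x01, x10, x11⟩ := cent_form h10 hx
    apply SL2.ext4
    · exact x00.symm
    · exact x01.symm
    · exact x10.symm
    · exact x11.symm
  · rintro ⟨p, rfl⟩
    exact pEl_comm g _ _ _

theorem pEl_injective {g : SLt F} (h10 : g 1 0 ≠ 0) :
    Function.Injective (fun p : {p : F × F // nF (g 0 0 + g 1 1) p.1 p.2 = 1} =>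
      pEl g p.1.1 p.1.2 p.2) := by
  rintro ⟨⟨a, b⟩, h⟩ ⟨⟨a', b'⟩, h'⟩ e
  have e10 : b * g 1 0 = b' * g 1 0 := congrArg (fun m : SLt F => m 1 0) e
  have e00 : a + b * g 0 0 = a' + b' * g 0 0 := congrArg (fun m : SLt F => m 0 0) e
  have hb : b = b' := mul_right_cancel₀ h10 e10
  subst hb
  have ha : a = a' := by linear_combination e00
  subst ha
  rfl

theorem centralizer_ell_comm {g : SLt F} (h10 : g 1 0 ≠ 0) {x y : SLt F} (hx : x * g = g * x)
    (hy : y * g = g * y) : x * y = y * x := by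
  obtain ⟨x00, x01, x10, x11⟩ := cent_form h10 hx
  obtain ⟨y00, y01, y10, y11⟩ := cent_form h10 hy
  apply SL2.ext4 <;> simp only [SL2.mul_apply']
  · rw [x00, x01, y00, y01, x10, y10]
    ring
  · rw [x00, x01, y00, y01, x11, y11]
    ring
  · rw [x00, y00, x10, y10, x11, y11]
    ring
  · rw [x01, y01, x10, y10, x11, y11]
    ring

theorem aC_bC_mul {g x y : SLt F} (h10 : g 1 0 ≠ 0) (hx : x * g = g * x) (hy : y * g = g * y) :
    aC g (x * y) = aC g x * aC g y - bC g x * bC g y ∧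
    bC g (x * y) = aC g x * bC g y + aC g y * bC g x + (g 0 0 + g 1 1) * bC g x * bC g y := by
  obtain ⟨x00, x01, x10, x11⟩ := cent_form h10 hx
  obtain ⟨y00, y01, y10, y11⟩ := cent_form h10 hy
  have hB : (x * y) 1 0 =
      (aC g x * bC g y + aC g y * bC g x + (g 0 0 + g 1 1) * bC g x * bC g y) * g 1 0 := by
    rw [SL2.mul_apply', x10, x11, y00, y10]
    ring
  have hb : bC g (x * y) =
      aC g x * bC g y + aC g y * bC g x + (g 0 0 + g 1 1) * bC g x * bC g y := by
    rw [show bC g (x * y) = (x * y) 1 0 / g 1 0 from rfl, hB, mul_div_cancel_right₀ _ h10]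
  refine ⟨?_, hb⟩
  rw [show aC g (x * y) = (x * y) 0 0 - bC g (x * y) * g 0 0 from rfl, hb, SL2.mul_apply', x00,
    x01, y00, y10]
  linear_combination (-(bC g x * bC g y)) * SL2.det_eq g

theorem aC_bC_one (g : SLt F) : aC g 1 = 1 ∧ bC g 1 = 0 := by
  have hb : bC g (1 : SLt F) = 0 := by
    unfold bC
    simp
  refine ⟨?_, hb⟩
  unfold aC
  rw [hb]
  simp

theorem mulVec_pow_eigen (M : Matrix (Fin 2) (Fin 2) F) (c : F) (v : Fin 2 → F)
    (h : M.mulVec v = c • v) (n : ℕ) : (M ^ n).mulVec v = c ^ n • v := by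
  induction n with
  | zero => simp
  | succ n ih =>
    rw [pow_succ, ← Matrix.mulVec_mulVec, h, Matrix.mulVec_smul, ih, smul_smul, pow_succ, mul_comm]

theorem sl_one_apply : ((1 : SLt F) 0 0 = 1 ∧ (1 : SLt F) 0 1 = 0) ∧
    ((1 : SLt F) 1 0 = 0 ∧ (1 : SLt F) 1 1 = 1) := by
  refine ⟨⟨?_, ?_⟩, ?_, ?_⟩ <;> simp

/-- an element of square `1` is `± 1` -/
theorem sq_one_cases (h2 : (2 : F) ≠ 0) {x : SLt F} (h : x * x = 1) : x = 1 ∨ x = zS := by
  obtain ⟨⟨o00, o01⟩, o10, o11⟩ := sl_one_apply (F := F)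
  have e00 : (x * x) 0 0 = (1 : SLt F) 0 0 := by rw [h]
  have e01 : (x * x) 0 1 = (1 : SLt F) 0 1 := by rw [h]
  have e10 : (x * x) 1 0 = (1 : SLt F) 1 0 := by rw [h]
  have e11 : (x * x) 1 1 = (1 : SLt F) 1 1 := by rw [h]
  rw [SL2.mul_apply', o00] at e00
  rw [SL2.mul_apply', o01] at e01
  rw [SL2.mul_apply', o10] at e10
  rw [SL2.mul_apply', o11] at e11
  have hdet := SL2.det_eq x
  have ht : x 0 0 * (x 0 0 + x 1 1) = 2 := by linear_combination e00 + hdet
  have ht' : x 1 1 * (x 0 0 + x 1 1) = 2 := by linear_combination e11 + hdet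
  have ht0 : x 0 0 + x 1 1 ≠ 0 := by
    intro h0
    rw [h0, mul_zero] at ht
    exact h2 ht.symm
  have h01 : x 0 1 = 0 := by
    have h3 : x 0 1 * (x 0 0 + x 1 1) = 0 := by linear_combination e01
    exact (mul_eq_zero.1 h3).resolve_right ht0
  have h10 : x 1 0 = 0 := by
    have h3 : x 1 0 * (x 0 0 + x 1 1) = 0 := by linear_combination e10
    exact (mul_eq_zero.1 h3).resolve_right ht0
  have heq : x 0 0 = x 1 1 := mul_right_cancel₀ ht0 (ht.trans ht'.symm)
  rw [h01, zero_mul, add_zero] at e00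
  have hp : (x 0 0 - 1) * (x 0 0 + 1) = 0 := by linear_combination e00
  rcases mul_eq_zero.1 hp with h3 | h3
  · left
    have h4 : x 0 0 = 1 := sub_eq_zero.1 h3
    apply SL2.ext4
    · rw [h4, o00]
    · rw [h01, o01]
    · rw [h10, o10]
    · rw [← heq, h4, o11]
  · right
    have h4 : x 0 0 = -1 := eq_neg_of_add_eq_zero_left h3
    apply SL2.ext4
    · rw [h4]
      rfl
    · rw [h01]
      rfl
    · rw [h10]
      rfl
    · rw [← heq, h4]
      rfl

/-- the centre of `SL₂` -/
theorem center_cases (h2 : (2 : F) ≠ 0) {x : SLt F} (hx : x ∈ Subgroup.center (SLt F)) :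
    x = 1 ∨ x = zS := by
  rw [Subgroup.mem_center_iff] at hx
  have h1 : x ∈ Subgroup.centralizer ({SL2.up (1 : F)} : Set (SLt F)) := by
    rw [Subgroup.mem_centralizer_singleton_iff]
    exact (hx (SL2.up 1)).symm
  obtain ⟨h10, heq⟩ := (SL2.mem_centralizer_up one_ne_zero x).1 h1
  have h3 := hx (SL2.lo 1)
  have e00 : (SL2.lo (1 : F) * x) 0 0 = (x * SL2.lo (1 : F)) 0 0 := by rw [h3]
  rw [SL2.mul_apply', SL2.mul_apply'] at e00
  simp only [SL2.lo, SL2.mk_00, SL2.mk_01, SL2.mk_10, SL2.mk_11] at e00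
  have h01 : x 0 1 = 0 := by linear_combination -e00
  apply sq_one_cases h2
  have hdet := SL2.det_eq x
  obtain ⟨⟨o00, o01⟩, o10, o11⟩ := sl_one_apply (F := F)
  apply SL2.ext4
  · rw [SL2.mul_apply', o00, h01]
    linear_combination hdet + x 0 0 * heq + x 0 1 * h10
  · rw [SL2.mul_apply', o01, h01]
    ring
  · rw [SL2.mul_apply', o10, h10]
    ring
  · rw [SL2.mul_apply', o11, h10]
    linear_combination hdet - x 1 1 * heq + x 0 1 * h10

theorem not_central_of_ell {g : SLt F} (hg : IsEll g) : g ∉ Subgroup.center (SLt F) := by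
  intro h
  have h1 : g ∈ Subgroup.centralizer ({SL2.up (1 : F)} : Set (SLt F)) := by
    rw [Subgroup.mem_centralizer_singleton_iff]
    exact ((Subgroup.mem_center_iff.1 h) (SL2.up 1)).symm
  exact ell_10 hg ((SL2.mem_centralizer_up one_ne_zero g).1 h1).1

theorem isEll_conj {c : SLt F} (hc : IsEll c) (y : SLt F) : IsEll (y * c * y⁻¹) := by
  intro a v hv hav
  have hav' : (y * c * y⁻¹) • v = a • v := hav
  apply hc a (y⁻¹ • v)
  · intro h0
    apply hv
    have h1 : y • (y⁻¹ • v) = y • (0 : Fin 2 → F) := by rw [h0]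
    rwa [smul_inv_smul, smul_zero] at h1
  · show c • (y⁻¹ • v) = a • (y⁻¹ • v)
    rw [← smul_comm y⁻¹ a v, ← hav', ← mul_smul, ← mul_smul]
    congr 1
    group

theorem not_isConj_ell_up {c : SLt F} (hc : IsEll c) (t : F) : ¬ IsConj c (SL2.up t) := by
  intro h
  obtain ⟨y, hy⟩ := isConj_iff.1 h
  have h1 := isEll_conj hc y
  rw [hy] at h1
  exact ell_10 h1 rfl

theorem sl_inv_apply (c : SLt F) : ((c⁻¹) 0 0 = c 1 1 ∧ (c⁻¹) 0 1 = -c 0 1) ∧
    ((c⁻¹) 1 0 = -c 1 0 ∧ (c⁻¹) 1 1 = c 0 0) := by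
  rw [Matrix.SpecialLinearGroup.coe_inv, Matrix.adjugate_fin_two]
  refine ⟨⟨?_, ?_⟩, ?_, ?_⟩ <;> simp

end field

section finite
variable {F : Type*} [Field F] [Fintype F] [DecidableEq F]

theorem card_norm_one (hodd : Odd (Fintype.card F)) (t : F)
    (ht : ∀ c : F, c ^ 2 - t * c + 1 ≠ 0) :
    (Finset.univ.filter (fun p : F × F => nF t p.1 p.2 = 1)).card = Fintype.card F + 1 := by
  have h2 : (2 : F) ≠ 0 := two_ne_zero_of_odd hodd
  have hΔ : t ^ 2 - 4 ≠ 0 := by
    intro h
    apply ht (t / 2)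
    have h4 : (4 : F) ≠ 0 := by
      have e : (4 : F) = 2 * 2 := by norm_num
      rw [e]
      exact mul_ne_zero h2 h2
    apply mul_left_cancel₀ h4
    rw [mul_zero]
    have e : 4 * ((t / 2) ^ 2 - t * (t / 2) + 1) = -(t ^ 2 - 4) := by
      field_simp
      ring
    rw [e, h, neg_zero]
  have hfib : ∀ d : F, d ≠ 0 →
      (Finset.univ.filter (fun p : F × F => nF t p.1 p.2 = d)).card =
        (Finset.univ.filter (fun p : F × F => nF t p.1 p.2 = 1)).card := by
    intro d hd
    obtain ⟨α, β, hαβ⟩ := exists_norm_eq hodd t hΔ d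
    symm
    apply Finset.card_bij'
      (fun (p : F × F) _ => ((p.1 * α - p.2 * β, p.1 * β + α * p.2 + t * p.2 * β) : F × F))
      (fun (r : F × F) _ =>
        ((d⁻¹ * (r.1 * α + t * r.1 * β + r.2 * β), d⁻¹ * (α * r.2 - r.1 * β)) : F × F))
    · intro p hp
      rw [Finset.mem_filter] at hp ⊢
      refine ⟨Finset.mem_univ _, ?_⟩
      have hp2 := hp.2
      unfold nF at hp2 ⊢
      linear_combination (α ^ 2 + α * β * t + β ^ 2) * hp2 + hαβ
    · intro r hr
      rw [Finset.mem_filter] at hr ⊢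
      refine ⟨Finset.mem_univ _, ?_⟩
      have hr2 := hr.2
      unfold nF at hr2 ⊢
      have h3 : (r.1 * α + t * r.1 * β + r.2 * β) ^ 2 +
          (r.1 * α + t * r.1 * β + r.2 * β) * (α * r.2 - r.1 * β) * t +
          (α * r.2 - r.1 * β) ^ 2 = d * d := by
        linear_combination (α ^ 2 + α * β * t + β ^ 2) * hr2 + d * hαβ
      have h4 : (d⁻¹ * (r.1 * α + t * r.1 * β + r.2 * β)) ^ 2 +
          d⁻¹ * (r.1 * α + t * r.1 * β + r.2 * β) * (d⁻¹ * (α * r.2 - r.1 * β)) * t +
          (d⁻¹ * (α * r.2 - r.1 * β)) ^ 2 = d⁻¹ ^ 2 * ((r.1 * α + t * r.1 * β + r.2 * β) ^ 2 +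
          (r.1 * α + t * r.1 * β + r.2 * β) * (α * r.2 - r.1 * β) * t +
          (α * r.2 - r.1 * β) ^ 2) := by ring
      rw [h4, h3]
      field_simp
    · intro p _
      apply Prod.ext
      · show d⁻¹ * ((p.1 * α - p.2 * β) * α + t * (p.1 * α - p.2 * β) * β +
          (p.1 * β + α * p.2 + t * p.2 * β) * β) = p.1
        rw [inv_mul_eq_iff_eq_mul₀ hd]
        linear_combination p.1 * hαβ
      · show d⁻¹ * (α * (p.1 * β + α * p.2 + t * p.2 * β) - (p.1 * α - p.2 * β) * β) = p.2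
        rw [inv_mul_eq_iff_eq_mul₀ hd]
        linear_combination p.2 * hαβ
    · intro r _
      apply Prod.ext
      · show d⁻¹ * (r.1 * α + t * r.1 * β + r.2 * β) * α - d⁻¹ * (α * r.2 - r.1 * β) * β = r.1
        have e : d⁻¹ * (r.1 * α + t * r.1 * β + r.2 * β) * α - d⁻¹ * (α * r.2 - r.1 * β) * β =
            d⁻¹ * ((r.1 * α + t * r.1 * β + r.2 * β) * α - (α * r.2 - r.1 * β) * β) := by ring
        rw [e, inv_mul_eq_iff_eq_mul₀ hd]
        linear_combination r.1 * hαβ
      · show d⁻¹ * (r.1 * α + t * r.1 * β + r.2 * β) * β + α * (d⁻¹ * (α * r.2 - r.1 * β)) +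
          t * (d⁻¹ * (α * r.2 - r.1 * β)) * β = r.2
        have e : d⁻¹ * (r.1 * α + t * r.1 * β + r.2 * β) * β + α * (d⁻¹ * (α * r.2 - r.1 * β)) +
            t * (d⁻¹ * (α * r.2 - r.1 * β)) * β =
            d⁻¹ * ((r.1 * α + t * r.1 * β + r.2 * β) * β + α * (α * r.2 - r.1 * β) +
              t * (α * r.2 - r.1 * β) * β) := by ring
        rw [e, inv_mul_eq_iff_eq_mul₀ hd]
        linear_combination r.2 * hαβ
  have hzero : (Finset.univ.filter (fun p : F × F => nF t p.1 p.2 = 0)).card = 1 := by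
    rw [Finset.card_eq_one]
    refine ⟨(0, 0), ?_⟩
    ext p
    rw [Finset.mem_filter, Finset.mem_singleton]
    constructor
    · rintro ⟨-, hp⟩
      by_contra hne
      apply nF_ne_zero ht (a := p.1) (b := p.2) _ hp
      rintro ⟨ha, hb⟩
      exact hne (Prod.ext ha hb)
    · rintro rfl
      refine ⟨Finset.mem_univ _, ?_⟩
      unfold nF
      ring
  have htot : Fintype.card F * Fintype.card F =
      ∑ d : F, (Finset.univ.filter (fun p : F × F => nF t p.1 p.2 = d)).card := by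
    rw [← Fintype.card_prod, ← Finset.card_univ]
    apply Finset.card_eq_sum_card_fiberwise
    intro x _
    simp
  rw [← Finset.add_sum_erase Finset.univ _ (Finset.mem_univ (0 : F)), hzero,
    Finset.sum_congr rfl (fun d hd => hfib d (Finset.ne_of_mem_erase hd)), Finset.sum_const,
    Finset.card_erase_of_mem (Finset.mem_univ _), Finset.card_univ, smul_eq_mul] at htot
  obtain ⟨k, hk⟩ : ∃ k, Fintype.card F = k + 1 := ⟨Fintype.card F - 1, by
    have := Fintype.card_pos (α := F)
    omega⟩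
  have hk1 : 1 ≤ k := by
    have := Fintype.one_lt_card (α := F)
    omega
  rw [hk] at htot ⊢
  rw [Nat.add_sub_cancel] at htot
  apply Nat.eq_of_mul_eq_mul_left (by omega : 0 < k)
  have h5 : (k + 1) * (k + 1) = 1 + k * (k + 1 + 1) := by ring
  omega

theorem card_centralizer_ell (hodd : Odd (Fintype.card F)) {g : SLt F} (hg : IsEll g) :
    Nat.card (Subgroup.centralizer ({g} : Set (SLt F))) = Fintype.card F + 1 := by
  have h10 := ell_10 hg
  have h1 : Nat.card (Subgroup.centralizer ({g} : Set (SLt F))) =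
      Nat.card (Set.range (fun p : {p : F × F // nF (g 0 0 + g 1 1) p.1 p.2 = 1} =>
        pEl g p.1.1 p.1.2 p.2)) :=
    Nat.card_congr (Equiv.setCongr (centralizer_ell_eq_range h10))
  rw [h1, Nat.card_range_of_injective (pEl_injective h10), Nat.card_eq_fintype_card,
    Fintype.card_subtype]
  exact card_norm_one hodd _ (fun c => charpoly_ne_zero_of_no_eigen g hg c)

theorem centralizer_ell_cyclic {g : SLt F} (hg : IsEll g) :
    IsCyclic (Subgroup.centralizer ({g} : Set (SLt F))) := by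
  have h10 := ell_10 hg
  obtain ⟨lam, hlam⟩ : ∃ l : AlgebraicClosure F,
      l ^ 2 - (algebraMap F (AlgebraicClosure F) (g 0 0) +
        algebraMap F (AlgebraicClosure F) (g 1 1)) * l + 1 = 0 := by
    have hdeg : (Polynomial.C (1 : AlgebraicClosure F) * Polynomial.X ^ 2 +
        Polynomial.C (-(algebraMap F (AlgebraicClosure F) (g 0 0) +
          algebraMap F (AlgebraicClosure F) (g 1 1))) * Polynomial.X +
        Polynomial.C 1 : Polynomial (AlgebraicClosure F)).degree = 2 :=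
      Polynomial.degree_quadratic one_ne_zero
    obtain ⟨l, hl⟩ := IsAlgClosed.exists_root _ (by
      rw [hdeg]
      norm_num)
    refine ⟨l, ?_⟩
    simp only [Polynomial.IsRoot.def, Polynomial.eval_add, Polynomial.eval_mul,
      Polynomial.eval_C, Polynomial.eval_pow, Polynomial.eval_X] at hl
    linear_combination hl
  let φ : Subgroup.centralizer ({g} : Set (SLt F)) →* AlgebraicClosure F :=
    { toFun := fun x => algebraMap F (AlgebraicClosure F) (aC g x.1) +
        algebraMap F (AlgebraicClosure F) (bC g x.1) * lam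
      map_one' := by
        obtain ⟨ha, hb⟩ := aC_bC_one g
        show algebraMap F (AlgebraicClosure F) (aC g ((1 : SLt F))) +
          algebraMap F (AlgebraicClosure F) (bC g ((1 : SLt F))) * lam = 1
        rw [ha, hb, map_one, map_zero, zero_mul, add_zero]
      map_mul' := by
        intro x y
        have hx := Subgroup.mem_centralizer_singleton_iff.1 x.2
        have hy := Subgroup.mem_centralizer_singleton_iff.1 y.2
        obtain ⟨ha, hb⟩ := aC_bC_mul h10 hx hy
        show algebraMap F (AlgebraicClosure F) (aC g (x.1 * y.1)) +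
          algebraMap F (AlgebraicClosure F) (bC g (x.1 * y.1)) * lam =
          (algebraMap F (AlgebraicClosure F) (aC g x.1) +
            algebraMap F (AlgebraicClosure F) (bC g x.1) * lam) *
          (algebraMap F (AlgebraicClosure F) (aC g y.1) +
            algebraMap F (AlgebraicClosure F) (bC g y.1) * lam)
        rw [ha, hb]
        simp only [map_sub, map_add, map_mul]
        linear_combination (-(algebraMap F (AlgebraicClosure F) (bC g x.1) *
          algebraMap F (AlgebraicClosure F) (bC g y.1))) * hlam }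
  apply isCyclic_of_subgroup_isDomain φ
  rw [injective_iff_map_eq_one]
  intro x hx1
  have hxc := Subgroup.mem_centralizer_singleton_iff.1 x.2
  obtain ⟨x00, x01, x10, x11⟩ := cent_form h10 hxc
  have hφ : algebraMap F (AlgebraicClosure F) (aC g x.1) +
      algebraMap F (AlgebraicClosure F) (bC g x.1) * lam = 1 := hx1
  obtain ⟨⟨o00, o01⟩, o10, o11⟩ := sl_one_apply (F := F)
  by_cases hb : bC g x.1 = 0
  · rw [hb, map_zero, zero_mul, add_zero] at hφ
    have ha : aC g x.1 = 1 := by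
      apply (algebraMap F (AlgebraicClosure F)).injective
      rw [hφ, map_one]
    apply Subtype.ext
    rw [Subgroup.coe_one]
    apply SL2.ext4
    · rw [x00, ha, hb, o00]
      ring
    · rw [x01, hb, o01]
      ring
    · rw [x10, hb, o10]
      ring
    · rw [x11, ha, hb, o11]
      ring
  · exfalso
    have hb' : algebraMap F (AlgebraicClosure F) (bC g x.1) ≠ 0 := by
      intro h
      apply hb
      apply (algebraMap F (AlgebraicClosure F)).injective
      rw [h, map_zero]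
    have hl : lam = algebraMap F (AlgebraicClosure F) ((1 - aC g x.1) / bC g x.1) := by
      rw [map_div₀, map_sub, map_one, eq_div_iff hb']
      linear_combination hφ
    apply charpoly_ne_zero_of_no_eigen g hg ((1 - aC g x.1) / bC g x.1)
    apply (algebraMap F (AlgebraicClosure F)).injective
    rw [map_zero, map_add, map_sub, map_pow, map_mul, map_one, map_add, ← hl]
    exact hlam

/-- an element of order dividing `q + 1` which is not central has no eigenvector -/
theorem ell_of_pow (hodd : Odd (Fintype.card F)) {x : SLt F}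
    (hpow : x ^ (Fintype.card F + 1) = 1) (hnc : x ∉ Subgroup.center (SLt F)) : IsEll x := by
  intro c v hv hcv
  obtain ⟨p, hp⟩ := CharP.exists F
  haveI := hp
  haveI : Fact p.Prime := ⟨CharP.char_is_prime F p⟩
  obtain ⟨n, -, hqn⟩ := FiniteField.card F p
  have hpq : p ∣ Fintype.card F := by
    rw [hqn]
    exact dvd_pow_self p n.ne_zero
  have hc0 : c ≠ 0 := by
    rintro rfl
    rw [zero_smul] at hcv
    have hdet : (x : Matrix (Fin 2) (Fin 2) F).det = 0 :=
      Matrix.exists_mulVec_eq_zero_iff.1 ⟨v, hv, hcv⟩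
    rw [x.det_coe] at hdet
    exact one_ne_zero hdet
  have hfix : (x ^ (Fintype.card F - 1)) • v = v := by
    show ((x ^ (Fintype.card F - 1) : SLt F) : Matrix (Fin 2) (Fin 2) F).mulVec v = v
    rw [Matrix.SpecialLinearGroup.coe_pow, mulVec_pow_eigen _ c v hcv,
      FiniteField.pow_card_sub_one_eq_one c hc0, one_smul]
  have h1 : (x ^ (Fintype.card F - 1)) ^ p = 1 := SL2.pow_p_eq_one_of_fix _ v hv hfix
  have h2 : (x ^ (Fintype.card F - 1)) ^ (Fintype.card F + 1) = 1 := by
    rw [← pow_mul, mul_comm, pow_mul, hpow, one_pow]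
  have h3 : x ^ (Fintype.card F - 1) = 1 := by
    have hd1 := orderOf_dvd_of_pow_eq_one h1
    have hd2 := orderOf_dvd_of_pow_eq_one h2
    have hd3 : orderOf (x ^ (Fintype.card F - 1)) ∣ Fintype.card F := hd1.trans hpq
    have hd4 : orderOf (x ^ (Fintype.card F - 1)) ∣ 1 := (Nat.dvd_add_right hd3).1 hd2
    exact orderOf_eq_one_iff.1 (Nat.dvd_one.1 hd4)
  have h4 : x * x = 1 := by
    have hq1 : 1 ≤ Fintype.card F := Fintype.card_pos
    have e : Fintype.card F + 1 = (Fintype.card F - 1) + 2 := by omega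
    rw [e, pow_add, h3, one_mul, pow_two] at hpow
    exact hpow
  apply hnc
  rcases sq_one_cases (two_ne_zero_of_odd hodd) h4 with h5 | h5
  · rw [h5]
    exact Subgroup.one_mem _
  · rw [h5]
    exact zS_mem_center

/-- an element without eigenvectors is conjugate to its inverse -/
theorem isConj_inv_of_ell (hodd : Odd (Fintype.card F)) {c : SLt F} (hc : IsEll c) :
    IsConj c c⁻¹ := by
  obtain ⟨⟨i00, i01⟩, i10, i11⟩ := sl_inv_apply c
  have h10 := ell_10 hc
  have hns : ¬ PS.IsScalarEl (Matrix.SpecialLinearGroup.toGL c : GLt F) := fun h => h10 h.2.1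
  have hns' : ¬ PS.IsScalarEl (Matrix.SpecialLinearGroup.toGL c⁻¹ : GLt F) := by
    intro h
    have h1 : (c⁻¹) 1 0 = 0 := h.2.1
    rw [i10, neg_eq_zero] at h1
    exact h10 h1
  have hcls : PS.clsInv (Matrix.SpecialLinearGroup.toGL c : GLt F) =
      PS.clsInv (Matrix.SpecialLinearGroup.toGL c⁻¹ : GLt F) := by
    rw [PS.clsInv_of_not_scalar hns, PS.clsInv_of_not_scalar hns']
    congr 1
    apply Prod.ext
    · show c 0 0 + c 1 1 = (c⁻¹) 0 0 + (c⁻¹) 1 1
      rw [i00, i11]
      ring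
    · apply Units.ext
      rw [PS.dU_coe, PS.dU_coe]
      show c 0 0 * c 1 1 - c 0 1 * c 1 0 = (c⁻¹) 0 0 * (c⁻¹) 1 1 - (c⁻¹) 0 1 * (c⁻¹) 1 0
      rw [i00, i01, i10, i11]
      ring
  obtain ⟨x, hx⟩ := isConj_iff.1 (PS.isConj_of_clsInv_eq hcls)
  obtain ⟨k, hcomm, hdet⟩ := centralizer_det_of_no_eigen hodd c hc
    (Matrix.GeneralLinearGroup.det x)⁻¹
  have hy : x * k ∈ (Matrix.SpecialLinearGroup.toGL : SLt F →* GLt F).range := by
    rw [mem_range_iff, map_mul, hdet, mul_inv_cancel]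
  obtain ⟨y₀, hy₀⟩ := MonoidHom.mem_range.1 hy
  rw [isConj_iff]
  refine ⟨y₀, ?_⟩
  apply Matrix.SpecialLinearGroup.toGL_injective
  have h1 : (Matrix.SpecialLinearGroup.toGL : SLt F →* GLt F) (y₀ * c * y₀⁻¹) =
      x * (Matrix.SpecialLinearGroup.toGL : SLt F →* GLt F) c * x⁻¹ := by
    rw [map_mul, map_mul, map_inv, hy₀, mul_inv_rev, mul_assoc x k, hcomm]
    group
  exact h1.trans hx

end finite

end Cfsg.Agent.Lib.Helper26.PSR
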