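import Mathlib
import Cfsg.Prelude.Def_Characters
import Cfsg.Agent.Lib.Helper26.Fourier
import Cfsg.Agent.Lib.Helper26.LinCharOrtho
import Cfsg.Agent.Lib.Helper26.CharInt
import Cfsg.Agent.Lib.Helper26.CharBasic

/-!
# Fourier analysis on a finite abelian group and integral patterns (helper26)

For a finite abelian group `W`: the number of linear characters, Fourier inversion, and the
description of the functions with integral Fourier coefficients of small norm.
-/

set_option autoImplicit false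

namespace Cfsg.Agent.Lib.Helper26.TF
open Cfsg Cfsg.Agent.Lib.Helper26
open scoped ComplexConjugate

section ints

/-- integers with `∑ d = k` and `∑ d² ≤ k` are `0` or `1` -/
theorem int_zero_one {ι : Type*} [Fintype ι] (d : ι → ℤ) (k : ℤ) (h1 : ∑ i, d i = k)
    (h2 : ∑ i, d i ^ 2 ≤ k) : ∀ i, d i = 0 ∨ d i = 1 := by
  have hnn : ∀ i, 0 ≤ d i ^ 2 - d i := by
    intro i
    have h : d i ≤ 0 ∨ 1 ≤ d i := by omega
    rcases h with h | h <;> nlinarith
  have hsum : ∑ i, (d i ^ 2 - d i) ≤ 0 := by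
    rw [Finset.sum_sub_distrib, h1]
    linarith
  have h3 : ∑ i, (d i ^ 2 - d i) = 0 :=
    le_antisymm hsum (Finset.sum_nonneg (fun i _ => hnn i))
  intro i
  have h4 := (Finset.sum_eq_zero_iff_of_nonneg (fun i _ => hnn i)).1 h3 i (Finset.mem_univ i)
  have h5 : d i * (d i - 1) = 0 := by linear_combination h4
  rcases mul_eq_zero.1 h5 with h | h
  · left
    exact h
  · right
    omega

theorem int_sum_le_sq {ι : Type*} [Fintype ι] (d : ι → ℤ) : ∑ i, d i ≤ ∑ i, d i ^ 2 := by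
  apply Finset.sum_le_sum
  intro i _
  have h : d i ≤ 0 ∨ 1 ≤ d i := by omega
  rcases h with h | h <;> nlinarith

open scoped Classical in
theorem int_card_ones {ι : Type*} [Fintype ι] (d : ι → ℤ) (h01 : ∀ i, d i = 0 ∨ d i = 1) :
    ∑ i, d i = ((Finset.univ.filter (fun i => d i = 1)).card : ℤ) := by
  rw [Finset.card_eq_sum_ones, Finset.sum_filter]
  push_cast
  apply Finset.sum_congr rfl
  intro i _
  rcases h01 i with h | h
  · rw [h, if_neg (by norm_num)]
  · rw [h, if_pos rfl]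

end ints

section
variable {W : Type*} [Group W] [Fintype W]

theorem card_hom_eq (hc : ∀ a b : W, a * b = b * a) : Nat.card (W →* ℂˣ) = Nat.card W := by
  let _ : CommGroup W := { (inferInstance : Group W) with mul_comm := hc }
  exact CommGroup.card_monoidHom_of_hasEnoughRootsOfUnity W ℂ

theorem sum_hom_one (hc : ∀ a b : W, a * b = b * a) [Fintype (W →* ℂˣ)] :
    ∑ θ : W →* ℂˣ, ((θ (1 : W) : ℂˣ) : ℂ) = (Nat.card W : ℂ) := by
  simp only [map_one, Units.val_one, Finset.sum_const, Finset.card_univ, nsmul_eq_mul, mul_one]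
  rw [← card_hom_eq hc, Nat.card_eq_fintype_card]

theorem sum_hom_ne_one (hc : ∀ a b : W, a * b = b * a) [Fintype (W →* ℂˣ)] {x : W}
    (hx : x ≠ 1) : ∑ θ : W →* ℂˣ, ((θ x : ℂˣ) : ℂ) = 0 := by
  classical
  have h := sum_char_trivial_on_eq_zero hc (⊥ : Subgroup W) (x := x)
    (by rw [Subgroup.mem_bot]; exact hx)
  rw [Finset.filter_true_of_mem] at h
  · exact h
  · intro φ _ n hn
    rw [Subgroup.mem_bot] at hn
    rw [hn, map_one]

/-- Fourier inversion on a finite abelian group -/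
theorem fourier_inversion (hc : ∀ a b : W, a * b = b * a) [Fintype (W →* ℂˣ)] (f : W → ℂ)
    (w : W) : f w = ∑ θ : W →* ℂˣ, classInner f (linFun θ) * ((θ w : ℂˣ) : ℂ) := by
  classical
  have hne : (Nat.card W : ℂ) ≠ 0 := Nat.cast_ne_zero.2 Nat.card_pos.ne'
  have h1 : ∀ θ : W →* ℂˣ, classInner f (linFun θ) * ((θ w : ℂˣ) : ℂ) =
      (Nat.card W : ℂ)⁻¹ * ∑ v : W, f v * ((θ (v⁻¹ * w) : ℂˣ) : ℂ) := by
    intro θ
    unfold classInner
    rw [mul_assoc, Finset.sum_mul]
    congr 1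
    apply Finset.sum_congr rfl
    intro v _
    rw [linFun_apply, conj_linChar, map_mul, Units.val_mul]
    ring
  rw [Finset.sum_congr rfl (fun θ _ => h1 θ), ← Finset.mul_sum, Finset.sum_comm]
  have h2 : ∀ v : W, ∑ θ : W →* ℂˣ, f v * ((θ (v⁻¹ * w) : ℂˣ) : ℂ) =
      if v = w then f v * (Nat.card W : ℂ) else 0 := by
    intro v
    rw [← Finset.mul_sum]
    by_cases hv : v = w
    · rw [if_pos hv, hv, inv_mul_cancel, sum_hom_one hc]
    · rw [if_neg hv, sum_hom_ne_one hc, mul_zero]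
      intro h
      exact hv (inv_mul_eq_one.1 h)
  rw [Finset.sum_congr rfl (fun v _ => h2 v), Finset.sum_ite_eq' Finset.univ w, if_pos
    (Finset.mem_univ w)]
  field_simp

/-- a function with integral Fourier coefficients: value at `1`, norm and expansion -/
theorem coeff_data (hc : ∀ a b : W, a * b = b * a) [Fintype (W →* ℂˣ)] (D : W → ℂ)
    (hint : ∀ θ : W →* ℂˣ, ∃ n : ℤ, classInner D (linFun θ) = (n : ℂ)) :
    ∃ d : (W →* ℂˣ) → ℤ, (∀ θ, classInner D (linFun θ) = (d θ : ℂ)) ∧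
      D 1 = ((∑ θ, d θ : ℤ) : ℂ) ∧ classInner D D = ((∑ θ, d θ ^ 2 : ℤ) : ℂ) ∧
      (∀ w, D w = ∑ θ : W →* ℂˣ, (d θ : ℂ) * ((θ w : ℂˣ) : ℂ)) := by
  classical
  choose d hd using hint
  have hexp : ∀ w, D w = ∑ θ : W →* ℂˣ, (d θ : ℂ) * ((θ w : ℂˣ) : ℂ) := by
    intro w
    rw [fourier_inversion hc D w]
    exact Finset.sum_congr rfl (fun θ _ => by rw [hd θ])
  refine ⟨d, hd, ?_, ?_, hexp⟩
  · rw [hexp 1]
    push_cast
    apply Finset.sum_congr rfl
    intro θ _
    rw [map_one, Units.val_one, mul_one]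
  · have hD : D = ∑ θ : W →* ℂˣ, (d θ : ℂ) • linFun θ := by
      funext w
      rw [hexp w, Finset.sum_apply]
      apply Finset.sum_congr rfl
      intro θ _
      rw [Pi.smul_apply, smul_eq_mul, linFun_apply]
    have h1 : classInner D D = classInner D (∑ θ : W →* ℂˣ, (d θ : ℂ) • linFun θ) := by
      rw [← hD]
    rw [h1, classInner_sum_right]
    push_cast
    apply Finset.sum_congr rfl
    intro θ _
    rw [classInner_smul_right, hd θ, map_intCast]
    ring

open scoped Classical in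
/-- the inner product of a sum of distinct linear characters with a linear character -/
theorem inner_finset_sum [Fintype (W →* ℂˣ)] (T : Finset (W →* ℂˣ)) (θ' : W →* ℂˣ) :
    classInner (fun w => ∑ θ ∈ T, ((θ w : ℂˣ) : ℂ)) (linFun θ') = if θ' ∈ T then 1 else 0 := by
  have h1 : (fun w => ∑ θ ∈ T, ((θ w : ℂˣ) : ℂ)) = ∑ θ ∈ T, linFun θ := by
    funext w
    rw [Finset.sum_apply]
    rfl
  rw [h1, classInner_sum_left]
  have h2 : ∀ θ ∈ T, classInner (linFun θ) (linFun θ') = if θ' = θ then 1 else 0 := by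
    intro θ _
    rw [classInner_linFun]
    by_cases h : θ = θ'
    · rw [if_pos h, if_pos h.symm]
    · rw [if_neg h, if_neg (fun h' => h h'.symm)]
  rw [Finset.sum_congr rfl h2, Finset.sum_ite_eq T θ']

open scoped Classical in
/-- integral Fourier coefficients, `D 1 = k` and norm at most `k`: a sum of `k` distinct linear
characters -/
theorem pattern (hc : ∀ a b : W, a * b = b * a) [Fintype (W →* ℂˣ)] (D : W → ℂ)
    (hint : ∀ θ : W →* ℂˣ, ∃ n : ℤ, classInner D (linFun θ) = (n : ℂ)) (k : ℕ)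
    (h1 : D 1 = (k : ℂ)) (m : ℤ) (h2 : classInner D D = (m : ℂ)) (hm : m ≤ (k : ℤ)) :
    ∃ T : Finset (W →* ℂˣ), T.card = k ∧ ∀ w, D w = ∑ θ ∈ T, ((θ w : ℂˣ) : ℂ) := by
  obtain ⟨d, -, hone, hnorm, hexp⟩ := coeff_data hc D hint
  have hs1 : ∑ θ, d θ = (k : ℤ) := by
    have h3 : ((∑ θ, d θ : ℤ) : ℂ) = ((k : ℤ) : ℂ) := by
      rw [← hone, h1]
      norm_num
    exact_mod_cast h3
  have hs2 : ∑ θ, d θ ^ 2 ≤ (k : ℤ) := by
    have h3 : ((∑ θ, d θ ^ 2 : ℤ) : ℂ) = (m : ℂ) := by rw [← hnorm, h2]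
    have h4 : ∑ θ, d θ ^ 2 = m := by exact_mod_cast h3
    rw [h4]
    exact hm
  have h01 := int_zero_one d k hs1 hs2
  refine ⟨Finset.univ.filter (fun θ => d θ = 1), ?_, ?_⟩
  · have h5 := int_card_ones d h01
    rw [hs1] at h5
    exact_mod_cast h5.symm
  · intro w
    rw [hexp w, Finset.sum_filter]
    apply Finset.sum_congr rfl
    intro θ _
    rcases h01 θ with h | h
    · rw [h, if_neg (by norm_num)]
      norm_num
    · rw [h, if_pos rfl]
      norm_num

/-- the lower bound `D 1 ≤ ⟨D, D⟩` for integral Fourier coefficients -/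
theorem norm_ge (hc : ∀ a b : W, a * b = b * a) [Fintype (W →* ℂˣ)] (D : W → ℂ)
    (hint : ∀ θ : W →* ℂˣ, ∃ n : ℤ, classInner D (linFun θ) = (n : ℂ)) :
    ∃ n m : ℤ, D 1 = (n : ℂ) ∧ classInner D D = (m : ℂ) ∧ n ≤ m := by
  obtain ⟨d, -, hone, hnorm, -⟩ := coeff_data hc D hint
  exact ⟨_, _, hone, hnorm, int_sum_le_sq d⟩

open scoped Classical in
/-- sums of distinct linear characters determine the set of characters -/
theorem finset_eq_of_sum_eq [Fintype (W →* ℂˣ)] (T T' : Finset (W →* ℂˣ))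
    (h : ∀ w, ∑ θ ∈ T, ((θ w : ℂˣ) : ℂ) = ∑ θ ∈ T', ((θ w : ℂˣ) : ℂ)) : T = T' := by
  ext θ'
  have h1 := inner_finset_sum T θ'
  have h2 := inner_finset_sum T' θ'
  have h3 : (fun w => ∑ θ ∈ T, ((θ w : ℂˣ) : ℂ)) = (fun w => ∑ θ ∈ T', ((θ w : ℂˣ) : ℂ)) :=
    funext h
  rw [h3, h2] at h1
  by_cases ha : θ' ∈ T <;> by_cases hb : θ' ∈ T'
  · exact ⟨fun _ => hb, fun _ => ha⟩
  · rw [if_neg hb, if_pos ha] at h1
    exact absurd h1 zero_ne_one
  · rw [if_pos hb, if_neg ha] at h1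
    exact absurd h1 one_ne_zero
  · exact ⟨fun h => absurd h ha, fun h => absurd h hb⟩

end

end Cfsg.Agent.Lib.Helper26.TF
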