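import Mathlib
import Cfsg.Prelude.Def_Characters
import Cfsg.Agent.Lib.Helper26.SL2Ell
import Cfsg.Agent.Lib.Helper26.TorusFourier
import Cfsg.Agent.Lib.Helper26.PrimeActChar
import Cfsg.Agent.Lib.Helper26.IndChar
import Cfsg.Agent.Lib.Helper4.CharOrtho

/-!
# Restriction of the characters of `SL₂(q)` to a commutative subgroup of order `q + 1` (helper26)

The non-central elements of such a subgroup `C` have no eigenvector. For an irreducible character
`χ` of degree `k (q - 1) / 2` (`k = 1, 2`) the sum of `|χ|²` over the non-central elements of `C`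
is at least `k (q + 1) - 2 k²`, with equality only if `χ = - (θ₁ + … + θ_k)` there for distinct
linear characters `θᵢ` of `C`.
-/

set_option autoImplicit false

namespace Cfsg.Agent.Lib.Helper26.PSR
open Cfsg Cfsg.Agent.Lib.Helper26 Cfsg.Agent.Lib.Helper12
open scoped ComplexConjugate

local notation "GLt" => Matrix.GeneralLinearGroup (Fin 2)
local notation "SLt" => Matrix.SpecialLinearGroup (Fin 2)

section torus
variable {F : Type*} [Field F] [Fintype F] [DecidableEq F]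

attribute [local instance] Cfsg.Agent.Lib.Helper26.PS.instFintypeMulCharAux
attribute [local instance] Cfsg.Agent.Lib.Helper26.PS.instFintypeIrrAux
attribute [local instance] Cfsg.Agent.Lib.Helper26.PSR.instFintypeIrrSLAux

open scoped Classical in
/-- the non-central elements of a subgroup -/
noncomputable def NZ (C : Subgroup (SLt F)) [Fintype C] : Finset C :=
  Finset.univ.filter (fun c : C => (c : SLt F) ∉ Subgroup.center (SLt F))

theorem mem_NZ (C : Subgroup (SLt F)) [Fintype C] (c : C) :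
    c ∈ NZ C ↔ (c : SLt F) ∉ Subgroup.center (SLt F) := by
  unfold NZ
  rw [Finset.mem_filter]
  exact ⟨fun h => h.2, fun h => ⟨Finset.mem_univ _, h⟩⟩

/-- the sum of `|χ|²` over the non-central elements -/
noncomputable def Sr (C : Subgroup (SLt F)) [Fintype C] (χ : SLt F → ℂ) : ℝ :=
  ∑ c ∈ NZ C, Complex.normSq (χ c)

theorem Sr_nonneg (C : Subgroup (SLt F)) [Fintype C] (χ : SLt F → ℂ) : 0 ≤ Sr C χ :=
  Finset.sum_nonneg (fun _ _ => Complex.normSq_nonneg _)

theorem zS_ne_one (h2 : (2 : F) ≠ 0) : (zS : SLt F) ≠ 1 := by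
  intro h
  have h1 : (zS : SLt F) 0 0 = (1 : SLt F) 0 0 := by rw [h]
  rw [sl_one_apply.1.1] at h1
  have h3 : (-1 : F) = 1 := h1
  apply h2
  linear_combination -h3

theorem zS_mem_torus (hodd : Odd (Fintype.card F)) (C : Subgroup (SLt F))
    (hcard : Nat.card C = Fintype.card F + 1) : (zS : SLt F) ∈ C := by
  haveI : Fact (Nat.Prime 2) := ⟨Nat.prime_two⟩
  have h2 : 2 ∣ Nat.card C := by
    rw [hcard]
    obtain ⟨k, hk⟩ := hodd
    exact ⟨k + 1, by omega⟩
  obtain ⟨x, hx⟩ := exists_prime_orderOf_dvd_card' 2 h2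
  have hx2 : x * x = 1 := by
    have h3 := pow_orderOf_eq_one x
    rw [hx, pow_two] at h3
    exact h3
  have hx1 : x ≠ 1 := by
    intro h
    rw [h, orderOf_one] at hx
    norm_num at hx
  have hx2' : (x : SLt F) * (x : SLt F) = 1 := by
    have h3 := congrArg Subtype.val hx2
    rwa [Subgroup.coe_mul, Subgroup.coe_one] at h3
  rcases sq_one_cases (two_ne_zero_of_odd hodd) hx2' with h | h
  · exact absurd (Subtype.ext h) hx1
  · rw [← h]
    exact x.2

theorem sum_torus (h2 : (2 : F) ≠ 0) (C : Subgroup (SLt F)) [Fintype C]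
    (hz : (zS : SLt F) ∈ C) (f : C → ℂ) :
    ∑ c : C, f c = f 1 + f ⟨zS, hz⟩ + ∑ c ∈ NZ C, f c := by
  classical
  have hne : (1 : C) ≠ ⟨zS, hz⟩ := by
    intro h
    exact zS_ne_one h2 (congrArg Subtype.val h).symm
  have hcompl : Finset.univ.filter
      (fun c : C => ¬ (c : SLt F) ∉ Subgroup.center (SLt F)) = {1, ⟨zS, hz⟩} := by
    ext c
    rw [Finset.mem_filter, Finset.mem_insert, Finset.mem_singleton, not_not]
    constructor
    · rintro ⟨-, hc⟩
      rcases center_cases h2 hc with h | h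
      · left
        exact Subtype.ext h
      · right
        exact Subtype.ext h
    · rintro (rfl | rfl)
      · refine ⟨Finset.mem_univ _, ?_⟩
        rw [Subgroup.coe_one]
        exact Subgroup.one_mem _
      · exact ⟨Finset.mem_univ _, zS_mem_center⟩
  rw [← Finset.sum_filter_add_sum_filter_not Finset.univ
    (fun c : C => (c : SLt F) ∉ Subgroup.center (SLt F)) f, hcompl, Finset.sum_pair hne]
  unfold NZ
  ring

theorem card_NZ (h2 : (2 : F) ≠ 0) (C : Subgroup (SLt F)) [Fintype C]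
    (hz : (zS : SLt F) ∈ C) (hcard : Nat.card C = Fintype.card F + 1) :
    (NZ C).card + 2 = Fintype.card F + 1 := by
  have h := sum_torus h2 C hz (fun _ => (1 : ℂ))
  simp only [Finset.sum_const, Finset.card_univ, nsmul_eq_mul, mul_one] at h
  rw [← Nat.card_eq_fintype_card, hcard] at h
  have h3 : ((Fintype.card F + 1 : ℕ) : ℂ) = (((NZ C).card + 2 : ℕ) : ℂ) := by
    rw [h]
    push_cast
    ring
  exact_mod_cast h3.symm

theorem ell_of_mem_NZ (hodd : Odd (Fintype.card F)) (C : Subgroup (SLt F)) [Fintype C]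
    (hcard : Nat.card C = Fintype.card F + 1) {c : C} (hc : c ∈ NZ C) : IsEll (c : SLt F) := by
  apply ell_of_pow hodd _ ((mem_NZ C c).1 hc)
  have h : c ^ Nat.card C = 1 := pow_card_eq_one'
  rw [hcard] at h
  have h' := congrArg Subtype.val h
  rwa [Subgroup.coe_pow, Subgroup.coe_one] at h'

theorem sum_normSq_ell (hodd : Odd (Fintype.card F)) {g : SLt F} (hg : IsEll g) :
    ∑ χ : IrrCharacter (SLt F), Complex.normSq ((χ : SLt F → ℂ) g) =
      (Fintype.card F : ℝ) + 1 := by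
  have h := Cfsg.Agent.Lib.Helper4.column_orthogonality g g
  rw [if_pos (IsConj.refl g), card_centralizer_ell hodd hg] at h
  have h2 : ∀ χ : IrrCharacter (SLt F), (χ : SLt F → ℂ) g * conj ((χ : SLt F → ℂ) g) =
      ((Complex.normSq ((χ : SLt F → ℂ) g) : ℝ) : ℂ) := fun χ => Complex.mul_conj _
  rw [Finset.sum_congr rfl (fun χ _ => h2 χ), ← Complex.ofReal_sum] at h
  have h3 : ((∑ χ : IrrCharacter (SLt F), Complex.normSq ((χ : SLt F → ℂ) g) : ℝ) : ℂ) =
      (((Fintype.card F : ℝ) + 1 : ℝ) : ℂ) := by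
    rw [h]
    push_cast
    ring
  exact_mod_cast h3

theorem sum_Sr (hodd : Odd (Fintype.card F)) (C : Subgroup (SLt F)) [Fintype C]
    (hcard : Nat.card C = Fintype.card F + 1) :
    ∑ χ : IrrCharacter (SLt F), Sr C (χ : SLt F → ℂ) =
      ((NZ C).card : ℝ) * ((Fintype.card F : ℝ) + 1) := by
  unfold Sr
  rw [Finset.sum_comm, Finset.sum_congr rfl
    (fun c hc => sum_normSq_ell hodd (ell_of_mem_NZ hodd C hcard hc)), Finset.sum_const,
    nsmul_eq_mul]

open scoped Classical in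
/-- the central part of the restriction -/
noncomputable def tR (C : Subgroup (SLt F)) (zC : C) (A σ : ℂ) : C → ℂ :=
  fun c => if c = 1 then A else if c = zC then σ * A else 0

theorem tR_one (C : Subgroup (SLt F)) (zC : C) (A σ : ℂ) : tR C zC A σ 1 = A := by
  unfold tR
  rw [if_pos rfl]

theorem tR_z (C : Subgroup (SLt F)) (zC : C) (hne : zC ≠ 1) (A σ : ℂ) :
    tR C zC A σ zC = σ * A := by
  unfold tR
  rw [if_neg hne, if_pos rfl]

theorem tR_NZ (C : Subgroup (SLt F)) [Fintype C] (hz : (zS : SLt F) ∈ C) (A σ : ℂ) {c : C}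
    (hc : c ∈ NZ C) : tR C ⟨zS, hz⟩ A σ c = 0 := by
  have hc' := (mem_NZ C c).1 hc
  unfold tR
  rw [if_neg, if_neg]
  · rintro rfl
    exact hc' zS_mem_center
  · rintro rfl
    apply hc'
    rw [Subgroup.coe_one]
    exact Subgroup.one_mem _

/-- the value of a linear character at the central involution -/
theorem lin_z_cases (C : Subgroup (SLt F)) (hz : (zS : SLt F) ∈ C) (θ : C →* ℂˣ) :
    ((θ ⟨zS, hz⟩ : ℂˣ) : ℂ) = 1 ∨ ((θ ⟨zS, hz⟩ : ℂˣ) : ℂ) = -1 := by
  have h1 : (⟨zS, hz⟩ : C) * ⟨zS, hz⟩ = 1 := Subtype.ext zS_mul_self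
  have h2 : θ ⟨zS, hz⟩ * θ ⟨zS, hz⟩ = 1 := by rw [← map_mul, h1, map_one]
  have h3 : ((θ ⟨zS, hz⟩ : ℂˣ) : ℂ) * ((θ ⟨zS, hz⟩ : ℂˣ) : ℂ) = 1 := by
    rw [← Units.val_mul, h2, Units.val_one]
  have h4 : (((θ ⟨zS, hz⟩ : ℂˣ) : ℂ) - 1) * (((θ ⟨zS, hz⟩ : ℂˣ) : ℂ) + 1) = 0 := by
    linear_combination h3
  rcases mul_eq_zero.1 h4 with h | h
  · exact Or.inl (sub_eq_zero.1 h)
  · exact Or.inr (eq_neg_of_add_eq_zero_left h)

open scoped Classical in
theorem inner_tR (h2 : (2 : F) ≠ 0) (C : Subgroup (SLt F)) [Fintype C]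
    (hz : (zS : SLt F) ∈ C) (hcard : Nat.card C = Fintype.card F + 1) (k : ℕ) (A σ : ℂ)
    (hA : 2 * A = (k : ℂ) * ((Fintype.card F : ℂ) + 1)) (hσ : σ = 1 ∨ σ = -1) (θ : C →* ℂˣ) :
    classInner (tR C ⟨zS, hz⟩ A σ) (linFun θ) =
      if σ * ((θ ⟨zS, hz⟩ : ℂˣ) : ℂ) = 1 then (k : ℂ) else 0 := by
  have hne : (⟨zS, hz⟩ : C) ≠ 1 := by
    intro h
    exact zS_ne_one h2 (congrArg Subtype.val h)
  have hq : ((Fintype.card F : ℂ) + 1) ≠ 0 := by
    have h3 : ((Fintype.card F + 1 : ℕ) : ℂ) ≠ 0 := Nat.cast_ne_zero.2 (by omega)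
    rwa [Nat.cast_add, Nat.cast_one] at h3
  unfold classInner
  rw [sum_torus h2 C hz, tR_one, tR_z C _ hne, hcard, Nat.cast_add, Nat.cast_one]
  have h3 : ∑ c ∈ NZ C, tR C ⟨zS, hz⟩ A σ c * conj (linFun θ c) = 0 := by
    apply Finset.sum_eq_zero
    intro c hc
    rw [tR_NZ C hz A σ hc, zero_mul]
  rw [h3, add_zero, linFun_apply, linFun_apply, map_one, Units.val_one, map_one, mul_one]
  rcases lin_z_cases C hz θ with hτ | hτ <;> rcases hσ with hs | hs
  · rw [hτ, hs, map_one, if_pos (by norm_num)]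
    field_simp
    linear_combination hA
  · rw [hτ, hs, map_one, if_neg (by norm_num)]
    ring
  · rw [hτ, hs, map_neg, map_one, if_neg (by norm_num)]
    ring
  · rw [hτ, hs, map_neg, map_one, if_pos (by norm_num)]
    field_simp
    linear_combination hA

/-- the main estimate for one irreducible character -/
theorem per_chi (hodd : Odd (Fintype.card F)) (C : Subgroup (SLt F)) [Fintype C]
    (hcomm : ∀ a b : C, a * b = b * a) (hcard : Nat.card C = Fintype.card F + 1)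
    {χ : SLt F → ℂ} (hχ : IsIrrCharacter (SLt F) χ) (e k : ℕ) (hdeg : χ 1 = (e : ℂ))
    (hek : 2 * (e + k) = k * (Fintype.card F + 1)) (σ : ℂ) (hσ : σ = 1 ∨ σ = -1)
    (hzχ : ∀ g, χ (zS * g) = σ * χ g) :
    ((k : ℝ) * ((Fintype.card F : ℝ) + 1) - 2 * (k : ℝ) ^ 2 ≤ Sr C χ) ∧
    (Sr C χ ≤ (k : ℝ) * ((Fintype.card F : ℝ) + 1) - 2 * (k : ℝ) ^ 2 →
      ∃ T : Finset (C →* ℂˣ), T.card = k ∧
        (∀ c : C, (c : SLt F) ∉ Subgroup.center (SLt F) →
          χ c = -∑ θ ∈ T, ((θ c : ℂˣ) : ℂ)) ∧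
        (∀ θ ∈ T, ∀ c : C, (c : SLt F) = zS → ((θ c : ℂˣ) : ℂ) = σ)) := by
  classical
  letI : Fintype (C →* ℂˣ) := Fintype.ofFinite _
  have h2 := two_ne_zero_of_odd hodd
  have hz := zS_mem_torus hodd C hcard
  have hne : (⟨zS, hz⟩ : C) ≠ 1 := by
    intro h
    exact zS_ne_one h2 (congrArg Subtype.val h)
  have hq : ((Fintype.card F : ℂ) + 1) ≠ 0 := by
    have h3 : ((Fintype.card F + 1 : ℕ) : ℂ) ≠ 0 := Nat.cast_ne_zero.2 (by omega)
    rwa [Nat.cast_add, Nat.cast_one] at h3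
  have hA : 2 * ((e : ℂ) + (k : ℂ)) = (k : ℂ) * ((Fintype.card F : ℂ) + 1) := by
    have h3 := congrArg (fun n : ℕ => (n : ℂ)) hek
    simp only [Nat.cast_mul, Nat.cast_add, Nat.cast_ofNat, Nat.cast_one] at h3
    exact h3
  have hσσ : σ * σ = 1 := by
    rcases hσ with h | h <;> rw [h] <;> norm_num
  have hσc : conj σ = σ := by
    rcases hσ with h | h <;> rw [h] <;> simp
  obtain ⟨D, hDdef⟩ : ∃ D : C → ℂ, D = tR C ⟨zS, hz⟩ ((e : ℂ) + (k : ℂ)) σ - χ ∘ C.subtype :=
    ⟨_, rfl⟩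
  -- the Fourier coefficients
  have hcoef : ∀ θ : C →* ℂˣ, ∃ m : ℕ, classInner D (linFun θ) =
      (if σ * ((θ ⟨zS, hz⟩ : ℂˣ) : ℂ) = 1 then (k : ℂ) else 0) - (m : ℂ) := by
    intro θ
    obtain ⟨m, hm⟩ := classInner_isCharacter_nat
      (isCharacter_restrict C (isCharacter_of_isIrrCharacter hχ))
      (isCharacter_of_isIrrCharacter (isIrrCharacter_linFun θ))
    refine ⟨m, ?_⟩
    rw [hDdef, classInner_sub_left, inner_tR h2 C hz hcard k _ σ hA hσ θ, hm]
  have hint : ∀ θ : C →* ℂˣ, ∃ n : ℤ, classInner D (linFun θ) = (n : ℂ) := by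
    intro θ
    obtain ⟨m, hm⟩ := hcoef θ
    by_cases h : σ * ((θ ⟨zS, hz⟩ : ℂˣ) : ℂ) = 1
    · refine ⟨(k : ℤ) - m, ?_⟩
      rw [hm, if_pos h]
      push_cast
      ring
    · refine ⟨-(m : ℤ), ?_⟩
      rw [hm, if_neg h]
      push_cast
      ring
  -- the values of `D`
  have hD1 : D 1 = (k : ℂ) := by
    rw [hDdef, Pi.sub_apply, tR_one, Function.comp_apply, map_one, hdeg]
    ring
  have hDz : D ⟨zS, hz⟩ = σ * (k : ℂ) := by
    rw [hDdef, Pi.sub_apply, tR_z C _ hne, Function.comp_apply]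
    have h3 : χ (C.subtype ⟨zS, hz⟩) = σ * (e : ℂ) := by
      have h4 := hzχ 1
      rw [mul_one, hdeg] at h4
      exact h4
    rw [h3]
    ring
  have hDn : ∀ c ∈ NZ C, D c = -χ c := by
    intro c hc
    rw [hDdef, Pi.sub_apply, tR_NZ C hz _ σ hc, Function.comp_apply, zero_sub]
    rfl
  have hnorm : classInner D D * ((Fintype.card F : ℂ) + 1) =
      2 * (k : ℂ) ^ 2 + ((Sr C χ : ℝ) : ℂ) := by
    unfold classInner
    rw [sum_torus h2 C hz, hD1, hDz, hcard, Nat.cast_add, Nat.cast_one]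
    have h3 : ∑ c ∈ NZ C, D c * conj (D c) = ((Sr C χ : ℝ) : ℂ) := by
      unfold Sr
      rw [Complex.ofReal_sum]
      apply Finset.sum_congr rfl
      intro c hc
      rw [hDn c hc, map_neg, neg_mul_neg]
      exact Complex.mul_conj _
    rw [h3, map_mul, hσc, Complex.conj_natCast]
    field_simp
    linear_combination (k : ℂ) ^ 2 * hσσ
  obtain ⟨n, m, hn, hm, hnm⟩ := TF.norm_ge hcomm D hint
  have hnk : n = (k : ℤ) := by
    have h3 : (n : ℂ) = ((k : ℤ) : ℂ) := by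
      rw [← hn, hD1]
      norm_num
    exact_mod_cast h3
  have hreal : (m : ℝ) * ((Fintype.card F : ℝ) + 1) = 2 * (k : ℝ) ^ 2 + Sr C χ := by
    have h3 : (((m : ℝ) * ((Fintype.card F : ℝ) + 1) : ℝ) : ℂ) =
        ((2 * (k : ℝ) ^ 2 + Sr C χ : ℝ) : ℂ) := by
      push_cast
      rw [← hnorm, hm]
    exact_mod_cast h3
  have hqpos : (0 : ℝ) < (Fintype.card F : ℝ) + 1 := by positivity
  constructor
  · have h3 : (k : ℝ) ≤ (m : ℝ) := by
      rw [hnk] at hnm
      exact_mod_cast hnm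
    nlinarith
  · intro hle
    have hmk : m ≤ (k : ℤ) := by
      have h3 : (m : ℝ) * ((Fintype.card F : ℝ) + 1) ≤ (k : ℝ) * ((Fintype.card F : ℝ) + 1) := by
        rw [hreal]
        linarith
      have h4 : (m : ℝ) ≤ (k : ℝ) := le_of_mul_le_mul_right h3 hqpos
      exact_mod_cast h4
    obtain ⟨T, hTcard, hT⟩ := TF.pattern hcomm D hint k hD1 m hm hmk
    refine ⟨T, hTcard, ?_, ?_⟩
    · intro c hc
      have h3 := hT c
      rw [hDn c ((mem_NZ C c).2 hc)] at h3
      rw [← h3, neg_neg]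
    · intro θ hθ c hc
      have hcz : c = ⟨zS, hz⟩ := Subtype.ext hc
      rw [hcz]
      have h3 : classInner D (linFun θ) = 1 := by
        have h4 : D = fun w => ∑ θ ∈ T, ((θ w : ℂˣ) : ℂ) := funext hT
        rw [h4, TF.inner_finset_sum T θ, if_pos hθ]
      obtain ⟨m', hm'⟩ := hcoef θ
      by_cases h : σ * ((θ ⟨zS, hz⟩ : ℂˣ) : ℂ) = 1
      · calc ((θ ⟨zS, hz⟩ : ℂˣ) : ℂ) = σ * σ * ((θ ⟨zS, hz⟩ : ℂˣ) : ℂ) := by
              rw [hσσ, one_mul]
          _ = σ := by rw [mul_assoc, h, mul_one]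
      · exfalso
        rw [hm', if_neg h, zero_sub] at h3
        have h5 : ((m' + 1 : ℕ) : ℂ) = 0 := by
          push_cast
          linear_combination -h3
        exact absurd h5 (Nat.cast_ne_zero.2 (by omega))

end torus

end Cfsg.Agent.Lib.Helper26.PSR
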