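import Mathlib
import Cfsg.Prelude.Def_Characters
import Cfsg.Agent.Lib.Helper26.SL2TorusA

/-!
# Restriction of the cuspidal characters of `SL₂(q)` to a subgroup of order `q + 1`: patterns
(helper26)

Summing the second orthogonality relation over the non-central elements of a commutative subgroup
`C` of order `q + 1` forces equality in the estimates of `per_chi`: every irreducible character of
degree `q - 1` (resp. `(q - 1) / 2`) is minus the sum of two (resp. one) linear characters on the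
non-central elements of `C`.
-/

set_option autoImplicit false

namespace Cfsg.Agent.Lib.Helper26.PSR
open Cfsg Cfsg.Agent.Lib.Helper26 Cfsg.Agent.Lib.Helper12
open scoped ComplexConjugate

local notation "GLt" => Matrix.GeneralLinearGroup (Fin 2)
local notation "SLt" => Matrix.SpecialLinearGroup (Fin 2)

section general

open scoped Classical in
theorem sum_filters_le {ι : Type*} [Fintype ι] (deg : ι → ℂ) (f : ι → ℝ) (hf : ∀ i, 0 ≤ f i)
    (S : Finset ℕ) :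
    ∑ d ∈ S, ∑ i ∈ Finset.univ.filter (fun i => deg i = (d : ℂ)), f i ≤ ∑ i, f i := by
  simp only [Finset.sum_filter]
  rw [Finset.sum_comm]
  apply Finset.sum_le_sum
  intro i _
  by_cases h : ∃ d ∈ S, deg i = (d : ℂ)
  · obtain ⟨d₀, hd₀, hd⟩ := h
    rw [Finset.sum_eq_single d₀]
    · rw [if_pos hd]
    · intro d _ hne
      rw [if_neg]
      intro hd'
      apply hne
      have h1 : (d : ℂ) = (d₀ : ℂ) := by rw [← hd', ← hd]
      exact_mod_cast h1
    · intro h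
      exact absurd hd₀ h
  · apply le_trans (le_of_eq _) (hf i)
    apply Finset.sum_eq_zero
    intro d hd
    rw [if_neg (fun hd' => h ⟨d, hd, hd'⟩)]

open scoped Classical in
theorem sum_filters_eq {ι : Type*} [Fintype ι] (deg : ι → ℂ) (f : ι → ℂ) (S : Finset ℕ)
    (hcov : ∀ i, ∃ d ∈ S, deg i = (d : ℂ)) :
    ∑ d ∈ S, ∑ i ∈ Finset.univ.filter (fun i => deg i = (d : ℂ)), f i = ∑ i, f i := by
  simp only [Finset.sum_filter]
  rw [Finset.sum_comm]
  apply Finset.sum_congr rfl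
  intro i _
  obtain ⟨d₀, hd₀, hd⟩ := hcov i
  rw [Finset.sum_eq_single d₀]
  · rw [if_pos hd]
  · intro d _ hne
    rw [if_neg]
    intro hd'
    apply hne
    have h1 : (d : ℂ) = (d₀ : ℂ) := by rw [← hd', ← hd]
    exact_mod_cast h1
  · intro h
    exact absurd hd₀ h

end general

section finite
variable {F : Type*} [Field F] [Fintype F] [DecidableEq F]

attribute [local instance] Cfsg.Agent.Lib.Helper26.PS.instFintypeMulCharAux
attribute [local instance] Cfsg.Agent.Lib.Helper26.PS.instFintypeIrrAux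
attribute [local instance] Cfsg.Agent.Lib.Helper26.PSR.instFintypeIrrSLAux

open scoped Classical in
/-- the irreducible characters of degree `d` -/
noncomputable def Fd (F : Type*) [Field F] [Fintype F] [DecidableEq F] (d : ℕ) :
    Finset (IrrCharacter (SLt F)) :=
  Finset.univ.filter (fun χ : IrrCharacter (SLt F) => (χ : SLt F → ℂ) 1 = (d : ℂ))

theorem mem_Fd (d : ℕ) (χ : IrrCharacter (SLt F)) :
    χ ∈ Fd F d ↔ (χ : SLt F → ℂ) 1 = (d : ℂ) := by
  unfold Fd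
  rw [Finset.mem_filter]
  exact ⟨fun h => h.2, fun h => ⟨Finset.mem_univ _, h⟩⟩

theorem card_Fd (hodd : Odd (Fintype.card F)) (h : ℕ) (hqh : Fintype.card F = 2 * h + 1)
    (hh : 2 ≤ h) :
    (Fd F 1).card = 1 ∧ (Fd F (2 * h + 1)).card = 1 ∧ (Fd F (2 * h)).card = h ∧
      (Fd F h).card = 2 := by
  obtain ⟨c1, c2, -, c4, -, c6⟩ := final_counts hodd (by omega : 5 ≤ Fintype.card F)
  have e1 : Fintype.card F - 1 = 2 * h := by omega
  have e2 : (Fintype.card F - 1) / 2 = h := by omega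
  rw [e1] at c4
  rw [e2] at c6
  rw [hqh] at c2
  refine ⟨c1, c2, ?_, c6⟩
  have h3 : 2 * h / 2 = h := by omega
  rw [h3] at c4
  exact c4

theorem degree_cover (hodd : Odd (Fintype.card F)) (h : ℕ) (hqh : Fintype.card F = 2 * h + 1)
    (χ : IrrCharacter (SLt F)) :
    ∃ d ∈ ({1, 2 * h + 1, 2 * h + 2, 2 * h, h + 1, h} : Finset ℕ),
      (χ : SLt F → ℂ) 1 = (d : ℂ) := by
  have e1 : (Fintype.card F + 1) / 2 = h + 1 := by omega
  have e2 : (Fintype.card F - 1) / 2 = h := by omega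
  rcases sl_odd_degrees hodd χ.2 with h1 | h1 | h1 | h1 | h1 | h1
  · exact ⟨1, by simp, by rw [h1, Nat.cast_one]⟩
  · exact ⟨2 * h + 1, by simp, by rw [h1, hqh]⟩
  · refine ⟨2 * h + 2, by simp, ?_⟩
    rw [h1, hqh]
    push_cast
    ring
  · refine ⟨2 * h, by simp, ?_⟩
    rw [h1, hqh]
    push_cast
    ring
  · exact ⟨h + 1, by simp, by rw [h1, e1]⟩
  · exact ⟨h, by simp, by rw [h1, e2]⟩

theorem six_split (hodd : Odd (Fintype.card F)) (h : ℕ) (hqh : Fintype.card F = 2 * h + 1)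
    (hh : 2 ≤ h) (f : IrrCharacter (SLt F) → ℂ) :
    ∑ χ, f χ = ∑ χ ∈ Fd F 1, f χ + ∑ χ ∈ Fd F (2 * h + 1), f χ + ∑ χ ∈ Fd F (2 * h + 2), f χ +
      ∑ χ ∈ Fd F (2 * h), f χ + ∑ χ ∈ Fd F (h + 1), f χ + ∑ χ ∈ Fd F h, f χ := by
  rw [← sum_filters_eq (fun χ : IrrCharacter (SLt F) => (χ : SLt F → ℂ) 1) f
    {1, 2 * h + 1, 2 * h + 2, 2 * h, h + 1, h} (degree_cover hodd h hqh)]
  rw [Finset.sum_insert, Finset.sum_insert, Finset.sum_insert, Finset.sum_insert,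
    Finset.sum_insert, Finset.sum_singleton]
  · unfold Fd
    ring
  all_goals (simp only [Finset.mem_insert, Finset.mem_singleton]; omega)

theorem eq_one_of_degree_one (hodd : Odd (Fintype.card F)) (hq : 5 ≤ Fintype.card F)
    {χ : SLt F → ℂ} (hχ : IsIrrCharacter (SLt F) χ) (h1 : χ 1 = 1) : χ = 1 := by
  obtain ⟨c1, -⟩ := sl_odd_counts hodd hq
  have hsub : Subsingleton {χ : IrrCharacter (SLt F) // (χ : SLt F → ℂ) 1 = 1} :=
    (Nat.card_eq_one_iff_unique.1 c1).1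
  have h2 := hsub.elim ⟨⟨χ, hχ⟩, h1⟩ ⟨⟨1, PS2.isIrrCharacter_one_sl⟩, rfl⟩
  exact congrArg Subtype.val (congrArg Subtype.val h2)

/-- the values at elements without eigenvectors of the non-cuspidal characters -/
theorem noncusp_ell (hodd : Odd (Fintype.card F)) (h : ℕ) (hqh : Fintype.card F = 2 * h + 1)
    (hh : 2 ≤ h) {g : SLt F} (hg : IsEll g) (χ : IrrCharacter (SLt F)) :
    (χ ∈ Fd F 1 → (χ : SLt F → ℂ) g = 1) ∧ (χ ∈ Fd F (2 * h + 1) → (χ : SLt F → ℂ) g = -1) ∧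
    (χ ∈ Fd F (2 * h + 2) → (χ : SLt F → ℂ) g = 0) ∧
    (χ ∈ Fd F (h + 1) → (χ : SLt F → ℂ) g = 0) := by
  have hq : 5 ≤ Fintype.card F := by omega
  refine ⟨?_, ?_, ?_, ?_⟩
  · intro hd
    rw [mem_Fd, Nat.cast_one] at hd
    rw [eq_one_of_degree_one hodd hq χ.2 hd]
    rfl
  · intro hd
    rw [mem_Fd, ← hqh] at hd
    exact (PS2.sl_steinberg_values χ.2 hd g).2.1 hg
  · intro hd
    rw [mem_Fd] at hd
    apply (sl_vanish hodd χ.2 g).2 _ hg
    left
    rw [hd, hqh]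
    push_cast
    ring
  · intro hd
    rw [mem_Fd] at hd
    apply (sl_vanish hodd χ.2 g).2 _ hg
    right
    rw [hd]
    congr 1
    omega

/-- the central sign of an irreducible character -/
theorem exists_sign {χ : SLt F → ℂ} (hχ : IsIrrCharacter (SLt F) χ) :
    ∃ σ : ℂ, (σ = 1 ∨ σ = -1) ∧ ∀ g, χ (zS * g) = σ * χ g :=
  center_mul_sign hχ zS zS_mem_center zS_mul_self

/-- equality in the estimates of `per_chi` -/
theorem cusp_equalities (hodd : Odd (Fintype.card F)) (h : ℕ)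
    (hqh : Fintype.card F = 2 * h + 1) (hh : 2 ≤ h) (C : Subgroup (SLt F)) [Fintype C]
    (hcomm : ∀ a b : C, a * b = b * a) (hcard : Nat.card C = Fintype.card F + 1) :
    (∀ χ ∈ Fd F (2 * h), Sr C (χ : SLt F → ℂ) ≤ 4 * (h : ℝ) - 4) ∧
    (∀ χ ∈ Fd F h, Sr C (χ : SLt F → ℂ) ≤ 2 * (h : ℝ)) := by
  have h2 := two_ne_zero_of_odd hodd
  have hz := zS_mem_torus hodd C hcard
  have hN : (NZ C).card = 2 * h := by
    have := card_NZ h2 C hz hcard
    omega
  have hqr : (Fintype.card F : ℝ) = 2 * (h : ℝ) + 1 := by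
    rw [hqh]
    push_cast
    ring
  obtain ⟨k1, kq, kP, kH⟩ := card_Fd hodd h hqh hh
  -- the total
  have htot : ∑ χ : IrrCharacter (SLt F), Sr C (χ : SLt F → ℂ) =
      2 * (h : ℝ) * (2 * (h : ℝ) + 2) := by
    rw [sum_Sr hodd C hcard, hN, hqr]
    push_cast
    ring
  -- the partial sums
  have hle := sum_filters_le (fun χ : IrrCharacter (SLt F) => (χ : SLt F → ℂ) 1)
    (fun χ : IrrCharacter (SLt F) => Sr C (χ : SLt F → ℂ)) (fun χ => Sr_nonneg C _)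
    {1, 2 * h + 1, 2 * h, h}
  rw [Finset.sum_insert (by simp only [Finset.mem_insert, Finset.mem_singleton]; omega),
    Finset.sum_insert (by simp only [Finset.mem_insert, Finset.mem_singleton]; omega),
    Finset.sum_insert (by simp only [Finset.mem_singleton]; omega), Finset.sum_singleton,
    htot] at hle
  -- the two known sums
  have hell : ∀ c ∈ NZ C, IsEll (c : SLt F) := fun c hc => ell_of_mem_NZ hodd C hcard hc
  have v1 : ∑ χ ∈ Fd F 1, Sr C (χ : SLt F → ℂ) = 2 * (h : ℝ) := by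
    have h3 : ∀ χ ∈ Fd F 1, Sr C (χ : SLt F → ℂ) = 2 * (h : ℝ) := by
      intro χ hχ
      unfold Sr
      have h4 : ∀ c ∈ NZ C, Complex.normSq ((χ : SLt F → ℂ) c) = 1 := by
        intro c hc
        rw [(noncusp_ell hodd h hqh hh (hell c hc) χ).1 hχ]
        simp
      rw [Finset.sum_congr rfl h4, Finset.sum_const, hN]
      simp
    rw [Finset.sum_congr rfl h3, Finset.sum_const, k1]
    simp
  have vq : ∑ χ ∈ Fd F (2 * h + 1), Sr C (χ : SLt F → ℂ) = 2 * (h : ℝ) := by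
    have h3 : ∀ χ ∈ Fd F (2 * h + 1), Sr C (χ : SLt F → ℂ) = 2 * (h : ℝ) := by
      intro χ hχ
      unfold Sr
      have h4 : ∀ c ∈ NZ C, Complex.normSq ((χ : SLt F → ℂ) c) = 1 := by
        intro c hc
        rw [(noncusp_ell hodd h hqh hh (hell c hc) χ).2.1 hχ]
        simp
      rw [Finset.sum_congr rfl h4, Finset.sum_const, hN]
      simp
    rw [Finset.sum_congr rfl h3, Finset.sum_const, kq]
    simp
  -- the lower bounds
  have lbP : ∀ χ ∈ Fd F (2 * h), 4 * (h : ℝ) - 4 ≤ Sr C (χ : SLt F → ℂ) := by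
    intro χ hχ
    obtain ⟨σ, hσ, hzχ⟩ := exists_sign χ.2
    have h3 := (per_chi hodd C hcomm hcard χ.2 (2 * h) 2 ((mem_Fd _ _).1 hχ)
      (by omega) σ hσ hzχ).1
    rw [hqr] at h3
    push_cast at h3
    linarith
  have lbH : ∀ χ ∈ Fd F h, 2 * (h : ℝ) ≤ Sr C (χ : SLt F → ℂ) := by
    intro χ hχ
    obtain ⟨σ, hσ, hzχ⟩ := exists_sign χ.2
    have h3 := (per_chi hodd C hcomm hcard χ.2 h 1 ((mem_Fd _ _).1 hχ)
      (by omega) σ hσ hzχ).1
    rw [hqr] at h3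
    push_cast at h3
    linarith
  have hP : ∑ χ ∈ Fd F (2 * h), (Sr C (χ : SLt F → ℂ) - (4 * (h : ℝ) - 4)) =
      ∑ χ ∈ Fd F (2 * h), Sr C (χ : SLt F → ℂ) - (h : ℝ) * (4 * (h : ℝ) - 4) := by
    rw [Finset.sum_sub_distrib, Finset.sum_const, kP, nsmul_eq_mul]
  have hH : ∑ χ ∈ Fd F h, (Sr C (χ : SLt F → ℂ) - 2 * (h : ℝ)) =
      ∑ χ ∈ Fd F h, Sr C (χ : SLt F → ℂ) - 2 * (2 * (h : ℝ)) := by
    rw [Finset.sum_sub_distrib, Finset.sum_const, kH, nsmul_eq_mul]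
    push_cast
    ring
  have nnP : 0 ≤ ∑ χ ∈ Fd F (2 * h), (Sr C (χ : SLt F → ℂ) - (4 * (h : ℝ) - 4)) :=
    Finset.sum_nonneg (fun χ hχ => sub_nonneg.2 (lbP χ hχ))
  have nnH : 0 ≤ ∑ χ ∈ Fd F h, (Sr C (χ : SLt F → ℂ) - 2 * (h : ℝ)) :=
    Finset.sum_nonneg (fun χ hχ => sub_nonneg.2 (lbH χ hχ))
  have hle' : ∑ χ ∈ Fd F 1, Sr C (χ : SLt F → ℂ) + (∑ χ ∈ Fd F (2 * h + 1), Sr C (χ : SLt F → ℂ) +
      (∑ χ ∈ Fd F (2 * h), Sr C (χ : SLt F → ℂ) + ∑ χ ∈ Fd F h, Sr C (χ : SLt F → ℂ))) ≤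
      2 * (h : ℝ) * (2 * (h : ℝ) + 2) := hle
  rw [v1, vq] at hle'
  have zP : ∑ χ ∈ Fd F (2 * h), (Sr C (χ : SLt F → ℂ) - (4 * (h : ℝ) - 4)) = 0 := by
    nlinarith
  have zH : ∑ χ ∈ Fd F h, (Sr C (χ : SLt F → ℂ) - 2 * (h : ℝ)) = 0 := by
    nlinarith
  constructor
  · intro χ hχ
    have h3 := (Finset.sum_eq_zero_iff_of_nonneg
      (fun χ hχ => sub_nonneg.2 (lbP χ hχ))).1 zP χ hχ
    linarith
  · intro χ hχ
    have h3 := (Finset.sum_eq_zero_iff_of_nonneg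
      (fun χ hχ => sub_nonneg.2 (lbH χ hχ))).1 zH χ hχ
    linarith

/-- symmetry of the pattern under inversion -/
theorem pattern_symm (hodd : Odd (Fintype.card F)) (C : Subgroup (SLt F)) [Fintype C]
    (hcard : Nat.card C = Fintype.card F + 1) {χ : SLt F → ℂ}
    (hχ : IsIrrCharacter (SLt F) χ) (T : Finset (C →* ℂˣ))
    (hT : ∀ c : C, (c : SLt F) ∉ Subgroup.center (SLt F) → χ c = -∑ θ ∈ T, ((θ c : ℂˣ) : ℂ)) :
    ∀ θ ∈ T, θ⁻¹ ∈ T := by
  classical
  letI : Fintype (C →* ℂˣ) := Fintype.ofFinite _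
  have hkey : ∀ c : C, ∑ θ ∈ T, ((θ c⁻¹ : ℂˣ) : ℂ) = ∑ θ ∈ T, ((θ c : ℂˣ) : ℂ) := by
    intro c
    by_cases hc : (c : SLt F) ∈ Subgroup.center (SLt F)
    · rcases center_cases (two_ne_zero_of_odd hodd) hc with h1 | h1
      · have h3 : c = 1 := Subtype.ext h1
        rw [h3, inv_one]
      · have h3 : c⁻¹ = c := by
          apply Subtype.ext
          rw [Subgroup.coe_inv, h1]
          exact inv_eq_of_mul_eq_one_right zS_mul_self
        rw [h3]
    · have hc' : ((c⁻¹ : C) : SLt F) ∉ Subgroup.center (SLt F) := by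
        intro h3
        apply hc
        have h4 := Subgroup.inv_mem _ h3
        rwa [Subgroup.coe_inv, inv_inv] at h4
      have h3 := hT c hc
      have h4 := hT c⁻¹ hc'
      have hell : IsEll (c : SLt F) := ell_of_mem_NZ hodd C hcard ((mem_NZ C c).2 hc)
      obtain ⟨y, hy⟩ := isConj_iff.1 (isConj_inv_of_ell hodd hell)
      have h5 : χ ((c⁻¹ : C) : SLt F) = χ (c : SLt F) := by
        rw [Subgroup.coe_inv, ← hy]
        exact isClassFunction_of_isIrrCharacter hχ _ y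
      rw [h3, h4] at h5
      exact neg_injective h5
  have himg : T.image (fun θ => θ⁻¹) = T := by
    apply TF.finset_eq_of_sum_eq
    intro c
    have h6 : ∑ θ ∈ T.image (fun θ => θ⁻¹), ((θ c : ℂˣ) : ℂ) =
        ∑ θ ∈ T, (((θ⁻¹ : C →* ℂˣ) c : ℂˣ) : ℂ) :=
      Finset.sum_image (s := T) (g := fun θ : C →* ℂˣ => θ⁻¹)
        (f := fun θ : C →* ℂˣ => ((θ c : ℂˣ) : ℂ)) (fun a _ b _ hab => inv_injective hab)
    rw [h6, ← hkey c]
    apply Finset.sum_congr rfl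
    intro θ _
    rw [MonoidHom.inv_apply, map_inv]
  intro θ hθ
  rw [← himg]
  exact Finset.mem_image_of_mem _ hθ

/-- the patterns of the cuspidal characters on a commutative subgroup of order `q + 1` -/
theorem cusp_patterns (hodd : Odd (Fintype.card F)) (h : ℕ)
    (hqh : Fintype.card F = 2 * h + 1) (hh : 2 ≤ h) (C : Subgroup (SLt F)) [Fintype C]
    (hcomm : ∀ a b : C, a * b = b * a) (hcard : Nat.card C = Fintype.card F + 1) :
    ∃ T : IrrCharacter (SLt F) → Finset (C →* ℂˣ),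
      (∀ χ ∈ Fd F (2 * h), (T χ).card = 2) ∧ (∀ χ ∈ Fd F h, (T χ).card = 1) ∧
      (∀ χ : IrrCharacter (SLt F), χ ∈ Fd F (2 * h) ∨ χ ∈ Fd F h →
        (∀ c : C, (c : SLt F) ∉ Subgroup.center (SLt F) →
          (χ : SLt F → ℂ) c = -∑ θ ∈ T χ, ((θ c : ℂˣ) : ℂ)) ∧
        (∀ θ ∈ T χ, ∀ c : C, (c : SLt F) = zS →
          ∀ g, (χ : SLt F → ℂ) (zS * g) = ((θ c : ℂˣ) : ℂ) * (χ : SLt F → ℂ) g) ∧
        (∀ θ ∈ T χ, θ⁻¹ ∈ T χ)) := by
  classical
  obtain ⟨eP, eH⟩ := cusp_equalities hodd h hqh hh C hcomm hcard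
  have hqr : (Fintype.card F : ℝ) = 2 * (h : ℝ) + 1 := by
    rw [hqh]
    push_cast
    ring
  have hex : ∀ χ : IrrCharacter (SLt F), ∃ T : Finset (C →* ℂˣ),
      (χ ∈ Fd F (2 * h) → T.card = 2) ∧ (χ ∈ Fd F h → T.card = 1) ∧
      (χ ∈ Fd F (2 * h) ∨ χ ∈ Fd F h →
        (∀ c : C, (c : SLt F) ∉ Subgroup.center (SLt F) →
          (χ : SLt F → ℂ) c = -∑ θ ∈ T, ((θ c : ℂˣ) : ℂ)) ∧
        (∀ θ ∈ T, ∀ c : C, (c : SLt F) = zS →
          ∀ g, (χ : SLt F → ℂ) (zS * g) = ((θ c : ℂˣ) : ℂ) * (χ : SLt F → ℂ) g) ∧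
        (∀ θ ∈ T, θ⁻¹ ∈ T)) := by
    intro χ
    obtain ⟨σ, hσ, hzχ⟩ := exists_sign χ.2
    have hne : ¬ (χ ∈ Fd F (2 * h) ∧ χ ∈ Fd F h) := by
      rintro ⟨h1, h2⟩
      rw [mem_Fd] at h1 h2
      have h3 : ((2 * h : ℕ) : ℂ) = ((h : ℕ) : ℂ) := by rw [← h1, ← h2]
      have h4 : 2 * h = h := by exact_mod_cast h3
      omega
    by_cases hP : χ ∈ Fd F (2 * h)
    · have hle : Sr C (χ : SLt F → ℂ) ≤
          ((2 : ℕ) : ℝ) * ((Fintype.card F : ℝ) + 1) - 2 * ((2 : ℕ) : ℝ) ^ 2 := by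
        have := eP χ hP
        rw [hqr]
        push_cast
        linarith
      obtain ⟨T, hTc, hT1, hT2⟩ := (per_chi hodd C hcomm hcard χ.2 (2 * h) 2
        ((mem_Fd _ _).1 hP) (by omega) σ hσ hzχ).2 hle
      refine ⟨T, fun _ => hTc, fun h2 => absurd ⟨hP, h2⟩ hne, fun _ => ⟨hT1, ?_, ?_⟩⟩
      · intro θ hθ c hc g
        rw [hT2 θ hθ c hc]
        exact hzχ g
      · exact pattern_symm hodd C hcard χ.2 T hT1
    · by_cases hH : χ ∈ Fd F h
      · have hle : Sr C (χ : SLt F → ℂ) ≤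
            ((1 : ℕ) : ℝ) * ((Fintype.card F : ℝ) + 1) - 2 * ((1 : ℕ) : ℝ) ^ 2 := by
          have := eH χ hH
          rw [hqr]
          push_cast
          linarith
        obtain ⟨T, hTc, hT1, hT2⟩ := (per_chi hodd C hcomm hcard χ.2 h 1
          ((mem_Fd _ _).1 hH) (by omega) σ hσ hzχ).2 hle
        refine ⟨T, fun h2 => absurd h2 hP, fun _ => hTc, fun _ => ⟨hT1, ?_, ?_⟩⟩
        · intro θ hθ c hc g
          rw [hT2 θ hθ c hc]
          exact hzχ g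
        · exact pattern_symm hodd C hcard χ.2 T hT1
      · exact ⟨∅, fun h2 => absurd h2 hP, fun h2 => absurd h2 hH,
          fun h2 => absurd h2 (by rintro (h3 | h3); exact hP h3; exact hH h3)⟩
  choose T hT using hex
  exact ⟨T, fun χ hχ => (hT χ).1 hχ, fun χ hχ => (hT χ).2.1 hχ, fun χ hχ => (hT χ).2.2 hχ⟩

end finite

end Cfsg.Agent.Lib.Helper26.PSR
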