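import Mathlib
import Cfsg.Prelude.Def_Characters
import Cfsg.Agent.Lib.Helper26.SL2TorusB

/-!
# The cuspidal characters of `SL₂(q)` on a subgroup of order `q + 1`: every non-trivial linear
character is used exactly once (helper26)
-/

set_option autoImplicit false

namespace Cfsg.Agent.Lib.Helper26.PSR
open Cfsg Cfsg.Agent.Lib.Helper26 Cfsg.Agent.Lib.Helper12
open scoped ComplexConjugate

local notation "GLt" => Matrix.GeneralLinearGroup (Fin 2)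
local notation "SLt" => Matrix.SpecialLinearGroup (Fin 2)

section finite
variable {F : Type*} [Field F] [Fintype F] [DecidableEq F]

attribute [local instance] Cfsg.Agent.Lib.Helper26.PS.instFintypeMulCharAux
attribute [local instance] Cfsg.Agent.Lib.Helper26.PS.instFintypeIrrAux
attribute [local instance] Cfsg.Agent.Lib.Helper26.PSR.instFintypeIrrSLAux

/-- the two characters of a half degree -/
theorem Fd_pair (hodd : Odd (Fintype.card F)) (h : ℕ) (hqh : Fintype.card F = 2 * h + 1)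
    (hh : 2 ≤ h) (e : ℕ) (v : ℂ) (he : (e = h + 1 ∧ v = 1) ∨ (e = h ∧ v = -1)) :
    ∃ χ₁ χ₂ : IrrCharacter (SLt F), χ₁ ≠ χ₂ ∧ Fd F e = {χ₁, χ₂} ∧
      (χ₁ : SLt F → ℂ) (SL2.up 1) + (χ₂ : SLt F → ℂ) (SL2.up 1) = v ∧
      (χ₁ : SLt F → ℂ) zS = (χ₂ : SLt F → ℂ) zS ∧ (χ₁ : SLt F → ℂ) 1 = (e : ℂ) ∧
      (χ₂ : SLt F → ℂ) 1 = (e : ℂ) := by
  obtain ⟨ε, hε⟩ := FiniteField.exists_nonsquare (char_ne_two hodd)
  have he' : (e = (Fintype.card F + 1) / 2 ∧ v = 1) ∨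
      (e = (Fintype.card F - 1) / 2 ∧ v = -1) := by
    rcases he with ⟨h1, h2⟩ | ⟨h1, h2⟩
    · left
      exact ⟨by omega, h2⟩
    · right
      exact ⟨by omega, h2⟩
  obtain ⟨ψ₁, ψ₂, i₁, i₂, hne, d₁, d₂, hall, -, -, -, hsum, c, -, hc⟩ :=
    pair_data hodd (by omega) hε e v he'
  refine ⟨⟨ψ₁, i₁⟩, ⟨ψ₂, i₂⟩, ?_, ?_, hsum, ?_, d₁, d₂⟩
  · intro h3
    exact hne (congrArg Subtype.val h3)
  · ext χ
    rw [mem_Fd, Finset.mem_insert, Finset.mem_singleton]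
    constructor
    · intro hd
      rcases hall χ.1 χ.2 hd with h3 | h3
      · left
        exact Subtype.ext h3
      · right
        exact Subtype.ext h3
    · rintro (rfl | rfl)
      · exact d₁
      · exact d₂
  · show ψ₁ zS = ψ₂ zS
    have h3 := (hc 1).1
    have h4 := (hc 1).2
    rw [mul_one] at h3 h4
    rw [h3, h4, d₁, d₂]

/-- the first orthogonality identity for the cuspidal characters -/
theorem cusp_sum_ell (hodd : Odd (Fintype.card F)) (h : ℕ) (hqh : Fintype.card F = 2 * h + 1)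
    (hh : 2 ≤ h) {g : SLt F} (hg : IsEll g) :
    2 * (h : ℂ) * ∑ χ ∈ Fd F (2 * h), (χ : SLt F → ℂ) g +
      (h : ℂ) * ∑ χ ∈ Fd F h, (χ : SLt F → ℂ) g = 2 * (h : ℂ) := by
  obtain ⟨k1, kq, -, -⟩ := card_Fd hodd h hqh hh
  have hne1 : ¬ IsConj g 1 := by
    rw [isConj_one_left]
    rintro rfl
    exact not_central_of_ell hg (Subgroup.one_mem _)
  have h0 := Cfsg.Agent.Lib.Helper4.column_orthogonality g (1 : SLt F)
  rw [if_neg hne1, six_split hodd h hqh hh] at h0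
  have e1 : ∑ χ ∈ Fd F 1, (χ : SLt F → ℂ) g * conj ((χ : SLt F → ℂ) 1) = 1 := by
    have h3 : ∀ χ ∈ Fd F 1, (χ : SLt F → ℂ) g * conj ((χ : SLt F → ℂ) 1) = 1 := by
      intro χ hχ
      rw [(noncusp_ell hodd h hqh hh hg χ).1 hχ, (mem_Fd _ _).1 hχ, Complex.conj_natCast]
      norm_num
    rw [Finset.sum_congr rfl h3, Finset.sum_const, k1]
    simp
  have eq : ∑ χ ∈ Fd F (2 * h + 1), (χ : SLt F → ℂ) g * conj ((χ : SLt F → ℂ) 1) =
      -(2 * (h : ℂ) + 1) := by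
    have h3 : ∀ χ ∈ Fd F (2 * h + 1), (χ : SLt F → ℂ) g * conj ((χ : SLt F → ℂ) 1) =
        -(2 * (h : ℂ) + 1) := by
      intro χ hχ
      rw [(noncusp_ell hodd h hqh hh hg χ).2.1 hχ, (mem_Fd _ _).1 hχ, Complex.conj_natCast]
      push_cast
      ring
    rw [Finset.sum_congr rfl h3, Finset.sum_const, kq]
    simp
  have e3 : ∑ χ ∈ Fd F (2 * h + 2), (χ : SLt F → ℂ) g * conj ((χ : SLt F → ℂ) 1) = 0 := by
    apply Finset.sum_eq_zero
    intro χ hχ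
    rw [(noncusp_ell hodd h hqh hh hg χ).2.2.1 hχ, zero_mul]
  have e5 : ∑ χ ∈ Fd F (h + 1), (χ : SLt F → ℂ) g * conj ((χ : SLt F → ℂ) 1) = 0 := by
    apply Finset.sum_eq_zero
    intro χ hχ
    rw [(noncusp_ell hodd h hqh hh hg χ).2.2.2 hχ, zero_mul]
  have eP : ∑ χ ∈ Fd F (2 * h), (χ : SLt F → ℂ) g * conj ((χ : SLt F → ℂ) 1) =
      (∑ χ ∈ Fd F (2 * h), (χ : SLt F → ℂ) g) * (2 * (h : ℂ)) := by
    rw [Finset.sum_mul]
    apply Finset.sum_congr rfl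
    intro χ hχ
    rw [(mem_Fd _ _).1 hχ, Complex.conj_natCast]
    push_cast
    ring
  have eH : ∑ χ ∈ Fd F h, (χ : SLt F → ℂ) g * conj ((χ : SLt F → ℂ) 1) =
      (∑ χ ∈ Fd F h, (χ : SLt F → ℂ) g) * (h : ℂ) := by
    rw [Finset.sum_mul]
    apply Finset.sum_congr rfl
    intro χ hχ
    rw [(mem_Fd _ _).1 hχ, Complex.conj_natCast]
  rw [e1, eq, e3, e5, eP, eH] at h0
  linear_combination h0

/-- the second orthogonality identity for the cuspidal characters -/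
theorem cusp_sum_z (hodd : Odd (Fintype.card F)) (h : ℕ) (hqh : Fintype.card F = 2 * h + 1)
    (hh : 2 ≤ h) :
    2 * ∑ χ ∈ Fd F (2 * h), (χ : SLt F → ℂ) zS + ∑ χ ∈ Fd F h, (χ : SLt F → ℂ) zS =
      -(2 * (h : ℂ)) := by
  have h2 := two_ne_zero_of_odd hodd
  have hq5 : 5 ≤ Fintype.card F := by omega
  obtain ⟨k1, kq, -, -⟩ := card_Fd hodd h hqh hh
  have hz1 : ¬ IsConj (zS : SLt F) 1 := by
    rw [isConj_one_left]
    exact zS_ne_one h2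
  have hzu : ¬ IsConj (zS : SLt F) (SL2.up 1) := by
    intro h3
    obtain ⟨y, hy⟩ := isConj_iff.1 h3
    have h4 : y * zS * y⁻¹ = zS := by
      rw [(Subgroup.mem_center_iff.1 zS_mem_center) y, mul_inv_cancel_right]
    rw [h4] at hy
    have h5 : (zS : SLt F) 0 1 = (SL2.up (1 : F)) 0 1 := by rw [hy]
    have h6 : (0 : F) = 1 := h5
    exact zero_ne_one h6
  have o1 := Cfsg.Agent.Lib.Helper4.column_orthogonality (zS : SLt F) (1 : SLt F)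
  rw [if_neg hz1] at o1
  have ou := Cfsg.Agent.Lib.Helper4.column_orthogonality (zS : SLt F) (SL2.up (1 : F))
  rw [if_neg hzu] at ou
  have hB : ∑ χ : IrrCharacter (SLt F), (χ : SLt F → ℂ) zS *
      conj ((χ : SLt F → ℂ) 1 - ((2 * h + 2 : ℕ) : ℂ) * (χ : SLt F → ℂ) (SL2.up 1)) = 0 := by
    have h3 : ∀ χ : IrrCharacter (SLt F), (χ : SLt F → ℂ) zS *
        conj ((χ : SLt F → ℂ) 1 - ((2 * h + 2 : ℕ) : ℂ) * (χ : SLt F → ℂ) (SL2.up 1)) =
        (χ : SLt F → ℂ) zS * conj ((χ : SLt F → ℂ) 1) - ((2 * h + 2 : ℕ) : ℂ) *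
          ((χ : SLt F → ℂ) zS * conj ((χ : SLt F → ℂ) (SL2.up 1))) := by
      intro χ
      rw [map_sub, map_mul, Complex.conj_natCast]
      ring
    rw [Finset.sum_congr rfl (fun χ _ => h3 χ), Finset.sum_sub_distrib, ← Finset.mul_sum, o1, ou]
    ring
  rw [six_split hodd h hqh hh] at hB
  have hu : ((SL2.up (1 : F) : SLt F) : Matrix (Fin 2) (Fin 2) F) = !![1, 1; 0, 1] := rfl
  have e1 : ∑ χ ∈ Fd F 1, (χ : SLt F → ℂ) zS *
      conj ((χ : SLt F → ℂ) 1 - ((2 * h + 2 : ℕ) : ℂ) * (χ : SLt F → ℂ) (SL2.up 1)) =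
      -(2 * (h : ℂ) + 1) := by
    have h3 : ∀ χ ∈ Fd F 1, (χ : SLt F → ℂ) zS *
        conj ((χ : SLt F → ℂ) 1 - ((2 * h + 2 : ℕ) : ℂ) * (χ : SLt F → ℂ) (SL2.up 1)) =
        -(2 * (h : ℂ) + 1) := by
      intro χ hχ
      have h4 : (χ : SLt F → ℂ) 1 = 1 := by
        rw [(mem_Fd _ _).1 hχ, Nat.cast_one]
      rw [eq_one_of_degree_one hodd hq5 χ.2 h4, Pi.one_apply, Pi.one_apply, Pi.one_apply,
        mul_one, one_mul, map_sub, map_one, Complex.conj_natCast]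
      push_cast
      ring
    rw [Finset.sum_congr rfl h3, Finset.sum_const, k1]
    simp
  have eq : ∑ χ ∈ Fd F (2 * h + 1), (χ : SLt F → ℂ) zS *
      conj ((χ : SLt F → ℂ) 1 - ((2 * h + 2 : ℕ) : ℂ) * (χ : SLt F → ℂ) (SL2.up 1)) =
      (2 * (h : ℂ) + 1) ^ 2 := by
    have h3 : ∀ χ ∈ Fd F (2 * h + 1), (χ : SLt F → ℂ) zS *
        conj ((χ : SLt F → ℂ) 1 - ((2 * h + 2 : ℕ) : ℂ) * (χ : SLt F → ℂ) (SL2.up 1)) =
        (2 * (h : ℂ) + 1) ^ 2 := by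
      intro χ hχ
      have h4 : (χ : SLt F → ℂ) 1 = (Fintype.card F : ℂ) := by
        rw [(mem_Fd _ _).1 hχ, hqh]
      have h5 : (χ : SLt F → ℂ) (SL2.up 1) = 0 :=
        (PS2.sl_steinberg_values χ.2 h4 (SL2.up 1)).2.2 rfl rfl one_ne_zero
      have h6 : (χ : SLt F → ℂ) zS = (Fintype.card F : ℂ) := by
        rw [PS2.eq_slSt_of_degree χ.2 h4, slSt_center zS zS_mem_center, slSt_one]
      rw [h5, h6, h4, mul_zero, sub_zero, Complex.conj_natCast, hqh]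
      push_cast
      ring
    rw [Finset.sum_congr rfl h3, Finset.sum_const, kq]
    simp
  have e3 : ∑ χ ∈ Fd F (2 * h + 2), (χ : SLt F → ℂ) zS *
      conj ((χ : SLt F → ℂ) 1 - ((2 * h + 2 : ℕ) : ℂ) * (χ : SLt F → ℂ) (SL2.up 1)) = 0 := by
    apply Finset.sum_eq_zero
    intro χ hχ
    have h4 : (χ : SLt F → ℂ) 1 = (Fintype.card F : ℂ) + 1 := by
      rw [(mem_Fd _ _).1 hχ, hqh]
      push_cast
      ring
    rw [(sl_unipotent_values (by omega) χ.2 (SL2.up 1) hu).1 h4, (mem_Fd _ _).1 hχ, mul_one,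
      sub_self, map_zero, mul_zero]
  have eP : ∑ χ ∈ Fd F (2 * h), (χ : SLt F → ℂ) zS *
      conj ((χ : SLt F → ℂ) 1 - ((2 * h + 2 : ℕ) : ℂ) * (χ : SLt F → ℂ) (SL2.up 1)) =
      (∑ χ ∈ Fd F (2 * h), (χ : SLt F → ℂ) zS) * (4 * (h : ℂ) + 2) := by
    rw [Finset.sum_mul]
    apply Finset.sum_congr rfl
    intro χ hχ
    have h4 : (χ : SLt F → ℂ) 1 = (Fintype.card F : ℂ) - 1 := by
      rw [(mem_Fd _ _).1 hχ, hqh]
      push_cast
      ring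
    have h5 : (χ : SLt F → ℂ) 1 - ((2 * h + 2 : ℕ) : ℂ) * (χ : SLt F → ℂ) (SL2.up 1) =
        ((4 * h + 2 : ℕ) : ℂ) := by
      rw [(sl_unipotent_values (by omega) χ.2 (SL2.up 1) hu).2 h4, (mem_Fd _ _).1 hχ]
      push_cast
      ring
    rw [h5, Complex.conj_natCast]
    push_cast
    ring
  obtain ⟨ξ₁, ξ₂, hξne, hξF, hξu, hξz, hξ1, hξ2⟩ :=
    Fd_pair hodd h hqh hh (h + 1) 1 (Or.inl ⟨rfl, rfl⟩)
  have e5 : ∑ χ ∈ Fd F (h + 1), (χ : SLt F → ℂ) zS *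
      conj ((χ : SLt F → ℂ) 1 - ((2 * h + 2 : ℕ) : ℂ) * (χ : SLt F → ℂ) (SL2.up 1)) = 0 := by
    rw [hξF, Finset.sum_pair hξne, ← hξz, ← mul_add, ← map_add, hξ1, hξ2]
    have h3 : ((h + 1 : ℕ) : ℂ) - ((2 * h + 2 : ℕ) : ℂ) * (ξ₁ : SLt F → ℂ) (SL2.up 1) +
        (((h + 1 : ℕ) : ℂ) - ((2 * h + 2 : ℕ) : ℂ) * (ξ₂ : SLt F → ℂ) (SL2.up 1)) = 0 := by
      push_cast
      linear_combination (-(2 * (h : ℂ) + 2)) * hξu
    rw [h3, map_zero, mul_zero]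
  obtain ⟨χ₁, χ₂, hχne, hχF, hχu, hχz, hχ1, hχ2⟩ :=
    Fd_pair hodd h hqh hh h (-1) (Or.inr ⟨rfl, rfl⟩)
  have eH : ∑ χ ∈ Fd F h, (χ : SLt F → ℂ) zS *
      conj ((χ : SLt F → ℂ) 1 - ((2 * h + 2 : ℕ) : ℂ) * (χ : SLt F → ℂ) (SL2.up 1)) =
      (∑ χ ∈ Fd F h, (χ : SLt F → ℂ) zS) * (2 * (h : ℂ) + 1) := by
    rw [hχF, Finset.sum_pair hχne, Finset.sum_pair hχne, ← hχz, ← mul_add, ← map_add, hχ1, hχ2]
    have h3 : ((h : ℕ) : ℂ) - ((2 * h + 2 : ℕ) : ℂ) * (χ₁ : SLt F → ℂ) (SL2.up 1) +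
        (((h : ℕ) : ℂ) - ((2 * h + 2 : ℕ) : ℂ) * (χ₂ : SLt F → ℂ) (SL2.up 1)) =
        ((4 * h + 2 : ℕ) : ℂ) := by
      push_cast
      linear_combination (-(2 * (h : ℂ) + 2)) * hχu
    rw [h3, Complex.conj_natCast]
    push_cast
    ring
  rw [e1, eq, e3, e5, eP, eH] at hB
  have hne0 : (2 * (h : ℂ) + 1) ≠ 0 := by
    have h3 : ((2 * h + 1 : ℕ) : ℂ) ≠ 0 := Nat.cast_ne_zero.2 (by omega)
    push_cast at h3
    exact h3
  apply mul_left_cancel₀ hne0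
  linear_combination hB

open scoped Classical in
/-- every non-trivial linear character of `C` is used exactly once -/
theorem torus_main (hodd : Odd (Fintype.card F)) (h : ℕ) (hqh : Fintype.card F = 2 * h + 1)
    (hh : 2 ≤ h) (C : Subgroup (SLt F)) [Fintype C]
    (hcomm : ∀ a b : C, a * b = b * a) (hcard : Nat.card C = Fintype.card F + 1) :
    ∃ T : IrrCharacter (SLt F) → Finset (C →* ℂˣ),
      (∀ χ ∈ Fd F (2 * h), (T χ).card = 2) ∧ (∀ χ ∈ Fd F h, (T χ).card = 1) ∧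
      (∀ χ : IrrCharacter (SLt F), χ ∈ Fd F (2 * h) ∨ χ ∈ Fd F h →
        (∀ c : C, (c : SLt F) ∉ Subgroup.center (SLt F) →
          (χ : SLt F → ℂ) c = -∑ θ ∈ T χ, ((θ c : ℂˣ) : ℂ)) ∧
        (∀ θ ∈ T χ, ∀ c : C, (c : SLt F) = zS →
          ∀ g, (χ : SLt F → ℂ) (zS * g) = ((θ c : ℂˣ) : ℂ) * (χ : SLt F → ℂ) g) ∧
        (∀ θ ∈ T χ, θ⁻¹ ∈ T χ) ∧ (1 : C →* ℂˣ) ∉ T χ) ∧
      (∀ θ : C →* ℂˣ, θ ≠ 1 →
        (∃ χ ∈ Fd F (2 * h), θ ∈ T χ) ∨ (∃ χ ∈ Fd F h, θ ∈ T χ)) := by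
  letI : Fintype (C →* ℂˣ) := Fintype.ofFinite _
  obtain ⟨T, hTP, hTH, hT⟩ := cusp_patterns hodd h hqh hh C hcomm hcard
  have h2 := two_ne_zero_of_odd hodd
  have hz := zS_mem_torus hodd C hcard
  have hzne : (⟨zS, hz⟩ : C) ≠ 1 := by
    intro h3
    exact zS_ne_one h2 (congrArg Subtype.val h3)
  obtain ⟨-, -, kP, kH⟩ := card_Fd hodd h hqh hh
  have hh0 : (h : ℂ) ≠ 0 := Nat.cast_ne_zero.2 (by omega)
  -- the sums of the patterns at the central involution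
  have hzval : ∀ χ : IrrCharacter (SLt F), χ ∈ Fd F (2 * h) ∨ χ ∈ Fd F h →
      (h : ℂ) * ∑ θ ∈ T χ, ((θ ⟨zS, hz⟩ : ℂˣ) : ℂ) = (χ : SLt F → ℂ) zS := by
    intro χ hχ
    obtain ⟨-, hsign, -⟩ := hT χ hχ
    have h3 : ∀ θ ∈ T χ, ((θ ⟨zS, hz⟩ : ℂˣ) : ℂ) * (χ : SLt F → ℂ) 1 = (χ : SLt F → ℂ) zS := by
      intro θ hθ
      have h4 := hsign θ hθ ⟨zS, hz⟩ rfl 1
      rw [mul_one] at h4
      exact h4.symm
    rcases hχ with hχ | hχ
    · have h1 := (mem_Fd _ _).1 hχ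
      have h20 : (χ : SLt F → ℂ) 1 ≠ 0 := by
        rw [h1]
        exact Nat.cast_ne_zero.2 (by omega)
      have h4 : ∀ θ ∈ T χ, ((θ ⟨zS, hz⟩ : ℂˣ) : ℂ) =
          (χ : SLt F → ℂ) zS / (χ : SLt F → ℂ) 1 := by
        intro θ hθ
        rw [eq_div_iff h20]
        exact h3 θ hθ
      rw [Finset.sum_congr rfl h4, Finset.sum_const, hTP χ hχ, nsmul_eq_mul, h1]
      push_cast
      field_simp
    · have h1 := (mem_Fd _ _).1 hχ
      have h20 : (χ : SLt F → ℂ) 1 ≠ 0 := by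
        rw [h1]
        exact hh0
      have h4 : ∀ θ ∈ T χ, ((θ ⟨zS, hz⟩ : ℂˣ) : ℂ) =
          (χ : SLt F → ℂ) zS / (χ : SLt F → ℂ) 1 := by
        intro θ hθ
        rw [eq_div_iff h20]
        exact h3 θ hθ
      rw [Finset.sum_congr rfl h4, Finset.sum_const, hTH χ hχ, nsmul_eq_mul, h1]
      push_cast
      field_simp
  -- the identity of functions
  have hV : ∀ c : C, 2 * ∑ χ ∈ Fd F (2 * h), ∑ θ ∈ T χ, ((θ c : ℂˣ) : ℂ) +
      ∑ χ ∈ Fd F h, ∑ θ ∈ T χ, ((θ c : ℂˣ) : ℂ) + 2 =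
      2 * ∑ θ : C →* ℂˣ, ((θ c : ℂˣ) : ℂ) := by
    intro c
    by_cases hc : (c : SLt F) ∈ Subgroup.center (SLt F)
    · rcases center_cases h2 hc with h1 | h1
      · have h3 : c = 1 := Subtype.ext h1
        rw [h3, TF.sum_hom_one hcomm, hcard, hqh]
        have h4 : ∀ χ ∈ Fd F (2 * h), ∑ θ ∈ T χ, ((θ (1 : C) : ℂˣ) : ℂ) = 2 := by
          intro χ hχ
          simp only [map_one, Units.val_one, Finset.sum_const, nsmul_eq_mul, mul_one]
          rw [hTP χ hχ]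
          norm_num
        have h5 : ∀ χ ∈ Fd F h, ∑ θ ∈ T χ, ((θ (1 : C) : ℂˣ) : ℂ) = 1 := by
          intro χ hχ
          simp only [map_one, Units.val_one, Finset.sum_const, nsmul_eq_mul, mul_one]
          rw [hTH χ hχ]
          norm_num
        rw [Finset.sum_congr rfl h4, Finset.sum_congr rfl h5, Finset.sum_const, Finset.sum_const,
          kP, kH]
        simp only [nsmul_eq_mul]
        push_cast
        ring
      · have h3 : c = ⟨zS, hz⟩ := Subtype.ext h1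
        rw [h3, TF.sum_hom_ne_one hcomm hzne, mul_zero]
        have h4 := cusp_sum_z hodd h hqh hh
        have h5 : (h : ℂ) * (2 * ∑ χ ∈ Fd F (2 * h), ∑ θ ∈ T χ, ((θ ⟨zS, hz⟩ : ℂˣ) : ℂ) +
            ∑ χ ∈ Fd F h, ∑ θ ∈ T χ, ((θ ⟨zS, hz⟩ : ℂˣ) : ℂ) + 2) = (h : ℂ) * 0 := by
          have hA : ∑ χ ∈ Fd F (2 * h), (h : ℂ) * ∑ θ ∈ T χ, ((θ ⟨zS, hz⟩ : ℂˣ) : ℂ) =
              ∑ χ ∈ Fd F (2 * h), (χ : SLt F → ℂ) zS :=
            Finset.sum_congr rfl (fun χ hχ => hzval χ (Or.inl hχ))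
          have hB : ∑ χ ∈ Fd F h, (h : ℂ) * ∑ θ ∈ T χ, ((θ ⟨zS, hz⟩ : ℂˣ) : ℂ) =
              ∑ χ ∈ Fd F h, (χ : SLt F → ℂ) zS :=
            Finset.sum_congr rfl (fun χ hχ => hzval χ (Or.inr hχ))
          rw [← Finset.mul_sum] at hA hB
          linear_combination 2 * hA + hB + h4
        exact mul_left_cancel₀ hh0 h5
    · have hell : IsEll (c : SLt F) := ell_of_mem_NZ hodd C hcard ((mem_NZ C c).2 hc)
      have hc1 : c ≠ 1 := by
        rintro rfl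
        apply hc
        rw [Subgroup.coe_one]
        exact Subgroup.one_mem _
      rw [TF.sum_hom_ne_one hcomm hc1, mul_zero]
      have h4 := cusp_sum_ell hodd h hqh hh hell
      have h5 : ∀ χ ∈ Fd F (2 * h), ∑ θ ∈ T χ, ((θ c : ℂˣ) : ℂ) = -(χ : SLt F → ℂ) c := by
        intro χ hχ
        rw [(hT χ (Or.inl hχ)).1 c hc, neg_neg]
      have h6 : ∀ χ ∈ Fd F h, ∑ θ ∈ T χ, ((θ c : ℂˣ) : ℂ) = -(χ : SLt F → ℂ) c := by
        intro χ hχ
        rw [(hT χ (Or.inr hχ)).1 c hc, neg_neg]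
      rw [Finset.sum_congr rfl h5, Finset.sum_congr rfl h6, Finset.sum_neg_distrib,
        Finset.sum_neg_distrib]
      apply mul_left_cancel₀ hh0
      linear_combination -h4
  -- the inner products with a linear character
  have hcount : ∀ θ' : C →* ℂˣ,
      2 * ((Fd F (2 * h)).filter (fun χ => θ' ∈ T χ)).card +
        ((Fd F h).filter (fun χ => θ' ∈ T χ)).card + 2 * (if θ' = 1 then 1 else 0) = 2 := by
    intro θ'
    have hfun : ((2 : ℂ) • ∑ χ ∈ Fd F (2 * h), (fun c : C => ∑ θ ∈ T χ, ((θ c : ℂˣ) : ℂ))) +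
        (∑ χ ∈ Fd F h, (fun c : C => ∑ θ ∈ T χ, ((θ c : ℂˣ) : ℂ))) +
        (2 : ℂ) • (fun c : C => ∑ θ ∈ ({1} : Finset (C →* ℂˣ)), ((θ c : ℂˣ) : ℂ)) =
        (2 : ℂ) • (fun c : C => ∑ θ ∈ (Finset.univ : Finset (C →* ℂˣ)), ((θ c : ℂˣ) : ℂ)) := by
      funext c
      simp only [Pi.add_apply, Pi.smul_apply, Finset.sum_apply, smul_eq_mul,
        Finset.sum_singleton, MonoidHom.one_apply, Units.val_one, mul_one]
      exact hV c
    have h3 := congrArg (fun f : C → ℂ => classInner f (linFun θ')) hfun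
    simp only [classInner_add_left, classInner_smul_left, classInner_sum_left,
      TF.inner_finset_sum, Finset.mem_univ, if_true, Finset.mem_singleton] at h3
    rw [Finset.sum_boole, Finset.sum_boole] at h3
    have h4 : ((2 * ((Fd F (2 * h)).filter (fun χ => θ' ∈ T χ)).card +
        ((Fd F h).filter (fun χ => θ' ∈ T χ)).card + 2 * (if θ' = 1 then 1 else 0) : ℕ) : ℂ) =
        ((2 : ℕ) : ℂ) := by
      rw [mul_one] at h3
      push_cast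
      exact h3
    exact_mod_cast h4
  refine ⟨T, hTP, hTH, ?_, ?_⟩
  · intro χ hχ
    obtain ⟨a1, a2, a3⟩ := hT χ hχ
    refine ⟨a1, a2, a3, ?_⟩
    intro h1
    have h3 := hcount 1
    rw [if_pos rfl] at h3
    rcases hχ with hχ | hχ
    · have h4 : χ ∈ (Fd F (2 * h)).filter (fun χ => (1 : C →* ℂˣ) ∈ T χ) :=
        Finset.mem_filter.2 ⟨hχ, h1⟩
      have h5 := Finset.card_pos.2 ⟨χ, h4⟩
      omega
    · have h4 : χ ∈ (Fd F h).filter (fun χ => (1 : C →* ℂˣ) ∈ T χ) :=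
        Finset.mem_filter.2 ⟨hχ, h1⟩
      have h5 := Finset.card_pos.2 ⟨χ, h4⟩
      omega
  · intro θ hθ
    have h3 := hcount θ
    rw [if_neg hθ] at h3
    by_cases h4 : 0 < ((Fd F (2 * h)).filter (fun χ => θ ∈ T χ)).card
    · left
      obtain ⟨χ, hχ⟩ := Finset.card_pos.1 h4
      rw [Finset.mem_filter] at hχ
      exact ⟨χ, hχ.1, hχ.2⟩
    · right
      have h5 : 0 < ((Fd F h).filter (fun χ => θ ∈ T χ)).card := by omega
      obtain ⟨χ, hχ⟩ := Finset.card_pos.1 h5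
      rw [Finset.mem_filter] at hχ
      exact ⟨χ, hχ.1, hχ.2⟩

end finite

end Cfsg.Agent.Lib.Helper26.PSR
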