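import Mathlib
import Cfsg.Prelude.Def_Characters
import Cfsg.Agent.Lib.Helper26.SL2TorusC

/-!
# The half-degree characters of `SL₂(q)`, `q` odd, on the two tori (helper26)
-/

set_option autoImplicit false

namespace Cfsg.Agent.Lib.Helper26.PSR
open Cfsg Cfsg.Agent.Lib.Helper26 Cfsg.Agent.Lib.Helper12
open scoped ComplexConjugate

local notation "GLt" => Matrix.GeneralLinearGroup (Fin 2)
local notation "SLt" => Matrix.SpecialLinearGroup (Fin 2)

section finite
variable {F : Type*} [Field F] [Fintype F] [DecidableEq F]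

attribute [local instance] Cfsg.Agent.Lib.Helper26.PS.instFintypeMulCharAux
attribute [local instance] Cfsg.Agent.Lib.Helper26.PS.instFintypeIrrAux
attribute [local instance] Cfsg.Agent.Lib.Helper26.PSR.instFintypeIrrSLAux

/-- the characters of degree `(q + 1) / 2` at the regular split elements -/
theorem half_plus_diag (hodd : Odd (Fintype.card F)) (hq : 5 ≤ Fintype.card F) {χ : SLt F → ℂ}
    (hχ : IsIrrCharacter (SLt F) χ) (hd : χ 1 = (((Fintype.card F + 1) / 2 : ℕ) : ℂ))
    (g : SLt F) (h01 : g 0 1 = 0) (h10 : g 1 0 = 0) (hsq : g 0 0 ^ 2 ≠ 1) :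
    χ g = sgnC F (g 0 0) := by
  obtain ⟨k, hk⟩ := id hodd
  obtain ⟨Θ, hΘ, ⟨hnII, hres⟩ | ⟨hII, χ', hχ', hne', hsum, hdeg⟩⟩ := above_cases hodd hχ
  · exfalso
    have h1 : Θ 1 = (((Fintype.card F + 1) / 2 : ℕ) : ℂ) := by
      rw [← hd, ← hres]
      simp only [Function.comp_apply, map_one]
    rcases PS.gl2_degrees hΘ with h | h | h | h
    · rw [h1] at h
      have h2 : ((Fintype.card F + 1) / 2 : ℕ) = 1 := by exact_mod_cast h
      omega
    · rw [h1] at h
      have h2 : ((((Fintype.card F + 1) / 2 + 1 : ℕ)) : ℂ) = (Fintype.card F : ℂ) := by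
        rw [Nat.cast_add, Nat.cast_one, h]
        ring
      have h3 : (Fintype.card F + 1) / 2 + 1 = Fintype.card F := by exact_mod_cast h2
      omega
    · rw [h1] at h
      have h2 : ((Fintype.card F + 1) / 2 : ℕ) = Fintype.card F := by exact_mod_cast h
      omega
    · rw [h1] at h
      have h2 : ((Fintype.card F + 1) / 2 : ℕ) = Fintype.card F + 1 := by exact_mod_cast h
      omega
  · have hΘ1 : Θ 1 = (Fintype.card F : ℂ) + 1 := by
      have h3 := congrFun hsum 1
      simp only [Function.comp_apply, map_one, Pi.add_apply] at h3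
      rw [h3, hdeg, hd]
      have h4 : 2 * ((Fintype.card F + 1) / 2) = Fintype.card F + 1 := by omega
      have h5 : (2 : ℂ) * (((Fintype.card F + 1) / 2 : ℕ) : ℂ) = (Fintype.card F : ℂ) + 1 := by
        exact_mod_cast h4
      linear_combination h5
    obtain ⟨α, β, hαβ, hΘe⟩ := (PS.deg_iff (by omega) ⟨Θ, hΘ⟩).2.2.1.1 hΘ1
    change Θ = _ at hΘe
    have hsne : α ≠ sgnC F * α := by
      intro h
      apply sgnC_ne_one hodd
      have h1 : 1 * α = sgnC F * α := by
        rw [one_mul]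
        exact h
      exact (mul_right_cancel h1).symm
    have h1 : indFun (Cfsg.upperTriangularGL 2 F) (PS.psFun (sgnC F * α) (sgnC F * β)) =
        indFun (Cfsg.upperTriangularGL 2 F) (PS.psFun α β) := by
      funext x
      rw [PS.indFun_twist, ← hΘe]
      exact congrFun hII x
    have hβ : β = sgnC F * α := by
      rcases (PS.ps_eq_iff _ _ _ _).1 h1 with ⟨h2, -⟩ | ⟨h2, -⟩
      · exact absurd h2.symm hsne
      · exact h2.symm
    have hfus : χ' g = χ g :=
      fusion hΘ hχ hχ' hne' hsum g (centralizer_det_of_diag g h01 h10)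
    have hdet := SL2.det_eq g
    rw [h01, zero_mul, sub_zero] at hdet
    have hne : g 0 0 ≠ g 1 1 := by
      intro h
      apply hsq
      linear_combination hdet + g 0 0 * h
    have hval : Θ (Matrix.SpecialLinearGroup.toGL g) =
        α (g 0 0) * β (g 1 1) + α (g 1 1) * β (g 0 0) := by
      rw [hΘe]
      exact PS.ps_value_diag α β (Matrix.SpecialLinearGroup.toGL g) h01 h10 hne
    have hval2 : Θ (Matrix.SpecialLinearGroup.toGL g) = χ g + χ' g := congrFun hsum g
    rw [hval2, hfus, hβ, MulChar.mul_apply, MulChar.mul_apply] at hval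
    have hα : α (g 0 0) * α (g 1 1) = 1 := by
      rw [← map_mul, hdet, map_one]
    have hs1 : sgnC F (g 0 0) * sgnC F (g 1 1) = 1 := by
      rw [← map_mul, hdet, map_one]
    have hs2 : sgnC F (g 0 0) * sgnC F (g 0 0) = 1 := by
      have h3 : (sgnC F * sgnC F) (g 0 0) = (1 : MulChar F ℂ) (g 0 0) := by
        rw [sgnC_mul_self]
      rw [MulChar.mul_apply, MulChar.one_apply] at h3
      · exact h3
      · apply IsUnit.mk0
        intro h0
        rw [h0, zero_mul] at hdet
        exact zero_ne_one hdet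
    have hs3 : sgnC F (g 1 1) = sgnC F (g 0 0) := by
      linear_combination sgnC F (g 0 0) * hs1 - sgnC F (g 1 1) * hs2
    rw [hs3] at hval
    have h2 : (2 : ℂ) * χ g = 2 * sgnC F (g 0 0) := by
      linear_combination hval + 2 * sgnC F (g 0 0) * hα
    exact mul_left_cancel₀ two_ne_zero h2

open scoped Classical in
/-- the characters of degree `(q - 1) / 2` at the elements without eigenvectors -/
theorem half_minus_ell (hodd : Odd (Fintype.card F)) (hq : 5 ≤ Fintype.card F) {χ : SLt F → ℂ}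
    (hχ : IsIrrCharacter (SLt F) χ) (hd : χ 1 = (((Fintype.card F - 1) / 2 : ℕ) : ℂ))
    {g : SLt F} (hg : IsEll g) :
    (g ^ ((Fintype.card F + 1) / 2) = 1 → χ g = -1) ∧
      (g ^ ((Fintype.card F + 1) / 2) ≠ 1 → χ g = 1) := by
  obtain ⟨k, hk⟩ := id hodd
  have h10 := ell_10 hg
  have hcomm : ∀ a b : (Subgroup.centralizer ({g} : Set (SLt F)) : Subgroup (SLt F)),
      a * b = b * a := by
    intro a b
    apply Subtype.ext
    have ha := Subgroup.mem_centralizer_singleton_iff.1 a.2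
    have hb := Subgroup.mem_centralizer_singleton_iff.1 b.2
    exact centralizer_ell_comm h10 ha hb
  have hcard := card_centralizer_ell hodd hg
  have hcyc := centralizer_ell_cyclic hg
  have hgC : g ∈ Subgroup.centralizer ({g} : Set (SLt F)) :=
    Subgroup.mem_centralizer_singleton_iff.2 rfl
  haveI : Fintype (Subgroup.centralizer ({g} : Set (SLt F)) : Subgroup (SLt F)) :=
    Fintype.ofFinite _
  obtain ⟨T, -, hTH, hT, -⟩ := torus_main hodd k hk (by omega)
    (Subgroup.centralizer ({g} : Set (SLt F))) hcomm hcard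
  have hχF : (⟨χ, hχ⟩ : IrrCharacter (SLt F)) ∈ Fd F k := by
    rw [mem_Fd]
    show χ 1 = (k : ℂ)
    rw [hd]
    have h3 : (Fintype.card F - 1) / 2 = k := by omega
    rw [h3]
  obtain ⟨hval, -, hinv, hone⟩ := hT ⟨χ, hχ⟩ (Or.inr hχF)
  obtain ⟨θ, hθ⟩ := Finset.card_eq_one.1 (hTH _ hχF)
  have hθmem : θ ∈ T ⟨χ, hχ⟩ := by
    rw [hθ]
    exact Finset.mem_singleton_self θ
  have hθinv : θ⁻¹ = θ := by
    have h3 := hinv θ hθmem
    rw [hθ, Finset.mem_singleton] at h3
    exact h3
  have hθne : θ ≠ 1 := by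
    intro h
    apply hone
    rw [← h]
    exact hθmem
  have hχg : χ g = -((θ ⟨g, hgC⟩ : ℂˣ) : ℂ) := by
    have h3 := hval ⟨g, hgC⟩ (not_central_of_ell hg)
    rw [hθ, Finset.sum_singleton] at h3
    exact h3
  obtain ⟨c₀, hc₀⟩ := hcyc.exists_generator
  have hord : orderOf c₀ = Fintype.card F + 1 := by
    rw [orderOf_eq_card_of_forall_mem_zpowers hc₀, hcard]
  have hsq : θ c₀ * θ c₀ = 1 := by
    have h1 : θ⁻¹ c₀ = θ c₀ := by rw [hθinv]
    rw [MonoidHom.inv_apply] at h1
    calc θ c₀ * θ c₀ = (θ c₀)⁻¹ * θ c₀ := by rw [h1]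
      _ = 1 := inv_mul_cancel _
  have hne1 : θ c₀ ≠ 1 := by
    intro h1
    apply hθne
    apply MonoidHom.ext
    intro x
    obtain ⟨n, rfl⟩ := Subgroup.mem_zpowers_iff.1 (hc₀ x)
    rw [map_zpow, h1, one_zpow, MonoidHom.one_apply]
  have hu : ((θ c₀ : ℂˣ) : ℂ) = -1 := by
    have h3 : ((θ c₀ : ℂˣ) : ℂ) * ((θ c₀ : ℂˣ) : ℂ) = 1 := by
      rw [← Units.val_mul, hsq, Units.val_one]
    rcases mul_self_eq_one_iff.1 h3 with h4 | h4
    · exact absurd (Units.val_eq_one.1 h4) hne1
    · exact h4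
  obtain ⟨n, hn⟩ : ∃ n : ℕ, c₀ ^ n = ⟨g, hgC⟩ := by
    have h3 := hc₀ ⟨g, hgC⟩
    rw [← mem_powers_iff_mem_zpowers] at h3
    exact Submonoid.mem_powers_iff _ _ |>.1 h3
  have hθg : ((θ ⟨g, hgC⟩ : ℂˣ) : ℂ) = (-1) ^ n := by
    rw [← hn, map_pow, Units.val_pow_eq_pow_val, hu]
  have hkk : (Fintype.card F + 1) / 2 = k + 1 := by omega
  have hiff : g ^ ((Fintype.card F + 1) / 2) = 1 ↔ Even n := by
    rw [hkk]
    have h3 : g ^ (k + 1) = 1 ↔
        (⟨g, hgC⟩ : (Subgroup.centralizer ({g} : Set (SLt F)) : Subgroup (SLt F))) ^ (k + 1) =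
          1 := by
      rw [Subtype.ext_iff, Subgroup.coe_pow, Subgroup.coe_one]
    rw [h3, ← hn, ← pow_mul, ← orderOf_dvd_iff_pow_eq_one, hord]
    have h4 : Fintype.card F + 1 = 2 * (k + 1) := by omega
    rw [h4, Nat.mul_dvd_mul_iff_right (by omega : 0 < k + 1), even_iff_two_dvd]
  constructor
  · intro h
    rw [hχg, hθg, (hiff.1 h).neg_one_pow]
  · intro h
    have hodd' : Odd n := by
      rw [← Nat.not_even_iff_odd]
      exact fun h' => h (hiff.2 h')
    rw [hχg, hθg, hodd'.neg_one_pow]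
    norm_num

end finite

end Cfsg.Agent.Lib.Helper26.PSR
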