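import Mathlib
import Cfsg.Prelude.Def_Characters
import Cfsg.Agent.Lib.Helper26.SL2TorusC

/-!
# The cuspidal characters of degree `q - 1` of `SL₂(q)`, `q` odd, and the linear characters of a
cyclic subgroup of order `q + 1` (helper26)
-/

set_option autoImplicit false

namespace Cfsg.Agent.Lib.Helper26.PSR
open Cfsg Cfsg.Agent.Lib.Helper26 Cfsg.Agent.Lib.Helper12
open scoped ComplexConjugate

local notation "GLt" => Matrix.GeneralLinearGroup (Fin 2)
local notation "SLt" => Matrix.SpecialLinearGroup (Fin 2)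

section finite
variable {F : Type*} [Field F] [Fintype F] [DecidableEq F]

attribute [local instance] Cfsg.Agent.Lib.Helper26.PS.instFintypeMulCharAux
attribute [local instance] Cfsg.Agent.Lib.Helper26.PS.instFintypeIrrAux
attribute [local instance] Cfsg.Agent.Lib.Helper26.PSR.instFintypeIrrSLAux

open scoped Classical in
/-- there is a cuspidal character of `GL₂(q)` which is not fixed by the twist with `sgn ∘ det` -/
theorem exists_cusp_not_isII (hodd : Odd (Fintype.card F)) :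
    ∃ Θ : GLt F → ℂ, IsIrrCharacter (GLt F) Θ ∧ Θ 1 = (Fintype.card F : ℂ) - 1 ∧ ¬ isII Θ := by
  obtain ⟨k, hk⟩ := id hodd
  have hk1 : 1 ≤ k := by
    have := Fintype.one_lt_card (α := F)
    omega
  by_contra hcon
  have hall : ∀ Θ : IrrCharacter (GLt F), (Θ : GLt F → ℂ) 1 = (Fintype.card F : ℂ) - 1 →
      isII (Θ : GLt F → ℂ) := by
    intro Θ hd
    by_contra h
    exact hcon ⟨Θ.1, Θ.2, hd, h⟩
  obtain ⟨-, -, -, c4⟩ := PS.gl2_counts (F := F) (by omega)
  have h1 : Nat.card {χ : IrrCharacter (GLt F) //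
      (χ : GLt F → ℂ) 1 = (Fintype.card F : ℂ) - 1} ≤
      (Finset.univ.filter (fun Θ : IrrCharacter (GLt F) => isII (Θ : GLt F → ℂ))).card := by
    rw [Nat.card_eq_fintype_card, Fintype.card_of_subtype
      (Finset.univ.filter (fun Θ : IrrCharacter (GLt F) =>
        (Θ : GLt F → ℂ) 1 = (Fintype.card F : ℂ) - 1))
      (fun x => by rw [Finset.mem_filter]; exact ⟨fun h => h.2, fun h => ⟨Finset.mem_univ _, h⟩⟩)]
    apply Finset.card_le_card
    intro Θ hΘ
    rw [Finset.mem_filter] at hΘ ⊢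
    exact ⟨Finset.mem_univ _, hall Θ hΘ.2⟩
  rw [c4, card_isII hodd, Fintype.card_units, hk] at h1
  have h5 : (2 * k + 1) * (2 * k + 1 - 1) / 2 = (2 * k + 1) * k := by
    have h6 : 2 * k + 1 - 1 = k * 2 := by omega
    rw [h6, ← mul_assoc, Nat.mul_div_cancel _ (by norm_num)]
  rw [h5] at h1
  have h7 : 2 * k + 1 - 1 = 2 * k := by omega
  rw [h7] at h1
  nlinarith

/-- a cuspidal character of `GL₂(q)` at the unipotent elements of `SL₂(q)` -/
theorem cusp_res_unipotent (hq : 3 ≤ Fintype.card F) {Θ : GLt F → ℂ}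
    (hΘ : IsIrrCharacter (GLt F) Θ) (hΘ1 : Θ 1 = (Fintype.card F : ℂ) - 1) (g : SLt F)
    (h10 : g 1 0 = 0) (h00 : g 0 0 = 1) (h11 : g 1 1 = 1) (h01 : g 0 1 ≠ 0) :
    Θ (Matrix.SpecialLinearGroup.toGL g) = -1 := by
  have hC := ((PS.deg_iff hq ⟨Θ, hΘ⟩).2.2.2).1 hΘ1
  have hg : (Matrix.SpecialLinearGroup.toGL g : GLt F) = GL2.um (g 0 1) := by
    apply GL2.ext4
    · exact h00.trans (GL2.um_00 _).symm
    · exact (GL2.um_01 _).symm
    · exact h10.trans (GL2.um_10 _).symm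
    · exact h11.trans (GL2.um_11 _).symm
  rw [hg, PS.class_um (isClassFunction_of_isIrrCharacter hΘ) _ h01]
  exact PS.val_of_isC ⟨Θ, hΘ⟩ hC

theorem cyclic_comm (C : Subgroup (SLt F)) (hC : IsCyclic C) : ∀ a b : C, a * b = b * a := by
  intro a b
  obtain ⟨c₀, hc₀⟩ := hC.exists_generator
  obtain ⟨m, rfl⟩ := Subgroup.mem_zpowers_iff.1 (hc₀ a)
  obtain ⟨n, rfl⟩ := Subgroup.mem_zpowers_iff.1 (hc₀ b)
  exact zpow_mul_comm c₀ m n

/-- a linear character of order at most two of a cyclic group, at a generator -/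
theorem order_two_gen {C : Type*} [Group C] {c₀ : C} (hc₀ : ∀ x, x ∈ Subgroup.zpowers c₀)
    (θ : C →* ℂˣ) (hinv : θ⁻¹ = θ) (hne : θ ≠ 1) : θ c₀ = -1 := by
  have hsq : θ c₀ * θ c₀ = 1 := by
    have h1 : θ⁻¹ c₀ = θ c₀ := by rw [hinv]
    rw [MonoidHom.inv_apply] at h1
    calc θ c₀ * θ c₀ = (θ c₀)⁻¹ * θ c₀ := by rw [h1]
      _ = 1 := inv_mul_cancel _
  have hne1 : θ c₀ ≠ 1 := by
    intro h1
    apply hne
    apply MonoidHom.ext
    intro x
    obtain ⟨n, rfl⟩ := Subgroup.mem_zpowers_iff.1 (hc₀ x)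
    rw [map_zpow, h1, one_zpow, MonoidHom.one_apply]
  have h3 : ((θ c₀ : ℂˣ) : ℂ) * ((θ c₀ : ℂˣ) : ℂ) = 1 := by
    rw [← Units.val_mul, hsq, Units.val_one]
  rcases mul_self_eq_one_iff.1 h3 with h4 | h4
  · exact absurd (Units.val_eq_one.1 h4) hne1
  · apply Units.ext
    rw [h4, Units.val_neg, Units.val_one]

open scoped Classical in
/-- the characters of degree `q - 1` attached to the linear characters of `C`, `q ≥ 5` -/
theorem torus_part1_big (hodd : Odd (Fintype.card F)) (hq : 5 ≤ Fintype.card F)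
    (C : Subgroup (SLt F)) (hC : IsCyclic C) (hcard : Nat.card C = Fintype.card F + 1)
    (θ : C →* ℂˣ) (hθ : ∃ c : C, θ c ^ 2 ≠ 1) :
    ∃ χ : SLt F → ℂ, IsIrrCharacter (SLt F) χ ∧ χ 1 = (Fintype.card F : ℂ) - 1 ∧
      (∀ c : C, (c : SLt F) ∉ Subgroup.center (SLt F) →
        χ c = -((θ c).val + (θ c)⁻¹.val)) ∧
      (∀ c : C, (c : SLt F) ∈ Subgroup.center (SLt F) →
        ∀ g : SLt F, χ ((c : SLt F) * g) = (θ c).val * χ g) ∧
      (∀ g : SLt F, g 0 1 = 0 → g 1 0 = 0 → g 0 0 ^ 2 ≠ 1 → χ g = 0) ∧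
      (∀ g : SLt F, g 1 0 = 0 → g 0 0 = 1 → g 1 1 = 1 → g 0 1 ≠ 0 → χ g = -1) := by
  obtain ⟨k, hk⟩ := id hodd
  haveI : Fintype C := Fintype.ofFinite C
  obtain ⟨T, hTP, hTH, hT, hall⟩ :=
    torus_main hodd k hk (by omega) C (cyclic_comm C hC) hcard
  have hθ1 : θ ≠ 1 := by
    rintro rfl
    obtain ⟨c, hc⟩ := hθ
    apply hc
    rw [MonoidHom.one_apply, one_pow]
  have hθinv : θ⁻¹ ≠ θ := by
    intro h
    obtain ⟨c, hc⟩ := hθ
    apply hc
    have h1 : θ⁻¹ c = θ c := by rw [h]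
    rw [MonoidHom.inv_apply] at h1
    rw [pow_two]
    calc θ c * θ c = (θ c)⁻¹ * θ c := by rw [h1]
      _ = 1 := inv_mul_cancel _
  rcases hall θ hθ1 with ⟨χ, hχF, hmem⟩ | ⟨χ, hχF, hmem⟩
  swap
  · exfalso
    obtain ⟨θ', hθ'⟩ := Finset.card_eq_one.1 (hTH χ hχF)
    obtain ⟨-, -, hinv, -⟩ := hT χ (Or.inr hχF)
    have h1 := hinv θ hmem
    rw [hθ', Finset.mem_singleton] at h1 hmem
    exact hθinv (h1.trans hmem.symm)
  · obtain ⟨hval, hsign, hinv, hone⟩ := hT χ (Or.inl hχF)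
    have hTeq : T χ = {θ, θ⁻¹} := by
      symm
      apply Finset.eq_of_subset_of_card_le
      · intro x hx
        rw [Finset.mem_insert, Finset.mem_singleton] at hx
        rcases hx with rfl | rfl
        · exact hmem
        · exact hinv _ hmem
      · rw [hTP χ hχF, Finset.card_pair hθinv.symm]
    have hdegN : (χ : SLt F → ℂ) 1 = ((2 * k : ℕ) : ℂ) := (mem_Fd _ _).1 hχF
    have hdeg : (χ : SLt F → ℂ) 1 = (Fintype.card F : ℂ) - 1 := by
      rw [hdegN, hk]
      push_cast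
      ring
    refine ⟨χ.1, χ.2, hdeg, ?_, ?_, ?_, ?_⟩
    · intro c hc
      have h1 := hval c hc
      rw [hTeq, Finset.sum_pair hθinv.symm, MonoidHom.inv_apply] at h1
      exact h1
    · intro c hc g
      rcases center_cases (two_ne_zero_of_odd hodd) hc with h1 | h1
      · have hc1 : c = 1 := Subtype.ext h1
        rw [hc1, map_one, Units.val_one, one_mul, Subgroup.coe_one, one_mul]
      · rw [h1]
        exact hsign θ hmem c h1 g
    · intro g h01 h10 hsq
      exact (sl_vanish hodd χ.2 g).1 (Or.inl hdeg) h01 h10 hsq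
    · intro g h10 h00 h11 h01
      have ne1 : (χ : SLt F → ℂ) 1 ≠ (((Fintype.card F + 1) / 2 : ℕ) : ℂ) := by
        rw [hdegN]
        exact (Nat.cast_injective (R := ℂ)).ne (by omega)
      have ne2 : (χ : SLt F → ℂ) 1 ≠ (((Fintype.card F - 1) / 2 : ℕ) : ℂ) := by
        rw [hdegN]
        exact (Nat.cast_injective (R := ℂ)).ne (by omega)
      obtain ⟨Θ, hΘ, hres⟩ := typeI_of_degree hodd χ.2 ne1 ne2
      have hΘ1 : Θ 1 = (Fintype.card F : ℂ) - 1 := by
        rw [← hdeg, ← hres]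
        simp only [Function.comp_apply, map_one]
      have h5 := cusp_res_unipotent (by omega) hΘ hΘ1 g h10 h00 h11 h01
      have h6 : (χ : SLt F → ℂ) g = Θ (Matrix.SpecialLinearGroup.toGL g) := by
        rw [← hres]
        rfl
      rw [h6, h5]

open scoped Classical in
/-- every character of degree `q - 1` comes from a linear character of `C`, `q ≥ 5` -/
theorem torus_part2_big (hodd : Odd (Fintype.card F)) (hq : 5 ≤ Fintype.card F)
    (C : Subgroup (SLt F)) (hC : IsCyclic C) (hcard : Nat.card C = Fintype.card F + 1)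
    {χ : SLt F → ℂ} (hχ : IsIrrCharacter (SLt F) χ) (hd : χ 1 = (Fintype.card F : ℂ) - 1) :
    ∃ θ : C →* ℂˣ, (∃ c : C, θ c ^ 2 ≠ 1) ∧
      ∀ c : C, (c : SLt F) ∉ Subgroup.center (SLt F) →
        χ c = -((θ c).val + (θ c)⁻¹.val) := by
  obtain ⟨k, hk⟩ := id hodd
  haveI : Fintype C := Fintype.ofFinite C
  obtain ⟨T, hTP, -, hT, -⟩ :=
    torus_main hodd k hk (by omega) C (cyclic_comm C hC) hcard
  have hχF : (⟨χ, hχ⟩ : IrrCharacter (SLt F)) ∈ Fd F (2 * k) := by
    rw [mem_Fd]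
    show χ 1 = ((2 * k : ℕ) : ℂ)
    rw [hd, hk]
    push_cast
    ring
  obtain ⟨hval, -, hinv, hone⟩ := hT _ (Or.inl hχF)
  obtain ⟨θ₁, θ₂, hne, hTeq⟩ := Finset.card_eq_two.1 (hTP _ hχF)
  have hm1 : θ₁ ∈ T ⟨χ, hχ⟩ := by
    rw [hTeq]
    exact Finset.mem_insert_self _ _
  have hm2 : θ₂ ∈ T ⟨χ, hχ⟩ := by
    rw [hTeq]
    exact Finset.mem_insert_of_mem (Finset.mem_singleton_self _)
  have hθ₁1 : θ₁ ≠ 1 := fun h => hone (h ▸ hm1)
  have hθ₂1 : θ₂ ≠ 1 := fun h => hone (h ▸ hm2)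
  obtain ⟨c₀, hc₀⟩ := hC.exists_generator
  have hinv1 : θ₁⁻¹ = θ₂ := by
    have h1 := hinv θ₁ hm1
    rw [hTeq, Finset.mem_insert, Finset.mem_singleton] at h1
    rcases h1 with h1 | h1
    · exfalso
      have h2 := hinv θ₂ hm2
      rw [hTeq, Finset.mem_insert, Finset.mem_singleton] at h2
      have h3 : θ₂⁻¹ = θ₂ := by
        rcases h2 with h2 | h2
        · exfalso
          apply hne
          calc θ₁ = θ₁⁻¹ := h1.symm
            _ = (θ₂⁻¹)⁻¹ := by rw [h2]
            _ = θ₂ := MonoidHom.ext (fun x => by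
                rw [MonoidHom.inv_apply, MonoidHom.inv_apply, inv_inv])
        · exact h2
      apply hne
      apply MonoidHom.ext
      intro x
      obtain ⟨n, rfl⟩ := Subgroup.mem_zpowers_iff.1 (hc₀ x)
      rw [map_zpow, map_zpow, order_two_gen hc₀ θ₁ h1 hθ₁1, order_two_gen hc₀ θ₂ h3 hθ₂1]
    · exact h1
  refine ⟨θ₁, ?_, ?_⟩
  · by_contra hcon
    have h1 : θ₁⁻¹ = θ₁ := by
      apply MonoidHom.ext
      intro x
      rw [MonoidHom.inv_apply]
      have h5 : θ₁ x ^ 2 = 1 := by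
        by_contra h6
        exact hcon ⟨x, h6⟩
      rw [pow_two] at h5
      exact inv_eq_of_mul_eq_one_left h5
    exact hne (h1.symm.trans hinv1)
  · intro c hc
    have h1 := hval c hc
    rw [hTeq, Finset.sum_pair hne, ← hinv1, MonoidHom.inv_apply] at h1
    exact h1

/-- for `q = 3`: the values of a faithful linear character of `C` -/
theorem three_theta (hodd : Odd (Fintype.card F)) (h3 : Fintype.card F = 3)
    (C : Subgroup (SLt F)) (hcard : Nat.card C = Fintype.card F + 1) (θ : C →* ℂˣ)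
    (hθ : ∃ c : C, θ c ^ 2 ≠ 1) :
    (∀ c : C, (c : SLt F) = zS → ((θ c : ℂˣ) : ℂ) = -1) ∧
      (∀ c : C, (c : SLt F) ∉ Subgroup.center (SLt F) →
        ((θ c : ℂˣ) : ℂ) + (((θ c)⁻¹ : ℂˣ) : ℂ) = 0) := by
  have h2 := two_ne_zero_of_odd hodd
  have hz := zS_mem_torus hodd C hcard
  have hsqC : ∀ c : C, (c : SLt F) ∉ Subgroup.center (SLt F) → c * c = ⟨zS, hz⟩ := by
    intro c hc
    have h4 : c ^ 4 = 1 := by
      have h := pow_card_eq_one' (G := C) (x := c)
      rw [hcard, h3] at h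
      exact h
    have h4' : (c : SLt F) ^ 4 = 1 := by
      rw [← Subgroup.coe_pow, h4, Subgroup.coe_one]
    have h5 : ((c : SLt F) * (c : SLt F)) * ((c : SLt F) * (c : SLt F)) = 1 := by
      have h6 : ((c : SLt F) * (c : SLt F)) * ((c : SLt F) * (c : SLt F)) =
          (c : SLt F) ^ (2 + 2) := by
        rw [pow_add, pow_two]
      rw [h6]
      exact h4'
    rcases sq_one_cases h2 h5 with h6 | h6
    · exfalso
      rcases sq_one_cases h2 h6 with h8 | h8
      · apply hc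
        rw [h8]
        exact Subgroup.one_mem _
      · apply hc
        rw [h8]
        exact zS_mem_center
    · exact Subtype.ext h6
  have hzz : θ ⟨zS, hz⟩ * θ ⟨zS, hz⟩ = 1 := by
    rw [← map_mul]
    have h : (⟨zS, hz⟩ : C) * ⟨zS, hz⟩ = 1 := Subtype.ext zS_mul_self
    rw [h, map_one]
  have hzval : θ ⟨zS, hz⟩ ≠ 1 := by
    intro h1
    obtain ⟨c, hc⟩ := hθ
    apply hc
    rw [pow_two, ← map_mul]
    by_cases hcc : (c : SLt F) ∈ Subgroup.center (SLt F)
    · rcases center_cases h2 hcc with h8 | h8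
      · have h : c * c = 1 := by
          apply Subtype.ext
          show (c : SLt F) * (c : SLt F) = 1
          rw [h8, one_mul]
        rw [h, map_one]
      · have h : c * c = 1 := by
          apply Subtype.ext
          show (c : SLt F) * (c : SLt F) = 1
          rw [h8]
          exact zS_mul_self
        rw [h, map_one]
    · rw [hsqC c hcc, h1]
  have hzm1 : ((θ ⟨zS, hz⟩ : ℂˣ) : ℂ) = -1 := by
    have h3' : ((θ ⟨zS, hz⟩ : ℂˣ) : ℂ) * ((θ ⟨zS, hz⟩ : ℂˣ) : ℂ) = 1 := by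
      rw [← Units.val_mul, hzz, Units.val_one]
    rcases mul_self_eq_one_iff.1 h3' with h4 | h4
    · exact absurd (Units.val_eq_one.1 h4) hzval
    · exact h4
  constructor
  · intro c hc
    have h : c = ⟨zS, hz⟩ := Subtype.ext hc
    rw [h, hzm1]
  · intro c hc
    have h5 : ((θ c : ℂˣ) : ℂ) * ((θ c : ℂˣ) : ℂ) = -1 := by
      rw [← Units.val_mul, ← map_mul, hsqC c hc, hzm1]
    have hne : ((θ c : ℂˣ) : ℂ) ≠ 0 := Units.ne_zero _
    rw [Units.val_inv_eq_inv_val]
    field_simp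
    linear_combination h5

open scoped Classical in
/-- the character of degree `2` attached to a faithful linear character of `C`, `q = 3` -/
theorem torus_part1_three (hodd : Odd (Fintype.card F)) (h3 : Fintype.card F = 3)
    (C : Subgroup (SLt F)) (hcard : Nat.card C = Fintype.card F + 1)
    (θ : C →* ℂˣ) (hθ : ∃ c : C, θ c ^ 2 ≠ 1) :
    ∃ χ : SLt F → ℂ, IsIrrCharacter (SLt F) χ ∧ χ 1 = (Fintype.card F : ℂ) - 1 ∧
      (∀ c : C, (c : SLt F) ∉ Subgroup.center (SLt F) →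
        χ c = -((θ c).val + (θ c)⁻¹.val)) ∧
      (∀ c : C, (c : SLt F) ∈ Subgroup.center (SLt F) →
        ∀ g : SLt F, χ ((c : SLt F) * g) = (θ c).val * χ g) ∧
      (∀ g : SLt F, g 0 1 = 0 → g 1 0 = 0 → g 0 0 ^ 2 ≠ 1 → χ g = 0) ∧
      (∀ g : SLt F, g 1 0 = 0 → g 0 0 = 1 → g 1 1 = 1 → g 0 1 ≠ 0 → χ g = -1) := by
  have h2 := two_ne_zero_of_odd hodd
  obtain ⟨hθz, hθn⟩ := three_theta hodd h3 C hcard θ hθ
  obtain ⟨Θ, hΘ, hΘ1, hnII⟩ := exists_cusp_not_isII hodd
  have hχ := res_irr_of_not_isII hodd hΘ hnII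
  have hdeg : (Θ ∘ (Matrix.SpecialLinearGroup.toGL : SLt F →* GLt F)) 1 =
      (Fintype.card F : ℂ) - 1 := by
    rw [Function.comp_apply, map_one, hΘ1]
  have hd2 : (Θ ∘ (Matrix.SpecialLinearGroup.toGL : SLt F →* GLt F)) 1 = 2 := by
    rw [hdeg, h3]
    norm_num
  refine ⟨Θ ∘ (Matrix.SpecialLinearGroup.toGL : SLt F →* GLt F), hχ, hdeg, ?_, ?_, ?_, ?_⟩
  · intro c hc
    have hpow : (c : SLt F) ^ (Fintype.card F + 1) = 1 := by
      rw [← hcard, ← Subgroup.coe_pow, pow_card_eq_one', Subgroup.coe_one]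
    have hell := ell_of_pow hodd hpow hc
    rw [corner_three h3 hχ hd2 hΘ rfl (c : SLt F) hell, hθn c hc, neg_zero]
  · intro c hc g
    rcases center_cases h2 hc with h1 | h1
    · have hc1 : c = 1 := Subtype.ext h1
      rw [hc1, map_one, Units.val_one, one_mul, Subgroup.coe_one, one_mul]
    · rw [h1, hθz c h1]
      obtain ⟨s, hs, hsg⟩ := center_mul_sign hχ zS zS_mem_center zS_mul_self
      rcases hs with rfl | rfl
      · exfalso
        apply three_sign h3 hχ hd2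
        have h := hsg 1
        rw [mul_one, one_mul] at h
        exact h
      · exact hsg g
  · intro g h01 h10 hsq
    exact (sl_vanish hodd hχ g).1 (Or.inl hdeg) h01 h10 hsq
  · intro g h10 h00 h11 h01
    exact cusp_res_unipotent (by omega) hΘ hΘ1 g h10 h00 h11 h01

/-- every character of degree `2` comes from a linear character of `C`, `q = 3` -/
theorem torus_part2_three (hodd : Odd (Fintype.card F)) (h3 : Fintype.card F = 3)
    (C : Subgroup (SLt F)) (hC : IsCyclic C) (hcard : Nat.card C = Fintype.card F + 1)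
    {χ : SLt F → ℂ} (hχ : IsIrrCharacter (SLt F) χ) (hd : χ 1 = (Fintype.card F : ℂ) - 1) :
    ∃ θ : C →* ℂˣ, (∃ c : C, θ c ^ 2 ≠ 1) ∧
      ∀ c : C, (c : SLt F) ∉ Subgroup.center (SLt F) →
        χ c = -((θ c).val + (θ c)⁻¹.val) := by
  obtain ⟨c₀, hc₀⟩ := hC.exists_generator
  have hord : orderOf c₀ = 4 := by
    rw [orderOf_eq_card_of_forall_mem_zpowers hc₀, hcard, h3]
  have hi4 : (Units.mk0 Complex.I Complex.I_ne_zero) ^ 4 = 1 := by
    apply Units.ext
    rw [Units.val_pow_eq_pow_val, Units.val_one]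
    exact Complex.I_pow_four
  have hdvd : orderOf (Units.mk0 Complex.I Complex.I_ne_zero) ∣ orderOf c₀ := by
    rw [hord]
    exact orderOf_dvd_of_pow_eq_one hi4
  have hθc : monoidHomOfForallMemZpowers hc₀ hdvd c₀ = Units.mk0 Complex.I Complex.I_ne_zero :=
    monoidHomOfForallMemZpowers_apply_gen hc₀ hdvd
  have hθ : ∃ c : C, monoidHomOfForallMemZpowers hc₀ hdvd c ^ 2 ≠ 1 := by
    refine ⟨c₀, ?_⟩
    rw [hθc]
    intro h
    have h1 := congrArg Units.val h
    rw [Units.val_pow_eq_pow_val, Units.val_one] at h1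
    have h2 : (Complex.I) ^ 2 = 1 := h1
    rw [Complex.I_sq] at h2
    norm_num at h2
  refine ⟨monoidHomOfForallMemZpowers hc₀ hdvd, hθ, ?_⟩
  obtain ⟨-, hθn⟩ := three_theta hodd h3 C hcard _ hθ
  intro c hc
  have hpow : (c : SLt F) ^ (Fintype.card F + 1) = 1 := by
    rw [← hcard, ← Subgroup.coe_pow, pow_card_eq_one', Subgroup.coe_one]
  have hell := ell_of_pow hodd hpow hc
  have hd' : χ 1 = (((Fintype.card F + 1) / 2 : ℕ) : ℂ) := by
    rw [hd, h3]
    norm_num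
  rw [(sl_vanish hodd hχ (c : SLt F)).2 (Or.inr hd') hell, hθn c hc, neg_zero]

end finite

end Cfsg.Agent.Lib.Helper26.PSR
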