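import Mathlib
import Cfsg.Agent.Lib.Helper26.SLnTrans

/-!
# The orbits of `SL_n(F)`, `n ≥ 3`, on pairs of non-zero vectors (helper26)
-/

set_option autoImplicit false

namespace Cfsg.Agent.Lib.Helper26.SLW
open Matrix

section field
variable {n : ℕ} {F : Type*} [Field F]

local notation "SLn" => Matrix.SpecialLinearGroup (Fin n) F

/-- the non-zero vectors -/
abbrev NZ (n : ℕ) (F : Type*) [Field F] : Type _ := {v : Fin n → F // v ≠ 0}

instance instMulActionNZ : MulAction SLn (NZ n F) where
  smul g v := ⟨g • v.1, fun h => v.2 (by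
    have h1 := congrArg (fun x => g⁻¹ • x) h
    simpa using h1)⟩
  one_smul v := Subtype.ext (one_smul _ _)
  mul_smul g h v := Subtype.ext (mul_smul _ _ _)

theorem smul_val (g : SLn) (v : NZ n F) : (g • v).1 = g • v.1 := rfl

theorem single_ne_zero' (a : Fin n) : (Pi.single a 1 : Fin n → F) ≠ 0 := by
  intro h
  have h1 := congrFun h a
  rw [Pi.single_eq_same, Pi.zero_apply] at h1
  exact one_ne_zero h1

/-- the basis vectors as non-zero vectors -/
def E (a : Fin n) : NZ n F := ⟨Pi.single a 1, single_ne_zero' a⟩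

theorem smul_single_ne_zero (a : Fin n) (l : Fˣ) : (l : F) • (Pi.single a 1 : Fin n → F) ≠ 0 := by
  intro h
  have h1 := congrFun h a
  rw [Pi.smul_apply, Pi.single_eq_same, Pi.zero_apply, smul_eq_mul, mul_one] at h1
  exact l.ne_zero h1

open scoped Classical in
/-- the class of a pair: the ratio if the pair is dependent -/
noncomputable def cls (p : NZ n F × NZ n F) : Option Fˣ :=
  if h : ∃ l : Fˣ, p.2.1 = (l : F) • p.1.1 then some (Classical.choose h) else none

theorem cls_eq_some_iff (p : NZ n F × NZ n F) (l : Fˣ) :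
    cls p = some l ↔ p.2.1 = (l : F) • p.1.1 := by
  unfold cls
  constructor
  · intro h
    split_ifs at h with hex
    have h2 := Classical.choose_spec hex
    have h3 : Classical.choose hex = l := Option.some.inj h
    rw [← h3]
    exact h2
  · intro h
    have hex : ∃ l : Fˣ, p.2.1 = (l : F) • p.1.1 := ⟨l, h⟩
    rw [dif_pos hex]
    congr 1
    have h2 := Classical.choose_spec hex
    apply Units.ext
    have h3 : ((Classical.choose hex : Fˣ) : F) • p.1.1 = (l : F) • p.1.1 := by rw [← h2, ← h]
    obtain ⟨i, hi⟩ := Function.ne_iff.1 p.1.2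
    have h4 := congrFun h3 i
    rw [Pi.smul_apply, Pi.smul_apply, smul_eq_mul, smul_eq_mul] at h4
    exact mul_right_cancel₀ hi h4

theorem cls_eq_none_iff (p : NZ n F × NZ n F) :
    cls p = none ↔ ¬ ∃ l : Fˣ, p.2.1 = (l : F) • p.1.1 := by
  unfold cls
  split_ifs with h
  · simp [h]
  · simp [h]

theorem cls_smul_some (g : SLn) (p : NZ n F × NZ n F) (l : Fˣ) (h : cls p = some l) :
    cls (g • p) = some l := by
  rw [cls_eq_some_iff] at h ⊢
  show g • p.2.1 = (l : F) • g • p.1.1
  rw [h, smul_comm]

theorem cls_smul (g : SLn) (p : NZ n F × NZ n F) : cls (g • p) = cls p := by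
  rcases hc : cls p with _ | l
  · rcases hc' : cls (g • p) with _ | l'
    · rfl
    · exfalso
      have h1 := cls_smul_some g⁻¹ (g • p) l' hc'
      rw [inv_smul_smul, hc] at h1
      exact Option.some_ne_none l' h1.symm
  · exact cls_smul_some g p l hc

/-- the standard pair of a class -/
noncomputable def std (a b : Fin n) : Option Fˣ → NZ n F × NZ n F
  | none => (E a, E b)
  | some l => (E a, ⟨(l : F) • Pi.single a 1, smul_single_ne_zero a l⟩)

theorem cls_std {a b : Fin n} (hab : a ≠ b) (o : Option Fˣ) : cls (std (F := F) a b o) = o := by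
  cases o with
  | none =>
    rw [cls_eq_none_iff]
    rintro ⟨l, hl⟩
    have h1 := congrFun hl b
    change (Pi.single b 1 : Fin n → F) b = ((l : F) • (Pi.single a 1 : Fin n → F)) b at h1
    rw [Pi.single_eq_same, Pi.smul_apply, Pi.single_eq_of_ne hab.symm, smul_zero] at h1
    exact one_ne_zero h1
  | some l =>
    rw [cls_eq_some_iff]
    rfl

/-- every pair is conjugate to the standard pair of its class -/
theorem exists_normal_form {a b c : Fin n} (hab : a ≠ b) (hac : a ≠ c) (hbc : b ≠ c)
    (p : NZ n F × NZ n F) : ∃ g : SLn, g • p = std a b (cls p) := by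
  obtain ⟨h, hh⟩ := exists_smul_eq_single (F := F) hab p.1.1 p.1.2
  rcases hc : cls p with _ | l
  · -- independent pair
    have hind := (cls_eq_none_iff p).1 hc
    have hw : ∃ j, j ≠ a ∧ (h • p.2.1) j ≠ 0 := by
      by_contra hcon
      have hz : ∀ j, j ≠ a → (h • p.2.1) j = 0 := by
        intro j hj
        by_contra h0
        exact hcon ⟨j, hj, h0⟩
      have hform : h • p.2.1 = ((h • p.2.1) a) • (Pi.single a 1 : Fin n → F) := by
        funext j
        by_cases hj : j = a
        · rw [hj, Pi.smul_apply, Pi.single_eq_same, smul_eq_mul, mul_one]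
        · rw [hz j hj, Pi.smul_apply, Pi.single_eq_of_ne hj, smul_zero]
      have hne : (h • p.2.1) a ≠ 0 := by
        intro h0
        rw [h0, zero_smul] at hform
        apply p.2.2
        have h1 := congrArg (fun x => h⁻¹ • x) hform
        simpa using h1
      apply hind
      generalize (h • p.2.1) a = c at hform hne
      have h1 : p.2.1 = c • p.1.1 := by
        calc p.2.1 = h⁻¹ • (h • p.2.1) := (inv_smul_smul h p.2.1).symm
          _ = h⁻¹ • (c • (Pi.single a 1 : Fin n → F)) := by rw [hform]
          _ = c • (h⁻¹ • (Pi.single a 1 : Fin n → F)) := smul_comm _ _ _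
          _ = c • (h⁻¹ • (h • p.1.1)) := by rw [hh]
          _ = c • p.1.1 := by rw [inv_smul_smul]
      exact ⟨Units.mk0 c hne, h1⟩
    obtain ⟨k, hk1, hk2⟩ := exists_smul_eq_single_fix hab hac hbc (h • p.2.1) hw
    refine ⟨k * h, ?_⟩
    apply Prod.ext
    · apply Subtype.ext
      show (k * h) • p.1.1 = Pi.single a 1
      rw [mul_smul, hh, hk1]
    · apply Subtype.ext
      show (k * h) • p.2.1 = Pi.single b 1
      rw [mul_smul, hk2]
  · have hl := (cls_eq_some_iff p l).1 hc
    refine ⟨h, ?_⟩
    apply Prod.ext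
    · apply Subtype.ext
      show h • p.1.1 = Pi.single a 1
      exact hh
    · apply Subtype.ext
      show h • p.2.1 = (l : F) • Pi.single a 1
      rw [hl, smul_comm, hh]

theorem exists_smul_of_cls_eq {a b c : Fin n} (hab : a ≠ b) (hac : a ≠ c) (hbc : b ≠ c)
    (p q : NZ n F × NZ n F) (h : cls p = cls q) : ∃ g : SLn, g • q = p := by
  obtain ⟨gp, hp⟩ := exists_normal_form hab hac hbc p
  obtain ⟨gq, hq⟩ := exists_normal_form hab hac hbc q
  refine ⟨gp⁻¹ * gq, ?_⟩
  rw [mul_smul, hq, ← h, ← hp, inv_smul_smul]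

theorem isPretransitive_NZ {a b : Fin n} (hab : a ≠ b) :
    MulAction.IsPretransitive SLn (NZ n F) := by
  constructor
  intro x y
  obtain ⟨gx, hx⟩ := exists_smul_eq_single (F := F) hab x.1 x.2
  obtain ⟨gy, hy⟩ := exists_smul_eq_single (F := F) hab y.1 y.2
  refine ⟨gy⁻¹ * gx, ?_⟩
  apply Subtype.ext
  show (gy⁻¹ * gx) • x.1 = y.1
  rw [mul_smul, hx, ← hy, inv_smul_smul]

/-- the number of orbits on pairs -/
theorem card_orbits_pairs [Fintype F] {a b c : Fin n} (hab : a ≠ b) (hac : a ≠ c)
    (hbc : b ≠ c) :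
    Nat.card (Quotient (MulAction.orbitRel SLn (NZ n F × NZ n F))) = Fintype.card F := by
  classical
  have hinv : ∀ p q : NZ n F × NZ n F, MulAction.orbitRel SLn (NZ n F × NZ n F) p q →
      cls p = cls q := by
    intro p q hpq
    rw [MulAction.orbitRel_apply] at hpq
    obtain ⟨g, rfl⟩ := hpq
    exact cls_smul g q
  have hbij : Function.Bijective
      (Quotient.lift (s := MulAction.orbitRel SLn (NZ n F × NZ n F)) cls hinv) := by
    constructor
    · intro x y
      induction x using Quotient.inductionOn' with | h p => ?_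
      induction y using Quotient.inductionOn' with | h q => ?_
      intro hxy
      have h1 : cls p = cls q := hxy
      apply Quotient.sound'
      rw [MulAction.orbitRel_apply]
      obtain ⟨g, hg⟩ := exists_smul_of_cls_eq hab hac hbc p q h1
      exact ⟨g, hg⟩
    · intro o
      refine ⟨Quotient.mk'' (std a b o), ?_⟩
      exact cls_std hab o
  rw [Nat.card_eq_of_bijective _ hbij, Nat.card_eq_fintype_card, Fintype.card_option,
    Fintype.card_units]
  have := Fintype.card_pos (α := F)
  omega

end field

end Cfsg.Agent.Lib.Helper26.SLW
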