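import Mathlib
import Cfsg.Prelude.Def_Characters
import Cfsg.Agent.Lib.Helper26.SLnOrbits
import Cfsg.Agent.Lib.Helper26.MultFreeSum
import Cfsg.Agent.Lib.Helper26.TorusFourier
import Cfsg.Agent.Lib.Helper26.Frame
import Cfsg.Agent.Lib.Helper28.PermChar

/-!
# The permutation character of `SL_n(F)`, `n ≥ 3`, on the non-zero vectors (helper26)

It is the sum of the principal character and `q - 1` pairwise distinct irreducible characters.
-/

set_option autoImplicit false

namespace Cfsg.Agent.Lib.Helper26.SLW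
open Cfsg Matrix
open scoped ComplexConjugate

section field
variable {n : ℕ} {F : Type*} [Field F]

local notation "SLn" => Matrix.SpecialLinearGroup (Fin n) F

/-- the stabilizer of the line spanned by `e_a` -/
def lineStab (a : Fin n) : Subgroup SLn where
  carrier := {g | ∃ l : Fˣ, g • (Pi.single a 1 : Fin n → F) = (l : F) • Pi.single a 1}
  mul_mem' := by
    rintro g h ⟨l, hl⟩ ⟨m, hm⟩
    refine ⟨l * m, ?_⟩
    rw [mul_smul, hm, smul_comm, hl, smul_smul, Units.val_mul, mul_comm]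
  one_mem' := ⟨1, by rw [one_smul, Units.val_one, one_smul]⟩
  inv_mem' := by
    rintro g ⟨l, hl⟩
    refine ⟨l⁻¹, ?_⟩
    calc g⁻¹ • (Pi.single a 1 : Fin n → F)
        = g⁻¹ • (((l⁻¹ : Fˣ) : F) • ((l : F) • (Pi.single a 1 : Fin n → F))) := by
          rw [smul_smul, ← Units.val_mul, inv_mul_cancel, Units.val_one, one_smul]
      _ = g⁻¹ • (((l⁻¹ : Fˣ) : F) • (g • (Pi.single a 1 : Fin n → F))) := by rw [hl]
      _ = ((l⁻¹ : Fˣ) : F) • (g⁻¹ • (g • (Pi.single a 1 : Fin n → F))) := smul_comm _ _ _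
      _ = ((l⁻¹ : Fˣ) : F) • (Pi.single a 1 : Fin n → F) := by rw [inv_smul_smul]

theorem mem_lineStab (a : Fin n) (g : SLn) :
    g ∈ lineStab (F := F) a ↔
      ∃ l : Fˣ, g • (Pi.single a 1 : Fin n → F) = (l : F) • Pi.single a 1 := Iff.rfl

theorem lam_unique (a : Fin n) {l m : Fˣ}
    (h : (l : F) • (Pi.single a 1 : Fin n → F) = (m : F) • Pi.single a 1) : l = m := by
  have h1 := congrFun h a
  rw [Pi.smul_apply, Pi.smul_apply, Pi.single_eq_same, smul_eq_mul, smul_eq_mul, mul_one,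
    mul_one] at h1
  exact Units.ext h1

/-- the eigenvalue on the line -/
noncomputable def lamF (a : Fin n) (h : lineStab (F := F) a) : Fˣ :=
  Classical.choose ((mem_lineStab a h.1).1 h.2)

theorem lamF_spec (a : Fin n) (h : lineStab (F := F) a) :
    (h : SLn) • (Pi.single a 1 : Fin n → F) = (lamF a h : F) • Pi.single a 1 :=
  Classical.choose_spec ((mem_lineStab a h.1).1 h.2)

theorem lamF_eq (a : Fin n) (h : lineStab (F := F) a) (l : Fˣ)
    (hl : (h : SLn) • (Pi.single a 1 : Fin n → F) = (l : F) • Pi.single a 1) : lamF a h = l :=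
  lam_unique a (by rw [← lamF_spec, hl])

/-- the eigenvalue on the line, as a homomorphism -/
noncomputable def lam (a : Fin n) : lineStab (F := F) a →* Fˣ where
  toFun := lamF a
  map_one' := lamF_eq a 1 1 (by rw [Subgroup.coe_one, one_smul, Units.val_one, one_smul])
  map_mul' x y := lamF_eq a (x * y) (lamF a x * lamF a y) (by
    rw [Subgroup.coe_mul, mul_smul, lamF_spec a y, smul_comm, lamF_spec a x, smul_smul,
      Units.val_mul, mul_comm])

theorem lam_apply (a : Fin n) (h : lineStab (F := F) a) : lam a h = lamF a h := rfl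

theorem lam_surjective {a b : Fin n} (hab : a ≠ b) : Function.Surjective (lam (F := F) a) := by
  intro l
  obtain ⟨g, hg⟩ := exists_smul_eq_single (F := F) hab ((l : F) • Pi.single a 1)
    (smul_single_ne_zero a l)
  have h1 : g⁻¹ • (Pi.single a 1 : Fin n → F) = (l : F) • Pi.single a 1 := by
    calc g⁻¹ • (Pi.single a 1 : Fin n → F)
        = g⁻¹ • (g • ((l : F) • (Pi.single a 1 : Fin n → F))) := by rw [hg]
      _ = (l : F) • Pi.single a 1 := inv_smul_smul _ _
  exact ⟨⟨g⁻¹, (mem_lineStab a _).2 ⟨l, h1⟩⟩, lamF_eq a _ l h1⟩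

theorem lam_eq_one_iff (a : Fin n) (h : lineStab (F := F) a) :
    lam a h = 1 ↔ (h : SLn) ∈ MulAction.stabilizer SLn (E (F := F) a) := by
  rw [MulAction.mem_stabilizer_iff]
  constructor
  · intro h1
    apply Subtype.ext
    show (h : SLn) • (Pi.single a 1 : Fin n → F) = Pi.single a 1
    have h3 := lamF_spec a h
    have h2 : lamF a h = 1 := h1
    rw [h2, Units.val_one, one_smul] at h3
    exact h3
  · intro h1
    have h2 : (h : SLn) • (Pi.single a 1 : Fin n → F) = Pi.single a 1 := congrArg Subtype.val h1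
    exact lamF_eq a h 1 (by rw [h2, Units.val_one, one_smul])

theorem stab_le_lineStab (a : Fin n) :
    MulAction.stabilizer SLn (E (F := F) a) ≤ lineStab a := by
  intro g hg
  rw [MulAction.mem_stabilizer_iff] at hg
  have h2 : g • (Pi.single a 1 : Fin n → F) = Pi.single a 1 := congrArg Subtype.val hg
  exact (mem_lineStab a g).2 ⟨1, by rw [h2, Units.val_one, one_smul]⟩

theorem not_lineStab_top {a b : Fin n} (hab : a ≠ b) : lineStab (F := F) a ≠ ⊤ := by
  intro htop
  obtain ⟨g, hg⟩ := exists_smul_eq_single (F := F) hab.symm (Pi.single a 1) (single_ne_zero' a)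
  have hmem : g ∈ lineStab (F := F) a := by
    rw [htop]
    exact Subgroup.mem_top g
  obtain ⟨l, hl⟩ := (mem_lineStab a g).1 hmem
  rw [hg] at hl
  have h1 := congrFun hl b
  rw [Pi.single_eq_same, Pi.smul_apply, Pi.single_eq_of_ne hab.symm, smul_zero] at h1
  exact one_ne_zero h1

section finite
variable [Fintype F] [DecidableEq F]

theorem card_lineStab {a b : Fin n} (hab : a ≠ b) :
    Nat.card (lineStab (F := F) a) =
      (Fintype.card F - 1) * Nat.card (MulAction.stabilizer SLn (E (F := F) a)) := by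
  have h1 := Subgroup.card_eq_card_quotient_mul_card_subgroup (lam (F := F) a).ker
  have h2 : Nat.card (lineStab (F := F) a ⧸ (lam (F := F) a).ker) = Fintype.card F - 1 := by
    rw [Nat.card_congr (QuotientGroup.quotientKerEquivOfSurjective _
      (lam_surjective hab)).toEquiv, Nat.card_eq_fintype_card, Fintype.card_units]
  have h3 : Nat.card (lam (F := F) a).ker =
      Nat.card (MulAction.stabilizer SLn (E (F := F) a)) := by
    apply Nat.card_congr
    exact
      { toFun := fun h => ⟨h.1.1, (lam_eq_one_iff a h.1).1 (MonoidHom.mem_ker.1 h.2)⟩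
        invFun := fun g => ⟨⟨g.1, stab_le_lineStab a g.2⟩,
          MonoidHom.mem_ker.2 ((lam_eq_one_iff a _).2 g.2)⟩
        left_inv := fun h => rfl
        right_inv := fun g => rfl }
  rw [h1, h2, h3]

/-- the linear characters of the line stabilizer -/
noncomputable def psiW (a : Fin n) (α : Fˣ →* ℂˣ) : lineStab (F := F) a → ℂ :=
  linFun (α.comp (lam a))

theorem sum_ext_psi [Fintype (Fˣ →* ℂˣ)] (a : Fin n) (y : SLn) :
    ∑ α : Fˣ →* ℂˣ, extendByZero (lineStab a) (psiW a α) y =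
      ((Fintype.card F - 1 : ℕ) : ℂ) *
        extendByZero (MulAction.stabilizer SLn (E (F := F) a)) (fun _ => (1 : ℂ)) y := by
  have hc : ∀ u v : Fˣ, u * v = v * u := fun u v => mul_comm u v
  by_cases hy : y ∈ lineStab (F := F) a
  · have h1 : ∀ α : Fˣ →* ℂˣ, extendByZero (lineStab a) (psiW a α) y =
        ((α (lam a ⟨y, hy⟩) : ℂˣ) : ℂ) := by
      intro α
      rw [extendByZero_apply_mem _ _ _ hy]
      rfl
    rw [Finset.sum_congr rfl (fun α _ => h1 α)]
    by_cases hl : lam a ⟨y, hy⟩ = 1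
    · have hst : y ∈ MulAction.stabilizer SLn (E (F := F) a) :=
        (lam_eq_one_iff a ⟨y, hy⟩).1 hl
      rw [hl, TF.sum_hom_one hc, extendByZero_apply_mem _ _ _ hst, mul_one,
        Nat.card_eq_fintype_card, Fintype.card_units]
    · have hst : y ∉ MulAction.stabilizer SLn (E (F := F) a) :=
        fun h => hl ((lam_eq_one_iff a ⟨y, hy⟩).2 h)
      rw [TF.sum_hom_ne_one hc hl, extendByZero_apply_not_mem _ _ _ hst, mul_zero]
  · have hst : y ∉ MulAction.stabilizer SLn (E (F := F) a) :=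
      fun h => hy (stab_le_lineStab a h)
    rw [extendByZero_apply_not_mem _ _ _ hst, mul_zero]
    apply Finset.sum_eq_zero
    intro α _
    exact extendByZero_apply_not_mem _ _ _ hy

theorem sum_ind_psi [Fintype (Fˣ →* ℂˣ)] {a b : Fin n} (hab : a ≠ b) (g : SLn) :
    ∑ α : Fˣ →* ℂˣ, indFun (lineStab a) (psiW a α) g =
      (Nat.card (MulAction.fixedBy (NZ n F) g) : ℂ) := by
  haveI := isPretransitive_NZ (F := F) hab
  have hperm : (Nat.card (MulAction.fixedBy (NZ n F) g) : ℂ) =
      indFun (MulAction.stabilizer SLn (E (F := F) a)) (fun _ => (1 : ℂ)) g :=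
    congrFun (permChar_eq_indFun' (G := SLn) (Ω := NZ n F) (E a)) g
  rw [hperm]
  simp only [indFun]
  rw [← Finset.mul_sum, Finset.sum_comm,
    Finset.sum_congr rfl (fun x _ => sum_ext_psi a (x⁻¹ * g * x)), ← Finset.mul_sum,
    card_lineStab hab]
  have hq : ((Fintype.card F - 1 : ℕ) : ℂ) ≠ 0 := by
    have h := Fintype.one_lt_card (α := F)
    exact Nat.cast_ne_zero.2 (by omega)
  have hs : (Nat.card (MulAction.stabilizer SLn (E (F := F) a)) : ℂ) ≠ 0 :=
    Nat.cast_ne_zero.2 Nat.card_pos.ne'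
  rw [Nat.cast_mul]
  field_simp

theorem norm_perm {a b c : Fin n} (hab : a ≠ b) (hac : a ≠ c) (hbc : b ≠ c) :
    classInner (fun g : SLn => (Nat.card (MulAction.fixedBy (NZ n F) g) : ℂ))
      (fun g : SLn => (Nat.card (MulAction.fixedBy (NZ n F) g) : ℂ)) = (Fintype.card F : ℂ) := by
  unfold classInner
  have h1 : ∀ g : SLn, (Nat.card (MulAction.fixedBy (NZ n F) g) : ℂ) *
      conj ((Nat.card (MulAction.fixedBy (NZ n F) g) : ℂ)) =
      (Nat.card (MulAction.fixedBy (NZ n F × NZ n F) g) : ℂ) := by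
    intro g
    rw [Complex.conj_natCast, Cfsg.Agent.Lib.Helper28.card_fixedBy_prod SLn (NZ n F) g,
      Nat.cast_mul]
  rw [Finset.sum_congr rfl (fun g _ => h1 g),
    Cfsg.Agent.Lib.Helper28.sum_card_fixedBy SLn (NZ n F × NZ n F),
    card_orbits_pairs hab hac hbc]
  have hne : (Nat.card SLn : ℂ) ≠ 0 := Nat.cast_ne_zero.2 Nat.card_pos.ne'
  field_simp

theorem indFun_at_one {G : Type*} [Group G] [Fintype G] (H : Subgroup G) (θ : H → ℂ) :
    indFun H θ 1 = (Nat.card H : ℂ)⁻¹ * ((Nat.card G : ℂ) * θ 1) := by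
  simp only [indFun]
  congr 1
  have h1 : ∀ x : G, extendByZero H θ (x⁻¹ * 1 * x) = θ 1 := by
    intro x
    have h2 : x⁻¹ * 1 * x = ((1 : H) : G) := by rw [mul_one, inv_mul_cancel, Subgroup.coe_one]
    rw [h2, extendByZero_apply_coe]
  rw [Finset.sum_congr rfl (fun x _ => h1 x), Finset.sum_const, Finset.card_univ, nsmul_eq_mul,
    Nat.card_eq_fintype_card]

/-- the permutation character on the non-zero vectors is `1` plus `q - 1` distinct irreducible
characters -/
theorem weil_main (hn : 3 ≤ n) :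
    ∃ χ : Fin (Fintype.card F - 1) → (SLn → ℂ),
      (∀ i, IsIrrCharacter SLn (χ i)) ∧ Function.Injective χ ∧
      ∀ g : SLn, (Nat.card (MulAction.fixedBy (NZ n F) g) : ℂ) = 1 + ∑ i, χ i g := by
  classical
  obtain ⟨a, b, c, hab, hac, hbc⟩ : ∃ a b c : Fin n, a ≠ b ∧ a ≠ c ∧ b ≠ c := by
    refine ⟨⟨0, by omega⟩, ⟨1, by omega⟩, ⟨2, by omega⟩, ?_, ?_, ?_⟩ <;>
    · intro h
      have h' := congrArg Fin.val h
      simp at h'
  letI : Fintype (Fˣ →* ℂˣ) := Fintype.ofFinite _
  have hPchar : ∀ α : Fˣ →* ℂˣ, IsCharacter SLn (indFun (lineStab a) (psiW a α)) := fun α =>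
    isCharacter_indFun _ (isCharacter_of_isIrrCharacter (isIrrCharacter_linFun _))
  have hψ1 : ∀ α : Fˣ →* ℂˣ, psiW (F := F) a α 1 = 1 := by
    intro α
    show ((α (lam a 1) : ℂˣ) : ℂ) = 1
    rw [map_one, map_one, Units.val_one]
  have hGne : (Nat.card SLn : ℂ) ≠ 0 := Nat.cast_ne_zero.2 Nat.card_pos.ne'
  have hPne : (Nat.card (lineStab (F := F) a) : ℂ) ≠ 0 := Nat.cast_ne_zero.2 Nat.card_pos.ne'
  have hP1 : ∀ α : Fˣ →* ℂˣ, indFun (lineStab a) (psiW (F := F) a α) 1 ≠ 0 := by
    intro α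
    rw [indFun_at_one, hψ1, mul_one]
    exact mul_ne_zero (inv_ne_zero hPne) hGne
  have hsum := sum_ind_psi (F := F) hab
  have hfun : ∑ α : Fˣ →* ℂˣ, indFun (lineStab a) (psiW (F := F) a α) =
      fun g : SLn => (Nat.card (MulAction.fixedBy (NZ n F) g) : ℂ) := by
    funext g
    rw [Finset.sum_apply]
    exact hsum g
  have hcard : Fintype.card (Fˣ →* ℂˣ) = Fintype.card F - 1 := by
    rw [← Nat.card_eq_fintype_card, TF.card_hom_eq (fun u v : Fˣ => mul_comm u v),
      Nat.card_eq_fintype_card, Fintype.card_units]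
  have hq := Fintype.one_lt_card (α := F)
  have hnorm : classInner (∑ α : Fˣ →* ℂˣ, indFun (lineStab a) (psiW (F := F) a α))
      (∑ α : Fˣ →* ℂˣ, indFun (lineStab a) (psiW (F := F) a α)) =
      (Fintype.card (Fˣ →* ℂˣ) : ℂ) + 1 := by
    rw [hfun, norm_perm hab hac hbc, hcard]
    have h2 : Fintype.card F = (Fintype.card F - 1) + 1 := by omega
    conv_lhs => rw [h2]
    push_cast
    ring
  have hone : IsIrrCharacter (lineStab (F := F) a) (fun _ => (1 : ℂ)) := by
    rw [const_one_eq_linFun]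
    exact isIrrCharacter_linFun 1
  have hψone : psiW (F := F) a 1 = fun _ => (1 : ℂ) := by
    funext h
    show (((1 : Fˣ →* ℂˣ) (lam a h) : ℂˣ) : ℂ) = 1
    rw [MonoidHom.one_apply, Units.val_one]
  have hi₀ : classInner (indFun (lineStab a) (psiW (F := F) a 1)) (fun _ => (1 : ℂ)) = 1 := by
    haveI : Fintype (lineStab (F := F) a) := Fintype.ofFinite _
    rw [classInner_indFun_left' _ _ _ (fun g h => rfl), hψone]
    have h2 : ((fun _ : SLn => (1 : ℂ)) ∘ (lineStab (F := F) a).subtype) = fun _ => (1 : ℂ) := rfl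
    rw [h2, classInner_irr hone hone, if_pos rfl]
  have hdeg : indFun (lineStab a) (psiW (F := F) a 1) 1 ≠ 1 := by
    rw [indFun_at_one, hψ1, mul_one]
    intro h
    have h2 : (Nat.card SLn : ℂ) = (Nat.card (lineStab (F := F) a) : ℂ) := by
      field_simp at h
      exact h
    have h3 : Nat.card (lineStab (F := F) a) = Nat.card SLn := by exact_mod_cast h2.symm
    exact not_lineStab_top hab ((Subgroup.card_eq_iff_eq_top _).1 h3)
  obtain ⟨hirr, hinj⟩ := split_of_norm (fun α : Fˣ →* ℂˣ => indFun (lineStab a) (psiW (F := F) a α))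
    hPchar hP1 1 hi₀ hdeg hnorm
  let e : Fin (Fintype.card F - 1) ≃ (Fˣ →* ℂˣ) := (Fintype.equivFinOfCardEq hcard).symm
  refine ⟨fun i => (fun g => indFun (lineStab a) (psiW (F := F) a (e i)) g -
    if e i = 1 then 1 else 0), fun i => hirr (e i), fun i j h => e.injective (hinj h), ?_⟩
  intro g
  rw [← hsum g]
  have h5 : ∑ i, (indFun (lineStab a) (psiW (F := F) a (e i)) g - if e i = 1 then (1 : ℂ) else 0) =
      ∑ α : Fˣ →* ℂˣ, (indFun (lineStab a) (psiW (F := F) a α) g - if α = 1 then (1 : ℂ) else 0) :=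
    Equiv.sum_comp e (fun α => indFun (lineStab a) (psiW (F := F) a α) g -
      if α = 1 then (1 : ℂ) else 0)
  rw [h5, Finset.sum_sub_distrib, Finset.sum_ite_eq' Finset.univ (1 : Fˣ →* ℂˣ),
    if_pos (Finset.mem_univ _)]
  ring

end finite

end field

end Cfsg.Agent.Lib.Helper26.SLW
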