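import Mathlib
import Cfsg.Prelude.Def_Characters
import Cfsg.Prelude.Def_Perm
import Cfsg.Agent.Lib.Helper26.MultFree
import Cfsg.Agent.Lib.Helper28.DualRep
import Cfsg.Agent.Lib.Helper28.PermChar

/-!
# Self-paired orbitals, invariant bilinear forms and real characters (helper26)

* `char_eq_conj_of_invariant_pairing`: a nonzero invariant pairing between irreducible
  representations forces the characters to be complex conjugate.
* `symm_of_multFree_real`: for a multiplicity-free representation with real constituents, every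
  equivariant endomorphism is symmetric for every invariant bilinear form.
* `real_of_symm`: if all equivariant endomorphisms are symmetric for a nondegenerate invariant
  bilinear form, every constituent is real.
* `avgOp`: averaging an endomorphism over the group.
* `dotB`: the standard bilinear form on functions, invariant for permutation representations.
-/

set_option autoImplicit false

namespace Cfsg.Agent.Lib.Helper26
open Cfsg
open scoped ComplexConjugate

section General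
variable {G : Type*} [Group G] [Fintype G]

theorem char_eq_conj_of_invariant_pairing {n m : ℕ}
    (τ : Representation ℂ G (Fin n → ℂ)) (σ : Representation ℂ G (Fin m → ℂ))
    (hτ : τ.IsIrreducible) (hσ : σ.IsIrreducible)
    (D : (Fin n → ℂ) →ₗ[ℂ] (Fin m → ℂ) →ₗ[ℂ] ℂ)
    (hD : ∀ g t s, D (τ g t) (σ g s) = D t s)
    (hne : ∃ t s, D t s ≠ 0) :
    τ.character = fun g => conj (σ.character g) := by
  classical
  have := hτ
  have hσd : σ.dual.IsIrreducible := Cfsg.Agent.Lib.Helper28.isIrreducible_dual σ hσ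
  have := hσd
  let φ : Representation.IntertwiningMap τ σ.dual :=
    LinearMap.intertwiningMap_of_isIntertwiningMap τ σ.dual D (by
      intro g t
      apply LinearMap.ext
      intro s
      rw [Representation.dual_apply, Module.Dual.transpose_apply, LinearMap.comp_apply]
      have h1 := hD g t (σ g⁻¹ s)
      have h2 : σ g (σ g⁻¹ s) = s := by
        rw [← Module.End.mul_apply, ← map_mul, mul_inv_cancel, map_one, Module.End.one_apply]
      rw [h2] at h1
      exact h1)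
  have hφne : φ ≠ 0 := by
    obtain ⟨t, s, hts⟩ := hne
    intro h0
    apply hts
    have h1 : φ t = 0 := by rw [h0]; rfl
    have h2 : φ t = D t := rfl
    rw [h2] at h1
    rw [h1]
    rfl
  have h1 : Cfsg.classInner σ.dual.character τ.character ≠ 0 := by
    rw [Cfsg.Agent.Lib.Helper4.classInner_eq_finrank_intertwining]
    have hnt : Nontrivial (Representation.IntertwiningMap τ σ.dual) := ⟨⟨φ, 0, hφne⟩⟩
    have h2 : 0 < Module.finrank ℂ (Representation.IntertwiningMap τ σ.dual) := Module.finrank_pos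
    exact_mod_cast h2.ne'
  rw [Cfsg.Agent.Lib.Helper4.classInner_character σ.dual τ hσd hτ] at h1
  have h3 : Nonempty (τ.Equiv σ.dual) := by
    by_contra hcon
    rw [if_neg hcon] at h1
    exact h1 rfl
  obtain ⟨ψ⟩ := h3
  have h4 := Representation.char_iso ψ
  rw [h4]
  funext g
  rw [Representation.char_dual, Cfsg.Agent.Lib.Helper4.character_inv]

variable {V : Type*} [AddCommGroup V] [Module ℂ V] [FiniteDimensional ℂ V]

theorem symm_of_multFree_real
    (ρ : Representation ℂ G V) (B : V →ₗ[ℂ] V →ₗ[ℂ] ℂ)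
    (hB : ∀ g u v, B (ρ g u) (ρ g v) = B u v)
    (hmf : ∀ (n : ℕ) (τ : Representation ℂ G (Fin n → ℂ)), τ.IsIrreducible →
      Module.finrank ℂ (Representation.IntertwiningMap τ ρ) ≤ 1)
    (hreal : ∀ (n : ℕ) (τ : Representation ℂ G (Fin n → ℂ)), τ.IsIrreducible →
      Module.finrank ℂ (Representation.IntertwiningMap τ ρ) ≠ 0 →
      ∀ g, conj (τ.character g) = τ.character g)
    (S : V →ₗ[ℂ] V) (hS : ∀ g v, S (ρ g v) = ρ g (S v)) (u v : V) :
    B (S u) v = B u (S v) := by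
  classical
  let S' : Representation.IntertwiningMap ρ ρ := S.intertwiningMap_of_isIntertwiningMap ρ ρ hS
  have key : ∀ (n : ℕ) (τ : Representation ℂ G (Fin n → ℂ)) (_ : τ.IsIrreducible)
      (i : Representation.IntertwiningMap τ ρ) (m : ℕ) (σ : Representation ℂ G (Fin m → ℂ))
      (_ : σ.IsIrreducible) (j : Representation.IntertwiningMap σ ρ)
      (t : Fin n → ℂ) (s : Fin m → ℂ),
      B (S (i t)) (j s) = B (i t) (S (j s)) := by
    intro n τ hτ i m σ hσ j t s
    by_contra hcon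
    let D : (Fin n → ℂ) →ₗ[ℂ] (Fin m → ℂ) →ₗ[ℂ] ℂ :=
      B.compl₁₂ (S ∘ₗ i.toLinearMap) j.toLinearMap - B.compl₁₂ i.toLinearMap (S ∘ₗ j.toLinearMap)
    have hDapp : ∀ t s, D t s = B (S (i t)) (j s) - B (i t) (S (j s)) := fun t s => rfl
    have hDinv : ∀ g t s, D (τ g t) (σ g s) = D t s := by
      intro g t s
      rw [hDapp, hDapp, Representation.IntertwiningMap.isIntertwining τ ρ i g t,
        Representation.IntertwiningMap.isIntertwining σ ρ j g s, hS, hS, hB, hB]
    have hDne : ∃ t s, D t s ≠ 0 := ⟨t, s, by rw [hDapp]; exact sub_ne_zero.mpr hcon⟩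
    have hchar := char_eq_conj_of_invariant_pairing τ σ hτ hσ D hDinv hDne
    have hj0 : j ≠ 0 := by
      intro hj0
      apply hcon
      have h1 : ∀ s, j s = 0 := fun s => by rw [hj0]; rfl
      simp only [h1 s, map_zero]
    have hj : Module.finrank ℂ (Representation.IntertwiningMap σ ρ) ≠ 0 := by
      have hnt : Nontrivial (Representation.IntertwiningMap σ ρ) := ⟨⟨j, 0, hj0⟩⟩
      have h2 : 0 < Module.finrank ℂ (Representation.IntertwiningMap σ ρ) := Module.finrank_pos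
      exact h2.ne'
    have hσreal := hreal m σ hσ hj
    have hchar2 : τ.character = σ.character := by
      rw [hchar]
      funext g
      exact hσreal g
    obtain ⟨φ⟩ := Cfsg.Agent.Lib.Helper4.equiv_of_character_eq τ σ hτ hσ hchar2
    obtain ⟨v₀, hv₀⟩ := (finrank_le_one_iff (K := ℂ)
      (V := Representation.IntertwiningMap σ ρ)).mp (hmf m σ hσ)
    obtain ⟨a, ha⟩ := hv₀ (i.comp φ.toIntertwiningMap)
    obtain ⟨b, hb⟩ := hv₀ j
    obtain ⟨c, hc⟩ := hv₀ (S'.comp v₀)
    obtain ⟨s', hs'⟩ : ∃ s', φ s' = t := ⟨φ.symm t, Representation.Equiv.apply_symm_apply φ t⟩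
    apply hcon
    have e1 : i t = a • v₀ s' := by
      rw [← hs']
      exact (DFunLike.congr_fun ha s').symm
    have e2 : j s = b • v₀ s := (DFunLike.congr_fun hb s).symm
    have e3 : ∀ w, S (v₀ w) = c • v₀ w := fun w => (DFunLike.congr_fun hc w).symm
    rw [e1, e2]
    simp only [map_smul, e3, LinearMap.smul_apply, smul_eq_mul]
    ring
  have step1 : ∀ (n : ℕ) (τ : Representation ℂ G (Fin n → ℂ)) (_ : τ.IsIrreducible)
      (i : Representation.IntertwiningMap τ ρ) (t : Fin n → ℂ),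
      ∀ v ∈ Submodule.span ℂ (irrRangeSet ρ), B (S (i t)) v = B (i t) (S v) := by
    intro n τ hτ i t v hv
    induction hv using Submodule.span_induction with
    | mem y hy =>
      obtain ⟨m, σ, hσ, j, s, rfl⟩ := hy
      exact key n τ hτ i m σ hσ j t s
    | zero => simp only [map_zero]
    | add y z _ _ hy hz => simp only [map_add, hy, hz]
    | smul c y _ hy => simp only [map_smul, hy]
  have step2 : ∀ u ∈ Submodule.span ℂ (irrRangeSet ρ),
      ∀ v ∈ Submodule.span ℂ (irrRangeSet ρ), B (S u) v = B u (S v) := by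
    intro u hu
    induction hu using Submodule.span_induction with
    | mem x hx =>
      obtain ⟨n, τ, hτ, i, t, rfl⟩ := hx
      exact step1 n τ hτ i t
    | zero =>
      intro v _
      simp only [map_zero, LinearMap.zero_apply]
    | add x y _ _ hx hy =>
      intro v hv
      simp only [map_add, LinearMap.add_apply, hx v hv, hy v hv]
    | smul c x _ hx =>
      intro v hv
      simp only [map_smul, LinearMap.smul_apply, hx v hv]
  have hu : u ∈ Submodule.span ℂ (irrRangeSet ρ) := by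
    rw [span_irreducible_ranges_eq_top]
    exact Submodule.mem_top
  have hv : v ∈ Submodule.span ℂ (irrRangeSet ρ) := by
    rw [span_irreducible_ranges_eq_top]
    exact Submodule.mem_top
  exact step2 u hu v hv

theorem real_of_symm
    (ρ : Representation ℂ G V) (B : V →ₗ[ℂ] V →ₗ[ℂ] ℂ)
    (hB : ∀ g u v, B (ρ g u) (ρ g v) = B u v)
    (hnd : ∀ w, w ≠ 0 → ∃ v, B w v ≠ 0)
    (hsym : ∀ S : V →ₗ[ℂ] V, (∀ g v, S (ρ g v) = ρ g (S v)) → ∀ u v, B (S u) v = B u (S v))
    {n : ℕ} (τ : Representation ℂ G (Fin n → ℂ)) (hτ : τ.IsIrreducible)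
    (hne : Cfsg.classInner ρ.character τ.character ≠ 0) (g : G) :
    conj (τ.character g) = τ.character g := by
  classical
  obtain ⟨f, hf⟩ :=
    Cfsg.Agent.Lib.Helper4.exists_injective_of_classInner_ne_zero τ ρ hτ hne
  obtain ⟨C, ⟨e⟩⟩ := Cfsg.Agent.Lib.Helper4.exists_equiv_prod_of_injective τ ρ f hf
  let f₁ : Representation.IntertwiningMap τ ρ :=
    e.toIntertwiningMap.comp (Representation.IntertwiningMap.inl ℂ τ C.toRepresentation)
  let p₁ : Representation.IntertwiningMap ρ τ :=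
    (Representation.IntertwiningMap.fst ℂ τ C.toRepresentation).comp e.symm.toIntertwiningMap
  have hpf : ∀ t, p₁ (f₁ t) = t := by
    intro t
    show (e.symm (e ((t, 0) : (Fin n → ℂ) × ↥C.toSubmodule))).1 = t
    rw [Representation.Equiv.symm_apply_apply]
  have hnt := Cfsg.Agent.Lib.Helper4.nontrivial_of_irreducible τ hτ
  obtain ⟨t₀, ht₀⟩ := exists_ne (0 : Fin n → ℂ)
  have hw : f₁ t₀ ≠ 0 := by
    intro h0
    apply ht₀
    have h1 := hpf t₀
    rw [h0, map_zero] at h1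
    exact h1.symm
  obtain ⟨v, hv⟩ := hnd (f₁ t₀) hw
  let P : Representation.IntertwiningMap ρ ρ := f₁.comp p₁
  have hP := hsym P.toLinearMap
    (fun g v => Representation.IntertwiningMap.isIntertwining ρ ρ P g v) (f₁ t₀) v
  have hP1 : P.toLinearMap (f₁ t₀) = f₁ t₀ := by
    show f₁ (p₁ (f₁ t₀)) = f₁ t₀
    rw [hpf]
  have hP2 : P.toLinearMap v = f₁ (p₁ v) := rfl
  rw [hP1, hP2] at hP
  let D : (Fin n → ℂ) →ₗ[ℂ] (Fin n → ℂ) →ₗ[ℂ] ℂ := B.compl₁₂ f₁.toLinearMap f₁.toLinearMap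
  have hDinv : ∀ g t s, D (τ g t) (τ g s) = D t s := by
    intro g t s
    show B (f₁ (τ g t)) (f₁ (τ g s)) = B (f₁ t) (f₁ s)
    rw [Representation.IntertwiningMap.isIntertwining τ ρ f₁ g t,
      Representation.IntertwiningMap.isIntertwining τ ρ f₁ g s, hB]
  have hDne : ∃ t s, D t s ≠ 0 := ⟨t₀, p₁ v, by
    show B (f₁ t₀) (f₁ (p₁ v)) ≠ 0
    rw [← hP]
    exact hv⟩
  have hchar := char_eq_conj_of_invariant_pairing τ τ hτ hτ D hDinv hDne
  have h1 := congrFun hchar g
  exact h1.symm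

/-- averaging an endomorphism over the group -/
noncomputable def avgOp (ρ : Representation ℂ G V) (E : V →ₗ[ℂ] V) : V →ₗ[ℂ] V :=
  ∑ g : G, ρ g ∘ₗ E ∘ₗ ρ g⁻¹

theorem avgOp_apply (ρ : Representation ℂ G V) (E : V →ₗ[ℂ] V) (w : V) :
    avgOp ρ E w = ∑ g : G, ρ g (E (ρ g⁻¹ w)) := by
  unfold avgOp
  rw [LinearMap.sum_apply]
  rfl

theorem avgOp_equivariant (ρ : Representation ℂ G V) (E : V →ₗ[ℂ] V) (h : G) (v : V) :
    avgOp ρ E (ρ h v) = ρ h (avgOp ρ E v) := by
  rw [avgOp_apply, avgOp_apply, map_sum]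
  apply Fintype.sum_equiv (Equiv.mulLeft h⁻¹)
  intro g
  have h1 : ρ g⁻¹ (ρ h v) = ρ (h⁻¹ * g)⁻¹ v := by
    rw [← Module.End.mul_apply, ← map_mul]
    congr 2
    group
  have h2 : ∀ w, ρ h (ρ (h⁻¹ * g) w) = ρ g w := by
    intro w
    rw [← Module.End.mul_apply, ← map_mul]
    congr 2
    group
  show ρ g (E (ρ g⁻¹ (ρ h v))) = ρ h (ρ (h⁻¹ * g) (E (ρ (h⁻¹ * g)⁻¹ v)))
  rw [h1, h2]

end General

section Perm
variable {G : Type*} [Group G] [Fintype G] {Ω : Type*} [Fintype Ω] [MulAction G Ω]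

/-- the standard bilinear form on functions -/
noncomputable def dotB (Ω : Type*) [Fintype Ω] : (Ω → ℂ) →ₗ[ℂ] (Ω → ℂ) →ₗ[ℂ] ℂ :=
  LinearMap.mk₂ ℂ (fun u v => ∑ x, u x * v x)
    (by intro u₁ u₂ v; simp only [Pi.add_apply, add_mul, Finset.sum_add_distrib])
    (by intro c u v; simp only [Pi.smul_apply, smul_eq_mul, mul_assoc, Finset.mul_sum])
    (by intro u v₁ v₂; simp only [Pi.add_apply, mul_add, Finset.sum_add_distrib])
    (by
      intro c u v
      simp only [Pi.smul_apply, smul_eq_mul, Finset.mul_sum]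
      refine Finset.sum_congr rfl fun x _ => ?_
      ring)

theorem dotB_apply (u v : Ω → ℂ) : dotB Ω u v = ∑ x, u x * v x := rfl

theorem dotB_single_right [DecidableEq Ω] (u : Ω → ℂ) (b : Ω) :
    dotB Ω u (Pi.single b 1) = u b := by
  rw [dotB_apply, Finset.sum_eq_single b]
  · rw [Pi.single_eq_same, mul_one]
  · intro x _ hx
    rw [Pi.single_eq_of_ne hx, mul_zero]
  · intro h
    exact absurd (Finset.mem_univ b) h

theorem dotB_single_left [DecidableEq Ω] (v : Ω → ℂ) (a : Ω) :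
    dotB Ω (Pi.single a 1) v = v a := by
  rw [dotB_apply, Finset.sum_eq_single a]
  · rw [Pi.single_eq_same, one_mul]
  · intro x _ hx
    rw [Pi.single_eq_of_ne hx, zero_mul]
  · intro h
    exact absurd (Finset.mem_univ a) h

theorem dotB_perm_invariant (g : G) (u v : Ω → ℂ) :
    dotB Ω (Cfsg.permRep ℂ G Ω g u) (Cfsg.permRep ℂ G Ω g v) = dotB Ω u v := by
  rw [dotB_apply, dotB_apply]
  exact Fintype.sum_equiv (MulAction.toPerm g⁻¹) _ _ (fun x => rfl)

theorem dotB_nondeg (w : Ω → ℂ) (hw : w ≠ 0) : ∃ v, dotB Ω w v ≠ 0 := by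
  classical
  obtain ⟨x, hx⟩ := Function.ne_iff.mp hw
  refine ⟨Pi.single x 1, ?_⟩
  rw [dotB_single_right]
  exact hx

theorem permRep_single [DecidableEq Ω] (g : G) (x : Ω) :
    Cfsg.permRep ℂ G Ω g (Pi.single x (1 : ℂ)) = Pi.single (g • x) 1 := by
  funext y
  show (Pi.single x (1 : ℂ) : Ω → ℂ) (g⁻¹ • y) = (Pi.single (g • x) (1 : ℂ) : Ω → ℂ) y
  by_cases h : y = g • x
  · subst h
    rw [inv_smul_smul, Pi.single_eq_same, Pi.single_eq_same]
  · have h2 : g⁻¹ • y ≠ x := by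
      intro h3
      apply h
      rw [← h3, smul_inv_smul]
    rw [Pi.single_eq_of_ne h, Pi.single_eq_of_ne h2]

theorem dotB_symm_of_swap (hswap : ∀ a b : Ω, ∃ g : G, g • a = b ∧ g • b = a)
    (S : (Ω → ℂ) →ₗ[ℂ] (Ω → ℂ))
    (hS : ∀ g v, S (Cfsg.permRep ℂ G Ω g v) = Cfsg.permRep ℂ G Ω g (S v)) (u v : Ω → ℂ) :
    dotB Ω (S u) v = dotB Ω u (S v) := by
  classical
  have h1 : (dotB Ω).compl₁₂ S LinearMap.id = (dotB Ω).compl₁₂ LinearMap.id S := by
    apply LinearMap.ext_basis (Pi.basisFun ℂ Ω) (Pi.basisFun ℂ Ω)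
    intro a b
    rw [LinearMap.compl₁₂_apply, LinearMap.compl₁₂_apply, Pi.basisFun_apply, Pi.basisFun_apply,
      LinearMap.id_apply, LinearMap.id_apply, dotB_single_right, dotB_single_left]
    obtain ⟨g, hga, hgb⟩ := hswap a b
    have h2 := hS g (Pi.single a 1)
    rw [permRep_single, hga] at h2
    rw [h2]
    show S (Pi.single a 1) b = S (Pi.single a 1) (g⁻¹ • a)
    have h3 : g⁻¹ • a = b := by rw [← hgb, inv_smul_smul]
    rw [h3]
  have h2 := LinearMap.congr_fun (LinearMap.congr_fun h1 u) v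
  exact h2

theorem comp_comm_of_dotB_symm
    (hsym : ∀ S : (Ω → ℂ) →ₗ[ℂ] (Ω → ℂ),
      (∀ g v, S (Cfsg.permRep ℂ G Ω g v) = Cfsg.permRep ℂ G Ω g (S v)) →
      ∀ u v, dotB Ω (S u) v = dotB Ω u (S v))
    (S T : (Ω → ℂ) →ₗ[ℂ] (Ω → ℂ))
    (hS : ∀ g v, S (Cfsg.permRep ℂ G Ω g v) = Cfsg.permRep ℂ G Ω g (S v))
    (hT : ∀ g v, T (Cfsg.permRep ℂ G Ω g v) = Cfsg.permRep ℂ G Ω g (T v)) :
    S ∘ₗ T = T ∘ₗ S := by
  classical
  apply LinearMap.ext
  intro v
  funext x
  have hST : ∀ g w, (S ∘ₗ T) (Cfsg.permRep ℂ G Ω g w) = Cfsg.permRep ℂ G Ω g ((S ∘ₗ T) w) := by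
    intro g w
    rw [LinearMap.comp_apply, LinearMap.comp_apply, hT, hS]
  have h1 : dotB Ω (Pi.single x 1) ((S ∘ₗ T) v) = dotB Ω (Pi.single x 1) ((T ∘ₗ S) v) :=
    calc dotB Ω (Pi.single x 1) ((S ∘ₗ T) v)
        = dotB Ω ((S ∘ₗ T) (Pi.single x 1)) v := (hsym (S ∘ₗ T) hST _ _).symm
      _ = dotB Ω (S (T (Pi.single x 1))) v := rfl
      _ = dotB Ω (T (Pi.single x 1)) (S v) := hsym S hS _ _
      _ = dotB Ω (Pi.single x 1) (T (S v)) := hsym T hT _ _
      _ = dotB Ω (Pi.single x 1) ((T ∘ₗ S) v) := rfl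
  rw [dotB_single_left, dotB_single_left] at h1
  exact h1

/-- the matrix unit `δ_a ↦ δ_b` -/
noncomputable def unitOp [DecidableEq Ω] (a b : Ω) : (Ω → ℂ) →ₗ[ℂ] (Ω → ℂ) where
  toFun w := fun z => w a * (Pi.single b (1 : ℂ) : Ω → ℂ) z
  map_add' := by
    intro u v
    funext z
    simp only [Pi.add_apply, add_mul]
  map_smul' := by
    intro c u
    funext z
    simp only [Pi.smul_apply, smul_eq_mul, RingHom.id_apply, mul_assoc]

theorem avgOp_unitOp_apply [DecidableEq Ω] (a b : Ω) (w : Ω → ℂ) (y : Ω) :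
    avgOp (Cfsg.permRep ℂ G Ω) (unitOp a b) w y =
      ∑ g : G, w (g • a) * (Pi.single b (1 : ℂ) : Ω → ℂ) (g⁻¹ • y) := by
  rw [avgOp_apply, Finset.sum_apply]
  refine Finset.sum_congr rfl fun g _ => ?_
  show w (g⁻¹⁻¹ • a) * (Pi.single b (1 : ℂ) : Ω → ℂ) (g⁻¹ • y) = _
  rw [inv_inv]

theorem exists_swap_of_dotB_symm
    (hsym : ∀ S : (Ω → ℂ) →ₗ[ℂ] (Ω → ℂ),
      (∀ g v, S (Cfsg.permRep ℂ G Ω g v) = Cfsg.permRep ℂ G Ω g (S v)) →
      ∀ u v, dotB Ω (S u) v = dotB Ω u (S v)) (a b : Ω) :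
    ∃ g : G, g • a = b ∧ g • b = a := by
  classical
  by_contra hno
  push_neg at hno
  have hS := hsym (avgOp (Cfsg.permRep ℂ G Ω) (unitOp a b))
    (avgOp_equivariant (Cfsg.permRep ℂ G Ω) (unitOp a b)) (Pi.single a 1) (Pi.single b 1)
  rw [dotB_single_right, dotB_single_left, avgOp_unitOp_apply, avgOp_unitOp_apply] at hS
  have hR : ∑ g : G, (Pi.single b (1 : ℂ) : Ω → ℂ) (g • a) *
      (Pi.single b (1 : ℂ) : Ω → ℂ) (g⁻¹ • a) = 0 := by
    apply Finset.sum_eq_zero
    intro g _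
    by_cases h1 : g • a = b
    · have h2 : g⁻¹ • a ≠ b := by
        intro h3
        apply hno g h1
        rw [← h3, smul_inv_smul]
      rw [Pi.single_eq_of_ne h2, mul_zero]
    · rw [Pi.single_eq_of_ne h1, zero_mul]
  have hterm : ∀ g : G, (Pi.single a (1 : ℂ) : Ω → ℂ) (g • a) *
      (Pi.single b (1 : ℂ) : Ω → ℂ) (g⁻¹ • b) =
      if (g • a = a ∧ g⁻¹ • b = b) then (1 : ℂ) else 0 := by
    intro g
    by_cases h1 : g • a = a
    · by_cases h2 : g⁻¹ • b = b
      · rw [if_pos ⟨h1, h2⟩, h1, h2, Pi.single_eq_same, Pi.single_eq_same, mul_one]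
      · rw [if_neg (fun h => h2 h.2), Pi.single_eq_of_ne h2, mul_zero]
    · rw [if_neg (fun h => h1 h.1), Pi.single_eq_of_ne h1, zero_mul]
  rw [hR, Finset.sum_congr rfl (fun g _ => hterm g), Finset.sum_boole] at hS
  have hmem : (1 : G) ∈ Finset.univ.filter (fun g : G => g • a = a ∧ g⁻¹ • b = b) := by
    rw [Finset.mem_filter]
    refine ⟨Finset.mem_univ _, ?_, ?_⟩
    · rw [one_smul]
    · rw [inv_one, one_smul]
  have hpos : 0 < (Finset.univ.filter (fun g : G => g • a = a ∧ g⁻¹ • b = b)).card :=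
    Finset.card_pos.mpr ⟨1, hmem⟩
  have hne : ((Finset.univ.filter (fun g : G => g • a = a ∧ g⁻¹ • b = b)).card : ℂ) ≠ 0 :=
    Nat.cast_ne_zero.mpr hpos.ne'
  exact hne hS

end Perm

end Cfsg.Agent.Lib.Helper26
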