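import Mathlib
import Cfsg.Agent.Lib.Helper26.CrossCharG

/-!
# Cross-characteristic lower bound for `Sp_{2n}(q)`, `q` odd (helper26)

The abelian group of Siegel transvections `fromBlocks 1 B 0 1`, `B` symmetric and supported on
the first row and column, together with the Levi elements normalising it.
-/

set_option autoImplicit false

namespace Cfsg.Agent.Lib.Helper26.SpCross
open Matrix

section
variable {F : Type*} [Field F] {m : ℕ}

/-- symmetric matrix supported on the first row and column. -/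
def Bm (a : Fin (m+1) → F) : Matrix (Fin (m+1)) (Fin (m+1)) F :=
  vecMulVec (Pi.single 0 1) a + vecMulVec a (Pi.single 0 1)

theorem Bm_transpose (a : Fin (m+1) → F) : (Bm a)ᵀ = Bm a := by
  unfold Bm; rw [transpose_add, transpose_vecMulVec, transpose_vecMulVec]; exact add_comm _ _

theorem Bm_add (a b : Fin (m+1) → F) : Bm (a + b) = Bm a + Bm b := by
  unfold Bm; rw [vecMulVec_add, add_vecMulVec]; abel

theorem Bm_zero : Bm (0 : Fin (m+1) → F) = 0 := by unfold Bm; simp

/-- the Siegel transvection with parameter `a`. -/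
def S (a : Fin (m+1) → F) : ↥(Matrix.symplecticGroup (Fin (m+1)) F) :=
  ⟨Matrix.fromBlocks 1 (Bm a) 0 1, by
    rw [SymplecticGroup.fromBlocks_mem_iff]
    refine ⟨by simp, by simp [Bm_transpose], by simp⟩⟩

theorem S_mul (a b : Fin (m+1) → F) : S a * S b = S (a + b) := by
  apply Subtype.ext
  show Matrix.fromBlocks 1 (Bm a) 0 1 * Matrix.fromBlocks 1 (Bm b) 0 1 =
    Matrix.fromBlocks 1 (Bm (a+b)) 0 1
  rw [Matrix.fromBlocks_multiply, Bm_add]
  simp [add_comm]

theorem S_zero : S (0 : Fin (m+1) → F) = 1 := by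
  apply Subtype.ext
  show Matrix.fromBlocks 1 (Bm (0 : Fin (m+1) → F)) 0 1 = 1
  rw [Bm_zero, Matrix.fromBlocks_one]

/-- Levi element. -/
def dL (g h : Matrix (Fin (m+1)) (Fin (m+1)) F) (hgh : h * g = 1) :
    ↥(Matrix.symplecticGroup (Fin (m+1)) F) :=
  ⟨Matrix.fromBlocks g 0 0 hᵀ, by
    rw [SymplecticGroup.fromBlocks_mem_iff]
    refine ⟨by simp, by simp, ?_⟩
    rw [← Matrix.transpose_mul, hgh]; simp⟩

theorem dL_mul (g h : Matrix (Fin (m+1)) (Fin (m+1)) F) (hgh : h * g = 1) (hhg : g * h = 1) :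
    dL h g hhg * dL g h hgh = 1 := by
  apply Subtype.ext
  show Matrix.fromBlocks h 0 0 gᵀ * Matrix.fromBlocks g 0 0 hᵀ = 1
  rw [Matrix.fromBlocks_multiply]
  simp [hgh, ← Matrix.transpose_mul, Matrix.fromBlocks_one]

theorem dL_S (g h : Matrix (Fin (m+1)) (Fin (m+1)) F) (hgh : h * g = 1) (hhg : g * h = 1)
    (t : F) (ht : t ≠ 0)
    (hge : g *ᵥ (Pi.single 0 1) = t • (Pi.single 0 1 : Fin (m+1) → F)) (a : Fin (m+1) → F) :
    dL g h hgh * S (t⁻¹ • (h *ᵥ a)) = S a * dL g h hgh := by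
  apply Subtype.ext
  show Matrix.fromBlocks g 0 0 hᵀ * Matrix.fromBlocks 1 (Bm (t⁻¹ • (h *ᵥ a))) 0 1 =
    Matrix.fromBlocks 1 (Bm a) 0 1 * Matrix.fromBlocks g 0 0 hᵀ
  rw [Matrix.fromBlocks_multiply, Matrix.fromBlocks_multiply]
  have hhe : h *ᵥ (Pi.single 0 1) = t⁻¹ • (Pi.single 0 1 : Fin (m+1) → F) := by
    have := congrArg (fun v => h *ᵥ v) hge
    simp only [Matrix.mulVec_mulVec, hgh, Matrix.one_mulVec, Matrix.mulVec_smul] at this
    rw [eq_inv_smul_iff₀ ht]
    exact this.symm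
  have key : g * Bm (t⁻¹ • (h *ᵥ a)) = Bm a * hᵀ := by
    unfold Bm
    simp only [Matrix.mul_add, Matrix.add_mul, Matrix.mul_vecMulVec, Matrix.vecMulVec_mul,
      Matrix.vecMul_transpose, hge, hhe, Matrix.mulVec_smul, Matrix.mulVec_mulVec, hhg,
      Matrix.one_mulVec, Matrix.smul_vecMulVec, Matrix.vecMulVec_smul, smul_smul, Matrix.mul_smul,
      mul_inv_cancel₀ ht, inv_mul_cancel₀ ht, one_smul]
  simp [key]

variable [Fintype F] [DecidableEq F]
variable {K' : Type*} [Field K'] {d : ℕ} (ψ : AddChar F K')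
  (M : ↥(Matrix.symplecticGroup (Fin (m+1)) F) →* Matrix (Fin d) (Fin d) K')

theorem transport_gen (g h : Matrix (Fin (m+1)) (Fin (m+1)) F) (hgh : h * g = 1) (hhg : g * h = 1)
    (t : F) (ht : t ≠ 0)
    (hge : g *ᵥ (Pi.single 0 1) = t • (Pi.single 0 1 : Fin (m+1) → F)) (x : Fin (m+1) → F)
    (hx : CrossCharG.E S ψ M x ≠ 0) : CrossCharG.E S ψ M (t⁻¹ • (x ᵥ* h)) ≠ 0 := by
  let φ : (Fin (m+1) → F) ≃ (Fin (m+1) → F) :=
    { toFun := fun a => t⁻¹ • (h *ᵥ a)
      invFun := fun a => t • (g *ᵥ a)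
      left_inv := fun a => by
        simp only [Matrix.mulVec_smul, Matrix.mulVec_mulVec, hhg, Matrix.one_mulVec, smul_smul,
          mul_inv_cancel₀ ht, one_smul]
      right_inv := fun a => by
        simp only [Matrix.mulVec_smul, Matrix.mulVec_mulVec, hgh, Matrix.one_mulVec, smul_smul,
          inv_mul_cancel₀ ht, one_smul] }
  refine CrossCharG.transport S ψ M (dL g h hgh) (dL h g hhg) (dL_mul g h hgh hhg) φ
    (fun x => t⁻¹ • (x ᵥ* h)) (fun a x => ?_) (fun a => dL_S g h hgh hhg t ht hge a) x hx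
  show (t⁻¹ • (h *ᵥ a)) ⬝ᵥ x = a ⬝ᵥ (t⁻¹ • (x ᵥ* h))
  rw [smul_dotProduct, dotProduct_smul, dotProduct_comm (h *ᵥ a), dotProduct_mulVec,
    dotProduct_comm]

theorem E_ne_zero_of (x : Fin (m+1) → F) (hx0 : x 0 ≠ 0) (hx : CrossCharG.E S ψ M x ≠ 0)
    (y : Fin (m+1) → F) (s : F) (hs : s ≠ 0) (hy : y 0 = s ^ 2 * x 0) :
    CrossCharG.E S ψ M y ≠ 0 := by
  -- torus step
  have hs' : s⁻¹ ≠ 0 := inv_ne_zero hs
  have hd1 : Matrix.diagonal (Function.update (1 : Fin (m+1) → F) 0 s) *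
      Matrix.diagonal (Function.update (1 : Fin (m+1) → F) 0 s⁻¹) = 1 := by
    rw [Matrix.diagonal_mul_diagonal, ← Matrix.diagonal_one]
    congr 1
    ext i
    by_cases hi : i = 0
    · subst hi; simp [mul_inv_cancel₀ hs]
    · simp [Function.update_of_ne hi]
  have hd2 : Matrix.diagonal (Function.update (1 : Fin (m+1) → F) 0 s⁻¹) *
      Matrix.diagonal (Function.update (1 : Fin (m+1) → F) 0 s) = 1 := by
    rw [Matrix.diagonal_mul_diagonal, ← Matrix.diagonal_one]
    congr 1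
    ext i
    by_cases hi : i = 0
    · subst hi; simp [inv_mul_cancel₀ hs]
    · simp [Function.update_of_ne hi]
  have hge1 : Matrix.diagonal (Function.update (1 : Fin (m+1) → F) 0 s⁻¹) *ᵥ (Pi.single 0 1) =
      s⁻¹ • (Pi.single 0 1 : Fin (m+1) → F) := by
    ext i
    rw [Matrix.mulVec_diagonal]
    by_cases hi : i = 0
    · subst hi; simp
    · simp [Function.update_of_ne hi, Pi.single_eq_of_ne hi]
  have h1 := transport_gen ψ M _ _ hd1 hd2 s⁻¹ hs' hge1 x hx
  rw [inv_inv] at h1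
  set x1 : Fin (m+1) → F :=
    s • (x ᵥ* Matrix.diagonal (Function.update (1 : Fin (m+1) → F) 0 s)) with hx1
  have hx10 : x1 0 = y 0 := by
    rw [hx1, hy, Pi.smul_apply, Matrix.vecMul_diagonal]
    simp; ring
  have hx10' : x1 0 ≠ 0 := by
    rw [hx10, hy]; exact mul_ne_zero (pow_ne_zero _ hs) hx0
  -- unipotent step
  set c : Fin (m+1) → F := (x1 0)⁻¹ • (x1 - y) with hc
  have hc0 : c 0 = 0 := by
    rw [hc, Pi.smul_apply, Pi.sub_apply, hx10, sub_self, smul_zero]
  have hce : c ⬝ᵥ (Pi.single 0 1 : Fin (m+1) → F) = 0 := by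
    rw [dotProduct_single, hc0, zero_mul]
  have hNN : vecMulVec (Pi.single 0 1 : Fin (m+1) → F) c * vecMulVec (Pi.single 0 1) c = 0 := by
    rw [Matrix.vecMulVec_mul_vecMulVec, hce, zero_smul, Matrix.vecMulVec_zero]
  have hu1 : (1 - vecMulVec (Pi.single 0 1 : Fin (m+1) → F) c) *
      (1 + vecMulVec (Pi.single 0 1) c) = 1 := by
    rw [Matrix.sub_mul, Matrix.mul_add, Matrix.mul_add, hNN]; simp
  have hu2 : (1 + vecMulVec (Pi.single 0 1 : Fin (m+1) → F) c) *
      (1 - vecMulVec (Pi.single 0 1) c) = 1 := by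
    rw [Matrix.add_mul, Matrix.mul_sub, Matrix.mul_sub, hNN]; simp
  have hge2 : (1 + vecMulVec (Pi.single 0 1 : Fin (m+1) → F) c) *ᵥ (Pi.single 0 1) =
      (1 : F) • (Pi.single 0 1 : Fin (m+1) → F) := by
    rw [Matrix.add_mulVec, Matrix.one_mulVec, Matrix.vecMulVec_mulVec, hce]
    simp
  have h2 := transport_gen ψ M _ _ hu1 hu2 1 one_ne_zero hge2 x1 h1
  have hfin : (1 : F)⁻¹ • (x1 ᵥ* (1 - vecMulVec (Pi.single 0 1 : Fin (m+1) → F) c)) = y := by
    rw [inv_one, one_smul, Matrix.vecMul_sub, Matrix.vecMul_one, Matrix.vecMul_vecMulVec,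
      dotProduct_single, mul_one, hc, smul_smul, mul_inv_cancel₀ hx10', one_smul]
    abel
  rw [hfin] at h2
  exact h2

omit [DecidableEq F] in
theorem card_bound [DecidableEq F] (c : F) (hc : c ≠ 0) :
    Fintype.card F ^ m * ((Fintype.card F - 1) / 2) ≤
      (Finset.univ.filter (fun y : Fin (m+1) → F => ∃ s : F, s ≠ 0 ∧ y 0 = s ^ 2 * c)).card := by
  classical
  set T : Finset F := (Finset.univ.filter (fun s : F => s ≠ 0)).image (fun s => s ^ 2 * c) with hT
  have h1 : (Finset.univ.filter (fun s : F => s ≠ 0)).card ≤ 2 * T.card := by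
    apply Finset.card_le_mul_card_image
    intro a ha
    obtain ⟨s₀, -, rfl⟩ := Finset.mem_image.1 ha
    have hsub : (Finset.univ.filter (fun s : F => s ≠ 0)).filter (fun s => s ^ 2 * c = s₀ ^ 2 * c) ⊆
        {s₀, -s₀} := by
      intro s hs
      rw [Finset.mem_filter] at hs
      have h2 : s ^ 2 = s₀ ^ 2 := mul_right_cancel₀ hc hs.2
      rcases sq_eq_sq_iff_eq_or_eq_neg.1 h2 with h3 | h3
      · simp [h3]
      · simp [h3]
    exact (Finset.card_le_card hsub).trans Finset.card_le_two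
  have h2 : (Finset.univ.filter (fun s : F => s ≠ 0)).card = Fintype.card F - 1 := by
    rw [Finset.filter_ne' Finset.univ (0 : F), Finset.card_erase_of_mem (Finset.mem_univ _),
      Finset.card_univ]
  have h3 : (Fintype.card F - 1) / 2 ≤ T.card := by
    rw [h2] at h1
    exact Nat.div_le_of_le_mul h1
  have h4 : (T ×ˢ (Finset.univ : Finset (Fin m → F))).card ≤
      (Finset.univ.filter (fun y : Fin (m+1) → F => ∃ s : F, s ≠ 0 ∧ y 0 = s ^ 2 * c)).card := by
    apply Finset.card_le_card_of_injOn (fun p => (Fin.cons p.1 p.2 : Fin (m+1) → F))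
    · intro p hp
      rw [Finset.mem_coe, Finset.mem_product] at hp
      obtain ⟨s, hs, hs2⟩ := Finset.mem_image.1 hp.1
      rw [Finset.mem_coe, Finset.mem_filter]
      refine ⟨Finset.mem_univ _, s, (Finset.mem_filter.1 hs).2, ?_⟩
      show (Fin.cons p.1 p.2 : Fin (m+1) → F) 0 = s ^ 2 * c
      rw [Fin.cons_zero]; exact hs2.symm
    · intro p _ p' _ hpp
      have := Fin.cons_inj.1 hpp
      exact Prod.ext this.1 this.2
  rw [Finset.card_product, Finset.card_univ, Fintype.card_pi] at h4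
  simp only [Finset.prod_const, Finset.card_univ, Fintype.card_fin] at h4
  calc Fintype.card F ^ m * ((Fintype.card F - 1) / 2)
      ≤ Fintype.card F ^ m * T.card := Nat.mul_le_mul_left _ h3
    _ = T.card * Fintype.card F ^ m := Nat.mul_comm _ _
    _ ≤ _ := h4

end

end Cfsg.Agent.Lib.Helper26.SpCross
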