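import Mathlib

/-!
# Sylow subgroups and normal subgroups: index computations (helper26)
-/

namespace Cfsg.Agent.Lib.Helper26

/-- `[K : P ⊓ K] = [P ⊔ K : P]` for `K` normal in a finite group. -/
theorem relIndex_eq_relIndex_sup_of_normal {Γ : Type*} [Group Γ] [Finite Γ] (P K : Subgroup Γ)
    [K.Normal] : P.relIndex K = P.relIndex (P ⊔ K) := by
  have e1 : Nat.card ↥(P ⊓ K) * P.relIndex K = Nat.card K := by
    have := Subgroup.relIndex_mul_relIndex (⊥ : Subgroup Γ) (P ⊓ K) K bot_le inf_le_right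
    rwa [Subgroup.relIndex_bot_left, Subgroup.relIndex_bot_left,
      Subgroup.inf_relIndex_right] at this
  have e2 : Nat.card ↥(P ⊓ K) * K.relIndex P = Nat.card P := by
    have := Subgroup.relIndex_mul_relIndex (⊥ : Subgroup Γ) (P ⊓ K) P bot_le inf_le_left
    rwa [Subgroup.relIndex_bot_left, Subgroup.relIndex_bot_left,
      Subgroup.inf_relIndex_left] at this
  have e3 : Nat.card K * K.relIndex P = Nat.card ↥(P ⊔ K) := by
    have := Subgroup.relIndex_mul_relIndex (⊥ : Subgroup Γ) K (P ⊔ K) bot_le le_sup_right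
    rwa [Subgroup.relIndex_bot_left, Subgroup.relIndex_bot_left,
      Subgroup.relIndex_sup_right] at this
  have e4 : Nat.card P * P.relIndex (P ⊔ K) = Nat.card ↥(P ⊔ K) := by
    have := Subgroup.relIndex_mul_relIndex (⊥ : Subgroup Γ) P (P ⊔ K) bot_le le_sup_left
    rwa [Subgroup.relIndex_bot_left, Subgroup.relIndex_bot_left] at this
  have hpos : 0 < Nat.card ↥(P ⊓ K) * K.relIndex P := by
    rw [e2]; exact Nat.card_pos
  have key : (Nat.card ↥(P ⊓ K) * K.relIndex P) * P.relIndex K =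
      (Nat.card ↥(P ⊓ K) * K.relIndex P) * P.relIndex (P ⊔ K) := by
    calc (Nat.card ↥(P ⊓ K) * K.relIndex P) * P.relIndex K
        = (Nat.card ↥(P ⊓ K) * P.relIndex K) * K.relIndex P := by ring
      _ = Nat.card ↥(P ⊔ K) := by rw [e1, e3]
      _ = (Nat.card ↥(P ⊓ K) * K.relIndex P) * P.relIndex (P ⊔ K) := by rw [e2, e4]
  exact Nat.eq_of_mul_eq_mul_left hpos key

/-- A Sylow `p`-subgroup meets a normal subgroup `K` in a subgroup of `p'`-index in `K`. -/
theorem sylow_relIndex_normal_not_dvd {Γ : Type*} [Group Γ] [Finite Γ] {p : ℕ} [Fact p.Prime]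
    (P : Sylow p Γ) (K : Subgroup Γ) [K.Normal] : ¬ p ∣ (P : Subgroup Γ).relIndex K := by
  rw [relIndex_eq_relIndex_sup_of_normal]
  exact fun h => P.not_dvd_index (h.trans (Subgroup.relIndex_dvd_index_of_le le_sup_left))

/-- Relative version: `R` Sylow in `G`, `R, C ≤ N`, `C` normal in `N`: `[C : R ⊓ C]` is prime
to `p`. -/
theorem sylow_relIndex_not_dvd_of_normal_subgroupOf {G : Type*} [Group G] [Finite G] {p : ℕ}
    [Fact p.Prime] (R : Sylow p G) (C N : Subgroup G) (hRN : (R : Subgroup G) ≤ N) (hCN : C ≤ N)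
    [(C.subgroupOf N).Normal] : ¬ p ∣ (R : Subgroup G).relIndex C := by
  have := sylow_relIndex_normal_not_dvd (R.subtype hRN) (C.subgroupOf N)
  rw [Sylow.coe_subtype, Subgroup.relIndex_subgroupOf hCN] at this
  exact this

/-- `R ⊓ C` is a Sylow `p`-subgroup of `C` (as a subgroup of `↥C`) when `C` is normal in some `N ≥ R`. -/
theorem exists_sylow_eq_inf_subgroupOf {G : Type*} [Group G] [Finite G] {p : ℕ}
    [Fact p.Prime] (R : Sylow p G) (C N : Subgroup G) (hRN : (R : Subgroup G) ≤ N) (hCN : C ≤ N)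
    [(C.subgroupOf N).Normal] :
    ∃ Q : Sylow p C, (Q : Subgroup C) = ((R : Subgroup G) ⊓ C).subgroupOf C := by
  have hidx := sylow_relIndex_not_dvd_of_normal_subgroupOf R C N hRN hCN
  rw [← Subgroup.inf_relIndex_right] at hidx
  have hp : IsPGroup p (((R : Subgroup G) ⊓ C).subgroupOf C) :=
    (R.isPGroup'.to_le inf_le_left).comap_subtype
  exact ⟨hp.toSylow hidx, IsPGroup.toSylow_coe _ _⟩

end Cfsg.Agent.Lib.Helper26
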