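import Cfsg.Agent.Lib.Helper26.Coherence

/-!
# Characters of a Frobenius-type group `N` with kernel `K` (helper26)

Setting: `N` a finite group, `K ⊴ N` such that no element outside `K` commutes with a non-identity
element of `K`.  An irreducible character `χ` of `N` is *relevant* when `χ k ≠ χ 1` for some `k ∈ K`.

* `rel_induced`: a relevant character is induced from a non-principal irreducible character of `K`.
* `rel_vanish_off`, `rel_sum_eq_zero`: it vanishes off `K` and sums to `0` over `K`.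
* `rel_not_const`: if there are two distinct relevant characters, none is constant on `K \ {1}`.
* `const_on_of_coeff`: a class function whose coefficients on the relevant characters are
  proportional to their degrees is constant on `K \ {1}`.
-/

namespace Cfsg.Agent.Lib.Helper26
open Cfsg
open scoped ComplexConjugate

section
variable {N : Type*} [Group N] [Fintype N] (K : Subgroup N) [hKn : K.Normal]

theorem sum_eq_sum_subgroup_of_vanish [Fintype K] (F : N → ℂ) (hF : ∀ n, n ∉ K → F n = 0) :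
    ∑ n : N, F n = ∑ k : K, F (k : N) := by
  classical
  have h1 : ∑ n : N, F n = ∑ n ∈ Finset.univ.filter (fun n : N => n ∈ K), F n := by
    rw [Finset.sum_filter]
    apply Finset.sum_congr rfl
    intro n _
    by_cases hn : n ∈ K
    · rw [if_pos hn]
    · rw [if_neg hn, hF n hn]
  rw [h1]
  exact Finset.sum_subtype _ (fun x => by simp) F

theorem rel_induced (hfpf : ∀ x : N, x ∉ K → ∀ k ∈ K, x * k = k * x → k = 1)
    {χ : N → ℂ} (hχ : IsIrrCharacter N χ) (hrel : ∃ k ∈ K, χ k ≠ χ 1) :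
    ∃ φ : K → ℂ, IsIrrCharacter K φ ∧ φ ≠ (fun _ => 1) ∧ χ = indFun K φ := by
  classical
  haveI : Fintype K := Fintype.ofFinite _
  have hχcf := isClassFunction_of_isIrrCharacter hχ
  have hresC : IsCharacter K (χ ∘ K.subtype) :=
    isCharacter_restrict K (isCharacter_of_isIrrCharacter hχ)
  have hrescf : IsClassFunction K (χ ∘ K.subtype) := isClassFunction_of_isCharacter hresC
  obtain ⟨n, hn, hne⟩ := hrel
  obtain ⟨φ, hφ, hφ1, hφc⟩ := exists_nonprincipal_constituent (χ ∘ K.subtype) hrescf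
    ⟨⟨n, hn⟩, by simpa using hne⟩
  refine ⟨φ, hφ, hφ1, ?_⟩
  have hind := isIrrCharacter_indFun_of_fpf K hfpf φ hφ hφ1
  apply eq_of_classInner_ne_zero hχ hind
  rw [classInner_indFun_right' K χ hχcf φ]
  exact hφc

theorem rel_vanish_off (hfpf : ∀ x : N, x ∉ K → ∀ k ∈ K, x * k = k * x → k = 1)
    {χ : N → ℂ} (hχ : IsIrrCharacter N χ) (hrel : ∃ k ∈ K, χ k ≠ χ 1) (x : N) (hx : x ∉ K) :
    χ x = 0 := by
  obtain ⟨φ, _, _, rfl⟩ := rel_induced K hfpf hχ hrel
  exact Cfsg.Agent.Lib.Helper2.indFun_of_not_mem_of_normal K φ x hx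

theorem rel_sum_eq_zero [Fintype K] (hfpf : ∀ x : N, x ∉ K → ∀ k ∈ K, x * k = k * x → k = 1)
    {χ : N → ℂ} (hχ : IsIrrCharacter N χ) (hrel : ∃ k ∈ K, χ k ≠ χ 1) :
    ∑ k : K, χ (k : N) = 0 := by
  classical
  obtain ⟨φ, hφ, hφ1, rfl⟩ := rel_induced K hfpf hχ hrel
  have hφsum : ∑ k : K, φ k = 0 := by
    have h1 := classInner_irr hφ (Cfsg.Agent.Lib.Helper4.isIrrCharacter_one (G := K))
    rw [if_neg hφ1] at h1
    unfold classInner at h1
    have hK : (Nat.card K : ℂ)⁻¹ ≠ 0 := by
      apply inv_ne_zero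
      have : Nat.card K ≠ 0 := Nat.card_pos.ne'
      exact_mod_cast this
    have h2 := (mul_eq_zero.mp h1).resolve_left hK
    simpa using h2
  simp_rw [Cfsg.Agent.Lib.Helper2.indFun_coe_of_normal K φ]
  rw [← Finset.mul_sum, Finset.sum_comm]
  have : ∀ x : N, ∑ k : K, φ ⟨x * (k : N) * x⁻¹, hKn.conj_mem k k.2 x⟩ = 0 := by
    intro x
    rw [← hφsum]
    exact Fintype.sum_equiv (MulAut.conjNormal x : K ≃* K).toEquiv _ _
      (fun k => by congr 1)
  rw [Finset.sum_congr rfl (fun x _ => this x), Finset.sum_const_zero, mul_zero]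

/-- With two distinct relevant characters, none of them is constant on `K \ {1}`. -/
theorem rel_not_const (hfpf : ∀ x : N, x ∉ K → ∀ k ∈ K, x * k = k * x → k = 1)
    {χ ξ : N → ℂ} (hχ : IsIrrCharacter N χ) (hrel : ∃ k ∈ K, χ k ≠ χ 1)
    (hξ : IsIrrCharacter N ξ) (hrelξ : ∃ k ∈ K, ξ k ≠ ξ 1) (hne : χ ≠ ξ)
    (hconst : ∀ k ∈ K, ∀ k' ∈ K, k ≠ 1 → k' ≠ 1 → χ k = χ k') : False := by
  classical
  haveI : Fintype K := Fintype.ofFinite _
  obtain ⟨k₀, hk₀, hk₀ne⟩ := hrel
  have hk₀1 : k₀ ≠ 1 := fun h => hk₀ne (by rw [h])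
  -- the constant value is `χ k₀`
  have hval : ∀ k : K, χ (k : N) = χ k₀ + (if k = 1 then χ 1 - χ k₀ else 0) := by
    intro k
    by_cases hk : k = 1
    · rw [if_pos hk, hk]; simp
    · rw [if_neg hk, add_zero]
      exact hconst k k.2 k₀ hk₀ (fun h => hk (Subtype.ext h)) hk₀1
  have horth := classInner_irr hχ hξ
  rw [if_neg hne] at horth
  unfold classInner at horth
  have hNne : (Nat.card N : ℂ)⁻¹ ≠ 0 := by
    apply inv_ne_zero
    have : Nat.card N ≠ 0 := Nat.card_pos.ne'
    exact_mod_cast this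
  have h2 := (mul_eq_zero.mp horth).resolve_left hNne
  rw [sum_eq_sum_subgroup_of_vanish K (fun n => χ n * conj (ξ n))
    (fun n hn => by
      show χ n * conj (ξ n) = 0
      rw [rel_vanish_off K hfpf hχ ⟨k₀, hk₀, hk₀ne⟩ n hn, zero_mul])] at h2
  have hξsum : ∑ k : K, conj (ξ (k : N)) = 0 := by
    rw [← map_sum, rel_sum_eq_zero K hfpf hξ hrelξ, map_zero]
  have h3 : ∑ k : K, χ (k : N) * conj (ξ (k : N)) = (χ 1 - χ k₀) * conj (ξ 1) := by
    simp_rw [hval, add_mul]
    rw [Finset.sum_add_distrib, ← Finset.mul_sum, hξsum, mul_zero, zero_add,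
      Finset.sum_eq_single (1 : K)]
    · rw [if_pos rfl]; simp
    · intro b _ hb
      rw [if_neg hb, zero_mul]
    · intro h; exact absurd (Finset.mem_univ _) h
  rw [h3] at h2
  obtain ⟨d, hd, hd1⟩ := irr_degree hξ
  rcases mul_eq_zero.mp h2 with h | h
  · exact hk₀ne (sub_eq_zero.mp h).symm
  · rw [hd1, Complex.conj_natCast] at h
    have : (d : ℂ) ≠ 0 := by exact_mod_cast hd.ne'
    exact this h

/-- A class function whose coefficients on the relevant irreducible characters are proportional to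
the degrees is constant on `K \ {1}`. -/
theorem const_on_of_coeff (f : N → ℂ) (hf : IsClassFunction N f) (t : ℂ)
    (h : ∀ η : N → ℂ, IsIrrCharacter N η → (∃ k ∈ K, η k ≠ η 1) → classInner f η = t * η 1)
    (k k' : N) (hk : k ∈ K) (hk' : k' ∈ K) (hk1 : k ≠ 1) (hk'1 : k' ≠ 1) : f k = f k' := by
  classical
  haveI : Fintype (IrrCharacter N) := Fintype.ofFinite _
  have hexp := Cfsg.Agent.Lib.Helper4.classFunction_expansion f hf
  have hval : ∀ z : N, f z = ∑ η : IrrCharacter N, classInner f (η : N → ℂ) * (η : N → ℂ) z := by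
    intro z
    have := congrFun hexp z
    simpa [Finset.sum_apply] using this
  have hcol : ∀ z : N, z ≠ 1 → ∑ η : IrrCharacter N, (η : N → ℂ) z * (η : N → ℂ) 1 = 0 := by
    intro z hz
    have h1 := Cfsg.Agent.Lib.Helper4.column_orthogonality z (1 : N)
    rw [if_neg] at h1
    · rw [← h1]
      apply Finset.sum_congr rfl
      intro η _
      obtain ⟨d, _, hd1⟩ := irr_degree η.2
      rw [hd1, Complex.conj_natCast]
    · intro hc
      exact hz (isConj_one_left.mp hc)
  rw [← sub_eq_zero, hval k, hval k', ← Finset.sum_sub_distrib]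
  have hterm : ∀ η : IrrCharacter N,
      classInner f (η : N → ℂ) * (η : N → ℂ) k - classInner f (η : N → ℂ) * (η : N → ℂ) k' =
        t * ((η : N → ℂ) k * (η : N → ℂ) 1) - t * ((η : N → ℂ) k' * (η : N → ℂ) 1) := by
    intro η
    by_cases hrel : ∃ k ∈ K, (η : N → ℂ) k ≠ (η : N → ℂ) 1
    · rw [h η η.2 hrel]; ring
    · push Not at hrel
      rw [hrel k hk, hrel k' hk']; ring
  rw [Finset.sum_congr rfl (fun η _ => hterm η), Finset.sum_sub_distrib, ← Finset.mul_sum,
    ← Finset.mul_sum, hcol k hk1, hcol k' hk'1]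
  ring

end

end Cfsg.Agent.Lib.Helper26
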