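import Cfsg.Agent.Lib.Helper26.TIFN
import Cfsg.Agent.Lib.Helper26.FrobeniusKernel
import Cfsg.Agent.Lib.Helper26.CharKernel
import Cfsg.Agent.Lib.Helper4.CharIntegral

/-!
# Integrality lemmas for the TI/Frobenius-normalizer setting (helper26)

* `irr_degree_dvd_card`: degree of an irreducible character is a positive divisor of the order.
* `int_of_mul_degree_int`: if `x * θ(1) ∈ ℤ` for all non-principal irreducible `θ` of `K ≠ 1`
  then `x ∈ ℤ` (the gcd of the non-principal degrees divides `|K|` and `|K| - 1`).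
* `genChar_one_int`: the value at `1` of a generalized character is an integer.
* `indFun_rel`: inducing a non-principal irreducible character of a Frobenius-type kernel gives a
  relevant irreducible character of degree `index * θ(1)`.
-/

namespace Cfsg.Agent.Lib.Helper26
open Cfsg
open scoped ComplexConjugate

theorem irr_degree_dvd_card {K : Type*} [Group K] [Fintype K] {θ : K → ℂ}
    (hθ : IsIrrCharacter K θ) : ∃ d : ℕ, 0 < d ∧ θ 1 = d ∧ d ∣ Nat.card K := by
  obtain ⟨d, hd, hd1⟩ := irr_degree hθ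
  obtain ⟨n, ρ, hρ, rfl⟩ := hθ
  have h1 := Cfsg.Agent.Lib.Helper4.degree_dvd_card ρ hρ
  have h2 : ρ.character 1 = (n : ℂ) := by simp [Representation.char_one]
  have h3 : d = n := by
    rw [h2] at hd1
    exact_mod_cast hd1.symm
  refine ⟨d, hd, hd1, ?_⟩
  rw [h3]
  simpa using h1

theorem sum_int {ι : Type*} (s : Finset ι) (f : ι → ℂ) (h : ∀ i ∈ s, ∃ z : ℤ, f i = z) :
    ∃ z : ℤ, ∑ i ∈ s, f i = z := by
  classical
  induction s using Finset.induction_on with
  | empty => exact ⟨0, by simp⟩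
  | insert i s hi ih =>
    obtain ⟨z1, hz1⟩ := h i (Finset.mem_insert_self i s)
    obtain ⟨z2, hz2⟩ := ih (fun j hj => h j (Finset.mem_insert_of_mem hj))
    exact ⟨z1 + z2, by rw [Finset.sum_insert hi, hz1, hz2]; push_cast; rfl⟩

theorem int_of_mul_degree_int {K : Type*} [Group K] [Fintype K] (hK : ∃ k : K, k ≠ 1) (x : ℂ)
    (h : ∀ θ : K → ℂ, IsIrrCharacter K θ → θ ≠ (fun _ => 1) → ∃ z : ℤ, x * θ 1 = z) :
    ∃ z : ℤ, x = z := by
  classical
  haveI : Fintype (IrrCharacter K) := Fintype.ofFinite _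
  obtain ⟨k, hk⟩ := hK
  obtain ⟨θ₀, hθ₀⟩ := exists_irr_ne_of_ne_one k hk
  have hθ₀1 : (θ₀ : K → ℂ) ≠ fun _ => 1 := by
    intro h'; apply hθ₀; rw [h']
  obtain ⟨d₀, hd₀pos, hd₀, hd₀dvd⟩ := irr_degree_dvd_card θ₀.2
  obtain ⟨z₀, hz₀⟩ := h θ₀ θ₀.2 hθ₀1
  have hsum := Cfsg.Agent.Lib.Helper4.sum_sq_degree (G := K)
  -- x * (|K| - 1) is an integer
  have h1 : ∃ z₁ : ℤ, x * ((Nat.card K : ℂ) - 1) = z₁ := by
    have hterm : ∀ θ : IrrCharacter K, ∃ z : ℤ,
        (if (θ : K → ℂ) = (fun _ => 1) then 0 else x * (θ : K → ℂ) 1 ^ 2) = z := by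
      intro θ
      by_cases hθ : (θ : K → ℂ) = fun _ => 1
      · exact ⟨0, by rw [if_pos hθ]; simp⟩
      · rw [if_neg hθ]
        obtain ⟨z, hz⟩ := h θ θ.2 hθ
        obtain ⟨d, _, hd1⟩ := irr_degree θ.2
        exact ⟨z * d, by rw [pow_two, ← mul_assoc, hz, hd1]; push_cast; rfl⟩
    obtain ⟨z₁, hz₁⟩ := sum_int Finset.univ _ (fun θ _ => hterm θ)
    refine ⟨z₁, ?_⟩
    rw [← hz₁, ← hsum]
    have hsplit : ∀ θ : IrrCharacter K, x * (θ : K → ℂ) 1 ^ 2 =
        (if (θ : K → ℂ) = (fun _ => 1) then 0 else x * (θ : K → ℂ) 1 ^ 2) +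
        (if (θ : K → ℂ) = (fun _ => 1) then x else 0) := by
      intro θ
      by_cases hθ : (θ : K → ℂ) = fun _ => 1
      · rw [if_pos hθ, if_pos hθ, hθ]; simp
      · rw [if_neg hθ, if_neg hθ, add_zero]
    have hone : ∑ θ : IrrCharacter K, (if (θ : K → ℂ) = (fun _ => 1) then x else 0) = x := by
      rw [Finset.sum_eq_single
        (⟨fun _ => 1, Cfsg.Agent.Lib.Helper4.isIrrCharacter_one⟩ : IrrCharacter K)]
      · rw [if_pos rfl]
      · intro θ _ hne
        rw [if_neg]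
        intro h'; exact hne (Subtype.ext h')
      · intro h'; exact absurd (Finset.mem_univ _) h'
    rw [mul_sub, Finset.mul_sum, Finset.sum_congr rfl (fun θ _ => hsplit θ),
      Finset.sum_add_distrib, hone]
    ring
  obtain ⟨z₁, hz₁⟩ := h1
  have hcard : 1 ≤ Nat.card K := Nat.card_pos
  have hcop : Nat.Coprime d₀ (Nat.card K - 1) := by
    have h2 : Nat.Coprime (Nat.card K) (Nat.card K - 1) :=
      (Nat.coprime_self_sub_right hcard).mpr (Nat.coprime_one_right _)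
    exact Nat.Coprime.coprime_dvd_left hd₀dvd h2
  have hbez := Nat.gcd_eq_gcd_ab d₀ (Nat.card K - 1)
  rw [hcop.gcd_eq_one] at hbez
  refine ⟨z₀ * Nat.gcdA d₀ (Nat.card K - 1) + z₁ * Nat.gcdB d₀ (Nat.card K - 1), ?_⟩
  have hbezC : (1 : ℂ) = (d₀ : ℂ) * (Nat.gcdA d₀ (Nat.card K - 1) : ℂ) +
      ((Nat.card K : ℂ) - 1) * (Nat.gcdB d₀ (Nat.card K - 1) : ℂ) := by
    have : ((1 : ℕ) : ℤ) = (d₀ : ℤ) * Nat.gcdA d₀ (Nat.card K - 1) +
        ((Nat.card K - 1 : ℕ) : ℤ) * Nat.gcdB d₀ (Nat.card K - 1) := hbez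
    rw [Nat.cast_sub hcard] at this
    exact_mod_cast this
  rw [hd₀] at hz₀
  push_cast
  rw [← hz₀, ← hz₁]
  calc x = x * 1 := by ring
    _ = x * ((d₀ : ℂ) * (Nat.gcdA d₀ (Nat.card K - 1) : ℂ) +
          ((Nat.card K : ℂ) - 1) * (Nat.gcdB d₀ (Nat.card K - 1) : ℂ)) := by rw [← hbezC]
    _ = _ := by ring

theorem genChar_one_int {G : Type*} [Group G] {X : G → ℂ} (hX : IsGeneralizedCharacter G X) :
    ∃ z : ℤ, X 1 = z := by
  obtain ⟨a, b, ha, hb, rfl⟩ := hX
  obtain ⟨i, hi⟩ := isCharacter_degree_nat ha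
  obtain ⟨j, hj⟩ := isCharacter_degree_nat hb
  exact ⟨i - j, by rw [Pi.sub_apply, hi, hj]; push_cast; rfl⟩

section
variable {N : Type*} [Group N] [Fintype N] (K : Subgroup N) [hKn : K.Normal]

/-- Inducing a non-principal irreducible character of `K` gives a relevant irreducible
character. -/
theorem indFun_rel [Fintype K] (hfpf : ∀ x : N, x ∉ K → ∀ k ∈ K, x * k = k * x → k = 1)
    (θ : K → ℂ) (hθ : IsIrrCharacter K θ) (hθ1 : θ ≠ fun _ => 1) :
    IsIrrCharacter N (indFun K θ) ∧ (∃ k ∈ K, indFun K θ k ≠ indFun K θ 1) ∧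
      indFun K θ 1 = (K.index : ℂ) * θ 1 := by
  classical
  have hirr := isIrrCharacter_indFun_of_fpf K hfpf θ hθ hθ1
  have hdeg : indFun K θ 1 = (K.index : ℂ) * θ 1 := by
    rw [indFun_one]
    have h1 : Nat.card K * K.index = Nat.card N := K.card_mul_index
    have hK : (Nat.card K : ℂ) ≠ 0 := by
      have : Nat.card K ≠ 0 := Nat.card_pos.ne'
      exact_mod_cast this
    have h2 : (Fintype.card N : ℂ) = (Nat.card K : ℂ) * (K.index : ℂ) := by
      rw [← Nat.card_eq_fintype_card, ← h1]; push_cast; rfl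
    rw [h2]
    field_simp
  refine ⟨hirr, ?_, hdeg⟩
  by_contra hcon
  push Not at hcon
  -- then the sum over K is |K| * degree ≠ 0, but it is 0
  have hθsum : ∑ k : K, θ k = 0 := by
    have h1 := classInner_irr hθ (Cfsg.Agent.Lib.Helper4.isIrrCharacter_one (G := K))
    rw [if_neg hθ1] at h1
    unfold classInner at h1
    have hK : (Nat.card K : ℂ)⁻¹ ≠ 0 := by
      apply inv_ne_zero
      have : Nat.card K ≠ 0 := Nat.card_pos.ne'
      exact_mod_cast this
    have h2 := (mul_eq_zero.mp h1).resolve_left hK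
    simpa using h2
  have hsum0 : ∑ k : K, indFun K θ (k : N) = 0 := by
    simp_rw [Cfsg.Agent.Lib.Helper2.indFun_coe_of_normal K θ]
    rw [← Finset.mul_sum, Finset.sum_comm]
    have : ∀ x : N, ∑ k : K, θ ⟨x * (k : N) * x⁻¹, hKn.conj_mem k k.2 x⟩ = 0 := by
      intro x
      rw [← hθsum]
      exact Fintype.sum_equiv (MulAut.conjNormal x : K ≃* K).toEquiv _ _
        (fun k => by congr 1)
    rw [Finset.sum_congr rfl (fun x _ => this x), Finset.sum_const_zero, mul_zero]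
  have hsum1 : ∑ k : K, indFun K θ (k : N) = (Fintype.card K : ℂ) * indFun K θ 1 := by
    rw [Finset.sum_congr rfl (fun (k : K) _ => hcon (k : N) k.2), Finset.sum_const, Finset.card_univ,
      nsmul_eq_mul]
  rw [hsum0] at hsum1
  obtain ⟨d, hd, hd1⟩ := irr_degree hirr
  rw [hd1] at hsum1
  have : (Fintype.card K : ℂ) * (d : ℂ) ≠ 0 := by
    apply mul_ne_zero
    · exact_mod_cast Fintype.card_ne_zero
    · exact_mod_cast hd.ne'
  exact this hsum1.symm

end

end Cfsg.Agent.Lib.Helper26
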