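import Mathlib
import Cfsg.Prelude.Def_OddOrderLocal
import Cfsg.Agent.Lib.Helper26.TIInd
import Cfsg.Agent.Lib.Helper26.FTLemmaA

set_option autoImplicit false
set_option linter.unusedSectionVars false
set_option linter.unusedVariables false

/-!
# TI Hall subgroups with a normal complement in the normalizer, I: group-theoretic setup (helper26)

`Hyp H K₀` packages: `H` is a TI-subgroup with normalizer `N = K₀ × H`, `gcd(|H|,|K₀|) = 1`.
We derive the TI-property of `N \ K₀`, and the projection `N → H`.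
-/

namespace Cfsg.Agent.Lib.Helper26.TIH

open Cfsg

section Setup
variable {G : Type*} [Group G] [Finite G]

/-- `N_G(H) = K₀ × H` with coprime orders and `H` a TI-subgroup. -/
structure Hyp (H K₀ : Subgroup G) : Prop where
  ti : ∀ g : G, g ∉ Subgroup.normalizer (H : Set G) → ∀ x ∈ H, g * x * g⁻¹ ∈ H → x = 1
  le : K₀ ≤ Subgroup.normalizer (H : Set G)
  comm : ∀ k ∈ K₀, ∀ h ∈ H, k * h = h * k
  decomp : ∀ n ∈ Subgroup.normalizer (H : Set G), ∃ k ∈ K₀, ∃ h ∈ H, n = k * h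
  cop : (Nat.card H).Coprime (Nat.card K₀)
  card : Nat.card K₀ * Nat.card H = Nat.card (Subgroup.normalizer (H : Set G))

theorem eq_one_of_pow_of_pow {x : G} {a b : ℕ} (hab : a.Coprime b) (ha : x ^ a = 1)
    (hb : x ^ b = 1) : x = 1 := by
  have h1 : orderOf x ∣ a := orderOf_dvd_of_pow_eq_one ha
  have h2 : orderOf x ∣ b := orderOf_dvd_of_pow_eq_one hb
  have h3 : orderOf x ∣ Nat.gcd a b := Nat.dvd_gcd h1 h2
  rw [show Nat.gcd a b = 1 from hab] at h3
  exact orderOf_eq_one_iff.1 (Nat.dvd_one.1 h3)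

theorem aux_mul {A B P Q : G} (hc : (B * Q⁻¹) * P = P * (B * Q⁻¹)) :
    A * B * (P * Q)⁻¹ = (A * P⁻¹) * (B * Q⁻¹) := by
  have hc' : Commute (B * Q⁻¹) P := hc
  have h1 : (B * Q⁻¹) * P⁻¹ = P⁻¹ * (B * Q⁻¹) := (Commute.inv_right hc').eq
  calc A * B * (P * Q)⁻¹ = A * ((B * Q⁻¹) * P⁻¹) := by group
    _ = A * (P⁻¹ * (B * Q⁻¹)) := by rw [h1]
    _ = (A * P⁻¹) * (B * Q⁻¹) := by group

namespace Hyp
variable {H K₀ : Subgroup G}

theorem powK (hyp : Hyp H K₀) {k : G} (hk : k ∈ K₀) : k ^ Nat.card K₀ = 1 :=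
  pow_card_sub_eq_one K₀ hk

theorem powH (hyp : Hyp H K₀) {h : G} (hh : h ∈ H) : h ^ Nat.card H = 1 :=
  pow_card_sub_eq_one H hh

theorem disj (hyp : Hyp H K₀) {x : G} (hk : x ∈ K₀) (hh : x ∈ H) : x = 1 :=
  eq_one_of_pow_of_pow hyp.cop (hyp.powH hh) (hyp.powK hk)

theorem pow_mul_K (hyp : Hyp H K₀) {k h : G} (hk : k ∈ K₀) (hh : h ∈ H) :
    (k * h) ^ Nat.card K₀ = h ^ Nat.card K₀ := by
  have hc : Commute k h := hyp.comm k hk h hh
  rw [hc.mul_pow, hyp.powK hk, one_mul]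

theorem pow_mul_H (hyp : Hyp H K₀) {k h : G} (hk : k ∈ K₀) (hh : h ∈ H) :
    (k * h) ^ Nat.card H = k ^ Nat.card H := by
  have hc : Commute k h := hyp.comm k hk h hh
  rw [hc.mul_pow, hyp.powH hh, mul_one]

/-- an element of `N` of order dividing `|H|` lies in `H` -/
theorem mem_H_of_pow (hyp : Hyp H K₀) {n : G} (hn : n ∈ Subgroup.normalizer (H : Set G))
    (hpow : n ^ Nat.card H = 1) : n ∈ H := by
  obtain ⟨k, hk, h, hh, rfl⟩ := hyp.decomp n hn
  rw [hyp.pow_mul_H hk hh] at hpow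
  have hk1 : k = 1 := eq_one_of_pow_of_pow hyp.cop hpow (hyp.powK hk)
  rw [hk1, one_mul]
  exact hh

/-- an element of `N` of order dividing `|K₀|` lies in `K₀` -/
theorem mem_K_of_pow (hyp : Hyp H K₀) {n : G} (hn : n ∈ Subgroup.normalizer (H : Set G))
    (hpow : n ^ Nat.card K₀ = 1) : n ∈ K₀ := by
  obtain ⟨k, hk, h, hh, rfl⟩ := hyp.decomp n hn
  rw [hyp.pow_mul_K hk hh] at hpow
  have hh1 : h = 1 := eq_one_of_pow_of_pow hyp.cop (hyp.powH hh) hpow
  rw [hh1, mul_one]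
  exact hk

/-- `K₀` is normalized by `N` -/
theorem conj_mem_K (hyp : Hyp H K₀) {n k : G} (hn : n ∈ Subgroup.normalizer (H : Set G))
    (hk : k ∈ K₀) : n * k * n⁻¹ ∈ K₀ := by
  apply hyp.mem_K_of_pow
  · exact Subgroup.mul_mem _ (Subgroup.mul_mem _ hn (hyp.le hk)) (Subgroup.inv_mem _ hn)
  · rw [conj_pow, hyp.powK hk, mul_one, mul_inv_cancel]

/-- for `g ∉ N` and `t ∈ N ∖ K₀`, the conjugate `g t g⁻¹` is not in `N` -/
theorem ti_T (hyp : Hyp H K₀) {g t : G} (hg : g ∉ Subgroup.normalizer (H : Set G))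
    (ht : t ∈ Subgroup.normalizer (H : Set G)) (htK : t ∉ K₀) :
    g * t * g⁻¹ ∉ Subgroup.normalizer (H : Set G) := by
  intro hmem
  obtain ⟨k, hk, h, hh, rfl⟩ := hyp.decomp t ht
  have h1 : (g * (k * h) * g⁻¹) ^ Nat.card K₀ = g * h ^ Nat.card K₀ * g⁻¹ := by
    rw [conj_pow, hyp.pow_mul_K hk hh]
  have h2 : g * h ^ Nat.card K₀ * g⁻¹ ∈ H := by
    rw [← h1]
    obtain ⟨k', hk', h', hh', e⟩ := hyp.decomp _ hmem
    rw [e, hyp.pow_mul_K hk' hh']
    exact Subgroup.pow_mem _ hh' _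
  have h3 : h ^ Nat.card K₀ = 1 := hyp.ti g hg _ (Subgroup.pow_mem _ hh _) h2
  have h4 : h = 1 := eq_one_of_pow_of_pow hyp.cop (hyp.powH hh) h3
  apply htK
  rw [h4, mul_one]
  exact hk

/-- two conjugating elements sending a nonidentity element into `H` differ by an element of `N` -/
theorem conj_iff (hyp : Hyp H K₀) {g g' y : G} (hy : y ≠ 1) (h1 : g⁻¹ * y * g ∈ H)
    (h2 : g'⁻¹ * y * g' ∈ H) (z : G) : g⁻¹ * z * g ∈ H ↔ g'⁻¹ * z * g' ∈ H := by
  have hn : g'⁻¹ * g ∈ Subgroup.normalizer (H : Set G) := by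
    by_contra hcon
    apply hy
    have h3 : (g'⁻¹ * g) * (g⁻¹ * y * g) * (g'⁻¹ * g)⁻¹ ∈ H := by
      have e : (g'⁻¹ * g) * (g⁻¹ * y * g) * (g'⁻¹ * g)⁻¹ = g'⁻¹ * y * g' := by group
      rw [e]
      exact h2
    have h4 := hyp.ti _ hcon _ h1 h3
    have e : y = g * (g⁻¹ * y * g) * g⁻¹ := by group
    rw [e, h4]
    group
  have h5 := (Subgroup.mem_normalizer_iff.1 hn) (g⁻¹ * z * g)
  have e : (g'⁻¹ * g) * (g⁻¹ * z * g) * (g'⁻¹ * g)⁻¹ = g'⁻¹ * z * g' := by group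
  rw [e] at h5
  exact h5

/-! ### the projection `N → H` -/

theorem exists_proj (hyp : Hyp H K₀) (n : ↥(Subgroup.normalizer (H : Set G))) :
    ∃ h : ↥H, (n : G) * (h : G)⁻¹ ∈ K₀ := by
  obtain ⟨k, hk, h, hh, e⟩ := hyp.decomp n n.2
  refine ⟨⟨h, hh⟩, ?_⟩
  rw [e]
  simpa using hk

theorem proj_unique (hyp : Hyp H K₀) {n h₁ h₂ : G} (hh₁ : h₁ ∈ H) (hh₂ : h₂ ∈ H)
    (h1 : n * h₁⁻¹ ∈ K₀) (h2 : n * h₂⁻¹ ∈ K₀) : h₁ = h₂ := by
  have h3 : h₁ * h₂⁻¹ ∈ K₀ := by
    have : h₁ * h₂⁻¹ = (n * h₁⁻¹)⁻¹ * (n * h₂⁻¹) := by group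
    rw [this]
    exact Subgroup.mul_mem _ (Subgroup.inv_mem _ h1) h2
  have h4 : h₁ * h₂⁻¹ ∈ H := Subgroup.mul_mem _ hh₁ (Subgroup.inv_mem _ hh₂)
  have h5 := hyp.disj h3 h4
  exact mul_inv_eq_one.1 h5

noncomputable def projFun (hyp : Hyp H K₀) (n : ↥(Subgroup.normalizer (H : Set G))) : ↥H :=
  Classical.choose (hyp.exists_proj n)

theorem projFun_spec (hyp : Hyp H K₀) (n : ↥(Subgroup.normalizer (H : Set G))) :
    (n : G) * ((hyp.projFun n : ↥H) : G)⁻¹ ∈ K₀ :=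
  Classical.choose_spec (hyp.exists_proj n)

theorem projFun_eq (hyp : Hyp H K₀) (n : ↥(Subgroup.normalizer (H : Set G))) {h : G}
    (hh : h ∈ H) (h1 : (n : G) * h⁻¹ ∈ K₀) : ((hyp.projFun n : ↥H) : G) = h :=
  hyp.proj_unique (hyp.projFun n).2 hh (hyp.projFun_spec n) h1

theorem projFun_mul (hyp : Hyp H K₀) (a b : ↥(Subgroup.normalizer (H : Set G))) :
    hyp.projFun (a * b) = hyp.projFun a * hyp.projFun b := by
  apply Subtype.ext
  refine hyp.projFun_eq (a * b) (hyp.projFun a * hyp.projFun b).2 ?_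
  rw [Subgroup.coe_mul, Subgroup.coe_mul]
  have hA := hyp.projFun_spec a
  have hB := hyp.projFun_spec b
  have hc : ((b : G) * ((hyp.projFun b : ↥H) : G)⁻¹) * ((hyp.projFun a : ↥H) : G) =
      ((hyp.projFun a : ↥H) : G) * ((b : G) * ((hyp.projFun b : ↥H) : G)⁻¹) :=
    hyp.comm _ hB _ (hyp.projFun a).2
  rw [aux_mul hc]
  exact Subgroup.mul_mem _ hA hB

/-- the projection of `N = K₀ × H` onto `H` -/
noncomputable def proj (hyp : Hyp H K₀) : ↥(Subgroup.normalizer (H : Set G)) →* ↥H :=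
  MonoidHom.mk' hyp.projFun hyp.projFun_mul

theorem proj_spec (hyp : Hyp H K₀) (n : ↥(Subgroup.normalizer (H : Set G))) :
    (n : G) * ((hyp.proj n : ↥H) : G)⁻¹ ∈ K₀ := hyp.projFun_spec n

theorem proj_coe_of_mem (hyp : Hyp H K₀) (n : ↥(Subgroup.normalizer (H : Set G)))
    (hn : (n : G) ∈ H) : ((hyp.proj n : ↥H) : G) = n :=
  hyp.projFun_eq n hn (by rw [mul_inv_cancel]; exact Subgroup.one_mem _)

theorem proj_eq_one_of_mem (hyp : Hyp H K₀) (n : ↥(Subgroup.normalizer (H : Set G)))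
    (hn : (n : G) ∈ K₀) : hyp.proj n = 1 := by
  apply Subtype.ext
  rw [Subgroup.coe_one]
  exact hyp.projFun_eq n (Subgroup.one_mem _) (by rw [inv_one, mul_one]; exact hn)

theorem proj_surjective (hyp : Hyp H K₀) : Function.Surjective hyp.proj := by
  intro h
  refine ⟨⟨(h : G), Subgroup.le_normalizer h.2⟩, ?_⟩
  apply Subtype.ext
  exact hyp.proj_coe_of_mem _ h.2

end Hyp

/-- the hypotheses follow from a normal complement in the normalizer together with the Hall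
condition -/
theorem hyp_of_complement (H : Subgroup G) (hTI : IsTISubset (H : Set G))
    (hHall : (Nat.card H).Coprime (H.subgroupOf (Subgroup.normalizer (H : Set G))).index)
    (K : Subgroup ↥(Subgroup.normalizer (H : Set G))) (hKn : K.Normal)
    (hKc : K.IsComplement' (H.subgroupOf (Subgroup.normalizer (H : Set G)))) :
    Hyp H (K.map (Subgroup.normalizer (H : Set G)).subtype) := by
  have hHN : (H.subgroupOf (Subgroup.normalizer (H : Set G))).Normal :=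
    Subgroup.normal_in_normalizer
  have hcardH : Nat.card (H.subgroupOf (Subgroup.normalizer (H : Set G))) = Nat.card H :=
    Nat.card_congr (Subgroup.subgroupOfEquivOfLe Subgroup.le_normalizer).toEquiv
  have hcardK : Nat.card (K.map (Subgroup.normalizer (H : Set G)).subtype) = Nat.card K :=
    Subgroup.card_map_of_injective (Subgroup.subtype_injective _)
  have hmul := hKc.card_mul_card
  have hidx := Subgroup.index_mul_card (H.subgroupOf (Subgroup.normalizer (H : Set G)))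
  have hKidx : (H.subgroupOf (Subgroup.normalizer (H : Set G))).index = Nat.card K := by
    have hpos : 0 < Nat.card (H.subgroupOf (Subgroup.normalizer (H : Set G))) := Nat.card_pos
    have : (H.subgroupOf (Subgroup.normalizer (H : Set G))).index *
        Nat.card (H.subgroupOf (Subgroup.normalizer (H : Set G))) =
        Nat.card K * Nat.card (H.subgroupOf (Subgroup.normalizer (H : Set G))) := by
      rw [hidx, hmul]
    exact Nat.eq_of_mul_eq_mul_right hpos this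
  have hcomm : ∀ k ∈ K, ∀ h ∈ H.subgroupOf (Subgroup.normalizer (H : Set G)), k * h = h * k :=
    fun k hk h hh =>
      (Subgroup.commute_of_normal_of_disjoint K _ hKn hHN hKc.disjoint k h hk hh).eq
  refine ⟨fun g hg x hx hgx => hTI g hg x hx hgx, Subgroup.map_subtype_le _, ?_, ?_, ?_, ?_⟩
  · intro k hk h hh
    rw [Subgroup.mem_map] at hk
    obtain ⟨k', hk', rfl⟩ := hk
    have h1 := hcomm k' hk' ⟨h, Subgroup.le_normalizer hh⟩ (Subgroup.mem_subgroupOf.2 hh)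
    exact congrArg Subtype.val h1
  · intro n hn
    obtain ⟨⟨⟨k, hk⟩, ⟨h, hh⟩⟩, e⟩ := hKc.2 ⟨n, hn⟩
    have e' : (k : G) * (h : G) = n := congrArg Subtype.val e
    exact ⟨(k : G), Subgroup.mem_map.2 ⟨k, hk, rfl⟩, (h : G), Subgroup.mem_subgroupOf.1 hh,
      e'.symm⟩
  · rw [hcardK, ← hKidx]
    exact hHall
  · rw [hcardK, ← hcardH]
    exact hmul

end Setup

end Cfsg.Agent.Lib.Helper26.TIH
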