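import Mathlib
import Cfsg.Prelude.Def_Characters
import Cfsg.Prelude.Def_OddOrderLocal
import Cfsg.Agent.Lib.Helper26.TIHA
import Cfsg.Agent.Lib.Helper26.FrobeniusKernel
import Cfsg.Agent.Lib.Helper26.TIInd
import Cfsg.Agent.Lib.Helper4.PermLemma

set_option autoImplicit false
set_option linter.unusedSectionVars false
set_option linter.unusedVariables false

/-!
# TI Hall subgroups with a normal complement in the normalizer, II: characters (helper26)

If `N_G(H) = K₀ × H` with `H` a TI Hall subgroup then `H` has a normal complement `M` in `G`,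
and every element outside `M` is conjugate into `N ∖ K₀`.
-/

namespace Cfsg.Agent.Lib.Helper26.TIH

open Cfsg
open scoped ComplexConjugate

section Chars
variable {G : Type*} [Group G] [Fintype G]

theorem indFun_eq_zero_of_not_conj_T (N : Subgroup G) (T : Set G) (α : N → ℂ)
    (hαT : ∀ x : N, (x : G) ∉ T → α x = 0) (x : G) (hx : ∀ g : G, g⁻¹ * x * g ∉ T) :
    indFun N α x = 0 := by
  unfold indFun
  rw [Finset.sum_eq_zero, mul_zero]
  intro g _
  by_cases hmem : g⁻¹ * x * g ∈ N
  · rw [extendByZero_apply_mem N α _ hmem]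
    exact hαT _ (hx g)
  · exact extendByZero_apply_not_mem N α _ hmem

theorem isIrrCharacter_frobStar_ti (N : Subgroup G) (T : Set G)
    (hTI : ∀ g : G, g ∉ N → ∀ t ∈ T, g * t * g⁻¹ ∈ T → t = 1)
    {θ : N → ℂ} (hθ : IsIrrCharacter N θ) (hθT : ∀ x : N, (x : G) ∉ T → θ x = θ 1) :
    IsIrrCharacter G (frobStar N θ) := by
  classical
  have : Fintype N := Fintype.ofFinite _
  obtain ⟨n, hnpos, hn⟩ := irr_degree hθ
  have hdconj : conj (θ 1) = θ 1 := by rw [hn, Complex.conj_natCast]
  have hθcf := isClassFunction_of_isIrrCharacter hθ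
  have honeHirr : IsIrrCharacter N (fun _ => (1 : ℂ)) := Cfsg.Agent.Lib.Helper4.isIrrCharacter_one
  have honeGirr : IsIrrCharacter G (fun _ => (1 : ℂ)) := Cfsg.Agent.Lib.Helper4.isIrrCharacter_one
  have hαcf : IsClassFunction N (θ - (θ 1) • (fun _ => (1 : ℂ))) := by
    intro g k
    simp only [Pi.sub_apply, Pi.smul_apply, hθcf g k]
  have hα1 : (θ - (θ 1) • (fun _ : N => (1 : ℂ)) : N → ℂ) 1 = 0 := by simp
  have hαT : ∀ x : N, (x : G) ∉ T → (θ - (θ 1) • (fun _ : N => (1 : ℂ)) : N → ℂ) x = 0 := by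
    intro x hx
    simp [hθT x hx]
  have hmconj : conj (classInner θ (fun _ => (1 : ℂ))) = classInner θ (fun _ => (1 : ℂ)) := by
    rw [classInner_irr hθ honeHirr]; split_ifs <;> simp
  have hθθ : classInner θ θ = 1 := by rw [classInner_irr hθ hθ, if_pos rfl]
  have h1θ : classInner (fun _ => (1 : ℂ)) θ = classInner θ (fun _ => (1 : ℂ)) := by
    rw [← classInner_conj_symm, hmconj]
  have h11H : classInner (fun _ : N => (1 : ℂ)) (fun _ => (1 : ℂ)) = 1 := by
    rw [classInner_irr honeHirr honeHirr, if_pos rfl]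
  have h11G : classInner (fun _ : G => (1 : ℂ)) (fun _ => (1 : ℂ)) = 1 := by
    rw [classInner_irr honeGirr honeGirr, if_pos rfl]
  have hαα : classInner (θ - (θ 1) • (fun _ => (1 : ℂ))) (θ - (θ 1) • (fun _ => (1 : ℂ))) =
      1 - θ 1 * classInner θ (fun _ => (1 : ℂ)) - θ 1 * classInner θ (fun _ => (1 : ℂ))
        + θ 1 * θ 1 := by
    rw [classInner_sub_left, classInner_sub_right, classInner_sub_right, classInner_smul_left,
      classInner_smul_left, classInner_smul_right, classInner_smul_right, hθθ, h1θ, h11H, hdconj]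
    ring
  have hα1' : classInner (θ - (θ 1) • (fun _ => (1 : ℂ))) (fun _ => (1 : ℂ)) =
      classInner θ (fun _ => (1 : ℂ)) - θ 1 := by
    rw [classInner_sub_left, classInner_smul_left, h11H]; ring
  have hII : classInner (indFun N (θ - (θ 1) • (fun _ => (1 : ℂ))))
      (indFun N (θ - (θ 1) • (fun _ => (1 : ℂ)))) =
      classInner (θ - (θ 1) • (fun _ => (1 : ℂ))) (θ - (θ 1) • (fun _ => (1 : ℂ))) :=
    classInner_indFun_indFun_ti T N hTI _ _ hαcf hαT hαT hα1
  have hI1 : classInner (indFun N (θ - (θ 1) • (fun _ => (1 : ℂ)))) (fun _ : G => (1 : ℂ)) =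
      classInner θ (fun _ => (1 : ℂ)) - θ 1 := by
    rw [classInner_indFun_left' N _ _ (isClassFunction_of_isIrrCharacter honeGirr)]
    exact hα1'
  have h1I : classInner (fun _ : G => (1 : ℂ)) (indFun N (θ - (θ 1) • (fun _ => (1 : ℂ)))) =
      classInner θ (fun _ => (1 : ℂ)) - θ 1 := by
    rw [← classInner_conj_symm, hI1, map_sub, hmconj, hdconj]
  have hgen : IsGeneralizedCharacter G (frobStar N θ) := by
    unfold frobStar
    apply isGeneralizedCharacter_add
    · apply isGeneralizedCharacter_indFun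
      apply isGeneralizedCharacter_sub
        (isGeneralizedCharacter_of_isCharacter (isCharacter_of_isIrrCharacter hθ))
      rw [hn, Nat.cast_smul_eq_nsmul]
      exact isGeneralizedCharacter_nsmul
        (isGeneralizedCharacter_of_isCharacter (isCharacter_of_isIrrCharacter honeHirr)) n
    · rw [hn, Nat.cast_smul_eq_nsmul]
      exact isGeneralizedCharacter_nsmul
        (isGeneralizedCharacter_of_isCharacter (isCharacter_of_isIrrCharacter honeGirr)) n
  apply isIrrCharacter_of_norm_one hgen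
  · unfold frobStar
    rw [classInner_add_left, classInner_add_right, classInner_add_right, classInner_smul_left,
      classInner_smul_left, classInner_smul_right, classInner_smul_right, hII, hαα, hI1, h1I, h11G,
      hdconj]
    ring
  · rw [frobStar_one, hn]
    simpa using hnpos

theorem frobStar_apply_of_mem_ti (N : Subgroup G) (T : Set G)
    (hTI : ∀ g : G, g ∉ N → ∀ t ∈ T, g * t * g⁻¹ ∈ T → t = 1)
    {ξ : N → ℂ} (hξ : IsClassFunction N ξ) (hξT : ∀ x : N, (x : G) ∉ T → ξ x = ξ 1)
    (t : N) (ht : (t : G) ∈ T) (ht1 : t ≠ 1) : frobStar N ξ t = ξ t := by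
  have hαcf : IsClassFunction N (ξ - (ξ 1) • (fun _ => (1 : ℂ))) := by
    intro g k
    simp only [Pi.sub_apply, Pi.smul_apply, hξ g k]
  have hαT : ∀ x : N, (x : G) ∉ T → (ξ - (ξ 1) • (fun _ : N => (1 : ℂ)) : N → ℂ) x = 0 := by
    intro x hx
    simp [hξT x hx]
  have h := indFun_eq_on_ti T N hTI _ hαcf hαT t ht ht1
  unfold frobStar
  rw [Pi.add_apply, h]
  simp

theorem frobStar_apply_of_not_conj_ti (N : Subgroup G) (T : Set G) {ξ : N → ℂ}
    (hξT : ∀ x : N, (x : G) ∉ T → ξ x = ξ 1) (x : G) (hx : ∀ g : G, g⁻¹ * x * g ∉ T) :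
    frobStar N ξ x = ξ 1 := by
  have hαT : ∀ x : N, (x : G) ∉ T → (ξ - (ξ 1) • (fun _ : N => (1 : ℂ)) : N → ℂ) x = 0 := by
    intro x hx
    simp [hξT x hx]
  unfold frobStar
  rw [Pi.add_apply, indFun_eq_zero_of_not_conj_T N T _ hαT x hx]
  simp

/-- double counting: the set of elements conjugate into an `N`-invariant set `c` -/
theorem card_conj_mul_le (N : Subgroup G) (c : G → Prop) [DecidablePred c]
    (hc : ∀ t n : G, n ∈ N → c t → c (n⁻¹ * t * n))
    (S : Finset G) (hS : ∀ x ∈ S, ∃ g : G, c (g⁻¹ * x * g)) :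
    S.card * Nat.card N ≤ Fintype.card G * (Finset.univ.filter c).card := by
  classical
  have h1 : ∀ x ∈ S, Nat.card N ≤ (Finset.univ.filter (fun g : G => c (g⁻¹ * x * g))).card := by
    intro x hx
    obtain ⟨g₀, hg₀⟩ := hS x hx
    rw [← FTLemma.card_filter_mem N]
    apply Finset.card_le_card_of_injOn (fun n => g₀ * n)
    · intro n hn
      simp only [Finset.mem_coe, Finset.mem_filter, Finset.mem_univ, true_and] at hn ⊢
      have e : (g₀ * n)⁻¹ * x * (g₀ * n) = n⁻¹ * (g₀⁻¹ * x * g₀) * n := by group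
      rw [e]
      exact hc _ n hn hg₀
    · intro a _ b _ hab
      exact mul_left_cancel (show g₀ * a = g₀ * b from hab)
  have h2 : S.card * Nat.card N ≤
      ∑ x ∈ S, (Finset.univ.filter (fun g : G => c (g⁻¹ * x * g))).card := by
    have := Finset.card_nsmul_le_sum S
      (fun x => (Finset.univ.filter (fun g : G => c (g⁻¹ * x * g))).card) (Nat.card N) h1
    simpa [smul_eq_mul] using this
  have h3 : ∑ x ∈ S, (Finset.univ.filter (fun g : G => c (g⁻¹ * x * g))).card ≤
      ∑ x : G, (Finset.univ.filter (fun g : G => c (g⁻¹ * x * g))).card :=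
    Finset.sum_le_sum_of_subset (Finset.subset_univ S)
  have h4 : ∑ x : G, (Finset.univ.filter (fun g : G => c (g⁻¹ * x * g))).card =
      ∑ g : G, (Finset.univ.filter (fun x : G => c (g⁻¹ * x * g))).card := by
    simp_rw [Finset.card_filter]
    exact Finset.sum_comm
  have h5 : ∀ g : G, (Finset.univ.filter (fun x : G => c (g⁻¹ * x * g))).card =
      (Finset.univ.filter c).card := by
    intro g
    apply Finset.card_bij (fun x _ => g⁻¹ * x * g)
    · intro x hx
      simp only [Finset.mem_filter, Finset.mem_univ, true_and] at hx ⊢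
      exact hx
    · intro a _ b _ hab
      have hab' : g⁻¹ * a * g = g⁻¹ * b * g := hab
      have ha : a = g * (g⁻¹ * a * g) * g⁻¹ := by group
      have hb : b = g * (g⁻¹ * b * g) * g⁻¹ := by group
      rw [ha, hb, hab']
    · intro t ht
      simp only [Finset.mem_filter, Finset.mem_univ, true_and] at ht
      refine ⟨g * t * g⁻¹, ?_, ?_⟩
      · simp only [Finset.mem_filter, Finset.mem_univ, true_and]
        have e : g⁻¹ * (g * t * g⁻¹) * g = t := by group
        rw [e]
        exact ht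
      · group
  rw [h4] at h3
  simp_rw [h5] at h3
  rw [Finset.sum_const, Finset.card_univ, smul_eq_mul] at h3
  exact h2.trans h3

/-- **Existence of the normal complement** -/
theorem exists_normal_complement {H K₀ : Subgroup G} (hyp : Hyp H K₀) :
    ∃ M : Subgroup G, M.Normal ∧ M.IsComplement' H ∧
      ∀ x : G, x ∉ M → ∃ g : G, g⁻¹ * x * g ∈ Subgroup.normalizer (H : Set G) ∧
        g⁻¹ * x * g ∉ K₀ := by
  classical
  have : Fintype ↥H := Fintype.ofFinite _
  obtain ⟨N, hNdef⟩ : ∃ N : Subgroup G, N = Subgroup.normalizer (H : Set G) := ⟨_, rfl⟩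
  obtain ⟨T, hTdef⟩ : ∃ T : Set G, T = {t | t ∈ Subgroup.normalizer (H : Set G) ∧ t ∉ K₀} :=
    ⟨_, rfl⟩
  have hTmem : ∀ t : G, t ∈ T ↔ (t ∈ Subgroup.normalizer (H : Set G) ∧ t ∉ K₀) := by
    intro t
    rw [hTdef]
    rfl
  have hTI : ∀ g : G, g ∉ Subgroup.normalizer (H : Set G) → ∀ t ∈ T, g * t * g⁻¹ ∈ T → t = 1 := by
    intro g hg t ht hgt
    rw [hTmem] at ht hgt
    exact absurd hgt.1 (hyp.ti_T hg ht.1 ht.2)
  have hξirr : ∀ θ : IrrCharacter ↥H,
      IsIrrCharacter ↥(Subgroup.normalizer (H : Set G)) ((θ : ↥H → ℂ) ∘ hyp.proj) := fun θ =>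
    Cfsg.Agent.Lib.Helper4.isIrrCharacter_comp_of_surjective θ.2 hyp.proj hyp.proj_surjective
  have hξT : ∀ θ : IrrCharacter ↥H, ∀ x : ↥(Subgroup.normalizer (H : Set G)), (x : G) ∉ T →
      ((θ : ↥H → ℂ) ∘ hyp.proj) x = ((θ : ↥H → ℂ) ∘ hyp.proj) 1 := by
    intro θ x hx
    have hxK : (x : G) ∈ K₀ := by
      by_contra hcon
      exact hx ((hTmem _).2 ⟨x.2, hcon⟩)
    simp only [Function.comp_apply]
    rw [hyp.proj_eq_one_of_mem x hxK, map_one]
  have key := fun θ : IrrCharacter ↥H =>
    isIrrCharacter_frobStar_ti (Subgroup.normalizer (H : Set G)) T hTI (hξirr θ) (hξT θ)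
  choose n ρ hirr hchar using key
  obtain ⟨M, hMdef⟩ : ∃ M : Subgroup G, M = ⨅ θ : IrrCharacter ↥H, (ρ θ).ker := ⟨_, rfl⟩
  have hMn : M.Normal := by
    rw [hMdef]
    exact Subgroup.normal_iInf_normal (fun θ => MonoidHom.normal_ker _)
  have hmem : ∀ (θ : IrrCharacter ↥H) (x : G), x ∈ (ρ θ).ker ↔
      frobStar (Subgroup.normalizer (H : Set G)) ((θ : ↥H → ℂ) ∘ hyp.proj) x =
        (θ : ↥H → ℂ) 1 := by
    intro θ x
    have h1 : (Module.finrank ℂ (Fin (n θ) → ℂ) : ℂ) = (θ : ↥H → ℂ) 1 := by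
      rw [← Representation.char_one (ρ θ), hchar θ, frobStar_one]
      simp only [Function.comp_apply, map_one]
    rw [MonoidHom.mem_ker, Module.End.one_eq_id,
      ← Cfsg.Agent.Lib.Helper4.character_eq_finrank_iff, hchar θ, h1]
  have hMmem : ∀ x : G, x ∈ M ↔ ∀ θ : IrrCharacter ↥H,
      frobStar (Subgroup.normalizer (H : Set G)) ((θ : ↥H → ℂ) ∘ hyp.proj) x =
        (θ : ↥H → ℂ) 1 := by
    intro x
    rw [hMdef, Subgroup.mem_iInf]
    exact forall_congr' (fun θ => hmem θ x)
  -- elements outside `M` are conjugate into `T`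
  have hA : ∀ x : G, x ∉ M → ∃ g : G, g⁻¹ * x * g ∈ Subgroup.normalizer (H : Set G) ∧
      g⁻¹ * x * g ∉ K₀ := by
    intro x hx
    by_contra hcon
    push Not at hcon
    apply hx
    rw [hMmem]
    intro θ
    rw [frobStar_apply_of_not_conj_ti (Subgroup.normalizer (H : Set G)) T (hξT θ) x
      (fun g hg => ((hTmem _).1 hg).2 (hcon g ((hTmem _).1 hg).1))]
    simp only [Function.comp_apply, map_one]
  -- `M ∩ H = 1`
  have hB : ∀ h : G, h ∈ H → h ∈ M → h = 1 := by
    intro h hh hM'
    by_contra h1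
    have hhN : h ∈ Subgroup.normalizer (H : Set G) := Subgroup.le_normalizer hh
    have hhK : h ∉ K₀ := fun hk => h1 (hyp.disj hk hh)
    have hne : (⟨h, hh⟩ : ↥H) ≠ 1 := fun e => h1 (congrArg Subtype.val e)
    obtain ⟨θ, hθ⟩ := exists_irr_ne_of_ne_one (⟨h, hh⟩ : ↥H) hne
    apply hθ
    have h2 := (hMmem h).1 hM' θ
    have htne : (⟨h, hhN⟩ : ↥(Subgroup.normalizer (H : Set G))) ≠ 1 :=
      fun e => h1 (congrArg Subtype.val e)
    have h3 := frobStar_apply_of_mem_ti (Subgroup.normalizer (H : Set G)) T hTI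
      (isClassFunction_of_isIrrCharacter (hξirr θ)) (hξT θ) ⟨h, hhN⟩
      ((hTmem _).2 ⟨hhN, hhK⟩) htne
    have h4 : hyp.proj ⟨h, hhN⟩ = ⟨h, hh⟩ := Subtype.ext (hyp.proj_coe_of_mem ⟨h, hhN⟩ hh)
    have h5 : frobStar (Subgroup.normalizer (H : Set G)) ((θ : ↥H → ℂ) ∘ hyp.proj) h =
        (θ : ↥H → ℂ) ⟨h, hh⟩ := by
      have h6 := h3
      simp only [Function.comp_apply, h4] at h6
      exact h6
    rw [← h2]
    exact h5.symm
  have hdisj : Disjoint M H := by
    rw [Subgroup.disjoint_def]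
    intro x hxM hxH
    exact hB x hxH hxM
  have hle2 : Nat.card M * Nat.card H ≤ Nat.card G := by
    rw [← Nat.card_prod]
    exact Nat.card_le_card_of_injective _ (Subgroup.mul_injective_of_disjoint hdisj)
  -- counting
  have hcount := card_conj_mul_le (Subgroup.normalizer (H : Set G))
    (fun t => t ∈ Subgroup.normalizer (H : Set G) ∧ t ∉ K₀)
    (by
      intro t n hn ht
      refine ⟨Subgroup.mul_mem _ (Subgroup.mul_mem _ (Subgroup.inv_mem _ hn) ht.1) hn, ?_⟩
      intro hk
      apply ht.2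
      have h1 := hyp.conj_mem_K hn hk
      have e : n * (n⁻¹ * t * n) * n⁻¹ = t := by group
      rw [e] at h1
      exact h1)
    (Finset.univ.filter (fun x : G => x ∉ M))
    (by
      intro x hx
      simp only [Finset.mem_filter, Finset.mem_univ, true_and] at hx
      exact hA x hx)
  have hTcard : (Finset.univ.filter
      (fun t : G => t ∈ Subgroup.normalizer (H : Set G) ∧ t ∉ K₀)).card + Nat.card K₀ =
      Nat.card (Subgroup.normalizer (H : Set G)) := by
    have h1 := Finset.card_filter_add_card_filter_not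
      (s := Finset.univ.filter (fun g : G => g ∈ Subgroup.normalizer (H : Set G)))
      (fun g : G => g ∈ K₀)
    rw [Finset.filter_filter, Finset.filter_filter, FTLemma.card_filter_mem] at h1
    have e1 : Finset.univ.filter (fun g : G => g ∈ Subgroup.normalizer (H : Set G) ∧ g ∈ K₀) =
        Finset.univ.filter (fun g : G => g ∈ K₀) := by
      apply Finset.filter_congr
      intro g _
      exact ⟨fun h => h.2, fun h => ⟨hyp.le h, h⟩⟩
    rw [e1, FTLemma.card_filter_mem] at h1
    omega
  have hScard : (Finset.univ.filter (fun x : G => x ∉ M)).card + Nat.card M = Nat.card G := by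
    have h1 := Finset.card_filter_add_card_filter_not (s := (Finset.univ : Finset G))
      (fun g : G => g ∈ M)
    rw [FTLemma.card_filter_mem, Finset.card_univ, ← Nat.card_eq_fintype_card] at h1
    omega
  have hge : Nat.card G ≤ Nat.card M * Nat.card H := by
    rw [← Nat.card_eq_fintype_card] at hcount
    have hcard := hyp.card
    have hkpos : 0 < Nat.card K₀ := Nat.card_pos
    set s := (Finset.univ.filter (fun x : G => x ∉ M)).card with hs
    set τ := (Finset.univ.filter
      (fun t : G => t ∈ Subgroup.normalizer (H : Set G) ∧ t ∉ K₀)).card with hτ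
    set k := Nat.card K₀ with hk
    set h := Nat.card H with hh
    set m := Nat.card M with hm
    set γ := Nat.card G with hγ
    rw [← hcard] at hcount hTcard
    have e1 : γ * (k * h) = γ * τ + γ * k := by rw [← hTcard]; ring
    have e2 : γ * (k * h) = s * (k * h) + m * (k * h) := by rw [← hScard]; ring
    have e3 : γ * k ≤ (m * h) * k := by
      have : (m * h) * k = m * (k * h) := by ring
      rw [this]
      linarith
    exact Nat.le_of_mul_le_mul_right e3 hkpos
  exact ⟨M, hMn, Subgroup.isComplement'_of_card_mul_and_disjoint (le_antisymm hle2 hge) hdisj, hA⟩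

end Chars

end Cfsg.Agent.Lib.Helper26.TIH
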