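import Mathlib
import Cfsg.Prelude.Def_OddOrderLocal
import Cfsg.Prelude.Def_Solvable
import Cfsg.Agent.Lib.Helper26.TIHA

set_option autoImplicit false
set_option linter.unusedSectionVars false
set_option linter.unusedVariables false

/-!
# TI Hall subgroups with a normal complement in the normalizer, III: the Frobenius complement
(helper26)

* `exists_eq_top_of_partition`: a finite group partitioned by a conjugation-stable family of
  self-normalizing TI-subgroups equals one of them.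
* `Hyp2.conj_subgroup`: subgroups of order `|H|` are conjugate into `H`.
* `Hyp2.exists_invariant_sylow`: `H`-invariant Sylow subgroups of the normal complement.
* `Hyp2.final`: `H` is isomorphic to a Frobenius complement.
-/

namespace Cfsg.Agent.Lib.Helper26.TIH

open Cfsg
open scoped Pointwise

universe u

section Partition
open scoped Classical
variable {A : Type*} [Group A] [Fintype A]

/-- the nonidentity elements conjugate into `D` -/
noncomputable def conjSet (D : Subgroup A) : Finset A :=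
  Finset.univ.filter (fun x : A => x ≠ 1 ∧ ∃ a : A, a⁻¹ * x * a ∈ D)

theorem mem_conjSet (D : Subgroup A) (x : A) :
    x ∈ conjSet D ↔ (x ≠ 1 ∧ ∃ a : A, a⁻¹ * x * a ∈ D) := by
  unfold conjSet
  simp only [Finset.mem_filter, Finset.mem_univ, true_and]

theorem card_conjSet (D : Subgroup A)
    (hD3 : ∀ a x : A, x ∈ D → x ≠ 1 → a * x * a⁻¹ ∈ D → a ∈ D) :
    (conjSet D).card * Nat.card D = Nat.card A * (Nat.card D - 1) := by
  obtain ⟨Df, hDf⟩ : ∃ Df : Finset A, Df = Finset.univ.filter (fun d : A => d ∈ D) := ⟨_, rfl⟩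
  have hDfcard : Df.card = Nat.card D := by
    rw [hDf]
    exact FTLemma.card_filter_mem D
  have hDfmem : ∀ d, d ∈ Df ↔ d ∈ D := by
    intro d
    rw [hDf]
    simp only [Finset.mem_filter, Finset.mem_univ, true_and]
  obtain ⟨s, hs⟩ : ∃ s : Finset (A × A), s = Finset.univ ×ˢ (Df.erase 1) := ⟨_, rfl⟩
  have hscard : s.card = Nat.card A * (Nat.card D - 1) := by
    rw [hs, Finset.card_product, Finset.card_univ,
      Finset.card_erase_of_mem ((hDfmem 1).2 (one_mem D)), hDfcard,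
      Nat.card_eq_fintype_card (α := A)]
  have hsmem : ∀ p : A × A, p ∈ s ↔ (p.2 ≠ 1 ∧ p.2 ∈ D) := by
    intro p
    rw [hs, Finset.mem_product, Finset.mem_erase, hDfmem]
    simp
  have hmaps : ∀ p ∈ s, p.1 * p.2 * p.1⁻¹ ∈ conjSet D := by
    intro p hp
    rw [hsmem] at hp
    rw [mem_conjSet]
    refine ⟨?_, p.1, ?_⟩
    · intro h
      apply hp.1
      have e : p.2 = p.1⁻¹ * (p.1 * p.2 * p.1⁻¹) * p.1 := by group
      rw [e, h]
      group
    · have e : p.1⁻¹ * (p.1 * p.2 * p.1⁻¹) * p.1 = p.2 := by group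
      rw [e]
      exact hp.2
  have hfib : ∀ b ∈ conjSet D,
      (s.filter (fun p : A × A => p.1 * p.2 * p.1⁻¹ = b)).card = Nat.card D := by
    intro b hb
    rw [mem_conjSet] at hb
    obtain ⟨hb1, a₀, ha₀⟩ := hb
    have hd₀ : a₀⁻¹ * b * a₀ ≠ 1 := by
      intro h
      apply hb1
      have e : b = a₀ * (a₀⁻¹ * b * a₀) * a₀⁻¹ := by group
      rw [e, h]
      group
    rw [← hDfcard]
    apply Finset.card_bij (fun p _ => a₀⁻¹ * p.1)
    · intro p hp
      rw [Finset.mem_filter, hsmem] at hp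
      obtain ⟨⟨hp1, hp2⟩, hp3⟩ := hp
      rw [hDfmem]
      apply hD3 (a₀⁻¹ * p.1) p.2 hp2 hp1
      have e : a₀⁻¹ * p.1 * p.2 * (a₀⁻¹ * p.1)⁻¹ = a₀⁻¹ * (p.1 * p.2 * p.1⁻¹) * a₀ := by group
      rw [e, hp3]
      exact ha₀
    · intro p hp p' hp' hpp
      rw [Finset.mem_filter] at hp hp'
      have h1 : p.1 = p'.1 := mul_left_cancel (show a₀⁻¹ * p.1 = a₀⁻¹ * p'.1 from hpp)
      have h2 : p.2 = p'.2 := by
        have e : p.2 = p.1⁻¹ * (p.1 * p.2 * p.1⁻¹) * p.1 := by group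
        have e' : p'.2 = p'.1⁻¹ * (p'.1 * p'.2 * p'.1⁻¹) * p'.1 := by group
        rw [e, e', hp.2, hp'.2, h1]
      exact Prod.ext h1 h2
    · intro e he
      rw [hDfmem] at he
      refine ⟨(a₀ * e, e⁻¹ * (a₀⁻¹ * b * a₀) * e), ?_, ?_⟩
      · rw [Finset.mem_filter, hsmem]
        refine ⟨⟨?_, ?_⟩, ?_⟩
        · intro h
          apply hd₀
          have e2 : a₀⁻¹ * b * a₀ = e * (e⁻¹ * (a₀⁻¹ * b * a₀) * e) * e⁻¹ := by group
          rw [e2]
          have h' : e⁻¹ * (a₀⁻¹ * b * a₀) * e = 1 := h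
          rw [h']
          group
        · exact D.mul_mem (D.mul_mem (D.inv_mem he) ha₀) he
        · show a₀ * e * (e⁻¹ * (a₀⁻¹ * b * a₀) * e) * (a₀ * e)⁻¹ = b
          group
      · show a₀⁻¹ * (a₀ * e) = e
        group
  rw [← hscard, Finset.card_eq_sum_card_fiberwise (f := fun p : A × A => p.1 * p.2 * p.1⁻¹)
    (s := s) (t := conjSet D) (fun p hp => hmaps p hp)]
  rw [Finset.sum_congr rfl hfib, Finset.sum_const, smul_eq_mul]

theorem arith_aux {n d u : ℕ} (h : u * d = n * (d - 1)) (hd : 2 ≤ d) (hdn : d < n) :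
    n ≤ 2 * u ∧ u + 2 ≤ n := by
  obtain ⟨e, rfl⟩ : ∃ e, d = e + 2 := ⟨d - 2, by omega⟩
  have h' : u * (e + 2) = n * (e + 1) := by
    have : e + 2 - 1 = e + 1 := by omega
    rw [this] at h
    exact h
  constructor
  · have key : n * (e + 2) ≤ (2 * u) * (e + 2) := by
      calc n * (e + 2) ≤ n * (e + 2) + n * e := Nat.le_add_right _ _
        _ = 2 * (n * (e + 1)) := by ring
        _ = (2 * u) * (e + 2) := by rw [← h']; ring
    exact Nat.le_of_mul_le_mul_right key (by omega)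
  · by_contra hcon
    push Not at hcon
    have h1 : n ≤ u + 1 := by omega
    have h3 : n * (e + 2) ≤ (u + 1) * (e + 2) := Nat.mul_le_mul_right _ h1
    have h4 : (u + 1) * (e + 2) = n * (e + 1) + (e + 2) := by rw [← h']; ring
    have h5 : n * (e + 2) = n * (e + 1) + n := by ring
    omega

/-- A finite group covered by a conjugation-stable family of pairwise "disjoint-or-equal",
self-normalizing TI-subgroups coincides with one of them. -/
theorem exists_eq_top_of_partition {ι : Type*} (D : ι → Subgroup A)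
    (h0 : ∀ x : A, ∃ i, x ∈ D i)
    (h1 : ∀ i j (x : A), x ∈ D i → x ∈ D j → x ≠ 1 → D i = D j)
    (h2 : ∀ (a : A) i, ∃ j, ∀ z ∈ D i, a * z * a⁻¹ ∈ D j)
    (h3 : ∀ i (a x : A), x ∈ D i → x ≠ 1 → a * x * a⁻¹ ∈ D i → a ∈ D i) :
    ∃ i, D i = ⊤ := by
  by_contra hcon
  push Not at hcon
  have hnt : ∃ x : A, x ≠ 1 := by
    by_contra hall
    push Not at hall
    obtain ⟨i, _⟩ := h0 1
    apply hcon i
    rw [eq_top_iff]
    intro x _
    rw [hall x]
    exact one_mem _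
  obtain ⟨x₁, hx₁⟩ := hnt
  obtain ⟨i₁, hi₁⟩ := h0 x₁
  have hsub : ∀ i, conjSet (D i) ⊆ Finset.univ.erase 1 := by
    intro i x hx
    rw [mem_conjSet] at hx
    rw [Finset.mem_erase]
    exact ⟨hx.1, Finset.mem_univ _⟩
  have herase : (Finset.univ.erase (1 : A)).card = Nat.card A - 1 := by
    rw [Finset.card_erase_of_mem (Finset.mem_univ _), Finset.card_univ,
      Nat.card_eq_fintype_card (α := A)]
  have hc : ∀ i, (conjSet (D i)).card * Nat.card (D i) = Nat.card A * (Nat.card (D i) - 1) :=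
    fun i => card_conjSet (D i) (h3 i)
  have hdlt : ∀ i, Nat.card (D i) < Nat.card A := by
    intro i
    have hle : Nat.card (D i) ≤ Nat.card A := Subgroup.card_le_card_group (D i)
    rcases Nat.lt_or_ge (Nat.card (D i)) (Nat.card A) with h | h
    · exact h
    · exact absurd (Subgroup.eq_top_of_card_eq (D i) (le_antisymm hle h)) (hcon i)
  have hd2 : ∀ i (x : A), x ∈ D i → x ≠ 1 → 2 ≤ Nat.card (D i) := by
    intro i x hx hx1
    have hne : D i ≠ ⊥ := by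
      intro h
      rw [h, Subgroup.mem_bot] at hx
      exact hx1 hx
    exact (Subgroup.one_lt_card_iff_ne_bot (D i)).2 hne
  obtain ⟨hL1, hU1⟩ := arith_aux (hc i₁) (hd2 i₁ x₁ hi₁ hx₁) (hdlt i₁)
  have hex : ∃ x₂ : A, x₂ ≠ 1 ∧ x₂ ∉ conjSet (D i₁) := by
    by_contra hall
    push Not at hall
    have hss : Finset.univ.erase (1 : A) ⊆ conjSet (D i₁) := by
      intro x hx
      rw [Finset.mem_erase] at hx
      exact hall x hx.1
    have hle := Finset.card_le_card hss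
    rw [herase] at hle
    omega
  obtain ⟨x₂, hx₂, hx₂U⟩ := hex
  obtain ⟨i₂, hi₂⟩ := h0 x₂
  obtain ⟨hL2, _⟩ := arith_aux (hc i₂) (hd2 i₂ x₂ hi₂ hx₂) (hdlt i₂)
  have hdisj : Disjoint (conjSet (D i₁)) (conjSet (D i₂)) := by
    rw [Finset.disjoint_left]
    intro x hxa hxb
    rw [mem_conjSet] at hxa hxb
    obtain ⟨hx1, a, ha⟩ := hxa
    obtain ⟨_, b, hb⟩ := hxb
    apply hx₂U
    rw [mem_conjSet]
    obtain ⟨j', hj'⟩ := h2 (b⁻¹ * a)⁻¹ i₂
    have hy1 : a⁻¹ * x * a ≠ 1 := by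
      intro h
      apply hx1
      have e : x = a * (a⁻¹ * x * a) * a⁻¹ := by group
      rw [e, h]
      group
    have hyj : a⁻¹ * x * a ∈ D j' := by
      have h5 := hj' _ hb
      have e : (b⁻¹ * a)⁻¹ * (b⁻¹ * x * b) * (b⁻¹ * a)⁻¹⁻¹ = a⁻¹ * x * a := by group
      rw [e] at h5
      exact h5
    have hDeq : D j' = D i₁ := h1 j' i₁ _ hyj ha hy1
    refine ⟨hx₂, b⁻¹ * a, ?_⟩
    have h6 := hj' _ hi₂
    rw [hDeq, inv_inv] at h6
    exact h6
  have hunion : (conjSet (D i₁)).card + (conjSet (D i₂)).card ≤ Nat.card A - 1 := by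
    rw [← Finset.card_union_of_disjoint hdisj, ← herase]
    exact Finset.card_le_card (Finset.union_subset (hsub i₁) (hsub i₂))
  omega

end Partition

theorem mem_conj_smul_iff' {F : Type*} [Group F] (g z : F) (S : Subgroup F) :
    z ∈ MulAut.conj g • S ↔ g⁻¹ * z * g ∈ S := by
  rw [Subgroup.mem_pointwise_smul_iff_inv_smul_mem, MulAut.smul_def, ← map_inv,
    MulAut.conj_apply, inv_inv]

/-- a section `Hs Y / Y` in which `Hs` acts "Frobeniusly" gives a Frobenius complement -/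
theorem frobenius_of_section {S : Type*} [Group S] (Y Hs : Subgroup S) [hYn : Y.Normal]
    (ha : ∀ h ∈ Hs, h ∈ Y → h = 1) (hne : Hs ≠ ⊥)
    (hb : ∃ s : S, ∀ h ∈ Hs, h⁻¹ * s ∉ Y)
    (hc : ∀ (s h₁ h₂ : S), h₁ ∈ Hs → h₂ ∈ Hs → h₂ ≠ 1 → h₁⁻¹ * (s * h₂ * s⁻¹) ∈ Y →
      ∃ h ∈ Hs, h⁻¹ * s ∈ Y) :
    ∃ C : Subgroup (S ⧸ Y), IsFrobeniusComplement C ∧ Nonempty (Hs ≃* C) := by
  let φ : ↥Hs →* S ⧸ Y := (QuotientGroup.mk' Y).comp Hs.subtype
  have hφ : ∀ h : ↥Hs, φ h = ((h : S) : S ⧸ Y) := fun h => rfl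
  have hinj : Function.Injective φ := by
    rw [injective_iff_map_eq_one]
    intro h hh
    rw [hφ, QuotientGroup.eq_one_iff] at hh
    exact Subtype.ext (ha _ h.2 hh)
  refine ⟨φ.range, ⟨?_, ?_, ?_⟩, ⟨MonoidHom.ofInjective hinj⟩⟩
  · intro hbot
    apply hne
    rw [Subgroup.eq_bot_iff_forall]
    intro h hh
    have h1 : φ ⟨h, hh⟩ ∈ φ.range := ⟨_, rfl⟩
    rw [hbot, Subgroup.mem_bot] at h1
    have h2 := hinj (h1.trans (map_one φ).symm)
    exact congrArg Subtype.val h2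
  · intro htop
    obtain ⟨s, hs⟩ := hb
    have h1 : ((s : S) : S ⧸ Y) ∈ φ.range := by
      rw [htop]
      exact Subgroup.mem_top _
    obtain ⟨h, hh⟩ := h1
    rw [hφ, QuotientGroup.eq] at hh
    exact hs _ h.2 hh
  · intro f hf
    rw [eq_bot_iff]
    intro c hc'
    rw [Subgroup.mem_inf] at hc'
    obtain ⟨hc1, hc2⟩ := hc'
    rw [mem_conj_smul_iff'] at hc2
    rw [Subgroup.mem_bot]
    obtain ⟨k₁, rfl⟩ := hc1
    obtain ⟨k₂, e2⟩ := hc2
    obtain ⟨s, rfl⟩ := QuotientGroup.mk_surjective f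
    by_contra hne1
    have hk₁ : (k₁ : S) ≠ 1 := by
      intro h
      apply hne1
      have : k₁ = 1 := Subtype.ext h
      rw [this, map_one]
    apply hf
    have e3 : ((k₂ : S) : S ⧸ Y) = ((s⁻¹ * (k₁ : S) * s⁻¹⁻¹ : S) : S ⧸ Y) := by
      rw [← hφ k₂, e2, hφ k₁, inv_inv]
      rfl
    rw [QuotientGroup.eq] at e3
    obtain ⟨h, hh, hhs⟩ := hc s⁻¹ (k₂ : S) (k₁ : S) k₂.2 k₁.2 hk₁ e3
    rw [MonoidHom.mem_range]
    refine ⟨⟨h, hh⟩⁻¹, ?_⟩
    rw [hφ, QuotientGroup.eq]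
    have h5 : s * h ∈ Y := by
      have h7 := Y.inv_mem hhs
      have e : (h⁻¹ * s⁻¹)⁻¹ = s * h := by group
      rw [e] at h7
      exact h7
    have h6 : h * s ∈ Y := hYn.mem_comm h5
    simpa using h6

section Main
variable {G : Type u} [Group G] [Finite G]

/-- The full set of hypotheses: `N_G(H) = K₀ × H`, `H` TI Hall, `M` a normal complement of `H`
such that elements outside `M` are conjugate into `N ∖ K₀`. -/
structure Hyp2 (H K₀ M : Subgroup G) : Prop where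
  base : Hyp H K₀
  normal : M.Normal
  compl : M.IsComplement' H
  conj : ∀ x : G, x ∉ M → ∃ g : G, g⁻¹ * x * g ∈ Subgroup.normalizer (H : Set G) ∧
    g⁻¹ * x * g ∉ K₀

namespace Hyp2
variable {H K₀ M : Subgroup G}

theorem K_le_M (h2 : Hyp2 H K₀ M) : K₀ ≤ M := by
  intro k hk
  by_contra hkM
  obtain ⟨g, hgN, hgK⟩ := h2.conj k hkM
  by_cases hg : g ∈ Subgroup.normalizer (H : Set G)
  · apply hgK
    have h1 := h2.base.conj_mem_K (Subgroup.inv_mem _ hg) hk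
    rwa [inv_inv] at h1
  · have h1 := h2.base.ti_T hg hgN hgK
    apply h1
    have e : g * (g⁻¹ * k * g) * g⁻¹ = k := by group
    rw [e]
    exact h2.base.le hk

theorem disjMH (h2 : Hyp2 H K₀ M) {x : G} (hM : x ∈ M) (hH : x ∈ H) : x = 1 :=
  Subgroup.disjoint_def.1 h2.compl.disjoint hM hH

theorem mem_K_of_mem_M_N (h2 : Hyp2 H K₀ M) {x : G} (hM : x ∈ M)
    (hN : x ∈ Subgroup.normalizer (H : Set G)) : x ∈ K₀ := by
  obtain ⟨k, hk, h, hh, rfl⟩ := h2.base.decomp x hN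
  have hhM : h ∈ M := by
    have e : h = k⁻¹ * (k * h) := by group
    rw [e]
    exact Subgroup.mul_mem _ (Subgroup.inv_mem _ (h2.K_le_M hk)) hM
  rw [h2.disjMH hhM hh, mul_one]
  exact hk

theorem centralizer_le (h2 : Hyp2 H K₀ M) {x h : G} (hx : x ∈ M) (hh : h ∈ H) (h1 : h ≠ 1)
    (hc : x * h = h * x) : x ∈ K₀ := by
  apply h2.mem_K_of_mem_M_N hx
  by_contra hxN
  apply h1
  apply h2.base.ti x hxN h hh
  have e : x * h * x⁻¹ = h := by rw [hc, mul_inv_cancel_right]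
  rw [e]
  exact hh

theorem coprime (h2 : Hyp2 H K₀ M) : (Nat.card H).Coprime (Nat.card M) := by
  apply Nat.coprime_of_dvd
  intro p hp hpH hpM
  haveI : Fact p.Prime := ⟨hp⟩
  haveI := h2.normal
  obtain ⟨h', hh'⟩ := exists_prime_orderOf_dvd_card' p hpH
  have hord : orderOf (h' : G) = p := by
    rw [Subgroup.orderOf_coe]
    exact hh'
  have hne1 : (h' : G) ≠ 1 := by
    intro h
    rw [h, orderOf_one] at hord
    exact hp.one_lt.ne hord
  have hZH : Subgroup.zpowers (h' : G) ≤ H := by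
    rw [Subgroup.zpowers_le]
    exact h'.2
  have hZ : IsPGroup p ↥(Subgroup.zpowers (h' : G)) := by
    apply IsPGroup.of_card (n := 1)
    rw [Nat.card_zpowers, hord, pow_one]
  let φ : ↥(Subgroup.zpowers (h' : G)) →* MulAut ↥M :=
    (MulAut.conjNormal (H := M)).comp (Subgroup.zpowers (h' : G)).subtype
  letI : MulAction ↥(Subgroup.zpowers (h' : G)) ↥M := MulAction.compHom ↥M φ
  have hsmul : ∀ (z : ↥(Subgroup.zpowers (h' : G))) (m : ↥M),
      ((z • m : ↥M) : G) = (z : G) * (m : G) * (z : G)⁻¹ :=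
    fun z m => MulAut.conjNormal_apply (z : G) m
  have hmod := hZ.card_modEq_card_fixedPoints ↥M
  have hfix : ∀ m : ↥M, m ∈ MulAction.fixedPoints ↥(Subgroup.zpowers (h' : G)) ↥M ↔
      (m : G) ∈ K₀ := by
    intro m
    rw [MulAction.mem_fixedPoints]
    constructor
    · intro hz
      have h1 := hz ⟨(h' : G), Subgroup.mem_zpowers _⟩
      have h3 : (h' : G) * (m : G) * (h' : G)⁻¹ = (m : G) := by
        rw [← hsmul ⟨(h' : G), Subgroup.mem_zpowers _⟩ m, h1]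
      have h4 : (m : G) * (h' : G) = (h' : G) * (m : G) := (mul_inv_eq_iff_eq_mul.1 h3).symm
      exact h2.centralizer_le m.2 h'.2 hne1 h4
    · intro hk z
      apply Subtype.ext
      rw [hsmul]
      have hzH : (z : G) ∈ H := hZH z.2
      have hc : (m : G) * (z : G) = (z : G) * (m : G) := h2.base.comm _ hk _ hzH
      rw [← hc, mul_inv_cancel_right]
  have hcard : Nat.card (MulAction.fixedPoints ↥(Subgroup.zpowers (h' : G)) ↥M) =
      Nat.card K₀ := by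
    have hset : MulAction.fixedPoints ↥(Subgroup.zpowers (h' : G)) ↥M =
        ((K₀.subgroupOf M : Subgroup ↥M) : Set ↥M) := by
      ext m
      rw [hfix m, SetLike.mem_coe, Subgroup.mem_subgroupOf]
    rw [hset]
    exact Nat.card_congr (Subgroup.subgroupOfEquivOfLe h2.K_le_M).toEquiv
  rw [hcard] at hmod
  have hpK : p ∣ Nat.card K₀ := by
    have h1 : Nat.card ↥M ≡ 0 [MOD p] := (Nat.modEq_zero_iff_dvd).2 hpM
    exact (Nat.modEq_zero_iff_dvd).1 (hmod.symm.trans h1)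
  have h7 := Nat.dvd_gcd hpH hpK
  rw [show Nat.gcd (Nat.card H) (Nat.card K₀) = 1 from h2.base.cop] at h7
  exact hp.one_lt.ne' (Nat.dvd_one.1 h7)

theorem conj_into_H (h2 : Hyp2 H K₀ M) {x : G} (hx : x ^ Nat.card H = 1) :
    ∃ g : G, g⁻¹ * x * g ∈ H := by
  by_cases hxM : x ∈ M
  · have h1 : x = 1 := eq_one_of_pow_of_pow h2.coprime hx (pow_card_sub_eq_one M hxM)
    refine ⟨1, ?_⟩
    rw [h1]
    simp
  · obtain ⟨g, hgN, _⟩ := h2.conj x hxM
    refine ⟨g, h2.base.mem_H_of_pow hgN ?_⟩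
    have e : g⁻¹ * x * g = g⁻¹ * x * g⁻¹⁻¹ := by rw [inv_inv]
    rw [e, conj_pow, hx, mul_one, mul_inv_cancel]

/-- subgroups of order `|H|` are conjugate into `H` -/
theorem conj_subgroup (h2 : Hyp2 H K₀ M) (A : Subgroup G) (hA : Nat.card A = Nat.card H) :
    ∃ g : G, ∀ x : G, x ∈ A → g⁻¹ * x * g ∈ H := by
  classical
  haveI : Fintype ↥A := Fintype.ofFinite _
  have hpowA : ∀ a : G, a ∈ A → a ^ Nat.card H = 1 := by
    intro a ha
    rw [← hA]
    exact pow_card_sub_eq_one A ha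
  obtain ⟨D, hD⟩ : ∃ D : G → Subgroup ↥A, ∀ (g : G) (x : ↥A),
      x ∈ D g ↔ g⁻¹ * (x : G) * g ∈ H := by
    refine ⟨fun g => (H.map (MulAut.conj g).toMonoidHom).subgroupOf A, ?_⟩
    intro g x
    rw [Subgroup.mem_subgroupOf, FTLemma.mem_map_conj]
  have key : ∃ g, D g = ⊤ := by
    apply exists_eq_top_of_partition D
    · intro x
      obtain ⟨g, hg⟩ := h2.conj_into_H (hpowA x x.2)
      exact ⟨g, (hD g x).2 hg⟩
    · intro g g' x hx hx' hx1
      rw [hD] at hx hx'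
      have hxne : (x : G) ≠ 1 := fun h => hx1 (Subtype.ext h)
      ext z
      rw [hD, hD]
      exact h2.base.conj_iff hxne hx hx' z
    · intro a g
      refine ⟨(a : G) * g, fun z hz => ?_⟩
      rw [hD] at hz ⊢
      have e : ((a : G) * g)⁻¹ * ((a * z * a⁻¹ : ↥A) : G) * ((a : G) * g) =
          g⁻¹ * (z : G) * g := by
        rw [Subgroup.coe_mul, Subgroup.coe_mul, Subgroup.coe_inv]
        group
      rw [e]
      exact hz
    · intro g a x hx hx1 hax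
      rw [hD] at hx hax ⊢
      have hy1 : g⁻¹ * (x : G) * g ≠ 1 := by
        intro h
        apply hx1
        apply Subtype.ext
        have e : (x : G) = g * (g⁻¹ * (x : G) * g) * g⁻¹ := by group
        rw [e, h]
        simp
      have hconj : (g⁻¹ * (a : G) * g) * (g⁻¹ * (x : G) * g) * (g⁻¹ * (a : G) * g)⁻¹ ∈ H := by
        have e : (g⁻¹ * (a : G) * g) * (g⁻¹ * (x : G) * g) * (g⁻¹ * (a : G) * g)⁻¹ =
            g⁻¹ * ((a * x * a⁻¹ : ↥A) : G) * g := by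
          rw [Subgroup.coe_mul, Subgroup.coe_mul, Subgroup.coe_inv]
          group
        rw [e]
        exact hax
      have hnN : g⁻¹ * (a : G) * g ∈ Subgroup.normalizer (H : Set G) := by
        by_contra hn
        exact hy1 (h2.base.ti _ hn _ hx hconj)
      apply h2.base.mem_H_of_pow hnN
      have e : g⁻¹ * (a : G) * g = g⁻¹ * (a : G) * g⁻¹⁻¹ := by rw [inv_inv]
      rw [e, conj_pow, hpowA a a.2, mul_one, mul_inv_cancel]
  obtain ⟨g, hg⟩ := key
  refine ⟨g, fun x hx => ?_⟩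
  have h1 : (⟨x, hx⟩ : ↥A) ∈ D g := by
    rw [hg]
    exact Subgroup.mem_top _
  exact (hD g ⟨x, hx⟩).1 h1

/-- `H`-invariant Sylow subgroups of `M` -/
theorem exists_invariant_sylow (h2 : Hyp2 H K₀ M) (q : ℕ) [Fact q.Prime] :
    ∃ Q : Subgroup G, Q ≤ M ∧ Nat.card Q = q ^ (Nat.card M).factorization q ∧
      ∀ h ∈ H, ∀ y ∈ Q, h * y * h⁻¹ ∈ Q := by
  haveI := h2.normal
  obtain ⟨Q₁⟩ := (inferInstance : Nonempty (Sylow q ↥M))
  obtain ⟨Q', hQ'def⟩ : ∃ Q' : Subgroup G, Q' = (Q₁ : Subgroup ↥M).map M.subtype := ⟨_, rfl⟩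
  have hQ'M : Q' ≤ M := by
    rw [hQ'def]
    exact Subgroup.map_subtype_le _
  have hQ'card : Nat.card Q' = q ^ (Nat.card M).factorization q := by
    rw [hQ'def, Subgroup.card_map_of_injective (Subgroup.subtype_injective _)]
    exact Sylow.card_eq_multiplicity Q₁
  obtain ⟨L, hLdef⟩ : ∃ L : Subgroup G, L = Subgroup.normalizer (Q' : Set G) := ⟨_, rfl⟩
  have hfrat : L ⊔ M = ⊤ := by
    rw [hLdef, hQ'def]
    exact Sylow.normalizer_sup_eq_top Q₁
  have hidx : M.relIndex L = Nat.card H := by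
    have h1 : M.relIndex (L ⊔ M) = M.relIndex L := Subgroup.relIndex_sup_right L M
    rw [← h1, hfrat, Subgroup.relIndex_top_right]
    exact h2.compl.symm.index_eq_card
  haveI hDn : (M.subgroupOf L).Normal := h2.normal.subgroupOf L
  have hDcard : Nat.card (M.subgroupOf L) ∣ Nat.card M := by
    have e1 : M.subgroupOf L = (M ⊓ L).subgroupOf L := (Subgroup.inf_subgroupOf_right M L).symm
    rw [e1, Nat.card_congr (Subgroup.subgroupOfEquivOfLe (inf_le_right : M ⊓ L ≤ L)).toEquiv]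
    exact Subgroup.card_dvd_of_le inf_le_left
  have hcopD : (Nat.card (M.subgroupOf L)).Coprime (M.subgroupOf L).index := by
    have h1 : (M.subgroupOf L).index = Nat.card H := hidx
    rw [h1]
    exact Nat.Coprime.coprime_dvd_left hDcard h2.coprime.symm
  obtain ⟨A', hA'⟩ := Subgroup.exists_right_complement'_of_coprime hcopD
  have hA'card : Nat.card A' = Nat.card H := by
    rw [← hidx]
    exact hA'.symm.index_eq_card.symm
  obtain ⟨A, hAdef⟩ : ∃ A : Subgroup G, A = A'.map L.subtype := ⟨_, rfl⟩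
  have hAL : A ≤ L := by
    rw [hAdef]
    exact Subgroup.map_subtype_le _
  have hAcard : Nat.card A = Nat.card H := by
    rw [hAdef, Subgroup.card_map_of_injective (Subgroup.subtype_injective _)]
    exact hA'card
  obtain ⟨g, hg⟩ := h2.conj_subgroup A hAcard
  have hA2 : A.map (MulAut.conj g⁻¹).toMonoidHom = H := by
    apply Subgroup.eq_of_le_of_card_ge
    · intro x hx
      rw [FTLemma.mem_map_conj, inv_inv] at hx
      have h1 := hg _ hx
      have e : g⁻¹ * (g * x * g⁻¹) * g = x := by group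
      rw [e] at h1
      exact h1
    · rw [Subgroup.card_map_of_injective (MulAut.conj g⁻¹).injective, hAcard]
  have hconjA : ∀ h ∈ H, g * h * g⁻¹ ∈ A := by
    intro h hh
    rw [← hA2, FTLemma.mem_map_conj, inv_inv] at hh
    exact hh
  refine ⟨Q'.map (MulAut.conj g⁻¹).toMonoidHom, ?_, ?_, ?_⟩
  · intro y hy
    rw [FTLemma.mem_map_conj, inv_inv] at hy
    have h1 : g * y * g⁻¹ ∈ M := hQ'M hy
    have h3 := h2.normal.conj_mem _ h1 g⁻¹
    have e : g⁻¹ * (g * y * g⁻¹) * g⁻¹⁻¹ = y := by group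
    rw [e] at h3
    exact h3
  · rw [Subgroup.card_map_of_injective (MulAut.conj g⁻¹).injective]
    exact hQ'card
  · intro h hh y hy
    rw [FTLemma.mem_map_conj, inv_inv] at hy ⊢
    have hx : g * h * g⁻¹ ∈ Subgroup.normalizer (Q' : Set G) := by
      rw [← hLdef]
      exact hAL (hconjA h hh)
    have h1 := (Subgroup.mem_normalizer_iff.1 hx (g * y * g⁻¹)).1 hy
    have e : g * h * g⁻¹ * (g * y * g⁻¹) * (g * h * g⁻¹)⁻¹ = g * (h * y * h⁻¹) * g⁻¹ := by group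
    rw [e] at h1
    exact h1

theorem exists_q (h2 : Hyp2 H K₀ M) (hnn : ¬ H.Normal) :
    ∃ (q : ℕ) (Q : Subgroup G), q.Prime ∧ Q ≤ M ∧ IsPGroup q ↥Q ∧
      (∀ h ∈ H, ∀ y ∈ Q, h * y * h⁻¹ ∈ Q) ∧ ¬ Q ≤ K₀ := by
  by_contra hcon
  push Not at hcon
  apply hnn
  have hle : ∀ q : ℕ, q.Prime →
      (Nat.card M).factorization q ≤ (Nat.card K₀).factorization q := by
    intro q hq
    haveI : Fact q.Prime := ⟨hq⟩
    obtain ⟨Q, hQM, hQcard, hQinv⟩ := h2.exists_invariant_sylow q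
    have hQK : Q ≤ K₀ := hcon q Q hq hQM (IsPGroup.of_card hQcard) hQinv
    have hdvd : Nat.card Q ∣ Nat.card K₀ := Subgroup.card_dvd_of_le hQK
    rw [hQcard] at hdvd
    exact (Nat.Prime.pow_dvd_iff_le_factorization hq Nat.card_pos.ne').mp hdvd
  have hdvd : Nat.card M ∣ Nat.card K₀ :=
    (Nat.factorization_prime_le_iff_dvd Nat.card_pos.ne' Nat.card_pos.ne').mp hle
  have hKM : K₀ = M :=
    Subgroup.eq_of_le_of_card_ge h2.K_le_M (Nat.le_of_dvd Nat.card_pos hdvd)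
  rw [← Subgroup.normalizer_eq_top_iff, eq_top_iff]
  intro x _
  obtain ⟨⟨⟨m, hm⟩, ⟨h, hh⟩⟩, e⟩ := h2.compl.2 x
  have e' : m * h = x := e
  rw [← e']
  have hmK : m ∈ K₀ := by
    rw [hKM]
    exact hm
  exact Subgroup.mul_mem _ (h2.base.le hmK) (Subgroup.le_normalizer hh)

theorem trick (h2 : Hyp2 H K₀ M) {u x y : G} (hu : u ∈ H) (hy : y ∈ K₀)
    (hxy : u⁻¹ * x * u = y * x) : y = 1 := by
  have hc : Commute y u := h2.base.comm y hy u hu
  have hcy : ∀ j : ℕ, u⁻¹ * y ^ j * u = y ^ j := by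
    intro j
    rw [mul_assoc, (hc.pow_left j).eq, inv_mul_cancel_left]
  have hpow : ∀ j : ℕ, (u ^ j)⁻¹ * x * u ^ j = y ^ j * x := by
    intro j
    induction j with
    | zero => simp
    | succ j ih =>
      calc (u ^ (j + 1))⁻¹ * x * u ^ (j + 1) = u⁻¹ * ((u ^ j)⁻¹ * x * u ^ j) * u := by
            rw [pow_succ]
            group
        _ = u⁻¹ * (y ^ j * x) * u := by rw [ih]
        _ = (u⁻¹ * y ^ j * u) * (u⁻¹ * x * u) := by group
        _ = y ^ j * (y * x) := by rw [hcy j, hxy]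
        _ = y ^ (j + 1) * x := by rw [pow_succ, mul_assoc]
  have h1 := hpow (Nat.card H)
  rw [h2.base.powH hu, inv_one, one_mul, mul_one] at h1
  have h3 : y ^ Nat.card H = 1 := by
    have h4 : (1 : G) * x = y ^ Nat.card H * x := by
      rw [one_mul]
      exact h1
    exact (mul_right_cancel h4).symm
  exact eq_one_of_pow_of_pow h2.base.cop h3 (h2.base.powK hy)

theorem section_ti (h2 : Hyp2 H K₀ M) {Q : Subgroup G} (hQM : Q ≤ M)
    (hQinv : ∀ h ∈ H, ∀ y ∈ Q, h * y * h⁻¹ ∈ Q) {s h₁ h₂ : G} (hs : s ∈ Q ⊔ H)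
    (hh₁ : h₁ ∈ H) (hh₂ : h₂ ∈ H) (hne : h₂ ≠ 1) (hy : h₁⁻¹ * (s * h₂ * s⁻¹) ∈ Q ⊓ K₀) :
    ∃ h ∈ H, h⁻¹ * s ∈ Q ⊓ K₀ := by
  haveI := h2.normal
  have hHQ : H ≤ Subgroup.normalizer (Q : Set G) := Subgroup.le_normalizer_iff.2 hQinv
  have hs' : s ∈ ((Q ⊔ H : Subgroup G) : Set G) := hs
  rw [Subgroup.coe_mul_of_right_le_normalizer_left Q H hHQ, Set.mem_mul] at hs'
  obtain ⟨x, hx, h₀, hh₀, rfl⟩ := hs'
  have hx : x ∈ Q := hx
  have hh₀ : h₀ ∈ H := hh₀
  have hxM : x ∈ M := hQM hx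
  obtain ⟨u, hudef⟩ : ∃ u : G, u = h₀ * h₂ * h₀⁻¹ := ⟨_, rfl⟩
  have huH : u ∈ H := by
    rw [hudef]
    exact H.mul_mem (H.mul_mem hh₀ hh₂) (H.inv_mem hh₀)
  have hu1 : u ≠ 1 := by
    intro h
    apply hne
    have e : h₂ = h₀⁻¹ * u * h₀ := by
      rw [hudef]
      group
    rw [e, h]
    group
  have hyy : h₁⁻¹ * (x * u * x⁻¹) ∈ Q ⊓ K₀ := by
    have e : h₁⁻¹ * (x * u * x⁻¹) = h₁⁻¹ * (x * h₀ * h₂ * (x * h₀)⁻¹) := by
      rw [hudef]
      group
    rw [e]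
    exact hy
  have hyyM : h₁⁻¹ * (x * u * x⁻¹) ∈ M := h2.K_le_M (Subgroup.mem_inf.1 hyy).2
  have hu_eq : h₁ = u := by
    have h3 : h₁⁻¹ * u ∈ M := by
      have e : h₁⁻¹ * u = (h₁⁻¹ * (x * u * x⁻¹)) * x * (u⁻¹ * x⁻¹ * u⁻¹⁻¹) := by group
      rw [e]
      exact M.mul_mem (M.mul_mem hyyM hxM) (h2.normal.conj_mem _ (M.inv_mem hxM) u⁻¹)
    have h4 : h₁⁻¹ * u ∈ H := H.mul_mem (H.inv_mem hh₁) huH
    have h5 := h2.disjMH h3 h4
    exact inv_mul_eq_one.1 h5
  rw [hu_eq] at hyy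
  have hyK : u⁻¹ * (x * u * x⁻¹) ∈ K₀ := (Subgroup.mem_inf.1 hyy).2
  have hxy : u⁻¹ * x * u = (u⁻¹ * (x * u * x⁻¹)) * x := by group
  have hy1 := h2.trick huH hyK hxy
  have hcomm : x * u = u * x := by
    have e : x * u = u * (u⁻¹ * (x * u * x⁻¹)) * x := by group
    rw [e, hy1, mul_one]
  have hxK : x ∈ K₀ := h2.centralizer_le hxM huH hu1 hcomm
  refine ⟨h₀, hh₀, ?_⟩
  have hc : x * h₀ = h₀ * x := h2.base.comm x hxK h₀ hh₀
  rw [hc, inv_mul_cancel_left]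
  exact Subgroup.mem_inf.2 ⟨hx, hxK⟩

/-- **The Frobenius complement.** -/
theorem final (h2 : Hyp2 H K₀ M) (hnn : ¬ H.Normal) :
    ∃ (F : Type u) (_ : Group F) (_ : Finite F) (C : Subgroup F),
      IsFrobeniusComplement C ∧ Nonempty (H ≃* C) := by
  obtain ⟨q, Q, hq, hQM, hQp, hQinv, hQK⟩ := h2.exists_q hnn
  haveI : Fact q.Prime := ⟨hq⟩
  haveI := h2.normal
  have hx₀ : ∃ x₀ : G, x₀ ∈ Q ∧ x₀ ∉ K₀ ∧
      x₀ ∈ Subgroup.normalizer ((Q ⊓ K₀ : Subgroup G) : Set G) := by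
    haveI : Group.IsNilpotent ↥Q := hQp.isNilpotent
    have hlt : (Q ⊓ K₀).subgroupOf Q < ⊤ := by
      rw [lt_top_iff_ne_top]
      intro h
      rw [Subgroup.subgroupOf_eq_top] at h
      exact hQK (h.trans inf_le_right)
    have hnc := normalizerCondition_of_isNilpotent ((Q ⊓ K₀).subgroupOf Q) hlt
    obtain ⟨x, hxn, hxY⟩ := SetLike.exists_of_lt hnc
    rw [← Subgroup.subgroupOf_normalizer_eq (inf_le_left : Q ⊓ K₀ ≤ Q),
      Subgroup.mem_subgroupOf] at hxn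
    refine ⟨(x : G), x.2, ?_, hxn⟩
    intro hk
    apply hxY
    rw [Subgroup.mem_subgroupOf]
    exact Subgroup.mem_inf.2 ⟨x.2, hk⟩
  obtain ⟨x₀, hx₀Q, hx₀K, hx₀N⟩ := hx₀
  have hHnY : H ≤ Subgroup.normalizer ((Q ⊓ K₀ : Subgroup G) : Set G) := by
    rw [Subgroup.le_normalizer_iff]
    intro h hh y hy
    have hyK : y ∈ K₀ := (Subgroup.mem_inf.1 hy).2
    have hc : y * h = h * y := h2.base.comm y hyK h hh
    rw [← hc, mul_inv_cancel_right]
    exact hy
  obtain ⟨S, hSdef⟩ : ∃ S : Subgroup G,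
      S = (Q ⊔ H) ⊓ Subgroup.normalizer ((Q ⊓ K₀ : Subgroup G) : Set G) := ⟨_, rfl⟩
  have hHS : H ≤ S := by
    rw [hSdef]
    exact le_inf le_sup_right hHnY
  have hYS : Q ⊓ K₀ ≤ S := by
    rw [hSdef]
    exact le_inf (inf_le_left.trans le_sup_left) Subgroup.le_normalizer
  have hSQH : S ≤ Q ⊔ H := by
    rw [hSdef]
    exact inf_le_left
  have hSN : S ≤ Subgroup.normalizer ((Q ⊓ K₀ : Subgroup G) : Set G) := by
    rw [hSdef]
    exact inf_le_right
  have hYn : ((Q ⊓ K₀).subgroupOf S).Normal :=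
    (Subgroup.normal_subgroupOf_iff_le_normalizer hYS).2 hSN
  have hx₀S : x₀ ∈ S := by
    rw [hSdef]
    exact Subgroup.mem_inf.2 ⟨Subgroup.mem_sup_left hx₀Q, hx₀N⟩
  haveI := hYn
  have ha : ∀ h ∈ H.subgroupOf S, h ∈ (Q ⊓ K₀).subgroupOf S → h = 1 := by
    intro h hh hy
    rw [Subgroup.mem_subgroupOf] at hh hy
    apply Subtype.ext
    rw [Subgroup.coe_one]
    exact h2.disjMH (h2.K_le_M (Subgroup.mem_inf.1 hy).2) hh
  have hHne : ∃ h ∈ H, h ≠ 1 := by
    by_contra hcon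
    push Not at hcon
    apply hnn
    have hbot : H = ⊥ := (Subgroup.eq_bot_iff_forall H).2 hcon
    rw [hbot]
    infer_instance
  have hne : H.subgroupOf S ≠ ⊥ := by
    obtain ⟨h, hh, h1⟩ := hHne
    intro hbot
    apply h1
    have h3 : (⟨h, hHS hh⟩ : ↥S) ∈ H.subgroupOf S := Subgroup.mem_subgroupOf.2 hh
    rw [hbot, Subgroup.mem_bot] at h3
    exact congrArg Subtype.val h3
  have hb : ∃ s : ↥S, ∀ h ∈ H.subgroupOf S, h⁻¹ * s ∉ (Q ⊓ K₀).subgroupOf S := by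
    refine ⟨⟨x₀, hx₀S⟩, ?_⟩
    intro h hh hy
    rw [Subgroup.mem_subgroupOf] at hh hy
    rw [Subgroup.coe_mul, Subgroup.coe_inv] at hy
    have hyK : (h : G)⁻¹ * x₀ ∈ K₀ := (Subgroup.mem_inf.1 hy).2
    have hyM : (h : G)⁻¹ * x₀ ∈ M := h2.K_le_M hyK
    have hx₀M : x₀ ∈ M := hQM hx₀Q
    have hhM : (h : G)⁻¹ ∈ M := by
      have e : (h : G)⁻¹ = ((h : G)⁻¹ * x₀) * x₀⁻¹ := by group
      rw [e]
      exact M.mul_mem hyM (M.inv_mem hx₀M)
    have h1 : (h : G)⁻¹ = 1 := h2.disjMH hhM (H.inv_mem hh)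
    rw [h1, one_mul] at hyK
    exact hx₀K hyK
  have hc : ∀ (s h₁ h₂ : ↥S), h₁ ∈ H.subgroupOf S → h₂ ∈ H.subgroupOf S → h₂ ≠ 1 →
      h₁⁻¹ * (s * h₂ * s⁻¹) ∈ (Q ⊓ K₀).subgroupOf S →
      ∃ h ∈ H.subgroupOf S, h⁻¹ * s ∈ (Q ⊓ K₀).subgroupOf S := by
    intro s h₁ h₂ hh₁ hh₂ hne2 hy
    rw [Subgroup.mem_subgroupOf] at hh₁ hh₂ hy
    have hne2' : (h₂ : G) ≠ 1 := fun h => hne2 (Subtype.ext h)
    have hy' : (h₁ : G)⁻¹ * ((s : G) * (h₂ : G) * (s : G)⁻¹) ∈ Q ⊓ K₀ := by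
      simpa using hy
    obtain ⟨h, hh, hhs⟩ := h2.section_ti hQM hQinv (hSQH s.2) hh₁ hh₂ hne2' hy'
    refine ⟨⟨h, hHS hh⟩, Subgroup.mem_subgroupOf.2 hh, ?_⟩
    rw [Subgroup.mem_subgroupOf]
    simpa using hhs
  obtain ⟨C, hC, ⟨e⟩⟩ := frobenius_of_section ((Q ⊓ K₀).subgroupOf S) (H.subgroupOf S)
    ha hne hb hc
  exact ⟨↥S ⧸ (Q ⊓ K₀).subgroupOf S, inferInstance, inferInstance, C, hC,
    ⟨(Subgroup.subgroupOfEquivOfLe hHS).symm.trans e⟩⟩

end Hyp2

end Main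

end Cfsg.Agent.Lib.Helper26.TIH
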