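import Mathlib
import Cfsg.Prelude.Def_Characters
import Cfsg.Prelude.Def_Blocks
import Cfsg.Agent.Lib.Helper4.LinConst
import Cfsg.Agent.Lib.Helper4.FaithfulIrr
import Cfsg.Agent.Lib.Helper4.RepEigen
import Cfsg.Agent.Lib.Helper4.Deflate
import Cfsg.Agent.Lib.Helper26.IndChar
import Cfsg.Agent.Lib.Helper26.CharInt

set_option autoImplicit false

/-!
# TI Sylow subgroups with a normal `p`-complement (helper26)

`G = P K` with `K` a normal `p'`-subgroup and `P` a TI Sylow `p`-subgroup: an irreducible character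
of degree at most `√|P|` restricts irreducibly to `N_G(P)`; a faithful character of such degree
forces `P` to be normal.
-/

namespace Cfsg.Agent.Lib.Helper26.TIS

open Cfsg Cfsg.Agent.Lib.Helper26
open scoped ComplexConjugate Pointwise Classical

section Grp
variable {G : Type*} [Group G] [Fintype G] {p : ℕ} [hp : Fact p.Prime]

theorem mem_sylow_of_pow_card (P : Sylow p G) {x : G}
    (hxN : x ∈ Subgroup.normalizer ((P : Subgroup G) : Set G))
    (hx : x ^ Nat.card (P : Subgroup G) = 1) : x ∈ (P : Subgroup G) := by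
  obtain ⟨n, hn⟩ := IsPGroup.iff_card.mp P.isPGroup'
  rw [hn] at hx
  obtain ⟨j, -, hj⟩ := (Nat.dvd_prime_pow hp.out).mp (orderOf_dvd_of_pow_eq_one hx)
  have hR : IsPGroup p (Subgroup.zpowers x) :=
    IsPGroup.of_card (n := j) (by rw [Nat.card_zpowers, hj])
  have hRN : Subgroup.zpowers x ≤ Subgroup.normalizer ((P : Subgroup G) : Set G) := by
    rw [Subgroup.zpowers_le]
    exact hxN
  have hsup : IsPGroup p (Subgroup.zpowers x ⊔ (P : Subgroup G) : Subgroup G) :=
    hR.to_sup_of_normal_right' P.isPGroup' hRN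
  have heq := P.is_maximal' hsup le_sup_right
  have hmem : x ∈ Subgroup.zpowers x ⊔ (P : Subgroup G) :=
    (le_sup_left : Subgroup.zpowers x ≤ _) (Subgroup.mem_zpowers _)
  rw [heq] at hmem
  exact hmem

theorem exists_conj_mem_sylow (P : Sylow p G) {v : G}
    (hv : v ^ Nat.card (P : Subgroup G) = 1) : ∃ h : G, h⁻¹ * v * h ∈ (P : Subgroup G) := by
  obtain ⟨n, hn⟩ := IsPGroup.iff_card.mp P.isPGroup'
  rw [hn] at hv
  obtain ⟨j, -, hj⟩ := (Nat.dvd_prime_pow hp.out).mp (orderOf_dvd_of_pow_eq_one hv)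
  have hR : IsPGroup p (Subgroup.zpowers v) :=
    IsPGroup.of_card (n := j) (by rw [Nat.card_zpowers, hj])
  obtain ⟨Q, hQ⟩ := hR.exists_le_sylow
  obtain ⟨h, hh⟩ := MulAction.exists_smul_eq G P Q
  have h1 : v ∈ (Q : Subgroup G) := hQ (Subgroup.mem_zpowers v)
  rw [← hh, Sylow.coe_subgroup_smul, Subgroup.mem_smul_pointwise_iff_exists] at h1
  obtain ⟨t, ht, e⟩ := h1
  refine ⟨h, ?_⟩
  have e' : v = h * t * h⁻¹ := by
    rw [← e]
    simp [MulAut.smul_def, MulAut.conj_apply]
  rw [e']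
  have e2 : h⁻¹ * (h * t * h⁻¹) * h = t := by group
  rw [e2]
  exact ht

section Core
variable (P : Sylow p G) (K : Subgroup G) [hKn : K.Normal]

/-- the standing hypotheses: `G = P K`, `K` a `p'`-group, `P` a nontrivial TI-subgroup -/
structure Hyp : Prop where
  cop : (Nat.card K).Coprime (Nat.card (P : Subgroup G))
  sup : (P : Subgroup G) ⊔ K = ⊤
  ti : ∀ g : G, ∀ t ∈ (P : Subgroup G), g * t * g⁻¹ ∈ (P : Subgroup G) → t ≠ 1 →
    g ∈ Subgroup.normalizer ((P : Subgroup G) : Set G)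
  big : 1 < Nat.card (P : Subgroup G)

variable {P K}

theorem pow_card_mem (h : Hyp P K) (g : G) : g ^ Nat.card (P : Subgroup G) ∈ K := by
  have hg : g ∈ (P : Subgroup G) ⊔ K := by
    rw [h.sup]
    exact Subgroup.mem_top g
  rw [Subgroup.mem_sup_of_normal_right] at hg
  obtain ⟨w, hw, c, hc, rfl⟩ := hg
  apply (QuotientGroup.eq_one_iff _).mp
  show (QuotientGroup.mk' K) ((w * c) ^ Nat.card (P : Subgroup G)) = 1
  have hc1 : (QuotientGroup.mk' K) c = 1 := (QuotientGroup.eq_one_iff c).mpr hc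
  have hw1 : w ^ Nat.card (P : Subgroup G) = 1 := by
    have h4 := pow_card_eq_one' (G := (P : Subgroup G)) (x := ⟨w, hw⟩)
    have h5 := congrArg Subtype.val h4
    rw [Subgroup.coe_pow, Subgroup.coe_one] at h5
    exact h5
  rw [map_pow, map_mul, hc1, mul_one, ← map_pow, hw1, map_one]

theorem exists_exp (h : Hyp P K) :
    ∃ m : ℕ, Nat.card K ∣ m ∧ m % Nat.card (P : Subgroup G) = 1 := by
  obtain ⟨u, -, hu⟩ := Nat.exists_mul_mod_eq_one_of_coprime h.cop h.big
  exact ⟨Nat.card K * u, dvd_mul_right _ _, hu⟩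

theorem pow_exp_mem_iff (h : Hyp P K) {m : ℕ} (hm : m % Nat.card (P : Subgroup G) = 1) (g : G) :
    g ^ m ∈ K ↔ g ∈ K := by
  obtain ⟨q, hq⟩ : ∃ q, m = Nat.card (P : Subgroup G) * q + 1 := by
    refine ⟨m / Nat.card (P : Subgroup G), ?_⟩
    have h1 := Nat.div_add_mod m (Nat.card (P : Subgroup G))
    rw [hm] at h1
    exact h1.symm
  have h1 : g ^ m = (g ^ Nat.card (P : Subgroup G)) ^ q * g := by
    rw [hq, pow_succ, pow_mul]
  rw [h1]
  have h2 : (g ^ Nat.card (P : Subgroup G)) ^ q ∈ K :=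
    Subgroup.pow_mem _ (pow_card_mem h g) _
  exact Subgroup.mul_mem_cancel_left K h2

theorem pow_exp_pow_card (h : Hyp P K) {m : ℕ} (hm : Nat.card K ∣ m) (g : G) :
    (g ^ m) ^ Nat.card (P : Subgroup G) = 1 := by
  obtain ⟨u, rfl⟩ := hm
  rw [← pow_mul, mul_comm, pow_mul, pow_mul]
  have h1 : (g ^ Nat.card (P : Subgroup G)) ^ Nat.card K = 1 := by
    have h4 := pow_card_eq_one' (G := K)
      (x := ⟨g ^ Nat.card (P : Subgroup G), pow_card_mem h g⟩)
    have h5 := congrArg Subtype.val h4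
    rw [Subgroup.coe_pow, Subgroup.coe_one] at h5
    exact h5
  rw [h1, one_pow]

theorem ti_normalizer (h : Hyp P K) {a g : G}
    (haA : a ∈ Subgroup.normalizer ((P : Subgroup G) : Set G)) (haK : a ∉ K)
    (hgA : g * a * g⁻¹ ∈ Subgroup.normalizer ((P : Subgroup G) : Set G)) :
    g ∈ Subgroup.normalizer ((P : Subgroup G) : Set G) := by
  obtain ⟨m, hm1, hm2⟩ := exists_exp h
  have hv : a ^ m ∈ (P : Subgroup G) :=
    mem_sylow_of_pow_card P (Subgroup.pow_mem _ haA m) (pow_exp_pow_card h hm1 a)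
  have hv' : g * a ^ m * g⁻¹ ∈ (P : Subgroup G) := by
    rw [← conj_pow]
    exact mem_sylow_of_pow_card P (Subgroup.pow_mem _ hgA m) (pow_exp_pow_card h hm1 _)
  have hv1 : a ^ m ≠ 1 := by
    intro e
    apply haK
    rw [← pow_exp_mem_iff h hm2 a, e]
    exact Subgroup.one_mem K
  exact h.ti g (a ^ m) hv hv' hv1

theorem exists_conj_mem_normalizer (h : Hyp P K) {g : G} (hgK : g ∉ K) :
    ∃ x : G, x⁻¹ * g * x ∈ Subgroup.normalizer ((P : Subgroup G) : Set G) ∧
      x⁻¹ * g * x ∉ K := by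
  obtain ⟨m, hm1, hm2⟩ := exists_exp h
  obtain ⟨x, hx⟩ := exists_conj_mem_sylow P (pow_exp_pow_card h hm1 g)
  have hnK : x⁻¹ * g * x ∉ K := by
    intro hk
    apply hgK
    have h1 := hKn.conj_mem _ hk x
    have e : x * (x⁻¹ * g * x) * x⁻¹ = g := by group
    rw [e] at h1
    exact h1
  refine ⟨x, ?_, hnK⟩
  have e1 : x⁻¹ * g ^ m * x = (x⁻¹ * g * x) ^ m := by
    have h1 := conj_pow (i := m) (a := x⁻¹) (b := g)
    rw [inv_inv] at h1
    exact h1.symm
  rw [e1] at hx
  have hne : (x⁻¹ * g * x) ^ m ≠ 1 := by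
    intro e
    apply hnK
    rw [← pow_exp_mem_iff h hm2 (x⁻¹ * g * x), e]
    exact Subgroup.one_mem K
  have e2 : (x⁻¹ * g * x) * (x⁻¹ * g * x) ^ m * (x⁻¹ * g * x)⁻¹ = (x⁻¹ * g * x) ^ m := by
    rw [← pow_succ', pow_succ, mul_inv_cancel_right]
  apply h.ti (x⁻¹ * g * x) ((x⁻¹ * g * x) ^ m) hx _ hne
  rw [e2]
  exact hx

variable (P K)

/-- the cut-off of `ξ` to the complement of `K` inside the normalizer -/
noncomputable def cutA (ξ : G → ℂ) :
    Subgroup.normalizer ((P : Subgroup G) : Set G) → ℂ :=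
  fun a => if (a : G) ∈ K then 0 else ξ a

variable {P K}

theorem indFun_cutA (h : Hyp P K) (ξ : G → ℂ) (hξ : IsClassFunction G ξ) (g : G) :
    indFun (Subgroup.normalizer ((P : Subgroup G) : Set G)) (cutA P K ξ) g =
      if g ∈ K then 0 else ξ g := by
  by_cases hg : g ∈ K
  · rw [if_pos hg]
    unfold indFun
    have hz : ∀ x : G, extendByZero (Subgroup.normalizer ((P : Subgroup G) : Set G))
        (cutA P K ξ) (x⁻¹ * g * x) = 0 := by
      intro x
      by_cases hm : x⁻¹ * g * x ∈ Subgroup.normalizer ((P : Subgroup G) : Set G)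
      · rw [extendByZero_apply_mem _ _ _ hm]
        unfold cutA
        rw [if_pos]
        have h1 := hKn.conj_mem g hg x⁻¹
        rw [inv_inv] at h1
        exact h1
      · exact extendByZero_apply_not_mem _ _ _ hm
    simp_rw [hz]
    simp
  · rw [if_neg hg]
    obtain ⟨x, hxA, hxK⟩ := exists_conj_mem_normalizer h hg
    have hcl := isClassFunction_indFun (Subgroup.normalizer ((P : Subgroup G) : Set G))
      (cutA P K ξ)
    have e1 : indFun (Subgroup.normalizer ((P : Subgroup G) : Set G)) (cutA P K ξ) g =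
        indFun (Subgroup.normalizer ((P : Subgroup G) : Set G)) (cutA P K ξ) (x⁻¹ * g * x) := by
      have h1 := hcl g x⁻¹
      rw [inv_inv] at h1
      exact h1.symm
    rw [e1]
    have hTI : ∀ y : G, y ∉ Subgroup.normalizer ((P : Subgroup G) : Set G) →
        ∀ t ∈ {t : G | t ∈ Subgroup.normalizer ((P : Subgroup G) : Set G) ∧ t ∉ K},
        y * t * y⁻¹ ∈ {t : G | t ∈ Subgroup.normalizer ((P : Subgroup G) : Set G) ∧ t ∉ K} →
        t = 1 := by
      intro y hy t ht hyt
      exact absurd (ti_normalizer h ht.1 ht.2 hyt.1) hy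
    have hψ : IsClassFunction (Subgroup.normalizer ((P : Subgroup G) : Set G))
        (cutA P K ξ) := by
      intro a b
      unfold cutA
      have hiff : ((b * a * b⁻¹ : Subgroup.normalizer ((P : Subgroup G) : Set G)) : G) ∈ K ↔
          (a : G) ∈ K := by
        constructor
        · intro hk
          have h1 := hKn.conj_mem _ hk (b : G)⁻¹
          have e : (b : G)⁻¹ * ((b * a * b⁻¹ : Subgroup.normalizer
              ((P : Subgroup G) : Set G)) : G) * ((b : G)⁻¹)⁻¹ = (a : G) := by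
            show (b : G)⁻¹ * ((b : G) * (a : G) * (b : G)⁻¹) * ((b : G)⁻¹)⁻¹ = (a : G)
            group
          rw [e] at h1
          exact h1
        · intro hk
          exact hKn.conj_mem _ hk (b : G)
      by_cases ha : (a : G) ∈ K
      · rw [if_pos ha, if_pos (hiff.mpr ha)]
      · rw [if_neg ha, if_neg (fun hk => ha (hiff.mp hk))]
        exact hξ (a : G) (b : G)
    have hψT : ∀ a : Subgroup.normalizer ((P : Subgroup G) : Set G),
        (a : G) ∉ {t : G | t ∈ Subgroup.normalizer ((P : Subgroup G) : Set G) ∧ t ∉ K} →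
        cutA P K ξ a = 0 := by
      intro a ha
      unfold cutA
      rw [if_pos]
      by_contra hk
      exact ha ⟨a.2, hk⟩
    have hne1 : (⟨x⁻¹ * g * x, hxA⟩ : Subgroup.normalizer ((P : Subgroup G) : Set G)) ≠ 1 := by
      intro e
      apply hxK
      have h1 : x⁻¹ * g * x = 1 := congrArg Subtype.val e
      rw [h1]
      exact Subgroup.one_mem K
    have key : indFun (Subgroup.normalizer ((P : Subgroup G) : Set G)) (cutA P K ξ)
        (x⁻¹ * g * x) = cutA P K ξ ⟨x⁻¹ * g * x, hxA⟩ :=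
      indFun_eq_on_ti _ _ hTI (cutA P K ξ) hψ hψT ⟨x⁻¹ * g * x, hxA⟩ ⟨hxA, hxK⟩ hne1
    rw [key]
    unfold cutA
    rw [if_neg hxK]
    have h1 := hξ g x⁻¹
    rw [inv_inv] at h1
    exact h1

theorem count_identity (h : Hyp P K) (ξ : G → ℂ) (hξ : IsClassFunction G ξ) :
    (Nat.card G : ℂ)⁻¹ * ∑ g : G, (if g ∈ K then 0 else ξ g * conj (ξ g)) =
    (Nat.card (Subgroup.normalizer ((P : Subgroup G) : Set G)) : ℂ)⁻¹ *
      ∑ a : Subgroup.normalizer ((P : Subgroup G) : Set G),
        (if (a : G) ∈ K then 0 else ξ a * conj (ξ a)) := by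
  have h1 := classInner_indFun_right (Subgroup.normalizer ((P : Subgroup G) : Set G)) ξ hξ
    (cutA P K ξ)
  unfold classInner at h1
  have h2 : ∀ g : G, ξ g * conj (indFun (Subgroup.normalizer ((P : Subgroup G) : Set G))
      (cutA P K ξ) g) = if g ∈ K then 0 else ξ g * conj (ξ g) := by
    intro g
    rw [indFun_cutA h ξ hξ g]
    split_ifs <;> simp
  have h3 : ∀ a : Subgroup.normalizer ((P : Subgroup G) : Set G),
      ξ a * conj (cutA P K ξ a) = if (a : G) ∈ K then 0 else ξ a * conj (ξ a) := by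
    intro a
    unfold cutA
    split_ifs <;> simp
  simp_rw [h2, h3] at h1
  exact h1

end Core

end Grp

end Cfsg.Agent.Lib.Helper26.TIS
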