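import Mathlib
import Cfsg.Prelude.Def_Characters
import Cfsg.Prelude.Def_Blocks
import Cfsg.Agent.Lib.Helper26.TISA

set_option autoImplicit false

/-!
# TI Sylow subgroups with a normal `p`-complement, II (helper26)
-/

namespace Cfsg.Agent.Lib.Helper26.TIS

open Cfsg Cfsg.Agent.Lib.Helper26
open scoped ComplexConjugate Pointwise Classical

theorem sum_normSq_of_inner {α : Type*} [Fintype α] (c : ℕ) (hc : c ≠ 0) (F : α → ℂ) (k : ℂ)
    (h : (c : ℂ)⁻¹ * ∑ a : α, F a * conj (F a) = k) :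
    ((∑ a : α, Complex.normSq (F a) : ℝ) : ℂ) = k * (c : ℂ) := by
  have hc' : (c : ℂ) ≠ 0 := Nat.cast_ne_zero.mpr hc
  simp_rw [Complex.mul_conj] at h
  rw [Complex.ofReal_sum, ← h]
  field_simp

section Grp
variable {G : Type*} [Group G] [Fintype G] {p : ℕ} [hp : Fact p.Prime]
variable {P : Sylow p G} {K : Subgroup G} [hKn : K.Normal]

local notation "𝔑" => Subgroup.normalizer ((P : Subgroup G) : Set G)

theorem count_identity_real (h : Hyp P K) (ξ : G → ℂ) (hξ : IsClassFunction G ξ) :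
    (∑ g : G, if g ∈ K then (0 : ℝ) else Complex.normSq (ξ g)) * (Nat.card 𝔑 : ℝ) =
    (∑ a : 𝔑, if (a : G) ∈ K then (0 : ℝ) else Complex.normSq (ξ a)) * (Nat.card G : ℝ) := by
  have h0 := count_identity h ξ hξ
  have e1 : ∀ g : G, (if g ∈ K then (0 : ℂ) else ξ g * conj (ξ g)) =
      ((if g ∈ K then (0 : ℝ) else Complex.normSq (ξ g) : ℝ) : ℂ) := by
    intro g
    by_cases hg : g ∈ K
    · rw [if_pos hg, if_pos hg]
      exact Complex.ofReal_zero.symm
    · rw [if_neg hg, if_neg hg]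
      exact Complex.mul_conj _
  have e2 : ∀ a : 𝔑, (if (a : G) ∈ K then (0 : ℂ) else ξ a * conj (ξ a)) =
      ((if (a : G) ∈ K then (0 : ℝ) else Complex.normSq (ξ a) : ℝ) : ℂ) := by
    intro a
    by_cases hg : (a : G) ∈ K
    · rw [if_pos hg, if_pos hg]
      exact Complex.ofReal_zero.symm
    · rw [if_neg hg, if_neg hg]
      exact Complex.mul_conj _
  simp_rw [e1] at h0
  rw [← Complex.ofReal_sum, ← Complex.ofReal_sum] at h0
  have hG0 : (Nat.card G : ℂ) ≠ 0 := Nat.cast_ne_zero.mpr Nat.card_pos.ne'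
  have hN0 : (Nat.card 𝔑 : ℂ) ≠ 0 := Nat.cast_ne_zero.mpr Nat.card_pos.ne'
  have key : ((∑ g : G, if g ∈ K then (0 : ℝ) else Complex.normSq (ξ g) : ℝ) : ℂ) *
      (Nat.card 𝔑 : ℂ) =
      ((∑ a : 𝔑, if (a : G) ∈ K then (0 : ℝ) else Complex.normSq (ξ a) : ℝ) : ℂ) *
      (Nat.card G : ℂ) := by
    calc ((∑ g : G, if g ∈ K then (0 : ℝ) else Complex.normSq (ξ g) : ℝ) : ℂ) *
        (Nat.card 𝔑 : ℂ)
        = (Nat.card G : ℂ) * (Nat.card 𝔑 : ℂ) * ((Nat.card G : ℂ)⁻¹ *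
          ((∑ g : G, if g ∈ K then (0 : ℝ) else Complex.normSq (ξ g) : ℝ) : ℂ)) := by
          field_simp
      _ = (Nat.card G : ℂ) * (Nat.card 𝔑 : ℂ) * ((Nat.card 𝔑 : ℂ)⁻¹ *
          ((∑ a : 𝔑, if (a : G) ∈ K then (0 : ℝ) else Complex.normSq (ξ a) : ℝ) : ℂ)) := by
          rw [h0]
      _ = _ := by
          field_simp
  exact_mod_cast key

theorem card_inter_le (h : Hyp P K) :
    Nat.card (K.subgroupOf 𝔑) * Nat.card (P : Subgroup G) ≤ Nat.card 𝔑 := by
  have h1 : Nat.card (K.subgroupOf 𝔑) ∣ Nat.card 𝔑 := Subgroup.card_subgroup_dvd_card _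
  have h2 : Nat.card (P : Subgroup G) ∣ Nat.card 𝔑 := by
    have e : Nat.card ((P : Subgroup G).subgroupOf 𝔑) = Nat.card (P : Subgroup G) :=
      Nat.card_congr (Subgroup.subgroupOfEquivOfLe Subgroup.le_normalizer).toEquiv
    rw [← e]
    exact Subgroup.card_subgroup_dvd_card _
  have h3 : Nat.card (K.subgroupOf 𝔑) ∣ Nat.card K :=
    Subgroup.card_comap_dvd_of_injective K (𝔑).subtype Subtype.coe_injective
  have h4 : (Nat.card (K.subgroupOf 𝔑)).Coprime (Nat.card (P : Subgroup G)) :=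
    Nat.Coprime.coprime_dvd_left h3 h.cop
  exact Nat.le_of_dvd Nat.card_pos (Nat.Coprime.mul_dvd_of_dvd_of_dvd h4 h1 h2)

theorem restrict_irr (h : Hyp P K) {n : ℕ} (σ : Representation ℂ G (Fin n → ℂ))
    (hσ : σ.IsIrreducible) (hdeg : n ^ 2 ≤ Nat.card (P : Subgroup G)) :
    IsIrrCharacter 𝔑 (σ.character ∘ (𝔑).subtype) := by
  have hξirr : IsIrrCharacter G σ.character := ⟨n, σ, hσ, rfl⟩
  have hξchar : IsCharacter G σ.character := ⟨n, σ, rfl⟩
  have hcl : IsClassFunction G σ.character := isClassFunction_of_isCharacter hξchar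
  have hξ1 : σ.character 1 = (n : ℂ) := by
    rw [Representation.char_one, Module.finrank_fin_fun]
  have hnpos : 0 < n := by
    obtain ⟨d, hd0, hd⟩ := irr_degree hξirr
    rw [hξ1] at hd
    have e : n = d := by exact_mod_cast hd
    omega
  have hbound : ∀ g : G, Complex.normSq (σ.character g) ≤ (n : ℝ) ^ 2 := by
    intro g
    have h1 := Cfsg.Agent.Lib.Helper4.norm_character_le σ g
    rw [Module.finrank_fin_fun] at h1
    rw [Complex.normSq_eq_norm_sq]
    exact pow_le_pow_left₀ (norm_nonneg _) h1 2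
  have hXc : IsCharacter 𝔑 (σ.character ∘ (𝔑).subtype) := isCharacter_restrict _ hξchar
  have hXg : IsGeneralizedCharacter 𝔑 (σ.character ∘ (𝔑).subtype) :=
    isGeneralizedCharacter_of_isCharacter hXc
  haveI : Fintype (IrrCharacter 𝔑) := Fintype.ofFinite _
  obtain ⟨c, hc⟩ := exists_int_coeff hXg
  have hnorm := genChar_norm hXg c hc
  obtain ⟨k, hk⟩ : ∃ k : ℤ, k = ∑ μ : IrrCharacter 𝔑, (c μ) ^ 2 := ⟨_, rfl⟩
  rw [← hk] at hnorm
  -- the sums
  have hSG : (∑ g : G, Complex.normSq (σ.character g) : ℝ) = (Nat.card G : ℝ) := by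
    have h1 := classInner_irr hξirr hξirr
    rw [if_pos rfl] at h1
    unfold classInner at h1
    have h2 := sum_normSq_of_inner (Nat.card G) Nat.card_pos.ne' σ.character 1 h1
    rw [one_mul] at h2
    exact_mod_cast h2
  have hSN : (∑ a : 𝔑, Complex.normSq (σ.character a) : ℝ) = (k : ℝ) * (Nat.card 𝔑 : ℝ) := by
    have h1 := hnorm
    unfold classInner at h1
    have h2 := sum_normSq_of_inner (Nat.card 𝔑) Nat.card_pos.ne'
      (σ.character ∘ (𝔑).subtype) _ h1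
    have h3 : ((∑ a : 𝔑, Complex.normSq (σ.character a) : ℝ) : ℂ) =
        ((k : ℤ) : ℂ) * ((Nat.card 𝔑 : ℕ) : ℂ) := h2
    exact_mod_cast h3
  have hsplitG : (∑ g : G, Complex.normSq (σ.character g) : ℝ) =
      (∑ g : G, if g ∈ K then Complex.normSq (σ.character g) else 0) +
      (∑ g : G, if g ∈ K then (0 : ℝ) else Complex.normSq (σ.character g)) := by
    rw [← Finset.sum_add_distrib]
    apply Finset.sum_congr rfl
    intro g _
    split_ifs <;> simp
  have hsplitN : (∑ a : 𝔑, Complex.normSq (σ.character a) : ℝ) =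
      (∑ a : 𝔑, if (a : G) ∈ K then Complex.normSq (σ.character a) else 0) +
      (∑ a : 𝔑, if (a : G) ∈ K then (0 : ℝ) else Complex.normSq (σ.character a)) := by
    rw [← Finset.sum_add_distrib]
    apply Finset.sum_congr rfl
    intro g _
    split_ifs <;> simp
  have hcount := count_identity_real h σ.character hcl
  have hn1 : Complex.normSq (σ.character 1) = (n : ℝ) ^ 2 := by
    rw [hξ1, Complex.normSq_eq_norm_sq, Complex.norm_natCast]
  have hf : (n : ℝ) ^ 2 ≤ ∑ g : G, if g ∈ K then Complex.normSq (σ.character g) else 0 := by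
    have h1 : (if (1 : G) ∈ K then Complex.normSq (σ.character 1) else 0) ≤
        ∑ g : G, if g ∈ K then Complex.normSq (σ.character g) else 0 :=
      Finset.single_le_sum
        (f := fun g : G => if g ∈ K then Complex.normSq (σ.character g) else 0)
        (fun g _ => by
          show 0 ≤ (if g ∈ K then Complex.normSq (σ.character g) else 0)
          split_ifs
          · exact Complex.normSq_nonneg _
          · exact le_rfl) (Finset.mem_univ 1)
    rw [if_pos (Subgroup.one_mem K), hn1] at h1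
    exact h1
  have hfN : (n : ℝ) ^ 2 ≤ ∑ a : 𝔑, Complex.normSq (σ.character a) := by
    have h1 : Complex.normSq (σ.character ((1 : 𝔑) : G)) ≤
        ∑ a : 𝔑, Complex.normSq (σ.character a) :=
      Finset.single_le_sum
        (f := fun a : 𝔑 => Complex.normSq (σ.character a))
        (fun a _ => Complex.normSq_nonneg _) (Finset.mem_univ 1)
    rw [Subgroup.coe_one, hn1] at h1
    exact h1
  have hg : (∑ a : 𝔑, if (a : G) ∈ K then Complex.normSq (σ.character a) else 0) ≤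
      (n : ℝ) ^ 2 * (Nat.card (K.subgroupOf 𝔑) : ℝ) := by
    calc (∑ a : 𝔑, if (a : G) ∈ K then Complex.normSq (σ.character a) else 0)
        ≤ ∑ a : 𝔑, if (a : G) ∈ K then (n : ℝ) ^ 2 else 0 := by
          apply Finset.sum_le_sum
          intro a _
          split_ifs
          · exact hbound _
          · exact le_rfl
      _ = (n : ℝ) ^ 2 * (Nat.card (K.subgroupOf 𝔑) : ℝ) := by
          rw [← Finset.sum_filter, Finset.sum_const, nsmul_eq_mul, mul_comm]
          congr 2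
          rw [← Fintype.card_subtype, ← Nat.card_eq_fintype_card]
          rfl
  have hcntN := card_inter_le h
  -- real abbreviations
  have hgG : (0 : ℝ) < (Nat.card G : ℝ) := by exact_mod_cast Nat.card_pos
  have hgN : (0 : ℝ) < (Nat.card 𝔑 : ℝ) := by exact_mod_cast Nat.card_pos
  have hnn : (0 : ℝ) < (n : ℝ) ^ 2 := by positivity
  have hdegR : (n : ℝ) ^ 2 ≤ (Nat.card (P : Subgroup G) : ℝ) := by exact_mod_cast hdeg
  have hcntR : (Nat.card (K.subgroupOf 𝔑) : ℝ) * (Nat.card (P : Subgroup G) : ℝ) ≤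
      (Nat.card 𝔑 : ℝ) := by exact_mod_cast hcntN
  have hcnt0 : (0 : ℝ) ≤ (Nat.card (K.subgroupOf 𝔑) : ℝ) := Nat.cast_nonneg _
  -- name the sums
  obtain ⟨SGK, hSGK⟩ : ∃ x : ℝ, x = ∑ g : G, if g ∈ K then Complex.normSq (σ.character g)
    else 0 := ⟨_, rfl⟩
  obtain ⟨SGn, hSGn⟩ : ∃ x : ℝ, x = ∑ g : G, if g ∈ K then (0 : ℝ) else
    Complex.normSq (σ.character g) := ⟨_, rfl⟩
  obtain ⟨SNK, hSNK⟩ : ∃ x : ℝ, x = ∑ a : 𝔑, if (a : G) ∈ K then
    Complex.normSq (σ.character a) else 0 := ⟨_, rfl⟩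
  obtain ⟨SNn, hSNn⟩ : ∃ x : ℝ, x = ∑ a : 𝔑, if (a : G) ∈ K then (0 : ℝ) else
    Complex.normSq (σ.character a) := ⟨_, rfl⟩
  rw [← hSGK, ← hSGn] at hsplitG
  rw [← hSNK, ← hSNn] at hsplitN
  rw [← hSGn, ← hSNn] at hcount
  rw [← hSGK] at hf
  rw [← hSNK] at hg
  rw [hSG] at hsplitG
  rw [hSN] at hsplitN
  rw [hSN] at hfN
  -- hsplitG : card G = SGK + SGn; hsplitN : k * card N = SNK + SNn
  have h3 : (Nat.card G : ℝ) * (Nat.card 𝔑 : ℝ) * (1 - (k : ℝ)) =
      SGK * (Nat.card 𝔑 : ℝ) - SNK * (Nat.card G : ℝ) := by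
    linear_combination hcount + (Nat.card 𝔑 : ℝ) * hsplitG - (Nat.card G : ℝ) * hsplitN
  have hSNKle : SNK ≤ (Nat.card 𝔑 : ℝ) := by
    calc SNK ≤ (n : ℝ) ^ 2 * (Nat.card (K.subgroupOf 𝔑) : ℝ) := hg
      _ ≤ (Nat.card (P : Subgroup G) : ℝ) * (Nat.card (K.subgroupOf 𝔑) : ℝ) :=
          mul_le_mul_of_nonneg_right hdegR hcnt0
      _ = (Nat.card (K.subgroupOf 𝔑) : ℝ) * (Nat.card (P : Subgroup G) : ℝ) := mul_comm _ _
      _ ≤ (Nat.card 𝔑 : ℝ) := hcntR
  have hk2 : k < 2 := by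
    by_contra hcon
    have hk2' : (2 : ℝ) ≤ (k : ℝ) := by exact_mod_cast (not_lt.mp hcon)
    have e1 : (Nat.card G : ℝ) * (Nat.card 𝔑 : ℝ) * (1 - (k : ℝ)) ≤
        (Nat.card G : ℝ) * (Nat.card 𝔑 : ℝ) * (1 - 2) :=
      mul_le_mul_of_nonneg_left (by linarith) (mul_pos hgG hgN).le
    have e2 : SNK * (Nat.card G : ℝ) ≤ (Nat.card 𝔑 : ℝ) * (Nat.card G : ℝ) :=
      mul_le_mul_of_nonneg_right hSNKle hgG.le
    have e3 : (n : ℝ) ^ 2 * (Nat.card 𝔑 : ℝ) ≤ SGK * (Nat.card 𝔑 : ℝ) :=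
      mul_le_mul_of_nonneg_right hf hgN.le
    have e4 := mul_pos hnn hgN
    linarith
  have hk0 : 0 < k := by
    by_contra hcon
    have hk0' : (k : ℝ) ≤ 0 := by exact_mod_cast (not_lt.mp hcon)
    have e1 : (k : ℝ) * (Nat.card 𝔑 : ℝ) ≤ 0 := mul_nonpos_of_nonpos_of_nonneg hk0' hgN.le
    linarith
  have hk1 : k = 1 := by omega
  rw [hk1] at hnorm
  apply isIrrCharacter_of_norm_one hXg
  · rw [hnorm]
    simp
  · show 0 < (σ.character ((1 : 𝔑) : G)).re
    rw [Subgroup.coe_one, hξ1]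
    simp
    exact hnpos

end Grp

end Cfsg.Agent.Lib.Helper26.TIS
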