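import Mathlib
import Cfsg.Prelude.Def_Characters
import Cfsg.Prelude.Def_Blocks
import Cfsg.Agent.Lib.Helper26.TISB

set_option autoImplicit false

/-!
# TI Sylow subgroups with a normal `p`-complement, III (helper26)
-/

namespace Cfsg.Agent.Lib.Helper26.TIS

open Cfsg Cfsg.Agent.Lib.Helper26
open scoped ComplexConjugate Pointwise Classical

section Grp
variable {G : Type*} [Group G] [Fintype G] {p : ℕ} [hp : Fact p.Prime]
variable {P : Sylow p G} {K : Subgroup G} [hKn : K.Normal]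

local notation "𝔑" => Subgroup.normalizer ((P : Subgroup G) : Set G)

theorem irr_central_comm (h : Hyp P K) {d : ℕ} (σ : Representation ℂ G (Fin d → ℂ))
    (hσ : σ.IsIrreducible) (hdeg : d ^ 2 ≤ Nat.card (P : Subgroup G)) {u : G} (huN : u ∈ 𝔑)
    (hucent : ∀ a ∈ 𝔑, a * u = u * a) (g : G) :
    σ.character (u * g * u⁻¹ * g⁻¹) = σ.character 1 := by
  obtain ⟨k, τ, hτ, hτe⟩ := restrict_irr h σ hσ hdeg
  have huc : (⟨u, huN⟩ : 𝔑) ∈ Subgroup.center 𝔑 := by
    rw [Subgroup.mem_center_iff]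
    intro a
    apply Subtype.ext
    exact hucent a a.2
  obtain ⟨c, hc⟩ := Cfsg.Agent.Lib.Helper4.exists_scalar_of_mem_center τ hτ _ huc
  have h1 : ‖τ.character ⟨u, huN⟩‖ = (Module.finrank ℂ (Fin k → ℂ) : ℝ) :=
    (Cfsg.Agent.Lib.Helper4.norm_character_eq_finrank_iff τ _).mpr ⟨c, hc⟩
  have hk : k = d := by
    have e1 := congrFun hτe 1
    rw [Representation.char_one, Module.finrank_fin_fun] at e1
    have e2 : (σ.character ∘ (𝔑).subtype) 1 = σ.character 1 := by
      show σ.character ((1 : 𝔑) : G) = σ.character 1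
      rw [Subgroup.coe_one]
    rw [e2, Representation.char_one, Module.finrank_fin_fun] at e1
    exact_mod_cast e1
  have h2 : ‖σ.character u‖ = (Module.finrank ℂ (Fin d → ℂ) : ℝ) := by
    have e1 := congrFun hτe ⟨u, huN⟩
    have e2 : (σ.character ∘ (𝔑).subtype) ⟨u, huN⟩ = σ.character u := rfl
    rw [e2] at e1
    rw [← e1, h1, Module.finrank_fin_fun, Module.finrank_fin_fun, hk]
  obtain ⟨ω, hω⟩ := (Cfsg.Agent.Lib.Helper4.norm_character_eq_finrank_iff σ u).mp h2
  have hcomm : σ u * σ g = σ g * σ u := by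
    rw [hω]
    ext v
    simp
  have h3 : σ (u * g * u⁻¹ * g⁻¹) = 1 := by
    rw [map_mul, map_mul, map_mul]
    have h4 : σ u * σ g * σ u⁻¹ * σ g⁻¹ = σ g * (σ u * σ u⁻¹) * σ g⁻¹ := by
      rw [hcomm]
      simp only [mul_assoc]
    rw [h4, ← map_mul, mul_inv_cancel, map_one, mul_one, ← map_mul, mul_inv_cancel, map_one]
  have h6 : σ 1 = 1 := map_one σ
  unfold Representation.character
  rw [h3, h6]

theorem inter_trivial (h : Hyp P K) : ∀ x ∈ (P : Subgroup G), x ∈ K → x = 1 := by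
  intro x hxP hxK
  have h1 : x ^ Nat.card (P : Subgroup G) = 1 := by
    have h4 := pow_card_eq_one' (G := (P : Subgroup G)) (x := ⟨x, hxP⟩)
    have h5 := congrArg Subtype.val h4
    rw [Subgroup.coe_pow, Subgroup.coe_one] at h5
    exact h5
  have h2 : x ^ Nat.card K = 1 := by
    have h4 := pow_card_eq_one' (G := K) (x := ⟨x, hxK⟩)
    have h5 := congrArg Subtype.val h4
    rw [Subgroup.coe_pow, Subgroup.coe_one] at h5
    exact h5
  have h3 : x ^ Nat.gcd (Nat.card K) (Nat.card (P : Subgroup G)) = 1 :=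
    pow_gcd_eq_one.mpr ⟨h2, h1⟩
  rw [Nat.Coprime.gcd_eq_one h.cop, pow_one] at h3
  exact h3

theorem core_normal (h : Hyp P K) {n : ℕ} (ρ : Representation ℂ G (Fin n → ℂ))
    (hfaith : ∀ g : G, ρ.character g = ρ.character 1 → g = 1)
    (hdeg : n ^ 2 ≤ Nat.card (P : Subgroup G)) : (P : Subgroup G).Normal := by
  haveI : Nontrivial (P : Subgroup G) := (Finite.one_lt_card_iff_nontrivial).mp h.big
  have hlt := IsPGroup.bot_lt_center (P.isPGroup')
  obtain ⟨z, hz, hz1⟩ := SetLike.exists_of_lt hlt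
  have hu1 : (z : G) ≠ 1 := fun e => hz1 (Subgroup.mem_bot.mpr (Subtype.ext e))
  have huP : ∀ w ∈ (P : Subgroup G), w * (z : G) = (z : G) * w := by
    intro w hw
    have h2 := Subgroup.mem_center_iff.mp hz ⟨w, hw⟩
    exact congrArg Subtype.val h2
  have hPK := inter_trivial h
  have huN : ∀ a ∈ 𝔑, a * (z : G) = (z : G) * a := by
    intro a ha
    have hg : a ∈ (P : Subgroup G) ⊔ K := by
      rw [h.sup]
      exact Subgroup.mem_top a
    rw [Subgroup.mem_sup_of_normal_right] at hg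
    obtain ⟨w, hw, c, hc, rfl⟩ := hg
    have hcN : c ∈ 𝔑 := by
      have h1 : w⁻¹ * (w * c) ∈ 𝔑 :=
        Subgroup.mul_mem _ (Subgroup.inv_mem _ (Subgroup.le_normalizer hw)) ha
      rwa [inv_mul_cancel_left] at h1
    have h1 : c * (z : G) * c⁻¹ ∈ (P : Subgroup G) :=
      (Subgroup.mem_normalizer_iff.mp hcN _).mp z.2
    have h2 : c * (z : G) * c⁻¹ * (z : G)⁻¹ ∈ K := by
      have h3 : (z : G) * c⁻¹ * (z : G)⁻¹ ∈ K := hKn.conj_mem _ (K.inv_mem hc) _
      have e : c * (z : G) * c⁻¹ * (z : G)⁻¹ = c * ((z : G) * c⁻¹ * (z : G)⁻¹) := by group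
      rw [e]
      exact K.mul_mem hc h3
    have h4 := hPK _ (Subgroup.mul_mem _ h1 (Subgroup.inv_mem _ z.2)) h2
    have hcz : c * (z : G) = (z : G) * c := by
      have e : c * (z : G) = (c * (z : G) * c⁻¹ * (z : G)⁻¹) * ((z : G) * c) := by group
      rw [e, h4, one_mul]
    rw [mul_assoc, hcz, ← mul_assoc, huP w hw, mul_assoc]
  have hzN : (z : G) ∈ 𝔑 := Subgroup.le_normalizer z.2
  have hkey : ∀ g : G, ρ.character ((z : G) * g * (z : G)⁻¹ * g⁻¹) = ρ.character 1 := by
    intro g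
    haveI : Fintype (IrrCharacter G) := Fintype.ofFinite _
    have hcf : IsClassFunction G ρ.character := fun a b => Representation.char_conj ρ a b
    have hexp := Cfsg.Agent.Lib.Helper4.classFunction_expansion ρ.character hcf
    have h1 := congrFun hexp ((z : G) * g * (z : G)⁻¹ * g⁻¹)
    have h2 := congrFun hexp 1
    rw [h1, h2]
    simp only [Finset.sum_apply, Pi.smul_apply, smul_eq_mul]
    refine Finset.sum_congr rfl fun ξ _ => ?_
    by_cases hne : classInner ρ.character (ξ : G → ℂ) = 0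
    · rw [hne, zero_mul, zero_mul]
    · obtain ⟨d', hd1, -, hdle, -⟩ := Cfsg.Agent.Lib.Helper4.constituent_degree ρ ξ hne
      obtain ⟨d, σ, hσ, hσe⟩ := ξ.2
      have hdd : d = d' := by
        rw [← hσe, Representation.char_one, Module.finrank_fin_fun] at hd1
        exact_mod_cast hd1
      rw [Module.finrank_fin_fun] at hdle
      have hd2 : d ^ 2 ≤ Nat.card (P : Subgroup G) := by
        rw [hdd]
        exact le_trans (Nat.pow_le_pow_left hdle 2) hdeg
      have h5 := irr_central_comm h σ hσ hd2 hzN huN g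
      rw [hσe] at h5
      rw [h5]
  constructor
  intro x hx g
  have hg : g ∈ 𝔑 := by
    apply h.ti g (z : G) z.2 _ hu1
    have h1 := hfaith _ (hkey g⁻¹)
    have e : g * (z : G) * g⁻¹ = (z : G) := by
      have e1 : g * (z : G) * g⁻¹ =
          g * ((z : G) * g⁻¹ * (z : G)⁻¹ * g⁻¹⁻¹) * g⁻¹ * (z : G) := by group
      rw [e1, h1]
      group
    rw [e]
    exact z.2
  exact (Subgroup.mem_normalizer_iff.mp hg x).mp hx

end Grp

end Cfsg.Agent.Lib.Helper26.TIS
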