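import Mathlib
import Cfsg.Prelude.Def_Characters
import Cfsg.Prelude.Def_Blocks
import Cfsg.Prelude.Def_Local
import Cfsg.Agent.Lib.Helper26.TISC

set_option autoImplicit false

/-!
# TI Sylow subgroups of `p`-solvable groups (helper26)

A `p`-solvable group with a TI Sylow `p`-subgroup `P` and a faithful character of degree at most
`√|P|` has `P` normal.
-/

namespace Cfsg.Agent.Lib.Helper26.TIS

open Cfsg Cfsg.Agent.Lib.Helper26
open scoped ComplexConjugate Pointwise Classical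

section Red
variable {G : Type*} [Group G] [Fintype G] {p : ℕ} [hp : Fact p.Prime]

theorem pow_card_of_mem (H : Subgroup G) {x : G} (hx : x ∈ H) : x ^ Nat.card H = 1 := by
  have h4 := pow_card_eq_one' (G := H) (x := ⟨x, hx⟩)
  have h5 := congrArg Subtype.val h4
  rw [Subgroup.coe_pow, Subgroup.coe_one] at h5
  exact h5

theorem card_eq_card_mul_relIndex {H L : Subgroup G} (h : H ≤ L) :
    Nat.card L = Nat.card H * H.relIndex L := by
  have h1 := (H.subgroupOf L).card_mul_index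
  rw [Nat.card_congr (Subgroup.subgroupOfEquivOfLe h).toEquiv] at h1
  exact h1.symm

theorem exists_section_of_psolvable (hsolv : IsPSolvable p G) (hpG : p ∣ Nat.card G) :
    ∃ K L : Subgroup G, K.Normal ∧ L.Normal ∧ K ≤ L ∧ ¬ p ∣ Nat.card K ∧
      ∃ m : ℕ, m ≠ 0 ∧ K.relIndex L = p ^ m := by
  obtain ⟨n, H, h0, hlast, hmono, hnorm, hfac⟩ := hsolv
  have key : ∀ i : Fin (n + 1), ¬ p ∣ Nat.card (H i) ∨
      ∃ j : Fin n, ¬ p ∣ Nat.card (H j.castSucc) ∧ ∃ m : ℕ, m ≠ 0 ∧
        (H j.castSucc).relIndex (H j.succ) = p ^ m := by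
    intro i
    induction i using Fin.induction with
    | zero =>
      left
      rw [h0, Subgroup.card_bot]
      exact fun h => hp.out.one_lt.ne' (Nat.dvd_one.mp h)
    | succ i ih =>
      rcases ih with ih | ih
      · have hle : H i.castSucc ≤ H i.succ := hmono (Fin.castSucc_lt_succ).le
        have hcard := card_eq_card_mul_relIndex hle
        rcases hfac i with ⟨m, hm⟩ | hcop
        · by_cases hm0 : m = 0
          · left
            rw [hcard, hm, hm0, pow_zero, mul_one]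
            exact ih
          · right
            exact ⟨i, ih, m, hm0, hm⟩
        · left
          rw [hcard]
          intro hdvd
          rcases (Nat.Prime.dvd_mul hp.out).mp hdvd with h1 | h1
          · exact ih h1
          · exact (Nat.Prime.coprime_iff_not_dvd hp.out).mp hcop.symm h1
      · right
        exact ih
  rcases key (Fin.last n) with hk | ⟨j, hj, m, hm0, hm⟩
  · exfalso
    rw [hlast, Subgroup.card_top] at hk
    exact hk hpG
  · exact ⟨H j.castSucc, H j.succ, hnorm _, hnorm _, hmono (Fin.castSucc_lt_succ).le, hj, m,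
      hm0, hm⟩

theorem pow_relIndex_mem (K L : Subgroup G) [hK : K.Normal] {l : G} (hl : l ∈ L) :
    l ^ K.relIndex L ∈ K := by
  haveI : (K.subgroupOf L).Normal := hK.subgroupOf L
  have h1 : ((⟨l, hl⟩ : L) : L ⧸ K.subgroupOf L) ^ Nat.card (L ⧸ K.subgroupOf L) = 1 :=
    pow_card_eq_one'
  rw [← QuotientGroup.mk_pow, QuotientGroup.eq_one_iff, Subgroup.mem_subgroupOf,
    Subgroup.coe_pow] at h1
  exact h1

theorem exists_conj_mem_sylow' (P : Sylow p G) {v : G} {j : ℕ}
    (hv : v ^ p ^ j = 1) : ∃ h : G, h⁻¹ * v * h ∈ (P : Subgroup G) := by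
  obtain ⟨i, -, hi⟩ := (Nat.dvd_prime_pow hp.out).mp (orderOf_dvd_of_pow_eq_one hv)
  have hR : IsPGroup p (Subgroup.zpowers v) :=
    IsPGroup.of_card (n := i) (by rw [Nat.card_zpowers, hi])
  obtain ⟨Q, hQ⟩ := hR.exists_le_sylow
  obtain ⟨h, hh⟩ := MulAction.exists_smul_eq G P Q
  have h1 : v ∈ (Q : Subgroup G) := hQ (Subgroup.mem_zpowers v)
  rw [← hh, Sylow.coe_subgroup_smul, Subgroup.mem_smul_pointwise_iff_exists] at h1
  obtain ⟨t, ht, e⟩ := h1
  refine ⟨h, ?_⟩
  have e' : v = h * t * h⁻¹ := by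
    rw [← e]
    simp [MulAut.smul_def, MulAut.conj_apply]
  rw [e']
  have e2 : h⁻¹ * (h * t * h⁻¹) * h = t := by group
  rw [e2]
  exact ht

theorem ti_psolvable_normal (hsolv : IsPSolvable p G) (P : Sylow p G)
    (hTI : ∀ g : G, g ∉ Subgroup.normalizer ((P : Subgroup G) : Set G) →
      (P : Subgroup G) ⊓ (MulAut.conj g • (P : Subgroup G)) = ⊥)
    {n : ℕ} (ρ : Representation ℂ G (Fin n → ℂ))
    (hfaith : ∀ g : G, ρ.character g = ρ.character 1 → g = 1)
    (hdeg : n ^ 2 ≤ Nat.card (P : Subgroup G)) : (P : Subgroup G).Normal := by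
  by_cases hbig : 1 < Nat.card (P : Subgroup G)
  swap
  · have h1 : Nat.card (P : Subgroup G) = 1 := by
      have h2 := Nat.card_pos (α := (P : Subgroup G))
      omega
    rw [Subgroup.card_eq_one.mp h1]
    infer_instance
  -- TI in elementwise form
  have hti : ∀ g : G, ∀ t ∈ (P : Subgroup G), g * t * g⁻¹ ∈ (P : Subgroup G) → t ≠ 1 →
      g ∈ Subgroup.normalizer ((P : Subgroup G) : Set G) := by
    intro g t ht hgt ht1
    by_contra hg
    have h1 := hTI g hg
    have h2 : g * t * g⁻¹ ∈ (P : Subgroup G) ⊓ (MulAut.conj g • (P : Subgroup G)) := by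
      refine Subgroup.mem_inf.mpr ⟨hgt, ?_⟩
      have h3 := Subgroup.smul_mem_pointwise_smul t (MulAut.conj g) (P : Subgroup G) ht
      simpa [MulAut.smul_def, MulAut.conj_apply] using h3
    rw [h1, Subgroup.mem_bot] at h2
    apply ht1
    have e : t = g⁻¹ * (g * t * g⁻¹) * g := by group
    rw [e, h2]
    group
  have hpG : p ∣ Nat.card G := by
    obtain ⟨k, hk⟩ := IsPGroup.iff_card.mp P.isPGroup'
    have hk0 : k ≠ 0 := by
      rintro rfl
      rw [pow_zero] at hk
      omega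
    have h1 : p ∣ Nat.card (P : Subgroup G) := by
      rw [hk]
      exact dvd_pow_self p hk0
    exact h1.trans (Subgroup.card_subgroup_dvd_card _)
  obtain ⟨K, L, hKn, hLn, hKL, hpK, m, hm0, hm⟩ := exists_section_of_psolvable hsolv hpG
  haveI := hKn
  haveI := hLn
  have hcopp : (Nat.card K).Coprime p := ((Nat.Prime.coprime_iff_not_dvd hp.out).mpr hpK).symm
  have hcop : (Nat.card K).Coprime (Nat.card (P : Subgroup G)) := by
    obtain ⟨k, hk⟩ := IsPGroup.iff_card.mp P.isPGroup'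
    rw [hk]
    exact Nat.Coprime.pow_right k hcopp
  have hinter : ∀ x ∈ (P : Subgroup G), x ∈ K → x = 1 := by
    intro x hxP hxK
    have h3 : x ^ Nat.gcd (Nat.card K) (Nat.card (P : Subgroup G)) = 1 :=
      pow_gcd_eq_one.mpr ⟨pow_card_of_mem K hxK, pow_card_of_mem _ hxP⟩
    rw [Nat.Coprime.gcd_eq_one hcop, pow_one] at h3
    exact h3
  -- the subgroup `P K`
  have hPG₁ : (P : Subgroup G) ≤ (P : Subgroup G) ⊔ K := le_sup_left
  have hKG₁ : K ≤ (P : Subgroup G) ⊔ K := le_sup_right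
  have hP₁ : ((P.subtype hPG₁ : Sylow p ↥((P : Subgroup G) ⊔ K)) :
      Subgroup ↥((P : Subgroup G) ⊔ K)) = (P : Subgroup G).subgroupOf ((P : Subgroup G) ⊔ K) :=
    Sylow.coe_subtype P hPG₁
  have hcardP₁ : Nat.card ((P.subtype hPG₁ : Sylow p ↥((P : Subgroup G) ⊔ K)) :
      Subgroup ↥((P : Subgroup G) ⊔ K)) = Nat.card (P : Subgroup G) := by
    rw [hP₁]
    exact Nat.card_congr (Subgroup.subgroupOfEquivOfLe hPG₁).toEquiv
  have hcardK₁ : Nat.card (K.subgroupOf ((P : Subgroup G) ⊔ K)) = Nat.card K :=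
    Nat.card_congr (Subgroup.subgroupOfEquivOfLe hKG₁).toEquiv
  have hyp : Hyp (P.subtype hPG₁) (K.subgroupOf ((P : Subgroup G) ⊔ K)) := by
    refine ⟨?_, ?_, ?_, ?_⟩
    · rw [hcardP₁, hcardK₁]
      exact hcop
    · rw [hP₁, ← Subgroup.subgroupOf_sup hPG₁ hKG₁]
      exact Subgroup.subgroupOf_self (H := (P : Subgroup G) ⊔ K)
    · intro g t ht hgt ht1
      rw [hP₁, Subgroup.mem_subgroupOf] at ht hgt
      have hg := hti (g : G) (t : G) ht hgt (fun e => ht1 (Subtype.ext e))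
      rw [Subgroup.mem_normalizer_iff] at hg ⊢
      intro x
      rw [hP₁, Subgroup.mem_subgroupOf, Subgroup.mem_subgroupOf]
      exact hg (x : G)
    · rw [hcardP₁]
      exact hbig
  obtain ⟨ρ₁, hρ₁⟩ : ∃ ρ₁ : Representation ℂ ↥((P : Subgroup G) ⊔ K) (Fin n → ℂ),
      ∀ g, ρ₁ g = ρ (g : G) := ⟨MonoidHom.comp ρ ((P : Subgroup G) ⊔ K).subtype, fun _ => rfl⟩
  have hchar₁ : ∀ g : ↥((P : Subgroup G) ⊔ K),
      Representation.character ρ₁ g = Representation.character ρ (g : G) := by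
    intro g
    show LinearMap.trace ℂ _ (ρ₁ g) = LinearMap.trace ℂ _ (ρ (g : G))
    rw [hρ₁]
  have hfaith₁ : ∀ g : ↥((P : Subgroup G) ⊔ K),
      Representation.character ρ₁ g = Representation.character ρ₁ 1 → g = 1 := by
    intro g hg
    apply Subtype.ext
    rw [hchar₁, hchar₁] at hg
    exact hfaith (g : G) hg
  have hnorm₁ := core_normal hyp ρ₁ hfaith₁
    (by rw [hcardP₁]; exact hdeg)
  -- `P` centralizes `K`
  have hcent : ∀ w ∈ (P : Subgroup G), ∀ c ∈ K, c * w = w * c := by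
    intro w hw c hc
    have hwc := hnorm₁.conj_mem (⟨w, hPG₁ hw⟩ : ↥((P : Subgroup G) ⊔ K))
      (by rw [hP₁, Subgroup.mem_subgroupOf]; exact hw) ⟨c, hKG₁ hc⟩
    rw [hP₁, Subgroup.mem_subgroupOf] at hwc
    have h1 : c * w * c⁻¹ ∈ (P : Subgroup G) := hwc
    have h2 : c * w * c⁻¹ * w⁻¹ ∈ K := by
      have h3 : w * c⁻¹ * w⁻¹ ∈ K := hKn.conj_mem _ (K.inv_mem hc) _
      have e : c * w * c⁻¹ * w⁻¹ = c * (w * c⁻¹ * w⁻¹) := by group
      rw [e]
      exact K.mul_mem hc h3
    have h4 := hinter _ (Subgroup.mul_mem _ h1 (Subgroup.inv_mem _ hw)) h2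
    have e : c * w = (c * w * c⁻¹ * w⁻¹) * (w * c) := by group
    rw [e, h4, one_mul]
  -- a nontrivial element of `P ∩ L`
  obtain ⟨y, hyP, hyL, hy1⟩ : ∃ y, y ∈ (P : Subgroup G) ∧ y ∈ L ∧ y ≠ 1 := by
    have hne : ∃ l ∈ L, l ∉ K := by
      by_contra hcon
      push Not at hcon
      have hLK : L ≤ K := hcon
      have h1 : K.relIndex L = 1 := Subgroup.relIndex_eq_one.mpr hLK
      rw [hm] at h1
      exact absurd h1 (Nat.one_lt_pow hm0 hp.out.one_lt).ne'
    obtain ⟨l, hlL, hlK⟩ := hne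
    have hlpm : l ^ p ^ m ∈ K := by
      rw [← hm]
      exact pow_relIndex_mem K L hlL
    have hvpm : (l ^ Nat.card K) ^ p ^ m = 1 := by
      rw [← pow_mul, mul_comm, pow_mul]
      exact pow_card_of_mem K hlpm
    have hv1 : l ^ Nat.card K ≠ 1 := by
      intro e
      apply hlK
      have e1 : (QuotientGroup.mk' K) l ^ Nat.card K = 1 := by
        rw [← map_pow, e, map_one]
      have e2 : (QuotientGroup.mk' K) l ^ p ^ m = 1 := by
        rw [← map_pow]
        exact (QuotientGroup.eq_one_iff _).mpr hlpm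
      have e3 : (QuotientGroup.mk' K) l ^ Nat.gcd (Nat.card K) (p ^ m) = 1 :=
        pow_gcd_eq_one.mpr ⟨e1, e2⟩
      rw [Nat.Coprime.gcd_eq_one (Nat.Coprime.pow_right m hcopp), pow_one] at e3
      exact (QuotientGroup.eq_one_iff l).mp e3
    obtain ⟨x, hx⟩ := exists_conj_mem_sylow' P hvpm
    refine ⟨x⁻¹ * l ^ Nat.card K * x, hx, ?_, ?_⟩
    · have hvL : l ^ Nat.card K ∈ L := Subgroup.pow_mem _ hlL _
      have h1 := hLn.conj_mem _ hvL x⁻¹
      rwa [inv_inv] at h1
    · intro e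
      apply hv1
      have e1 : l ^ Nat.card K = x * (x⁻¹ * l ^ Nat.card K * x) * x⁻¹ := by group
      rw [e1, e]
      group
  -- `L ≤ P K`
  have hLPK : ∀ l ∈ L, ∃ w ∈ (P : Subgroup G), ∃ c ∈ K, l = w * c := by
    intro l hl
    have hπ : Function.Surjective (QuotientGroup.mk' K) := QuotientGroup.mk'_surjective K
    have hLbar : IsPGroup p (L.map (QuotientGroup.mk' K)) := by
      rintro ⟨_, l', hl', rfl⟩
      refine ⟨m, ?_⟩
      apply Subtype.ext
      rw [Subgroup.coe_pow, Subgroup.coe_one]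
      show (QuotientGroup.mk' K) l' ^ p ^ m = 1
      rw [← map_pow]
      have h1 := pow_relIndex_mem K L hl'
      rw [hm] at h1
      exact (QuotientGroup.eq_one_iff _).mpr h1
    have hLbarN : (L.map (QuotientGroup.mk' K)).Normal := hLn.map _ hπ
    obtain ⟨Q, hQ⟩ := hLbar.exists_le_sylow
    obtain ⟨γ, hγ⟩ := MulAction.exists_smul_eq (G ⧸ K) (P.mapSurjective hπ) Q
    have h1 : γ * (QuotientGroup.mk' K) l * γ⁻¹ ∈ L.map (QuotientGroup.mk' K) :=
      hLbarN.conj_mem _ (Subgroup.mem_map_of_mem _ hl) γ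
    have h2 : γ * (QuotientGroup.mk' K) l * γ⁻¹ ∈ (Q : Subgroup (G ⧸ K)) := hQ h1
    rw [← hγ, Sylow.coe_subgroup_smul, Subgroup.mem_smul_pointwise_iff_exists] at h2
    obtain ⟨u, hu, e⟩ := h2
    have e' : u = (QuotientGroup.mk' K) l := by
      have e2 : γ * u * γ⁻¹ = γ * (QuotientGroup.mk' K) l * γ⁻¹ := by
        rw [← e]
        simp [MulAut.smul_def, MulAut.conj_apply]
      exact mul_left_cancel (mul_right_cancel e2)
    rw [Sylow.coe_mapSurjective] at hu
    obtain ⟨w, hw, hwu⟩ := hu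
    refine ⟨w, hw, w⁻¹ * l, ?_, by group⟩
    apply QuotientGroup.eq.mp
    show (QuotientGroup.mk' K) w = (QuotientGroup.mk' K) l
    rw [hwu, e']
  -- conclusion
  constructor
  intro x hx g
  have hg : g ∈ Subgroup.normalizer ((P : Subgroup G) : Set G) := by
    apply hti g y hyP _ hy1
    have hgyL : g * y * g⁻¹ ∈ L := hLn.conj_mem y hyL g
    obtain ⟨w, hw, c, hc, e⟩ := hLPK _ hgyL
    have hyc : y ^ Nat.card (P : Subgroup G) = 1 := pow_card_of_mem _ hyP
    have h1 : (w * c) ^ Nat.card (P : Subgroup G) = 1 := by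
      rw [← e, conj_pow, hyc]
      group
    have hwc : Commute w c := (show Commute c w from hcent w hw c hc).symm
    rw [hwc.mul_pow, pow_card_of_mem _ hw, one_mul] at h1
    have h3 : c ^ Nat.gcd (Nat.card K) (Nat.card (P : Subgroup G)) = 1 :=
      pow_gcd_eq_one.mpr ⟨pow_card_of_mem K hc, h1⟩
    rw [Nat.Coprime.gcd_eq_one hcop, pow_one] at h3
    rw [e, h3, mul_one]
    exact hw
  exact (Subgroup.mem_normalizer_iff.mp hg x).mp hx

end Red

end Cfsg.Agent.Lib.Helper26.TIS
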