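import Mathlib

/-!
# Transfer into a Sylow subgroup kills central elements of a perfect group (helper26)
-/

namespace Cfsg.Agent.Lib.Helper26

/-- In a finite perfect group `H`, any homomorphism from a Sylow `p`-subgroup `P` to an abelian
group kills `Z(H) ∩ P` (transfer argument). -/
theorem transfer_central_eq_one {H : Type*} [Group H] [Finite H] (hH : commutator H = ⊤) {p : ℕ}
    [Fact p.Prime] (P : Sylow p H) {A : Type*} [CommGroup A] (ϕ : (P : Subgroup H) →* A) (z : H)
    (hzc : z ∈ Subgroup.center H) (hzP : z ∈ (P : Subgroup H)) : ϕ ⟨z, hzP⟩ = 1 := by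
  have htriv : MonoidHom.transfer ϕ z = 1 := by
    have h1 : commutator H ≤ (MonoidHom.transfer ϕ).ker :=
      Abelianization.commutator_subset_ker _
    rw [hH] at h1
    exact h1 (Subgroup.mem_top z)
  have hpow := MonoidHom.transfer_eq_pow ϕ z (fun k g₀ _ => by
    have hc : z ^ k ∈ Subgroup.center H := pow_mem hzc k
    rw [mul_assoc, ← (Subgroup.mem_center_iff.1 hc g₀), inv_mul_cancel_left])
  rw [htriv] at hpow
  have hpow' : (ϕ ⟨z, hzP⟩) ^ (P : Subgroup H).index = 1 := by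
    rw [← map_pow]
    exact hpow.symm
  have hndvd : ¬ p ∣ (P : Subgroup H).index := P.not_dvd_index
  obtain ⟨k, hk⟩ := IsPGroup.iff_orderOf.1 P.isPGroup' ⟨z, hzP⟩
  have h1 : orderOf (ϕ ⟨z, hzP⟩) ∣ p ^ k := by
    rw [← hk]; exact orderOf_map_dvd ϕ _
  have h2 : orderOf (ϕ ⟨z, hzP⟩) ∣ (P : Subgroup H).index := orderOf_dvd_of_pow_eq_one hpow'
  have hcop : Nat.Coprime (p ^ k) (P : Subgroup H).index :=
    Nat.Coprime.pow_left k ((Nat.Prime.coprime_iff_not_dvd Fact.out).2 hndvd)
  have h3 := Nat.dvd_gcd h1 h2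
  rw [hcop.gcd_eq_one] at h3
  exact orderOf_eq_one_iff.1 (Nat.dvd_one.1 h3)

/-- In a finite perfect group `H`, `Z(H) ∩ P ≤ P'` for a Sylow `p`-subgroup `P`. -/
theorem central_mem_commutator_sylow {H : Type*} [Group H] [Finite H] (hH : commutator H = ⊤)
    {p : ℕ} [Fact p.Prime] (P : Sylow p H) (z : H) (hzc : z ∈ Subgroup.center H)
    (hzP : z ∈ (P : Subgroup H)) :
    (⟨z, hzP⟩ : (P : Subgroup H)) ∈ commutator (P : Subgroup H) := by
  have h := transfer_central_eq_one hH P (Abelianization.of) z hzc hzP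
  rw [← Abelianization.ker_of]
  exact MonoidHom.mem_ker.2 h

end Cfsg.Agent.Lib.Helper26
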