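import Mathlib
import Cfsg.Prelude.Def_Characters
import Cfsg.Prelude.Def_Blocks
import Cfsg.Prelude.Def_Transfer
import Cfsg.Agent.Lib.Helper26.Clifford
import Cfsg.Agent.Lib.Helper26.CentralClifford
import Cfsg.Agent.Lib.Helper26.CohFrobA
import Cfsg.Agent.Lib.Helper26.CohDescent
import Cfsg.Agent.Lib.Helper4.Deflate
import Cfsg.Agent.Lib.Helper4.Monomial
import Cfsg.Agent.Lib.Helper4.Decomp
import Cfsg.Agent.Lib.Helper28.ScalarDegree
import Cfsg.Agent.Lib.Helper2.PiClosed
import Cfsg.Agent.Lib.Helper2.NilpotentBasic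
import Cfsg.Agent.Lib.Helper2.PGroupFrattini

/-!
# Nilpotent groups with a unique irreducible character of degree divisible by `p` (helper26)

* `linear_trivial_on_commutator`: a linear irreducible character is trivial on the commutator subgroup.
* `sylow_sup_centralizer_eq_top`: in a finite nilpotent group, `P C_G(P) = G` for a Sylow subgroup.
* `not_dvd_degree_of_commutator_sylow_le_ker`, `commutator_le_ker_of_not_dvd`.
* `unique_psing_imp`, `extraspecial_imp_unique`: the two directions of the characterization.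
-/

set_option autoImplicit false

namespace Cfsg.Agent.Lib.Helper26
open Cfsg
open scoped ComplexConjugate
open scoped commutatorElement

theorem linear_trivial_on_commutator {K : Type*} [Group K] {μ : K → ℂ}
    (hμ : IsIrrCharacter K μ) (h1 : μ 1 = 1) : ∀ d ∈ commutator K, μ d = 1 := by
  obtain ⟨n, τ, hτ, rfl⟩ := hμ
  have hn : Module.finrank ℂ (Fin n → ℂ) = 1 := by
    rw [Representation.char_one] at h1
    exact_mod_cast h1
  obtain ⟨lam, hlam⟩ := Cfsg.Agent.Lib.Helper4.exists_hom_of_finrank_eq_one τ hn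
  intro d hd
  have hk : d ∈ lam.ker := Abelianization.commutator_subset_ker lam hd
  rw [← hlam d, MonoidHom.mem_ker.1 hk]
  simp

theorem sylow_sup_centralizer_eq_top {G : Type*} [Group G] [Finite G] [hnil : Group.IsNilpotent G]
    {p : ℕ} [Fact p.Prime] (P : Sylow p G) :
    (P : Subgroup G) ⊔ Subgroup.centralizer ((P : Subgroup G) : Set G) = ⊤ := by
  have h03 : Group.IsNilpotent G ↔
      ∀ (p : ℕ) (_hp : Fact p.Prime) (P : Sylow p G), (↑P : Subgroup G).Normal :=
    (Group.isNilpotent_of_finite_tfae (G := G)).out 0 3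
  have hnorm : ∀ (q : ℕ) [Fact q.Prime] (Q : Sylow q G), (Q : Subgroup G).Normal :=
    fun q _ Q => h03.1 hnil q inferInstance Q
  apply Cfsg.Agent.Lib.Helper2.PiClosed.eq_top_of_forall_sylow_le
  intro q _ hq
  by_cases hqp : q = p
  · subst hqp
    exact ⟨P, le_sup_left⟩
  · obtain ⟨Q⟩ : Nonempty (Sylow q G) := inferInstance
    refine ⟨Q, le_trans ?_ le_sup_right⟩
    intro y hy
    rw [Subgroup.mem_centralizer_iff]
    intro a ha
    have hdis : Disjoint (P : Subgroup G) (Q : Subgroup G) :=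
      IsPGroup.disjoint_of_ne p q (Ne.symm hqp) _ _ P.isPGroup' Q.isPGroup'
    exact (Subgroup.commute_of_normal_of_disjoint _ _ (hnorm p P) (hnorm q Q) hdis a y ha hy).eq

theorem sylow_scalar_of_abelian_image {G : Type*} [Group G] [Finite G] [Group.IsNilpotent G]
    {p : ℕ} [Fact p.Prime] (P : Sylow p G)
    {V : Type*} [AddCommGroup V] [Module ℂ V] [FiniteDimensional ℂ V]
    (ρ : Representation ℂ G V) (hρ : ρ.IsIrreducible)
    (hab : ∀ a ∈ (P : Subgroup G), ∀ b ∈ (P : Subgroup G), ρ a * ρ b = ρ b * ρ a) :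
    ∀ a ∈ (P : Subgroup G), ∃ c : ℂ, ρ a = c • LinearMap.id := by
  let S : Subgroup G :=
    { carrier := {g | ∀ a ∈ (P : Subgroup G), ρ a * ρ g = ρ g * ρ a}
      mul_mem' := by
        intro x y hx hy a ha
        calc ρ a * ρ (x * y) = (ρ a * ρ x) * ρ y := by rw [map_mul, mul_assoc]
          _ = ρ x * (ρ a * ρ y) := by rw [hx a ha, mul_assoc]
          _ = ρ (x * y) * ρ a := by rw [hy a ha, ← mul_assoc, map_mul]
      one_mem' := by
        intro a ha
        rw [map_one, mul_one, one_mul]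
      inv_mem' := by
        intro x hx a ha
        have h1 : ρ x⁻¹ * ρ x = 1 := by rw [← map_mul, inv_mul_cancel, map_one]
        have h2 : ρ x * ρ x⁻¹ = 1 := by rw [← map_mul, mul_inv_cancel, map_one]
        calc ρ a * ρ x⁻¹ = ρ x⁻¹ * ρ x * (ρ a * ρ x⁻¹) := by rw [h1, one_mul]
          _ = ρ x⁻¹ * (ρ x * ρ a) * ρ x⁻¹ := by simp only [mul_assoc]
          _ = ρ x⁻¹ * (ρ a * ρ x) * ρ x⁻¹ := by rw [hx a ha]
          _ = ρ x⁻¹ * ρ a * (ρ x * ρ x⁻¹) := by simp only [mul_assoc]
          _ = ρ x⁻¹ * ρ a := by rw [h2, mul_one] }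
  have hS : S = ⊤ := by
    rw [eq_top_iff, ← sylow_sup_centralizer_eq_top P, sup_le_iff]
    constructor
    · intro x hx
      show ∀ a ∈ (P : Subgroup G), ρ a * ρ x = ρ x * ρ a
      intro a ha
      exact hab a ha x hx
    · intro x hx
      show ∀ a ∈ (P : Subgroup G), ρ a * ρ x = ρ x * ρ a
      intro a ha
      rw [Subgroup.mem_centralizer_iff] at hx
      rw [← map_mul, ← map_mul, hx a ha]
  intro a ha
  apply Cfsg.Agent.Lib.Helper4.exists_scalar_of_commute ρ hρ (ρ a)
  intro g v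
  have hg : g ∈ S := by rw [hS]; exact Subgroup.mem_top g
  have h3 : ρ a * ρ g = ρ g * ρ a := hg a ha
  calc ρ a (ρ g v) = (ρ a * ρ g) v := rfl
    _ = (ρ g * ρ a) v := by rw [h3]
    _ = ρ g (ρ a v) := rfl

theorem not_dvd_degree_of_commutator_sylow_le_ker {G : Type*} [Group G] [Fintype G]
    [Group.IsNilpotent G] {p : ℕ} [Fact p.Prime] (P : Sylow p G)
    {V : Type*} [AddCommGroup V] [Module ℂ V] [FiniteDimensional ℂ V]
    (ρ : Representation ℂ G V) (hρ : ρ.IsIrreducible)
    (hD : ∀ d : ↥(P : Subgroup G), d ∈ commutator ↥(P : Subgroup G) → ρ (d : G) = 1) :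
    ¬ p ∣ Module.finrank ℂ V := by
  have hab : ∀ a ∈ (P : Subgroup G), ∀ b ∈ (P : Subgroup G), ρ a * ρ b = ρ b * ρ a := by
    intro a ha b hb
    have hmem : ⁅(⟨a, ha⟩ : ↥(P : Subgroup G)), ⟨b, hb⟩⁆ ∈ commutator ↥(P : Subgroup G) := by
      rw [commutator_def]
      exact Subgroup.commutator_mem_commutator (Subgroup.mem_top _) (Subgroup.mem_top _)
    have h1 := hD _ hmem
    have h2 : ((⁅(⟨a, ha⟩ : ↥(P : Subgroup G)), ⟨b, hb⟩⁆ : ↥(P : Subgroup G)) : G) =
        a * b * a⁻¹ * b⁻¹ := by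
      rw [commutatorElement_def]; rfl
    rw [h2] at h1
    have h3 : a * b = (a * b * a⁻¹ * b⁻¹) * (b * a) := by group
    calc ρ a * ρ b = ρ (a * b) := (map_mul ρ a b).symm
      _ = ρ ((a * b * a⁻¹ * b⁻¹) * (b * a)) := by rw [← h3]
      _ = ρ (a * b * a⁻¹ * b⁻¹) * (ρ b * ρ a) := by
          rw [map_mul ρ (a * b * a⁻¹ * b⁻¹) (b * a), map_mul ρ b a]
      _ = ρ b * ρ a := by rw [h1, one_mul]
  have hsc := sylow_scalar_of_abelian_image P ρ hρ hab
  have hdvd := Cfsg.Agent.Lib.Helper28.degree_dvd_index_of_scalar ρ hρ (P : Subgroup G) hsc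
  intro hp
  exact P.not_dvd_index (hp.trans hdvd)

theorem commutator_le_ker_of_not_dvd {G : Type*} [Group G] [Fintype G] (N : Subgroup G)
    [hN : N.Normal] [Fintype N] {p : ℕ} [hp : Fact p.Prime] (hNp : IsPGroup p N) {ψ : G → ℂ}
    (hψ : IsIrrCharacter G ψ) (m : ℕ) (hm : ψ 1 = m) (hpm : ¬ p ∣ m) :
    ∀ d : N, d ∈ commutator N → ψ (d : G) = ψ 1 := by
  classical
  obtain ⟨n, ρ, hρ, hρψ⟩ := hψ
  have hV : Module.finrank ℂ (Fin n → ℂ) ≠ 0 := by
    have := Cfsg.Agent.Lib.Helper4.nontrivial_of_irreducible ρ hρ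
    exact (Module.finrank_pos (R := ℂ) (M := Fin n → ℂ)).ne'
  obtain ⟨σ, hσ⟩ : ∃ σ : Representation ℂ ↥N (Fin n → ℂ), σ = ρ.comp N.subtype := ⟨_, rfl⟩
  obtain ⟨n0, τ, hτ, hne⟩ :=
    Cfsg.Agent.Lib.Helper4.exists_irreducible_injective σ hV
  have hres : σ.character = ψ ∘ N.subtype := by
    rw [← hρψ, hσ]; rfl
  have hχ0 : IsIrrCharacter N τ.character := ⟨n0, τ, hτ, rfl⟩
  have hc : classInner (ψ ∘ N.subtype) τ.character =
      (Module.finrank ℂ (Representation.IntertwiningMap τ σ) : ℂ) := by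
    rw [← hres]
    exact Cfsg.Agent.Lib.Helper4.classInner_eq_finrank_intertwining τ σ
  rw [hres] at hne
  have hcl := clifford_restrict N ⟨n, ρ, hρ, hρψ⟩ hχ0 hne
  have heval : ∀ x : N, ψ (x : G) = classInner (ψ ∘ N.subtype) τ.character *
      ∑ μ ∈ Finset.univ.image (conjFunN N τ.character), μ x := by
    intro x
    have h := congrFun hcl x
    rw [Pi.smul_apply, Finset.sum_apply, smul_eq_mul] at h
    exact h
  have hμ1 : ∀ μ ∈ Finset.univ.image (conjFunN N τ.character), μ 1 = (n0 : ℂ) := by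
    intro μ hμ
    obtain ⟨g, -, rfl⟩ := Finset.mem_image.1 hμ
    rw [conjFunN_apply_one, Representation.char_one, Module.finrank_fin_fun]
  have h1 : (m : ℂ) = (Module.finrank ℂ (Representation.IntertwiningMap τ σ) : ℂ) *
      (((Finset.univ.image (conjFunN N τ.character)).card : ℂ) * (n0 : ℂ)) := by
    have h := heval 1
    rw [Subgroup.coe_one, hm, hc, Finset.sum_congr rfl hμ1, Finset.sum_const, nsmul_eq_mul] at h
    exact h
  have h1' : m = Module.finrank ℂ (Representation.IntertwiningMap τ σ) *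
      ((Finset.univ.image (conjFunN N τ.character)).card * n0) := by exact_mod_cast h1
  have hn0m : n0 ∣ m := ⟨Module.finrank ℂ (Representation.IntertwiningMap τ σ) *
      (Finset.univ.image (conjFunN N τ.character)).card, by rw [h1']; ring⟩
  have hn0N : n0 ∣ Nat.card N := by
    have := Cfsg.Agent.Lib.Helper4.degree_dvd_card τ hτ
    rwa [Module.finrank_fin_fun] at this
  obtain ⟨k, hk⟩ := IsPGroup.iff_card.1 hNp
  rw [hk] at hn0N
  obtain ⟨j, -, hj⟩ := (Nat.dvd_prime_pow hp.out).1 hn0N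
  have hj0 : j = 0 := by
    by_contra hj0
    apply hpm
    refine dvd_trans ?_ hn0m
    rw [hj]
    exact dvd_pow_self p hj0
  have hn0 : n0 = 1 := by rw [hj, hj0, pow_zero]
  intro d hd
  have hlin : ∀ μ ∈ Finset.univ.image (conjFunN N τ.character), μ d = μ 1 := by
    intro μ hμ
    have hμ1' : μ 1 = 1 := by rw [hμ1 μ hμ, hn0]; simp
    obtain ⟨g, -, rfl⟩ := Finset.mem_image.1 hμ
    rw [linear_trivial_on_commutator (isIrrCharacter_conjFunN N hχ0 g) hμ1' d hd, hμ1']
  calc ψ (d : G) = classInner (ψ ∘ N.subtype) τ.character *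
        ∑ μ ∈ Finset.univ.image (conjFunN N τ.character), μ d := heval d
    _ = classInner (ψ ∘ N.subtype) τ.character *
        ∑ μ ∈ Finset.univ.image (conjFunN N τ.character), μ 1 := by
        rw [Finset.sum_congr rfl hlin]
    _ = ψ ((1 : N) : G) := (heval 1).symm
    _ = ψ 1 := by rw [Subgroup.coe_one]

theorem normal_card_two_le_center {G : Type*} [Group G] (D : Subgroup G) [hD : D.Normal]
    (h : Nat.card D = 2) : D ≤ Subgroup.center G := by
  intro c hc
  rw [Subgroup.mem_center_iff]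
  intro g
  by_cases hc1 : c = 1
  · rw [hc1, mul_one, one_mul]
  · obtain ⟨y, hy, huniq⟩ := (Nat.card_eq_two_iff' (1 : D)).1 h
    have hgc : g * c * g⁻¹ ∈ D := hD.conj_mem c hc g
    have h1 : (⟨c, hc⟩ : D) = y := huniq _ (fun h0 => hc1 (congrArg Subtype.val h0))
    have hne : g * c * g⁻¹ ≠ 1 := by
      intro h0
      apply hc1
      calc c = g⁻¹ * (g * c * g⁻¹) * g := by group
        _ = 1 := by rw [h0]; group
    have h2 : (⟨g * c * g⁻¹, hgc⟩ : D) = y := huniq _ (fun h0 => hne (congrArg Subtype.val h0))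
    have h3 : g * c * g⁻¹ = c := congrArg Subtype.val (h2.trans h1.symm)
    calc g * c = g * c * g⁻¹ * g := by group
      _ = c * g := by rw [h3]

theorem arith_aux (d a z b s N : ℕ) (hda : d * a = N) (hzb : z * b = N) (hN : a + s = N)
    (hsb : s ≤ b) (hz : 2 ≤ z) (ha : 0 < a) (hs : 1 ≤ s) : d = 2 ∧ z = 2 := by
  have hd1 : 1 ≤ d := by
    rcases Nat.eq_zero_or_pos d with h0 | h0
    · rw [h0, zero_mul] at hda; omega
    · exact h0
  obtain ⟨e, he⟩ : ∃ e, d = e + 1 := ⟨d - 1, by omega⟩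
  have h3 : (e + 1) * a = e * a + a := by ring
  have hes : e * a = s := by
    have : (e + 1) * a = a + s := by rw [← he, hda, hN]
    linarith
  have h4 : z * e * a ≤ (e + 1) * a := by
    calc z * e * a = z * (e * a) := by ring
      _ = z * s := by rw [hes]
      _ ≤ z * b := Nat.mul_le_mul_left z hsb
      _ = (e + 1) * a := by rw [hzb, ← hda, he]
  have h5 : z * e ≤ e + 1 := Nat.le_of_mul_le_mul_right h4 ha
  have he1 : 1 ≤ e := by
    rcases Nat.eq_zero_or_pos e with h0 | h0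
    · rw [h0, zero_mul] at hes; omega
    · exact h0
  have h6 : 2 * e ≤ z * e := Nat.mul_le_mul_right e hz
  have he' : e = 1 := by
    have : e ≤ 1 := by linarith
    omega
  rw [he', mul_one] at h5
  exact ⟨by omega, by omega⟩

end Cfsg.Agent.Lib.Helper26
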