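import Mathlib
import Cfsg.Prelude.Def_Characters
import Cfsg.Prelude.Def_Blocks
import Cfsg.Prelude.Def_Transfer
import Cfsg.Agent.Lib.Helper26.UniquePSing

/-!
# Nilpotent groups with a unique irreducible character of degree divisible by `p` (helper26)

`unique_psing_imp`: such a group is an extraspecial 2-group and `p = 2`.
-/

set_option autoImplicit false

namespace Cfsg.Agent.Lib.Helper26
open Cfsg
open scoped ComplexConjugate
open scoped commutatorElement

theorem unique_psing_imp {G : Type*} [Group G] [Finite G] [hnil : Group.IsNilpotent G] (p : ℕ)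
    [hp : Fact p.Prime]
    (h : Nat.card {χ : IrrCharacter G // p ∣ charDegree (χ : G → ℂ)} = 1) :
    p = 2 ∧ IsExtraspecial 2 G := by
  classical
  haveI : Fintype G := Fintype.ofFinite G
  haveI : Fintype (IrrCharacter G) := Fintype.ofFinite _
  have h03 : Group.IsNilpotent G ↔
      ∀ (p : ℕ) (_hp : Fact p.Prime) (P : Sylow p G), (↑P : Subgroup G).Normal :=
    (Group.isNilpotent_of_finite_tfae (G := G)).out 0 3
  have hnorm : ∀ (q : ℕ) [Fact q.Prime] (Q : Sylow q G), (Q : Subgroup G).Normal :=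
    fun q _ Q => h03.1 hnil q inferInstance Q
  obtain ⟨P⟩ : Nonempty (Sylow p G) := inferInstance
  haveI hPn : (P : Subgroup G).Normal := hnorm p P
  haveI : Fintype ↥(P : Subgroup G) := Fintype.ofFinite _
  obtain ⟨D, hDdef⟩ : ∃ D : Subgroup G,
      D = (commutator ↥(P : Subgroup G)).map (P : Subgroup G).subtype := ⟨_, rfl⟩
  have hDcomm : D = ⁅(P : Subgroup G), (P : Subgroup G)⁆ := by
    rw [hDdef, Subgroup.map_subtype_commutator]
  haveI hDn : D.Normal := by rw [hDcomm]; infer_instance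
  have hDP : D ≤ (P : Subgroup G) := by rw [hDcomm]; exact Subgroup.commutator_le_self _
  have key : ∀ ψ : IrrCharacter G, (∀ x ∈ D, (ψ : G → ℂ) x = (ψ : G → ℂ) 1) ↔
      ¬ p ∣ charDegree (ψ : G → ℂ) := by
    intro ψ
    obtain ⟨n, ρ, hρ, hρψ⟩ := ψ.2
    have hdeg : charDegree (ψ : G → ℂ) = n := by
      rw [← hρψ, Cfsg.Agent.Lib.Helper4.charDegree_character, Module.finrank_fin_fun]
    have hψ1 : (ψ : G → ℂ) 1 = (n : ℂ) := by
      rw [← hρψ, Representation.char_one, Module.finrank_fin_fun]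
    constructor
    · intro hD
      rw [hdeg]
      have h3 := not_dvd_degree_of_commutator_sylow_le_ker P ρ hρ (fun d hd => by
        have h1 : ((d : ↥(P : Subgroup G)) : G) ∈ D := by
          rw [hDdef]; exact Subgroup.mem_map_of_mem _ hd
        have h2 := hD _ h1
        rw [← hρψ, Cfsg.Agent.Lib.Helper4.character_eq_one_iff_mem_ker] at h2
        exact MonoidHom.mem_ker.1 h2)
      rwa [Module.finrank_fin_fun] at h3
    · intro hnd x hx
      rw [hDdef] at hx
      obtain ⟨d, hd, rfl⟩ := Subgroup.mem_map.1 hx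
      exact commutator_le_ker_of_not_dvd (P : Subgroup G) P.isPGroup' ψ.2 n hψ1
        (by rwa [hdeg] at hnd) d hd
  have key' : ∀ ψ : IrrCharacter G, (¬ ∀ x ∈ D, (ψ : G → ℂ) x = (ψ : G → ℂ) 1) ↔
      p ∣ charDegree (ψ : G → ℂ) := by
    intro ψ
    rw [key ψ, not_not]
  rw [Nat.card_eq_one_iff_unique] at h
  obtain ⟨hsub, ⟨χ0⟩⟩ := h
  have huniq : ∀ ψ : IrrCharacter G, p ∣ charDegree (ψ : G → ℂ) → ψ = χ0.1 := fun ψ hψ =>
    congrArg Subtype.val
      (Subsingleton.elim (⟨ψ, hψ⟩ : {χ : IrrCharacter G // p ∣ charDegree (χ : G → ℂ)}) χ0)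
  obtain ⟨n0, ρ0, hρ0, hρχ0⟩ := χ0.1.2
  have hdeg0 : charDegree (χ0.1 : G → ℂ) = n0 := by
    rw [← hρχ0, Cfsg.Agent.Lib.Helper4.charDegree_character, Module.finrank_fin_fun]
  have hχ01 : (χ0.1 : G → ℂ) 1 = (n0 : ℂ) := by
    rw [← hρχ0, Representation.char_one, Module.finrank_fin_fun]
  have hn0pos : 0 < n0 := by
    have := Cfsg.Agent.Lib.Helper4.nontrivial_of_irreducible ρ0 hρ0
    have h1 := Module.finrank_pos (R := ℂ) (M := Fin n0 → ℂ)
    rwa [Module.finrank_fin_fun] at h1
  have hsum := Cfsg.Agent.Lib.Helper4.sum_sq_degree (G := G)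
  have hsumD := Cfsg.Agent.Lib.Helper4.sum_sq_degree_ker (G := G) D
  have hDsum : ∑ χ ∈ Finset.univ.filter (fun χ : IrrCharacter G =>
      ∀ x ∈ D, (χ : G → ℂ) x = (χ : G → ℂ) 1), (χ : G → ℂ) 1 ^ 2 = (D.index : ℂ) := by
    convert hsumD
  have hsplit : ((D.index : ℕ) : ℂ) + (n0 : ℂ) ^ 2 = (Nat.card G : ℂ) := by
    rw [← hDsum, ← hsum, ← hχ01]
    rw [← Finset.sum_filter_add_sum_filter_not Finset.univ (fun χ : IrrCharacter G =>
      ∀ x ∈ D, (χ : G → ℂ) x = (χ : G → ℂ) 1) (fun χ : IrrCharacter G => (χ : G → ℂ) 1 ^ 2)]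
    congr 1
    symm
    refine Finset.sum_eq_single_of_mem
      (f := fun χ : IrrCharacter G => (χ : G → ℂ) 1 ^ 2) χ0.1 ?_ ?_
    · rw [Finset.mem_filter]; exact ⟨Finset.mem_univ _, (key' χ0.1).2 χ0.2⟩
    · intro b hb hne
      rw [Finset.mem_filter] at hb
      exact absurd (huniq b ((key' b).1 hb.2)) hne
  have hN : D.index + n0 ^ 2 = Nat.card G := by exact_mod_cast hsplit
  have hbound : n0 ^ 2 ≤ (Subgroup.center G).index := by
    have h1 := degree_sq_le ρ0 hρ0 ⊤ (Subgroup.center G) le_top (by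
      intro x hx y _
      rw [← map_mul, ← map_mul, (Subgroup.mem_center_iff.1 hx y)])
    rw [Module.finrank_fin_fun, Subgroup.index_top, one_pow, one_mul,
      Subgroup.relIndex_top_right] at h1
    exact h1
  have hs1 : 1 ≤ n0 ^ 2 := Nat.one_le_pow _ _ hn0pos
  have hapos : 0 < D.index := Nat.pos_of_ne_zero Subgroup.index_ne_zero_of_finite
  have hGne : (⊤ : Subgroup G) ≠ ⊥ := by
    intro htop
    have h1 : Nat.card (⊤ : Subgroup G) = Nat.card (⊥ : Subgroup G) := by rw [htop]
    rw [Subgroup.card_top, Subgroup.card_bot] at h1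
    omega
  have hZne : Subgroup.center G ≠ ⊥ := by
    have h1 := Cfsg.Agent.Lib.Helper2.normal_inf_center_ne_bot (⊤ : Subgroup G) hGne
    rwa [top_inf_eq] at h1
  have hz2' : 2 ≤ Nat.card (Subgroup.center G) :=
    (Subgroup.one_lt_card_iff_ne_bot _).2 hZne
  obtain ⟨hd2, hz2⟩ := arith_aux (Nat.card D) D.index (Nat.card (Subgroup.center G))
    (Subgroup.center G).index (n0 ^ 2) (Nat.card G) (Subgroup.card_mul_index D)
    (Subgroup.card_mul_index _) hN hbound hz2' hapos hs1
  -- all prime divisors of |G| are 2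
  have hq2 : ∀ q : ℕ, q.Prime → q ∣ Nat.card G → q = 2 := by
    intro q hq hqd
    haveI := Fact.mk hq
    obtain ⟨Q⟩ : Nonempty (Sylow q G) := inferInstance
    haveI := hnorm q Q
    have hQne : (Q : Subgroup G) ≠ ⊥ := Q.ne_bot_of_dvd_card hqd
    have h1 := Cfsg.Agent.Lib.Helper2.normal_inf_center_ne_bot (Q : Subgroup G) hQne
    obtain ⟨⟨x, hx⟩, hx1⟩ := (Subgroup.ne_bot_iff_exists_ne_one).1 h1
    obtain ⟨hxQ, hxZ⟩ := Subgroup.mem_inf.1 hx
    have hx1' : x ≠ 1 := fun h0 => hx1 (Subtype.ext h0)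
    obtain ⟨k, hk⟩ := (IsPGroup.iff_orderOf.1 Q.isPGroup') ⟨x, hxQ⟩
    rw [Subgroup.orderOf_mk] at hk
    have hdvd : orderOf x ∣ 2 := by
      rw [← hz2]; exact Subgroup.orderOf_dvd_natCard _ hxZ
    have hk0 : k ≠ 0 := by
      rintro rfl
      rw [pow_zero, orderOf_eq_one_iff] at hk
      exact hx1' hk
    have h2 : q ∣ 2 := by
      refine dvd_trans (dvd_pow_self q hk0) ?_
      rw [← hk]; exact hdvd
    exact (Nat.prime_dvd_prime_iff_eq hq Nat.prime_two).1 h2
  have h2grp : IsPGroup 2 G := by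
    have hne : Nat.card G ≠ 0 := Nat.card_pos.ne'
    have h1 := Nat.eq_prime_pow_of_unique_prime_dvd hne (fun {q} hq hqd => hq2 q hq hqd)
    exact IsPGroup.of_card h1
  have hp2 : p = 2 := by
    have hDp : IsPGroup p D := P.isPGroup'.to_le hDP
    obtain ⟨k, hk⟩ := IsPGroup.iff_card.1 hDp
    rw [hd2] at hk
    have hk0 : k ≠ 0 := by
      rintro rfl
      simp at hk
    have h2 : p ∣ 2 := by rw [hk]; exact dvd_pow_self p hk0
    exact (Nat.prime_dvd_prime_iff_eq hp.out Nat.prime_two).1 h2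
  subst hp2
  have hPtop : (P : Subgroup G) = ⊤ :=
    (P.is_maximal' (Q := ⊤) (h2grp.to_subgroup ⊤) le_top).symm
  have hDcomm' : D = commutator G := by rw [hDcomm, hPtop, ← commutator_def]
  have hDZ : D = Subgroup.center G :=
    Subgroup.eq_of_le_of_card_ge (normal_card_two_le_center D hd2) (by rw [hd2, hz2])
  have hcommZ : commutator G = Subgroup.center G := by rw [← hDcomm', hDZ]
  have hfr : frattini G = Subgroup.center G := by
    apply le_antisymm
    · apply Cfsg.Agent.Lib.Helper2.frattini_le_of_elementary_quotient (p := 2)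
        (Subgroup.center G) (le_of_eq hcommZ)
      intro x
      rw [Subgroup.mem_center_iff]
      intro y
      obtain ⟨c, hcdef⟩ : ∃ c, c = x⁻¹ * y⁻¹ * x * y := ⟨_, rfl⟩
      have hcmem : c ∈ Subgroup.center G := by
        rw [← hcommZ, hcdef]
        have h1 : ⁅x⁻¹, y⁻¹⁆ ∈ commutator G := by
          rw [commutator_def]
          exact Subgroup.commutator_mem_commutator (Subgroup.mem_top _) (Subgroup.mem_top _)
        rwa [commutatorElement_def, inv_inv, inv_inv] at h1
      have hcc : ∀ g, g * c = c * g := Subgroup.mem_center_iff.1 hcmem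
      have hc2 : c * c = 1 := by
        have h1 := pow_card_eq_one' (G := Subgroup.center G) (x := ⟨c, hcmem⟩)
        rw [hz2] at h1
        have h2 := congrArg Subtype.val h1
        simpa [pow_two] using h2
      have hxy : x * y = y * x * c := by rw [hcdef]; group
      symm
      calc x ^ 2 * y = x * (x * y) := by rw [pow_two, mul_assoc]
        _ = x * (y * x * c) := by rw [hxy]
        _ = (x * y) * (x * c) := by simp only [mul_assoc]
        _ = (y * x * c) * (x * c) := by rw [hxy]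
        _ = y * x * (c * x) * c := by simp only [mul_assoc]
        _ = y * x * (x * c) * c := by rw [← hcc x]
        _ = y * (x * x) * (c * c) := by simp only [mul_assoc]
        _ = y * x ^ 2 := by rw [hc2, mul_one, pow_two]
    · rw [← hcommZ]
      exact Cfsg.Agent.Lib.Helper2.commutator_le_frattini_of_isPGroup h2grp
  exact ⟨rfl, ⟨h2grp, hfr, hcommZ⟩, hz2⟩

end Cfsg.Agent.Lib.Helper26
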