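import Mathlib
import Cfsg.Prelude.Def_Characters
import Cfsg.Prelude.Def_Blocks
import Cfsg.Prelude.Def_Transfer
import Cfsg.Agent.Lib.Helper26.UniquePSing

/-!
# Extraspecial 2-groups have a unique irreducible character of even degree (helper26)
-/

set_option autoImplicit false

namespace Cfsg.Agent.Lib.Helper26
open Cfsg
open scoped ComplexConjugate
open scoped commutatorElement

theorem extraspecial_imp_unique {G : Type*} [Group G] [Finite G] (h : IsExtraspecial 2 G) :
    Nat.card {χ : IrrCharacter G // 2 ∣ charDegree (χ : G → ℂ)} = 1 := by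
  classical
  obtain ⟨⟨h2, hfr, hcz⟩, hz2⟩ := h
  haveI : Fintype G := Fintype.ofFinite G
  haveI : Fintype (IrrCharacter G) := Fintype.ofFinite _
  obtain ⟨⟨z0, hz0⟩, hz0ne, hz0u⟩ := (Nat.card_eq_two_iff' (1 : Subgroup.center G)).1 hz2
  have hz01 : z0 ≠ 1 := fun h0 => hz0ne (Subtype.ext h0)
  have hcenter : ∀ g ∈ Subgroup.center G, g = 1 ∨ g = z0 := by
    intro g hg
    by_cases hg1 : g = 1
    · exact Or.inl hg1
    · right
      have h1 := hz0u ⟨g, hg⟩ (fun h0 => hg1 (congrArg Subtype.val h0))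
      exact congrArg Subtype.val h1
  have hz0sq : z0 * z0 = 1 := by
    have h1 := pow_card_eq_one' (G := Subgroup.center G) (x := ⟨z0, hz0⟩)
    rw [hz2] at h1
    have h2 := congrArg Subtype.val h1
    simpa [pow_two] using h2
  obtain ⟨k, hk⟩ := IsPGroup.iff_card.1 h2
  have hcommem : ∀ x y : G, x * y * x⁻¹ * y⁻¹ ∈ commutator G := by
    intro x y
    have h1 : ⁅x, y⁆ ∈ commutator G := by
      rw [commutator_def]
      exact Subgroup.commutator_mem_commutator (Subgroup.mem_top _) (Subgroup.mem_top _)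
    rwa [commutatorElement_def] at h1
  have key : ∀ ψ : IrrCharacter G, (∀ x ∈ commutator G, (ψ : G → ℂ) x = (ψ : G → ℂ) 1) ↔
      ¬ 2 ∣ charDegree (ψ : G → ℂ) := by
    intro ψ
    obtain ⟨n, ρ, hρ, hρψ⟩ := ψ.2
    have hdeg : charDegree (ψ : G → ℂ) = n := by
      rw [← hρψ, Cfsg.Agent.Lib.Helper4.charDegree_character, Module.finrank_fin_fun]
    have hψ1 : (ψ : G → ℂ) 1 = (n : ℂ) := by
      rw [← hρψ, Representation.char_one, Module.finrank_fin_fun]
    constructor
    · intro hD
      have h1 := irr_degree_one_of_commutator (ψ : G → ℂ) ψ.2 (fun x y => hD _ (hcommem x y))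
      rw [hψ1] at h1
      have hn1 : n = 1 := by exact_mod_cast h1
      rw [hdeg, hn1]
      norm_num
    · intro hnd x hx
      have hn1 : n = 1 := by
        have hdvd := Cfsg.Agent.Lib.Helper4.degree_dvd_card ρ hρ
        rw [Module.finrank_fin_fun, hk] at hdvd
        obtain ⟨j, -, hj⟩ := (Nat.dvd_prime_pow Nat.prime_two).1 hdvd
        rcases Nat.eq_zero_or_pos j with h0 | h0
        · rw [hj, h0, pow_zero]
        · exfalso
          apply hnd
          rw [hdeg, hj]
          exact dvd_pow_self 2 h0.ne'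
      have hψ11 : (ψ : G → ℂ) 1 = 1 := by rw [hψ1, hn1]; simp
      rw [linear_trivial_on_commutator ψ.2 hψ11 x hx, hψ11]
  have hsq : ∀ ψ : IrrCharacter G, 2 ∣ charDegree (ψ : G → ℂ) →
      ((ψ : G → ℂ) 1) ^ 2 * 2 = (Nat.card G : ℂ) := by
    intro ψ hψ2
    obtain ⟨n, ρ, hρ, hρψ⟩ := ψ.2
    have hψ1 : (ψ : G → ℂ) 1 = (n : ℂ) := by
      rw [← hρψ, Representation.char_one, Module.finrank_fin_fun]
    obtain ⟨ω, hω⟩ := Cfsg.Agent.Lib.Helper4.exists_scalar_of_mem_center ρ hρ z0 hz0
    have hnt := Cfsg.Agent.Lib.Helper4.nontrivial_of_irreducible ρ hρ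
    have hω2 : ω * ω = 1 := by
      have h1 : ρ (z0 * z0) = 1 := by rw [hz0sq, map_one]
      rw [map_mul, hω] at h1
      obtain ⟨v, hv⟩ := exists_ne (0 : Fin n → ℂ)
      have h2 := LinearMap.congr_fun h1 v
      simp only [Module.End.mul_apply, LinearMap.smul_apply, LinearMap.id_apply,
        Module.End.one_apply, smul_smul] at h2
      by_contra hne
      have h3 : ((ω * ω) - 1) • v = 0 := by rw [sub_smul, one_smul, h2, sub_self]
      rcases smul_eq_zero.1 h3 with h4 | h4
      · exact hne (sub_eq_zero.1 h4)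
      · exact hv h4
    have hωne : ω ≠ 1 := by
      intro h1
      apply (key ψ).1 ?_ hψ2
      intro x hx
      rw [hcz] at hx
      rcases hcenter x hx with rfl | rfl
      · rfl
      · rw [← hρψ, Cfsg.Agent.Lib.Helper4.character_eq_one_iff_mem_ker, MonoidHom.mem_ker, hω, h1,
          one_smul]
        rfl
    have hωm : ω = -1 := by
      have h1 : (ω - 1) * (ω + 1) = 0 := by linear_combination hω2
      rcases mul_eq_zero.1 h1 with h3 | h3
      · exact absurd (sub_eq_zero.1 h3) hωne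
      · exact eq_neg_of_add_eq_zero_left h3
    have hneg : ∀ g : G, (ψ : G → ℂ) (z0 * g) = - (ψ : G → ℂ) g := by
      intro g
      rw [← hρψ]
      show LinearMap.trace ℂ (Fin n → ℂ) (ρ (z0 * g)) = - LinearMap.trace ℂ (Fin n → ℂ) (ρ g)
      have h1 : ρ (z0 * g) = - ρ g := by
        rw [map_mul, hω, hωm]
        apply LinearMap.ext
        intro v
        simp [Module.End.mul_apply]
      rw [h1, map_neg]
    have hvan : ∀ g : G, g ∉ Subgroup.center G → (ψ : G → ℂ) g = 0 := by
      intro g hg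
      rw [Subgroup.mem_center_iff] at hg
      push Not at hg
      obtain ⟨t, ht⟩ := hg
      have hcmem : t * g * t⁻¹ * g⁻¹ ∈ Subgroup.center G := by
        rw [← hcz]; exact hcommem t g
      have hc1 : t * g * t⁻¹ * g⁻¹ ≠ 1 := by
        intro h0
        apply ht
        calc t * g = (t * g * t⁻¹ * g⁻¹) * (g * t) := by group
          _ = g * t := by rw [h0, one_mul]
      have hcz0 : t * g * t⁻¹ * g⁻¹ = z0 := (hcenter _ hcmem).resolve_left hc1
      have hconj : t * g * t⁻¹ = z0 * g := by rw [← hcz0]; group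
      have hcf := Cfsg.Agent.Lib.Helper4.isClassFunction_of_isIrrCharacter ψ.2
      have h1 : (ψ : G → ℂ) (z0 * g) = (ψ : G → ℂ) g := by rw [← hconj]; exact hcf g t
      have h2 := hneg g
      have h3 : (ψ : G → ℂ) g = - (ψ : G → ℂ) g := h1.symm.trans h2
      linear_combination (1 / 2 : ℂ) * h3
    have hz0val : (ψ : G → ℂ) z0 = - (n : ℂ) := by
      have h1 := hneg 1
      rwa [mul_one, hψ1] at h1
    have hinner := Cfsg.Agent.Lib.Helper4.classInner_irr ψ ψ
    rw [if_pos rfl] at hinner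
    unfold classInner at hinner
    have hsumval : ∑ g : G, (ψ : G → ℂ) g * conj ((ψ : G → ℂ) g) = 2 * (n : ℂ) ^ 2 := by
      rw [Finset.sum_eq_add (1 : G) z0 (Ne.symm hz01) (fun c _ hc => by
        have hcn : c ∉ Subgroup.center G := by
          intro hcz'
          rcases hcenter c hcz' with h5 | h5
          · exact hc.1 h5
          · exact hc.2 h5
        rw [hvan c hcn, zero_mul]) (fun h5 => absurd (Finset.mem_univ _) h5)
        (fun h5 => absurd (Finset.mem_univ _) h5)]
      rw [hz0val, hψ1]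
      simp only [map_neg, map_natCast]
      ring
    rw [hsumval] at hinner
    have hNne : (Nat.card G : ℂ) ≠ 0 := Nat.cast_ne_zero.2 Nat.card_pos.ne'
    have h5 := (inv_mul_eq_one₀ hNne).1 hinner
    rw [hψ1, h5]
    ring
  have hsum := Cfsg.Agent.Lib.Helper4.sum_sq_degree (G := G)
  have hsumD := Cfsg.Agent.Lib.Helper4.sum_sq_degree_ker (G := G) (commutator G)
  have hDsum : ∑ χ ∈ Finset.univ.filter (fun χ : IrrCharacter G =>
      ∀ x ∈ commutator G, (χ : G → ℂ) x = (χ : G → ℂ) 1), (χ : G → ℂ) 1 ^ 2 =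
      ((commutator G).index : ℂ) := by
    convert hsumD
  have hc2 : Nat.card (commutator G) = 2 := by rw [hcz]; exact hz2
  have hidx : ((commutator G).index : ℂ) * 2 = (Nat.card G : ℂ) := by
    have h1 := Subgroup.card_mul_index (commutator G)
    rw [hc2] at h1
    have h2 : ((2 * (commutator G).index : ℕ) : ℂ) = (Nat.card G : ℂ) := by rw [h1]
    push_cast at h2
    linear_combination h2
  have h1 : (Nat.card G : ℂ) = ((commutator G).index : ℂ) +
      ∑ ψ ∈ Finset.univ.filter (fun ψ : IrrCharacter G => 2 ∣ charDegree (ψ : G → ℂ)),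
        (ψ : G → ℂ) 1 ^ 2 := by
    rw [← hDsum, ← hsum]
    rw [← Finset.sum_filter_add_sum_filter_not Finset.univ (fun χ : IrrCharacter G =>
      ∀ x ∈ commutator G, (χ : G → ℂ) x = (χ : G → ℂ) 1)
      (fun χ : IrrCharacter G => (χ : G → ℂ) 1 ^ 2)]
    congr 1
    apply Finset.sum_congr
    · ext ψ
      simp only [Finset.mem_filter, Finset.mem_univ, true_and]
      rw [key ψ, not_not]
    · intro x _; rfl
  have h2' : (∑ ψ ∈ Finset.univ.filter (fun ψ : IrrCharacter G => 2 ∣ charDegree (ψ : G → ℂ)),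
      (ψ : G → ℂ) 1 ^ 2) * 2 =
      ((Finset.univ.filter (fun ψ : IrrCharacter G => 2 ∣ charDegree (ψ : G → ℂ))).card : ℂ) *
        (Nat.card G : ℂ) := by
    rw [Finset.sum_mul, Finset.sum_congr rfl (fun ψ hψ => hsq ψ (Finset.mem_filter.1 hψ).2),
      Finset.sum_const, nsmul_eq_mul]
  have h3 : (Nat.card G : ℂ) * 2 = (Nat.card G : ℂ) +
      ((Finset.univ.filter (fun ψ : IrrCharacter G => 2 ∣ charDegree (ψ : G → ℂ))).card : ℂ) *
        (Nat.card G : ℂ) := by
    linear_combination 2 * h1 + hidx + h2'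
  have h4 : Nat.card G * 2 = Nat.card G +
      (Finset.univ.filter (fun ψ : IrrCharacter G => 2 ∣ charDegree (ψ : G → ℂ))).card *
        Nat.card G := by exact_mod_cast h3
  have hNpos : 0 < Nat.card G := Nat.card_pos
  have h5 : (Finset.univ.filter (fun ψ : IrrCharacter G => 2 ∣ charDegree (ψ : G → ℂ))).card = 1 := by
    apply Nat.eq_of_mul_eq_mul_right hNpos
    linarith
  rw [Nat.card_eq_fintype_card, Fintype.card_subtype]
  convert h5

end Cfsg.Agent.Lib.Helper26
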