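import Cfsg.Agent.Lib.Helper26.IndIrr

/-!
# Integer spans of characters and gluing of isometries (helper26)

Generic lemmas on `Cfsg.zspan`, maps that are additive and `ℤ`-homogeneous on a `zspan`, and the
"glue" of two partial isometries defined on orthonormal sets of irreducible characters.
-/

namespace Cfsg.Agent.Lib.Helper26
open Cfsg
open scoped ComplexConjugate

section Sesq
variable {G : Type*} [Group G] [Fintype G]

theorem classInner_zsmul_left (n : ℤ) (a c : G → ℂ) :
    classInner (n • a) c = (n : ℂ) * classInner a c := by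
  rw [← Int.cast_smul_eq_zsmul ℂ n a, classInner_smul_left]

theorem classInner_zsmul_right (n : ℤ) (a c : G → ℂ) :
    classInner a (n • c) = (n : ℂ) * classInner a c := by
  rw [← Int.cast_smul_eq_zsmul ℂ n c, classInner_smul_right, map_intCast]

end Sesq

section Span
variable {X Y : Type*}

theorem zspan_mono {S T : Set (X → ℂ)} (h : S ⊆ T) : zspan S ⊆ zspan T :=
  Submodule.span_mono h

theorem subset_zspan (S : Set (X → ℂ)) : S ⊆ zspan S := Submodule.subset_span

theorem zero_mem_zspan (S : Set (X → ℂ)) : (0 : X → ℂ) ∈ zspan S :=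
  Submodule.zero_mem (Submodule.span ℤ S)

theorem add_mem_zspan {S : Set (X → ℂ)} {a b : X → ℂ} (ha : a ∈ zspan S) (hb : b ∈ zspan S) :
    a + b ∈ zspan S :=
  Submodule.add_mem (Submodule.span ℤ S) ha hb

theorem zsmul_mem_zspan {S : Set (X → ℂ)} {a : X → ℂ} (n : ℤ) (ha : a ∈ zspan S) :
    n • a ∈ zspan S :=
  Submodule.smul_mem (Submodule.span ℤ S) n ha

theorem mem_zspanOn_compl_one [One X] {S : Set (X → ℂ)} {a : X → ℂ} :
    a ∈ zspanOn S ({1}ᶜ : Set X) ↔ a ∈ zspan S ∧ a 1 = 0 := by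
  constructor
  · rintro ⟨h1, h2⟩
    exact ⟨h1, h2 1 (by simp)⟩
  · rintro ⟨h1, h2⟩
    refine ⟨h1, fun x hx => ?_⟩
    have : x = 1 := by simpa using hx
    rw [this, h2]

/-- A map that is `ℤ`-homogeneous on `zspan T` sends `0` to `0`. -/
theorem map_zero_of_zsmul (T : Set (X → ℂ)) (f : (X → ℂ) → (Y → ℂ))
    (hsmul : ∀ a ∈ zspan T, ∀ n : ℤ, f (n • a) = n • f a) : f 0 = 0 := by
  have h := hsmul 0 (zero_mem_zspan T) 0
  simpa using h

/-- Two maps additive and `ℤ`-homogeneous on `zspan T` that agree on `T` agree on `zspan T`. -/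
theorem eq_on_zspan (T : Set (X → ℂ)) (f g : (X → ℂ) → (Y → ℂ))
    (hfadd : ∀ a ∈ zspan T, ∀ b ∈ zspan T, f (a + b) = f a + f b)
    (hfsmul : ∀ a ∈ zspan T, ∀ n : ℤ, f (n • a) = n • f a)
    (hgadd : ∀ a ∈ zspan T, ∀ b ∈ zspan T, g (a + b) = g a + g b)
    (hgsmul : ∀ a ∈ zspan T, ∀ n : ℤ, g (n • a) = n • g a)
    (h : ∀ t ∈ T, f t = g t) : ∀ a ∈ zspan T, f a = g a := by
  intro a ha
  induction ha using Submodule.span_induction with
  | mem x hx => exact h x hx
  | zero => rw [map_zero_of_zsmul T f hfsmul, map_zero_of_zsmul T g hgsmul]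
  | add x y hx hy ihx ihy => rw [hfadd x hx y hy, hgadd x hx y hy, ihx, ihy]
  | smul n x hx ih => rw [hfsmul x hx n, hgsmul x hx n, ih]

end Span

end Cfsg.Agent.Lib.Helper26
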